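import Mathlib

/-!
Helper40: unitriangular matrices with respect to a level function `lv : ι → ℤ`.

`RaisesBy lv k A` : the non-zero entries `A i j` have `lv j + k ≤ lv i`.
`IsUT lv g`       : `g - 1` raises the level by at least one.
`utSub lv n`      : the subgroup of `GL ι R` of the `g` with `g - 1` raising the level by `n + 1`.
Main results: `IsUT.pow_sub_one_eq_zero`, `isNilpotent_of_le_utSub`.
-/

set_option autoImplicit false

namespace Cfsg.Agent.Helper40.UT

open Matrix
open scoped commutatorElement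

variable {ι : Type*} [Fintype ι] [DecidableEq ι] {R : Type*} [CommRing R]

/-- the non-zero entries of `A` sit at positions `(i, j)` with `lv j + k ≤ lv i` -/
def RaisesBy (lv : ι → ℤ) (k : ℤ) (A : Matrix ι ι R) : Prop := ∀ i j, A i j ≠ 0 → lv j + k ≤ lv i

variable {lv : ι → ℤ}

theorem RaisesBy.mono {k k' : ℤ} {A : Matrix ι ι R} (h : RaisesBy lv k A) (hk : k' ≤ k) :
    RaisesBy lv k' A := fun i j hij => by
  have := h i j hij
  omega

theorem raisesBy_zero (k : ℤ) : RaisesBy lv k (0 : Matrix ι ι R) := fun i j h => absurd rfl h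

theorem raisesBy_one : RaisesBy lv 0 (1 : Matrix ι ι R) := by
  intro i j h
  by_cases hij : i = j
  · subst hij; simp
  · exact absurd (Matrix.one_apply_ne hij) h

theorem RaisesBy.add {k : ℤ} {A B : Matrix ι ι R} (hA : RaisesBy lv k A) (hB : RaisesBy lv k B) :
    RaisesBy lv k (A + B) := by
  intro i j h
  by_contra hc
  apply h
  have h1 : A i j = 0 := by
    by_contra h1
    exact hc (hA i j h1)
  have h2 : B i j = 0 := by
    by_contra h2
    exact hc (hB i j h2)
  simp [h1, h2]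

theorem RaisesBy.neg {k : ℤ} {A : Matrix ι ι R} (hA : RaisesBy lv k A) : RaisesBy lv k (-A) := by
  intro i j h
  apply hA i j
  intro h0
  apply h
  simp [h0]

theorem RaisesBy.sub {k : ℤ} {A B : Matrix ι ι R} (hA : RaisesBy lv k A) (hB : RaisesBy lv k B) :
    RaisesBy lv k (A - B) := by
  rw [sub_eq_add_neg]
  exact hA.add hB.neg

theorem RaisesBy.mul {k m : ℤ} {A B : Matrix ι ι R} (hA : RaisesBy lv k A) (hB : RaisesBy lv m B) :
    RaisesBy lv (k + m) (A * B) := by
  intro i j h
  rw [Matrix.mul_apply] at h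
  obtain ⟨l, -, hl⟩ := Finset.exists_ne_zero_of_sum_ne_zero h
  have h1 : A i l ≠ 0 := left_ne_zero_of_mul hl
  have h2 : B l j ≠ 0 := right_ne_zero_of_mul hl
  have := hA i l h1
  have := hB l j h2
  omega

theorem RaisesBy.pow {A : Matrix ι ι R} (hA : RaisesBy lv 1 A) (n : ℕ) : RaisesBy lv n (A ^ n) := by
  induction n with
  | zero => simpa using (raisesBy_one (lv := lv) (R := R))
  | succ n ih =>
    rw [pow_succ]
    have := ih.mul hA
    simpa using this

theorem RaisesBy.eq_zero {K : ℤ} {A : Matrix ι ι R} (hK : ∀ i j, lv i < lv j + K) (hA : RaisesBy lv K A) :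
    A = 0 := by
  ext i j
  by_contra h
  have := hA i j h
  have := hK i j
  omega

/-- `g` is unitriangular for the level function `lv` -/
def IsUT (lv : ι → ℤ) (g : Matrix ι ι R) : Prop := RaisesBy lv 1 (g - 1)

theorem isUT_one : IsUT lv (1 : Matrix ι ι R) := by
  unfold IsUT
  rw [sub_self]
  exact raisesBy_zero 1

theorem mul_sub_one (g h : Matrix ι ι R) : g * h - 1 = (g - 1) * (h - 1) + (g - 1) + (h - 1) := by
  noncomm_ring

theorem IsUT.mul {g h : Matrix ι ι R} (hg : IsUT lv g) (hh : IsUT lv h) : IsUT lv (g * h) := by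
  unfold IsUT at *
  rw [mul_sub_one]
  exact (((hg.mul hh).mono (by norm_num)).add hg).add hh

theorem IsUT.raises_zero {g : Matrix ι ι R} (hg : IsUT lv g) : RaisesBy lv 0 g := by
  have : g = (g - 1) + 1 := by abel
  rw [this]
  exact (RaisesBy.mono hg (by norm_num)).add raisesBy_one

theorem IsUT.pow_sub_one_eq_zero {g : Matrix ι ι R} (hg : IsUT lv g) (K : ℕ) (hK : ∀ i j, lv i < lv j + K) :
    (g - 1) ^ K = 0 :=
  RaisesBy.eq_zero hK (RaisesBy.pow hg K)

/-- a right inverse of a unitriangular matrix is unitriangular -/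
theorem IsUT.of_mul_eq_one {g h : Matrix ι ι R} (hg : IsUT lv g) (hgh : g * h = 1) : IsUT lv h := by
  classical
  set A := g - 1 with hA
  have hAr : RaisesBy lv 1 A := hg
  have h1 : h - 1 = -A * h := by
    have : g = 1 + A := by rw [hA]; abel
    rw [this] at hgh
    have h2 : h + A * h = 1 := by rw [← hgh]; noncomm_ring
    rw [← h2]; noncomm_ring
  -- bound on the levels
  obtain ⟨K, hK⟩ : ∃ K : ℕ, ∀ i j, lv i < lv j + K := by
    refine ⟨2 * (Finset.univ.sup fun i => (lv i).natAbs) + 1, fun i j => ?_⟩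
    have hi : (lv i).natAbs ≤ Finset.univ.sup fun i => (lv i).natAbs :=
      Finset.le_sup (f := fun i => (lv i).natAbs) (Finset.mem_univ i)
    have hj : (lv j).natAbs ≤ Finset.univ.sup fun i => (lv i).natAbs :=
      Finset.le_sup (f := fun i => (lv i).natAbs) (Finset.mem_univ j)
    push_cast
    omega
  have key : ∀ n : ℕ, ∃ T : Matrix ι ι R, RaisesBy lv 1 T ∧ h - 1 = T + (-A) ^ (n + 1) * h := by
    intro n
    induction n with
    | zero => exact ⟨0, raisesBy_zero 1, by rw [h1]; simp⟩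
    | succ n ih =>
      obtain ⟨T, hT, hTe⟩ := ih
      refine ⟨T + (-A) ^ (n + 1), hT.add ?_, ?_⟩
      · have := RaisesBy.pow hAr.neg (n + 1)
        exact this.mono (by push_cast; omega)
      · have h3 : h = 1 + -A * h := by rw [← h1]; abel
        calc h - 1 = T + (-A) ^ (n + 1) * h := hTe
          _ = T + (-A) ^ (n + 1) * (1 + -A * h) := by rw [← h3]
          _ = T + (-A) ^ (n + 1) + (-A) ^ (n + 1 + 1) * h := by rw [pow_succ (-A) (n + 1)]; noncomm_ring
  obtain ⟨T, hT, hTe⟩ := key K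
  have hz : (-A) ^ (K + 1) = 0 :=
    RaisesBy.eq_zero (K := ((K + 1 : ℕ) : ℤ)) (fun i j => by have := hK i j; push_cast; omega)
      (RaisesBy.pow hAr.neg (K + 1))
  unfold IsUT
  rw [hTe, hz]
  simpa using hT

theorem IsUT.inv {g : GL ι R} (hg : IsUT lv (g : Matrix ι ι R)) : IsUT lv ((g⁻¹ : GL ι R) : Matrix ι ι R) :=
  hg.of_mul_eq_one (by rw [← Units.val_mul, mul_inv_cancel]; rfl)

/-- the subgroup of `GL` of the matrices `g` with `g - 1` raising the level by at least `n + 1` -/
def utSub (lv : ι → ℤ) (R : Type*) [CommRing R] (n : ℕ) : Subgroup (GL ι R) where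
  carrier := {g | RaisesBy lv (n + 1) ((g : Matrix ι ι R) - 1)}
  one_mem' := by
    show RaisesBy lv (n + 1) (((1 : GL ι R) : Matrix ι ι R) - 1)
    rw [Units.val_one, sub_self]
    exact raisesBy_zero _
  mul_mem' := by
    intro g h hg hh
    show RaisesBy lv (n + 1) (((g * h : GL ι R) : Matrix ι ι R) - 1)
    rw [Units.val_mul, mul_sub_one]
    exact (((RaisesBy.mul hg hh).mono (by omega)).add hg).add hh
  inv_mem' := by
    intro g hg
    show RaisesBy lv (n + 1) (((g⁻¹ : GL ι R) : Matrix ι ι R) - 1)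
    have hut : IsUT lv (g : Matrix ι ι R) := RaisesBy.mono hg (by omega)
    have h0 : RaisesBy lv 0 ((g⁻¹ : GL ι R) : Matrix ι ι R) := hut.inv.raises_zero
    have e : ((g⁻¹ : GL ι R) : Matrix ι ι R) - 1 = -(((g⁻¹ : GL ι R) : Matrix ι ι R) * ((g : Matrix ι ι R) - 1)) := by
      have : ((g⁻¹ : GL ι R) : Matrix ι ι R) * (g : Matrix ι ι R) = 1 := by
        rw [← Units.val_mul, inv_mul_cancel]; rfl
      rw [mul_sub, this, mul_one]; abel
    rw [e]
    have := (h0.mul hg).neg
    simpa using this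

theorem mem_utSub {n : ℕ} {g : GL ι R} : g ∈ utSub lv R n ↔ RaisesBy lv (n + 1) ((g : Matrix ι ι R) - 1) :=
  Iff.rfl

theorem mem_utSub_zero {g : GL ι R} : g ∈ utSub lv R 0 ↔ IsUT lv (g : Matrix ι ι R) := by
  rw [mem_utSub]; simp [IsUT]

theorem utSub_eq_bot {K : ℕ} (hK : ∀ i j, lv i < lv j + K) : utSub lv R K = ⊥ := by
  rw [eq_bot_iff]
  intro g hg
  rw [Subgroup.mem_bot]
  have : (g : Matrix ι ι R) - 1 = 0 :=
    RaisesBy.eq_zero (K := (K : ℤ) + 1) (fun i j => by have := hK i j; omega) hg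
  apply Units.ext
  rw [Units.val_one]
  exact sub_eq_zero.mp this

theorem commutator_mem_utSub {n : ℕ} {x g : GL ι R} (hx : x ∈ utSub lv R n) (hg : g ∈ utSub lv R 0) :
    ⁅x, g⁆ ∈ utSub lv R (n + 1) := by
  rw [mem_utSub]
  have hgu : IsUT lv (g : Matrix ι ι R) := mem_utSub_zero.mp hg
  have hxu : IsUT lv (x : Matrix ι ι R) := RaisesBy.mono hx (by omega)
  set X := (x : Matrix ι ι R)
  set G := (g : Matrix ι ι R)
  set X' := ((x⁻¹ : GL ι R) : Matrix ι ι R)
  set G' := ((g⁻¹ : GL ι R) : Matrix ι ι R)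
  have hXX' : X * X' = 1 := by rw [← Units.val_mul, mul_inv_cancel]; rfl
  have hGG' : G * G' = 1 := by rw [← Units.val_mul, mul_inv_cancel]; rfl
  have e : ((⁅x, g⁆ : GL ι R) : Matrix ι ι R) - 1 = ((X - 1) * (G - 1) - (G - 1) * (X - 1)) * (X' * G') := by
    have e1 : ((⁅x, g⁆ : GL ι R) : Matrix ι ι R) = X * G * X' * G' := by
      rw [commutatorElement_def]; simp [X, G, X', G', Units.val_mul]
    have e2 : G * X * X' * G' = 1 := by
      rw [mul_assoc G X X', hXX', mul_one, hGG']
    have e3 : (X - 1) * (G - 1) - (G - 1) * (X - 1) = X * G - G * X := by noncomm_ring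
    have e4 : (X * G - G * X) * (X' * G') = X * G * X' * G' - G * X * X' * G' := by noncomm_ring
    rw [e1, e3, e4, e2]
  rw [e]
  have h1 : RaisesBy lv ((n : ℤ) + 1 + 1) ((X - 1) * (G - 1)) := RaisesBy.mul hx hgu
  have h2 : RaisesBy lv (1 + ((n : ℤ) + 1)) ((G - 1) * (X - 1)) := RaisesBy.mul hgu hx
  have h3 : RaisesBy lv (0 + 0) (X' * G') := RaisesBy.mul hxu.inv.raises_zero hgu.inv.raises_zero
  have := (h1.sub (h2.mono (by omega))).mul h3
  refine this.mono ?_
  push_cast
  omega

/-- a subgroup of `GL` consisting of unitriangular matrices is nilpotent -/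
theorem isNilpotent_of_le_utSub (U : Subgroup (GL ι R)) (hU : U ≤ utSub lv R 0) : Group.IsNilpotent U := by
  classical
  obtain ⟨K, hK⟩ : ∃ K : ℕ, ∀ i j, lv i < lv j + K := by
    refine ⟨2 * (Finset.univ.sup fun i => (lv i).natAbs) + 1, fun i j => ?_⟩
    have hi : (lv i).natAbs ≤ Finset.univ.sup fun i => (lv i).natAbs :=
      Finset.le_sup (f := fun i => (lv i).natAbs) (Finset.mem_univ i)
    have hj : (lv j).natAbs ≤ Finset.univ.sup fun i => (lv i).natAbs :=
      Finset.le_sup (f := fun i => (lv i).natAbs) (Finset.mem_univ j)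
    push_cast
    omega
  rw [Subgroup.nilpotent_iff_finite_descending_central_series]
  refine ⟨K, fun n => (utSub lv R n).subgroupOf U, ⟨?_, ?_⟩, ?_⟩
  · exact Subgroup.subgroupOf_eq_top.mpr hU
  · intro x n hx g
    rw [Subgroup.mem_subgroupOf] at hx ⊢
    have : ((⁅x, g⁆ : U) : GL ι R) = ⁅(x : GL ι R), (g : GL ι R)⁆ := by
      simp [commutatorElement_def]
    rw [this]
    exact commutator_mem_utSub hx (hU g.2)
  · show (utSub lv R K).subgroupOf U = ⊥
    rw [utSub_eq_bot hK]
    exact Subgroup.bot_subgroupOf U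

end Cfsg.Agent.Helper40.UT
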