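import Mathlib

/-!
# Sylow `r`-subgroups of `GL_n(q)` for `r > n` (helper40)

* arithmetic: `padicValNat_card_GL`, `padicValNat_cyclotomic`
* `exists_injective_hom_matrix`: an injective hom `Multiplicative (ZMod m) →* Matrix (Fin d) (Fin d) F`
  whenever `m ∣ q ^ d - 1` (Singer cycle via `FiniteField.Extension` and `Algebra.leftMulMatrix`)
* `blockHom`: block diagonal embedding
* `sylow_mulEquiv_of_card`: a Sylow subgroup is isomorphic to any subgroup of the right order.
-/

set_option autoImplicit false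

namespace Cfsg.Agent.Helper40

open Finset

section arith

variable {r : ℕ} [hr : Fact r.Prime] {q : ℕ}

theorem ordq_pos (hrq : ¬ r ∣ q) : 0 < orderOf (q : ZMod r) := by
  have h0 : (q : ZMod r) ≠ 0 := by
    rw [Ne, ZMod.natCast_eq_zero_iff]; exact hrq
  have := ZMod.pow_card_sub_one_eq_one h0
  apply orderOf_pos_iff.2
  rw [isOfFinOrder_iff_pow_eq_one]
  exact ⟨r - 1, by have := hr.out.two_le; omega, this⟩

theorem dvd_pow_sub_one_iff (hq : 1 ≤ q) (i : ℕ) :
    r ∣ q ^ i - 1 ↔ orderOf (q : ZMod r) ∣ i := by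
  rw [orderOf_dvd_iff_pow_eq_one, ← ZMod.natCast_eq_zero_iff]
  have h1 : 1 ≤ q ^ i := Nat.one_le_pow _ _ hq
  rw [Nat.cast_sub h1, sub_eq_zero]
  simp

/-- no LTE needed: for `0 < j < r` and `x ≡ 1 mod r` we have `v_r(x^j - 1) = v_r(x - 1)` -/
theorem padicValNat_pow_sub_one_of_lt {x : ℕ} (hx : 2 ≤ x) (hxr : r ∣ x - 1) {j : ℕ} (hj0 : 0 < j) (hjr : j < r) :
    padicValNat r (x ^ j - 1) = padicValNat r (x - 1) := by
  have key : (∑ i ∈ range j, x ^ i) * (x - 1) + 1 = x ^ j := by
    have := geom_sum_mul_add (x - 1) j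
    rwa [Nat.sub_add_cancel (by omega)] at this
  have e : x ^ j - 1 = (∑ i ∈ range j, x ^ i) * (x - 1) := by omega
  have hs : ¬ r ∣ ∑ i ∈ range j, x ^ i := by
    rw [← ZMod.natCast_eq_zero_iff]
    have hx1 : (x : ZMod r) = 1 := by
      have : ((x - 1 : ℕ) : ZMod r) = 0 := (ZMod.natCast_eq_zero_iff _ _).2 hxr
      rw [Nat.cast_sub (by omega), sub_eq_zero] at this
      simpa using this
    push_cast
    rw [hx1]
    simp only [one_pow, sum_const, card_range, nsmul_eq_mul, mul_one]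
    intro h
    exact Nat.not_dvd_of_pos_of_lt hj0 hjr ((ZMod.natCast_eq_zero_iff _ _).1 h)
  have hs0 : (∑ i ∈ range j, x ^ i) ≠ 0 := fun h => hs (h ▸ dvd_zero _)
  rw [e, padicValNat.mul hs0 (by omega), padicValNat.eq_zero_of_not_dvd hs, zero_add]

theorem padicValNat_pow_sub_one (hq : 2 ≤ q) (hrq : ¬ r ∣ q) {i : ℕ} (hi0 : 0 < i) (hir : i < r) :
    padicValNat r (q ^ i - 1) =
      if orderOf (q : ZMod r) ∣ i then padicValNat r (q ^ orderOf (q : ZMod r) - 1) else 0 := by
  split_ifs with h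
  · obtain ⟨j, rfl⟩ := h
    have hd := ordq_pos (r := r) hrq
    have hj0 : 0 < j := Nat.pos_of_ne_zero (by rintro rfl; simp at hi0)
    have hjr : j < r := lt_of_le_of_lt (Nat.le_mul_of_pos_left j hd) hir
    rw [pow_mul]
    apply padicValNat_pow_sub_one_of_lt _ _ hj0 hjr
    · calc 2 ≤ q := hq
        _ = q ^ 1 := (pow_one q).symm
        _ ≤ q ^ orderOf (q : ZMod r) := Nat.pow_le_pow_right (by omega) hd
    · exact (dvd_pow_sub_one_iff (by omega) _).2 dvd_rfl
  · apply padicValNat.eq_zero_of_not_dvd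
    rwa [dvd_pow_sub_one_iff (by omega)]

theorem padicValNat_card_GL (hq : 2 ≤ q) (hrq : ¬ r ∣ q) (n : ℕ) (hn : n < r) :
    padicValNat r (∏ i : Fin n, (q ^ n - q ^ (i : ℕ))) =
      padicValNat r (q ^ orderOf (q : ZMod r) - 1) * (n / orderOf (q : ZMod r)) := by
  set d := orderOf (q : ZMod r) with hd
  set a := padicValNat r (q ^ d - 1) with ha
  have hne : ∀ i ∈ (univ : Finset (Fin n)), q ^ n - q ^ (i : ℕ) ≠ 0 := by
    intro i _
    have : q ^ (i : ℕ) < q ^ n := Nat.pow_lt_pow_right (by omega) i.isLt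
    omega
  have h1 : padicValNat r (∏ i : Fin n, (q ^ n - q ^ (i : ℕ))) =
      ∑ i : Fin n, padicValNat r (q ^ n - q ^ (i : ℕ)) := by
    have := congrArg (fun f => f r) (Nat.factorization_prod hne)
    simpa [Nat.factorization_def _ hr.out] using this
  rw [h1]
  have h2 : ∀ i : Fin n, padicValNat r (q ^ n - q ^ (i : ℕ)) =
      if d ∣ (n - i) then a else 0 := by
    intro i
    have e : q ^ n - q ^ (i : ℕ) = q ^ (i : ℕ) * (q ^ (n - i) - 1) := by
      have h' : q ^ n = q ^ (i : ℕ) * q ^ (n - (i : ℕ)) := by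
        rw [← pow_add]; congr 1; omega
      rw [h', Nat.mul_sub, mul_one]
    have hqi : ¬ r ∣ q ^ (i : ℕ) := fun h => hrq (hr.out.dvd_of_dvd_pow h)
    have h0 : q ^ (n - (i : ℕ)) - 1 ≠ 0 := by
      have : 1 < q ^ (n - (i : ℕ)) := Nat.one_lt_pow (by omega) (by omega)
      omega
    rw [e, padicValNat.mul (by positivity) h0, padicValNat.eq_zero_of_not_dvd hqi, zero_add]
    exact padicValNat_pow_sub_one hq hrq (by omega) (by omega)
  simp_rw [h2]
  rw [Finset.sum_ite, Finset.sum_const_zero, add_zero, Finset.sum_const, smul_eq_mul, mul_comm]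
  congr 1
  rw [← Nat.Ioc_filter_dvd_card_eq_div n d]
  -- bijection i ↦ n - i
  apply Finset.card_bij (fun (i : Fin n) _ => n - (i : ℕ))
  · intro i hi
    simp only [mem_filter, mem_univ, true_and] at hi
    simp only [mem_filter, mem_Ioc]
    exact ⟨⟨by omega, by omega⟩, hi⟩
  · intro i _ j _ h
    apply Fin.ext
    have := i.isLt; have := j.isLt
    omega
  · intro b hb
    simp only [mem_filter, mem_Ioc] at hb
    refine ⟨⟨n - b, by omega⟩, ?_, ?_⟩
    · simp only [mem_filter, mem_univ, true_and]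
      have : n - (n - b) = b := by omega
      rw [this]; exact hb.2
    · simp only; omega

theorem padicValNat_cyclotomic (hq : 2 ≤ q) (hrq : ¬ r ∣ q) :
    padicValNat r ((Polynomial.cyclotomic (orderOf (q : ZMod r)) ℤ).eval (q : ℤ)).natAbs =
      padicValNat r (q ^ orderOf (q : ZMod r) - 1) := by
  set d := orderOf (q : ZMod r) with hd
  have hd0 : 0 < d := ordq_pos hrq
  have h1 : ((q : ℤ) ^ d - 1) = (Polynomial.cyclotomic d ℤ).eval (q : ℤ) *
      ∏ e ∈ Nat.properDivisors d, (Polynomial.cyclotomic e ℤ).eval (q : ℤ) := by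
    have := congrArg (Polynomial.eval (q : ℤ)) (Polynomial.prod_cyclotomic_eq_X_pow_sub_one hd0 ℤ)
    rw [Polynomial.eval_prod, ← Nat.insert_self_properDivisors hd0.ne',
      Finset.prod_insert Nat.self_notMem_properDivisors] at this
    rw [this]; simp
  set B := ∏ e ∈ Nat.properDivisors d, (Polynomial.cyclotomic e ℤ).eval (q : ℤ) with hB
  have hrB : ¬ (r : ℤ) ∣ B := by
    intro h
    rw [hB, (Nat.prime_iff_prime_int.1 hr.out).dvd_finsetProd_iff] at h
    obtain ⟨e, he, h⟩ := h
    rw [Nat.mem_properDivisors] at he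
    have h2 : (Polynomial.cyclotomic e ℤ).eval (q : ℤ) ∣ (q : ℤ) ^ e - 1 := by
      have := Polynomial.eval_dvd (x := (q : ℤ)) (Polynomial.cyclotomic.dvd_X_pow_sub_one e ℤ)
      simpa using this
    have h3 : (r : ℤ) ∣ ((q ^ e - 1 : ℕ) : ℤ) := by
      rw [Nat.cast_sub (Nat.one_le_pow _ _ (by omega))]
      push_cast
      exact h.trans h2
    rw [Int.natCast_dvd_natCast, dvd_pow_sub_one_iff (by omega)] at h3
    have := Nat.le_of_dvd (Nat.pos_of_ne_zero ?_) h3
    · omega
    · rintro rfl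
      simp at he
      omega
  have h4 : q ^ d - 1 = ((Polynomial.cyclotomic d ℤ).eval (q : ℤ)).natAbs * B.natAbs := by
    rw [← Int.natAbs_mul, ← h1]
    have : ((q : ℤ) ^ d - 1) = ((q ^ d - 1 : ℕ) : ℤ) := by
      rw [Nat.cast_sub (Nat.one_le_pow _ _ (by omega))]; push_cast; rfl
    rw [this, Int.natAbs_natCast]
  have hpos : q ^ d - 1 ≠ 0 := by
    have : 1 < q ^ d := Nat.one_lt_pow hd0.ne' (by omega)
    omega
  have hA0 : ((Polynomial.cyclotomic d ℤ).eval (q : ℤ)).natAbs ≠ 0 := by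
    intro h; rw [h, zero_mul] at h4; exact hpos h4
  have hB0 : B.natAbs ≠ 0 := by
    intro h; rw [h, mul_zero] at h4; exact hpos h4
  have hrB' : ¬ r ∣ B.natAbs := by
    rwa [← Int.natCast_dvd]
  rw [h4, padicValNat.mul hA0 hB0, padicValNat.eq_zero_of_not_dvd hrB', add_zero]

end arith

section group

variable {F : Type*} [Field F]

/-- block-diagonal embedding of `k` blocks of size `d` into `n × n` matrices -/
noncomputable def blockHom {k d l n : ℕ} (e : (Fin d × Fin k) ⊕ Fin l ≃ Fin n) :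
    (Fin k → Matrix (Fin d) (Fin d) F) →* Matrix (Fin n) (Fin n) F where
  toFun A := Matrix.reindex e e (Matrix.fromBlocks (Matrix.blockDiagonal A) 0 0 1)
  map_one' := by
    simp [Matrix.fromBlocks_one]
  map_mul' A B := by
    have : Matrix.blockDiagonal (A * B) = Matrix.blockDiagonal A * Matrix.blockDiagonal B :=
      Matrix.blockDiagonal_mul A B
    rw [this]
    simp [Matrix.fromBlocks_multiply, Matrix.reindex_apply, Matrix.submatrix_mul_equiv]

theorem blockHom_injective {k d l n : ℕ} (e : (Fin d × Fin k) ⊕ Fin l ≃ Fin n) :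
    Function.Injective (blockHom (F := F) e) := by
  intro A B h
  have h1 := (Matrix.reindex e e).injective h
  rw [Matrix.fromBlocks_inj] at h1
  exact Matrix.blockDiagonal_injective h1.1

theorem exists_injective_hom_matrix [Fintype F] (d : ℕ) (hd : 0 < d) (m : ℕ)
    (hm : m ∣ Fintype.card F ^ d - 1) :
    ∃ ψ : Multiplicative (ZMod m) →* Matrix (Fin d) (Fin d) F, Function.Injective ψ := by
  obtain ⟨p, hp⟩ := CharP.exists F
  have : Fact p.Prime := ⟨CharP.char_is_prime F p⟩
  have : NeZero d := ⟨hd.ne'⟩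
  let K := FiniteField.Extension F p d
  have : Fintype K := Fintype.ofFinite K
  have hcardK : Nat.card K = Fintype.card F ^ d := by
    rw [FiniteField.natCard_extension, Nat.card_eq_fintype_card]
  have hcardU : Nat.card Kˣ = Fintype.card F ^ d - 1 := by
    rw [Nat.card_units, hcardK]
  have hm0 : m ≠ 0 := by
    rintro rfl
    have : 1 < Fintype.card F ^ d := Nat.one_lt_pow hd.ne' Fintype.one_lt_card
    rw [zero_dvd_iff] at hm; omega
  obtain ⟨g, hg⟩ := IsCyclic.exists_ofOrder_eq_natCard (α := Kˣ)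
  obtain ⟨c, hc⟩ := hm
  have hc0 : c ≠ 0 := by
    rintro rfl
    have : 1 < Fintype.card F ^ d := Nat.one_lt_pow hd.ne' Fintype.one_lt_card
    omega
  set ζ := g ^ c with hζ
  have hordζ : orderOf ζ = m := by
    rw [hζ, orderOf_pow_of_dvd hc0 (by rw [hg, hcardU, hc]; exact dvd_mul_left _ _), hg, hcardU, hc]
    exact Nat.mul_div_cancel _ (Nat.pos_of_ne_zero hc0)
  -- iso ZMod m ≃ zpowers ζ
  have hgen : ∀ x : Subgroup.zpowers ζ, x ∈ Subgroup.zpowers (⟨ζ, Subgroup.mem_zpowers ζ⟩ : Subgroup.zpowers ζ) := by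
    rintro ⟨x, hx⟩
    obtain ⟨i, rfl⟩ := Subgroup.mem_zpowers_iff.1 hx
    exact Subgroup.mem_zpowers_iff.2 ⟨i, by ext; simp⟩
  have hcardZ : Nat.card (Subgroup.zpowers ζ) = m := by
    rw [Nat.card_zpowers, hordζ]
  let φ : Multiplicative (ZMod m) ≃* Subgroup.zpowers ζ := zmodMulEquivOfGenerator hgen hcardZ
  have hfin : Module.finrank F K = d := FiniteField.finrank_extension F p d
  let b : Module.Basis (Fin d) F K := Module.finBasisOfFinrankEq F K hfin
  let L : K →* Matrix (Fin d) (Fin d) F := (Algebra.leftMulMatrix b : K →ₐ[F] Matrix (Fin d) (Fin d) F)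
  have hL : Function.Injective L := Algebra.leftMulMatrix_injective b
  refine ⟨L.comp ((Units.coeHom K).comp ((Subgroup.zpowers ζ).subtype.comp φ.toMonoidHom)), ?_⟩
  intro x y hxy
  simp only [MonoidHom.coe_comp, Function.comp_apply] at hxy
  have h1 := hL hxy
  have h2 : ((Subgroup.zpowers ζ).subtype (φ.toMonoidHom x)) = ((Subgroup.zpowers ζ).subtype (φ.toMonoidHom y)) :=
    Units.ext h1
  exact φ.injective (Subtype.ext h2)

end group

theorem sylow_mulEquiv_of_card {G : Type*} [Group G] [Finite G] {r : ℕ} [Fact r.Prime] (P : Sylow r G)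
    {H : Type*} [Group H] (f : H →* G) (hf : Function.Injective f)
    (hcard : Nat.card H = r ^ padicValNat r (Nat.card G)) : Nonempty (↥(P : Subgroup G) ≃* H) := by
  have e1 : H ≃* f.range := MonoidHom.ofInjective hf
  have hc : Nat.card f.range = r ^ (Nat.card G).factorization r := by
    rw [← Nat.card_congr e1.toEquiv, hcard, Nat.factorization_def _ (Fact.out : r.Prime)]
  let Q : Sylow r G := Sylow.ofCard f.range hc
  obtain ⟨g, hg⟩ := MulAction.exists_smul_eq G Q P
  have e2 : ↥(Q : Subgroup G) ≃* ↥((g • Q : Sylow r G) : Subgroup G) := Sylow.equivSMul Q g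
  rw [hg] at e2
  exact ⟨e2.symm.trans e1.symm⟩

end Cfsg.Agent.Helper40
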