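import Mathlib
import Cfsg.Agent.Helper40.SylowGL
import Cfsg.Agent.Helper5.SpCard

/-!
Helper40: Sylow `r`-subgroups of `Sp_{2n}(q)` for odd `r > n`, `r ∤ q`.
-/

set_option autoImplicit false

namespace Cfsg.Agent.Helper40

open Finset

section arith

variable {r : ℕ} [hr : Fact r.Prime] {q : ℕ}

/-- for `r ∤ j` and `x ≡ 1 mod r` we have `v_r(x^j - 1) = v_r(x - 1)` -/
theorem padicValNat_pow_sub_one_of_not_dvd {x : ℕ} (hx : 2 ≤ x) (hxr : r ∣ x - 1) {j : ℕ} (hjr : ¬ r ∣ j) :
    padicValNat r (x ^ j - 1) = padicValNat r (x - 1) := by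
  have key : (∑ i ∈ range j, x ^ i) * (x - 1) + 1 = x ^ j := by
    have := geom_sum_mul_add (x - 1) j
    rwa [Nat.sub_add_cancel (by omega)] at this
  have e : x ^ j - 1 = (∑ i ∈ range j, x ^ i) * (x - 1) := by omega
  have hs : ¬ r ∣ ∑ i ∈ range j, x ^ i := by
    rw [← ZMod.natCast_eq_zero_iff]
    have hx1 : (x : ZMod r) = 1 := by
      have : ((x - 1 : ℕ) : ZMod r) = 0 := (ZMod.natCast_eq_zero_iff _ _).2 hxr
      rw [Nat.cast_sub (by omega), sub_eq_zero] at this
      simpa using this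
    push_cast
    rw [hx1]
    simp only [one_pow, sum_const, card_range, nsmul_eq_mul, mul_one]
    intro h
    exact hjr ((ZMod.natCast_eq_zero_iff _ _).1 h)
  have hs0 : (∑ i ∈ range j, x ^ i) ≠ 0 := fun h => hs (h ▸ dvd_zero _)
  rw [e, padicValNat.mul hs0 (by omega), padicValNat.eq_zero_of_not_dvd hs, zero_add]

theorem padicValNat_pow_sub_one' (hq : 2 ≤ q) (hrq : ¬ r ∣ q) {i : ℕ} (hir : orderOf (q : ZMod r) ∣ i → ¬ r ∣ i) :
    padicValNat r (q ^ i - 1) =
      if orderOf (q : ZMod r) ∣ i then padicValNat r (q ^ orderOf (q : ZMod r) - 1) else 0 := by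
  split_ifs with h
  · have hri := hir h
    obtain ⟨j, rfl⟩ := h
    have hd := ordq_pos (r := r) hrq
    have hjr : ¬ r ∣ j := fun hj => hri (Dvd.dvd.mul_left hj _)
    rw [pow_mul]
    apply padicValNat_pow_sub_one_of_not_dvd _ _ hjr
    · calc 2 ≤ q := hq
        _ = q ^ 1 := (pow_one q).symm
        _ ≤ q ^ orderOf (q : ZMod r) := Nat.pow_le_pow_right (by omega) hd
    · exact (dvd_pow_sub_one_iff (by omega) _).2 dvd_rfl
  · apply padicValNat.eq_zero_of_not_dvd
    rwa [dvd_pow_sub_one_iff (by omega)]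

theorem ordq_lt (hrq : ¬ r ∣ q) : orderOf (q : ZMod r) < r := by
  have h0 : (q : ZMod r) ≠ 0 := by
    rw [Ne, ZMod.natCast_eq_zero_iff]; exact hrq
  have h1 := ZMod.pow_card_sub_one_eq_one h0
  have := orderOf_dvd_of_pow_eq_one h1
  have h2 : 0 < r - 1 := by have := hr.out.two_le; omega
  have := Nat.le_of_dvd h2 this
  omega

/-- `r ∤ i` when `d ∣ i` and `i / d < r` -/
theorem not_dvd_of_div_lt (hrq : ¬ r ∣ q) {i : ℕ} (hi0 : 0 < i) (hid : orderOf (q : ZMod r) ∣ i)
    (hlt : i / orderOf (q : ZMod r) < r) : ¬ r ∣ i := by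
  obtain ⟨j, rfl⟩ := hid
  have hd0 := ordq_pos (r := r) hrq
  have hdr := ordq_lt (r := r) hrq
  rw [Nat.mul_div_cancel_left _ hd0] at hlt
  intro h
  rcases (Nat.Prime.dvd_mul hr.out).1 h with h | h
  · exact absurd (Nat.le_of_dvd hd0 h) (by omega)
  · have hj0 : 0 < j := Nat.pos_of_ne_zero (by rintro rfl; simp at hi0)
    exact absurd (Nat.le_of_dvd hj0 h) (by omega)

theorem padicValNat_card_GL' (hq : 2 ≤ q) (hrq : ¬ r ∣ q) (n : ℕ) (hn : n / orderOf (q : ZMod r) < r) :
    padicValNat r (∏ i : Fin n, (q ^ n - q ^ (i : ℕ))) =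
      padicValNat r (q ^ orderOf (q : ZMod r) - 1) * (n / orderOf (q : ZMod r)) := by
  set d := orderOf (q : ZMod r) with hd
  set a := padicValNat r (q ^ d - 1) with ha
  have hne : ∀ i ∈ (univ : Finset (Fin n)), q ^ n - q ^ (i : ℕ) ≠ 0 := by
    intro i _
    have : q ^ (i : ℕ) < q ^ n := Nat.pow_lt_pow_right (by omega) i.isLt
    omega
  have h1 : padicValNat r (∏ i : Fin n, (q ^ n - q ^ (i : ℕ))) =
      ∑ i : Fin n, padicValNat r (q ^ n - q ^ (i : ℕ)) := by
    have := congrArg (fun f => f r) (Nat.factorization_prod hne)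
    simpa [Nat.factorization_def _ hr.out] using this
  rw [h1]
  have h2 : ∀ i : Fin n, padicValNat r (q ^ n - q ^ (i : ℕ)) =
      if d ∣ (n - i) then a else 0 := by
    intro i
    have e : q ^ n - q ^ (i : ℕ) = q ^ (i : ℕ) * (q ^ (n - i) - 1) := by
      have h' : q ^ n = q ^ (i : ℕ) * q ^ (n - (i : ℕ)) := by
        rw [← pow_add]; congr 1; omega
      rw [h', Nat.mul_sub, mul_one]
    have hqi : ¬ r ∣ q ^ (i : ℕ) := fun h => hrq (hr.out.dvd_of_dvd_pow h)
    have h0 : q ^ (n - (i : ℕ)) - 1 ≠ 0 := by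
      have : 1 < q ^ (n - (i : ℕ)) := Nat.one_lt_pow (by omega) (by omega)
      omega
    rw [e, padicValNat.mul (by positivity) h0, padicValNat.eq_zero_of_not_dvd hqi, zero_add]
    apply padicValNat_pow_sub_one' hq hrq
    intro hdvd
    apply not_dvd_of_div_lt hrq (by omega) hdvd
    exact lt_of_le_of_lt (Nat.div_le_div_right (by omega)) hn
  simp_rw [h2]
  rw [Finset.sum_ite, Finset.sum_const_zero, add_zero, Finset.sum_const, smul_eq_mul, mul_comm]
  congr 1
  rw [← Nat.Ioc_filter_dvd_card_eq_div n d]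
  apply Finset.card_bij (fun (i : Fin n) _ => n - (i : ℕ))
  · intro i hi
    simp only [mem_filter, mem_univ, true_and] at hi
    simp only [mem_filter, mem_Ioc]
    exact ⟨⟨by omega, by omega⟩, hi⟩
  · intro i _ j _ h
    apply Fin.ext
    have := i.isLt; have := j.isLt
    omega
  · intro b hb
    simp only [mem_filter, mem_Ioc] at hb
    refine ⟨⟨n - b, by omega⟩, ?_, ?_⟩
    · simp only [mem_filter, mem_univ, true_and]
      have : n - (n - b) = b := by omega
      rw [this]; exact hb.2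
    · simp only; omega

/-- the `r`-part of the order of `Sp_{2n}(q)` -/
theorem padicValNat_card_Sp (hq : 2 ≤ q) (hrq : ¬ r ∣ q) (hr2 : r ≠ 2) (n : ℕ) (hn : n < r) :
    padicValNat r (q ^ (n ^ 2) * ∏ i ∈ Finset.range n, (q ^ (2 * (i + 1)) - 1)) =
      padicValNat r (q ^ orderOf (q : ZMod r) - 1) *
        ((Finset.Icc 1 n).filter (fun i => orderOf (q : ZMod r) ∣ 2 * i)).card := by
  set d := orderOf (q : ZMod r) with hd
  set a := padicValNat r (q ^ d - 1) with ha
  have hqn : ¬ r ∣ q ^ (n ^ 2) := fun h => hrq (hr.out.dvd_of_dvd_pow h)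
  have hne : ∀ i ∈ Finset.range n, q ^ (2 * (i + 1)) - 1 ≠ 0 := by
    intro i _
    have : 1 < q ^ (2 * (i + 1)) := Nat.one_lt_pow (by omega) (by omega)
    omega
  have hprod0 : ∏ i ∈ Finset.range n, (q ^ (2 * (i + 1)) - 1) ≠ 0 := Finset.prod_ne_zero_iff.2 hne
  rw [padicValNat.mul (by positivity) hprod0, padicValNat.eq_zero_of_not_dvd hqn, zero_add]
  have h1 : padicValNat r (∏ i ∈ Finset.range n, (q ^ (2 * (i + 1)) - 1)) =
      ∑ i ∈ Finset.range n, padicValNat r (q ^ (2 * (i + 1)) - 1) := by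
    have := congrArg (fun f => f r) (Nat.factorization_prod hne)
    simpa [Nat.factorization_def _ hr.out] using this
  rw [h1]
  have h2 : ∀ i ∈ Finset.range n, padicValNat r (q ^ (2 * (i + 1)) - 1) =
      if d ∣ 2 * (i + 1) then a else 0 := by
    intro i hi
    rw [Finset.mem_range] at hi
    apply padicValNat_pow_sub_one' hq hrq
    intro _ h
    rcases (Nat.Prime.dvd_mul hr.out).1 h with h | h
    · have := Nat.le_of_dvd (by norm_num) h
      have := hr.out.two_le
      omega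
    · have := Nat.le_of_dvd (by omega) h
      omega
  rw [Finset.sum_congr rfl h2, Finset.sum_ite, Finset.sum_const_zero, add_zero, Finset.sum_const, smul_eq_mul,
    mul_comm]
  congr 1
  apply Finset.card_bij (fun i _ => i + 1)
  · intro i hi
    simp only [mem_filter, mem_range] at hi
    simp only [mem_filter, mem_Icc]
    exact ⟨⟨by omega, by omega⟩, hi.2⟩
  · intro i _ j _ h
    omega
  · intro b hb
    simp only [mem_filter, mem_Icc] at hb
    refine ⟨b - 1, ?_, by omega⟩
    simp only [mem_filter, mem_range]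
    refine ⟨by omega, ?_⟩
    have : b - 1 + 1 = b := by omega
    rw [this]; exact hb.2

/-- the count in the statement, `d` odd -/
theorem card_filter_odd (n d : ℕ) (hd : Odd d) :
    ((Finset.Icc 1 n).filter (fun i => d ∣ 2 * i)).card = n / d := by
  rw [← Nat.Ioc_filter_dvd_card_eq_div n d]
  congr 1
  ext i
  simp only [mem_filter, mem_Icc, mem_Ioc]
  have hc : Nat.Coprime d 2 := Nat.Coprime.symm (Nat.coprime_two_left.2 hd)
  constructor
  · rintro ⟨h1, h2⟩
    exact ⟨by omega, hc.dvd_of_dvd_mul_left h2⟩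
  · rintro ⟨h1, h2⟩
    exact ⟨by omega, Dvd.dvd.mul_left h2 2⟩

/-- the count in the statement, `d` even -/
theorem card_filter_even (n d : ℕ) (hd : Even d) :
    ((Finset.Icc 1 n).filter (fun i => d ∣ 2 * i)).card = 2 * n / d := by
  rw [← Nat.Ioc_filter_dvd_card_eq_div (2 * n) d]
  apply Finset.card_bij (fun i _ => 2 * i)
  · intro i hi
    simp only [mem_filter, mem_Icc] at hi
    simp only [mem_filter, mem_Ioc]
    exact ⟨by omega, hi.2⟩
  · intro i _ j _ h
    omega
  · intro b hb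
    simp only [mem_filter, mem_Ioc] at hb
    obtain ⟨e, he⟩ := hd
    have h2 : 2 ∣ b := Dvd.dvd.trans ⟨e, by omega⟩ hb.2
    obtain ⟨c, rfl⟩ := h2
    refine ⟨c, ?_, rfl⟩
    simp only [mem_filter, mem_Icc]
    exact ⟨by omega, hb.2⟩

end arith

section group

variable {F : Type*} [Field F]

/-- an elementary abelian-like torus in `GL_n(q)` -/
theorem exists_injective_hom_GL [Fintype F] (n d k : ℕ) (hd : 0 < d) (hk : d * k ≤ n) (m : ℕ)
    (hm : m ∣ Fintype.card F ^ d - 1) :
    ∃ Ψ : (Fin k → Multiplicative (ZMod m)) →* GL (Fin n) F, Function.Injective Ψ := by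
  obtain ⟨ψ, hψ⟩ := exists_injective_hom_matrix (F := F) d hd m hm
  have e : (Fin d × Fin k) ⊕ Fin (n - d * k) ≃ Fin n :=
    Fintype.equivOfCardEq (by simp; omega)
  let Θ : (Fin k → Multiplicative (ZMod m)) →* Matrix (Fin n) (Fin n) F :=
    (blockHom (F := F) e).comp (ψ.compLeft (Fin k))
  have hΘ : Function.Injective Θ := (blockHom_injective e).comp (hψ.comp_left)
  refine ⟨Θ.toHomUnits, ?_⟩
  intro x y hxy
  apply hΘ
  have := congrArg (fun u : GL (Fin n) F => (u : Matrix (Fin n) (Fin n) F)) hxy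
  simpa [MonoidHom.coe_toHomUnits] using this

/-- Sylow `r`-subgroups of `GL_n(q)` when `n / d < r` -/
theorem sylow_GL_general [Fintype F] {q : ℕ} (hq : Fintype.card F = q) (n : ℕ)
    (r : ℕ) [Fact r.Prime] (hrn : n / orderOf (q : ZMod r) < r) (hrq : ¬ r ∣ q) (P : Sylow r (GL (Fin n) F)) :
    Nonempty (↥(P : Subgroup (GL (Fin n) F)) ≃*
      (Fin (n / orderOf (q : ZMod r)) →
        Multiplicative (ZMod (r ^ padicValNat r (q ^ orderOf (q : ZMod r) - 1))))) := by
  have hq2 : 2 ≤ q := by rw [← hq]; exact Fintype.one_lt_card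
  set d := orderOf (q : ZMod r) with hd
  set a := padicValNat r (q ^ d - 1) with ha
  set k := n / d with hk
  have hd0 : 0 < d := ordq_pos hrq
  have hra : r ^ a ∣ Fintype.card F ^ d - 1 := by
    rw [hq, ha]; exact pow_padicValNat_dvd
  have hkd : d * k ≤ n := Nat.mul_div_le n d
  obtain ⟨Ψ, hΨ⟩ := exists_injective_hom_GL (F := F) n d k hd0 hkd (r ^ a) hra
  have : NeZero (r ^ a) := ⟨pow_ne_zero _ (Fact.out : r.Prime).ne_zero⟩
  apply sylow_mulEquiv_of_card P Ψ hΨ
  rw [Matrix.card_GL_field, hq, padicValNat_card_GL' hq2 hrq n hrn, Nat.card_eq_fintype_card]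
  simp only [Fintype.card_pi, Finset.prod_const, Finset.card_univ, Fintype.card_fin]
  rw [Fintype.card_multiplicative, ZMod.card, ← pow_mul]

/-- `g ↦ diag(g, g⁻ᵀ)` from `GL_n` to `Sp_{2n}` -/
noncomputable def glToSp (n : ℕ) : GL (Fin n) F →* ↥(Matrix.symplecticGroup (Fin n) F) where
  toFun g := ⟨Matrix.fromBlocks (g : Matrix (Fin n) (Fin n) F) 0 0
      ((g⁻¹ : GL (Fin n) F) : Matrix (Fin n) (Fin n) F).transpose, by
    rw [SymplecticGroup.fromBlocks_mem_iff]
    refine ⟨by simp, by simp, ?_⟩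
    rw [Matrix.mul_zero, sub_zero, ← Matrix.transpose_mul, ← Units.val_mul, inv_mul_cancel]
    simp⟩
  map_one' := by
    apply Subtype.ext
    simp [Matrix.fromBlocks_one]
  map_mul' g h := by
    apply Subtype.ext
    simp only [Submonoid.coe_mul, Matrix.fromBlocks_multiply, mul_inv_rev, Units.val_mul, Matrix.transpose_mul]
    simp

theorem glToSp_injective (n : ℕ) : Function.Injective (glToSp (F := F) n) := by
  intro g h hgh
  have := congrArg (fun x : ↥(Matrix.symplecticGroup (Fin n) F) => (x : Matrix (Fin n ⊕ Fin n) (Fin n ⊕ Fin n) F)) hgh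
  simp only [glToSp, MonoidHom.coe_mk, OneHom.coe_mk] at this
  rw [Matrix.fromBlocks_inj] at this
  exact Units.ext this.1

end group

end Cfsg.Agent.Helper40
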