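import Cfsg.Agent.Helper40.StBP

/-!
Helper40: the monomial subgroup `N̄` of a group `Γ` with root elements satisfying (A), (B) over the Chevalley group,
and the Bruhat decomposition `Γ = Ū N̄ Ū`.
-/

set_option autoImplicit false
set_option linter.unusedSectionVars false

namespace Cfsg.Agent.Helper40.St

open Cfsg Cfsg.Lie Cfsg.Agent.Helper18 Cfsg.Agent.Helper40.ChevAdd Cfsg.Agent.Helper40.UProd
  Cfsg.Agent.Helper40.SL2Hom Cfsg.Agent.Helper40.SL2Chev Cfsg.Agent.Helper40.NMono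

section
variable {K : Type*} [Field K] {D : ChevalleyDatum} {Γ : Type*} [Group Γ] {X : ℕ → K → Γ}
  {hadd : ChevAdd.addOK D = true} {π : Γ →* GL D.Idx K}

/-- the action of `n̄_p(t)` on all the root elements -/
theorem nbar_act (hD : D ∈ [chevG2, chevB2, chevD4, chevF4, chevE6, chevE7, chevE8]) (O : Over D hadd X π)
    {φ : ℕ → ℤ} (S : Std D φ) (i : ℕ) (hi : i < D.rank) (t : K) (ht : t ≠ 0) (s : ℕ) (hs : s < D.nroots) :
    D.reflectRoot i s < D.nroots ∧ ∃ c : K, c ≠ 0 ∧ ∀ u : K,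
      nbar D X (D.simple i) t * X s u * (nbar D X (D.simple i) t)⁻¹ = X (D.reflectRoot i s) (c * u) := by
  have hp := S.simple_lt i hi
  have hn := S.neg_lt _ hp
  by_cases h1 : s = D.simple i
  · subst h1
    rw [reflectRoot_simple]
    refine ⟨hn, -(t⁻¹ * t⁻¹), ?_, fun u => ?_⟩
    · exact neg_ne_zero.mpr (mul_ne_zero (inv_ne_zero ht) (inv_ne_zero ht))
    · rw [nbar_conj_self hD O S i hi t u ht, neg_mul]
  · by_cases h2 : s = D.neg (D.simple i)
    · subst h2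
      have e : D.reflectRoot i (D.neg (D.simple i)) = D.simple i := by
        rw [S.refl_neg i hi _ hp, reflectRoot_simple, S.neg_neg _ hp]
      rw [e]
      refine ⟨hp, -(t * t), ?_, fun u => ?_⟩
      · exact neg_ne_zero.mpr (mul_ne_zero ht ht)
      · rw [nbar_conj_neg hD O S i hi t u ht, neg_mul]
    · exact nbar_conj hD O S i hi s hs h1 h2 t ht

/-- `g` acts monomially on the root elements, compatibly with `r ↦ -r` -/
def Mono (D : ChevalleyDatum) (X : ℕ → K → Γ) (g : Γ) : Prop :=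
  ∀ s < D.nroots, ∃ s' < D.nroots, ∃ c c' : K, c ≠ 0 ∧ c' ≠ 0 ∧ (∀ u : K, g * X s u * g⁻¹ = X s' (c * u)) ∧
    ∀ u : K, g * X (D.neg s) u * g⁻¹ = X (D.neg s') (c' * u)

theorem Mono.one : Mono D X (1 : Γ) := by
  intro s hs
  exact ⟨s, hs, 1, 1, one_ne_zero, one_ne_zero, fun u => by simp, fun u => by simp⟩

theorem Mono.mul {g₁ g₂ : Γ} (h₁ : Mono D X g₁) (h₂ : Mono D X g₂) : Mono D X (g₁ * g₂) := by
  intro s hs
  obtain ⟨s', hs', c, c', hc, hc', e1, e2⟩ := h₂ s hs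
  obtain ⟨s'', hs'', d, d', hd, hd', f1, f2⟩ := h₁ s' hs'
  refine ⟨s'', hs'', d * c, d' * c', mul_ne_zero hd hc, mul_ne_zero hd' hc', fun u => ?_, fun u => ?_⟩
  · have : g₁ * g₂ * X s u * (g₁ * g₂)⁻¹ = g₁ * (g₂ * X s u * g₂⁻¹) * g₁⁻¹ := by group
    rw [this, e1, f1, mul_assoc]
  · have : g₁ * g₂ * X (D.neg s) u * (g₁ * g₂)⁻¹ = g₁ * (g₂ * X (D.neg s) u * g₂⁻¹) * g₁⁻¹ := by group
    rw [this, e2, f2, mul_assoc]

theorem mono_nbar (hD : D ∈ [chevG2, chevB2, chevD4, chevF4, chevE6, chevE7, chevE8]) (O : Over D hadd X π)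
    {φ : ℕ → ℤ} (S : Std D φ) (i : ℕ) (hi : i < D.rank) (t : K) (ht : t ≠ 0) :
    Mono D X (nbar D X (D.simple i) t) := by
  intro s hs
  obtain ⟨h1, c, hc, e1⟩ := nbar_act hD O S i hi t ht s hs
  obtain ⟨-, c', hc', e2⟩ := nbar_act hD O S i hi t ht _ (S.neg_lt s hs)
  rw [S.refl_neg i hi s hs] at e2
  exact ⟨_, h1, c, c', hc, hc', e1, e2⟩

/-- the monomial subgroup `N̄`, generated by the `n̄_p(t)`, `p` fundamental -/
def NG (D : ChevalleyDatum) (X : ℕ → K → Γ) : Subgroup Γ :=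
  Subgroup.closure {g | ∃ i < D.rank, ∃ t : K, t ≠ 0 ∧ g = nbar D X (D.simple i) t}

theorem nbar_mem_NG (i : ℕ) (hi : i < D.rank) (t : K) (ht : t ≠ 0) : nbar D X (D.simple i) t ∈ NG D X :=
  Subgroup.subset_closure ⟨i, hi, t, ht, rfl⟩

theorem mono_of_mem_NG (hD : D ∈ [chevG2, chevB2, chevD4, chevF4, chevE6, chevE7, chevE8]) (O : Over D hadd X π)
    {φ : ℕ → ℤ} (S : Std D φ) (g : Γ) (hg : g ∈ NG D X) : Mono D X g ∧ Mono D X g⁻¹ := by
  unfold NG at hg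
  induction hg using Subgroup.closure_induction with
  | mem x hx =>
    obtain ⟨i, hi, t, ht, rfl⟩ := hx
    have hp := S.simple_lt i hi
    refine ⟨mono_nbar hD O S i hi t ht, ?_⟩
    rw [nbar_inv O.toRels _ hp (S.neg_lt _ hp)]
    exact mono_nbar hD O S i hi (-t) (neg_ne_zero.mpr ht)
  | one =>
    rw [inv_one]
    exact ⟨Mono.one, Mono.one⟩
  | mul x y _ _ hx hy =>
    rw [mul_inv_rev]
    exact ⟨hx.1.mul hy.1, hy.2.mul hx.2⟩
  | inv x _ hx =>
    rw [inv_inv]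
    exact ⟨hx.2, hx.1⟩

/-- the subgroup generated by the fundamental root elements and `N̄` -/
def TG (D : ChevalleyDatum) (X : ℕ → K → Γ) : Subgroup Γ :=
  Subgroup.closure ({g | ∃ i < D.rank, ∃ t : K, g = X (D.simple i) t} ∪
    {g | ∃ i < D.rank, ∃ t : K, t ≠ 0 ∧ g = nbar D X (D.simple i) t})

/-- all root elements lie in `TG` -/
theorem X_mem_TG (hD : D ∈ [chevG2, chevB2, chevD4, chevF4, chevE6, chevE7, chevE8]) (O : Over D hadd X π)
    {φ : ℕ → ℤ} (S : Std D φ) : ∀ r < D.nroots, ∀ t : K, X r t ∈ TG D X := by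
  obtain ⟨-, -, cert, hcert⟩ := checks_of_mem D hD
  have hX : ∀ i < D.rank, ∀ t : K, X (D.simple i) t ∈ TG D X :=
    fun i hi t => Subgroup.subset_closure (Or.inl ⟨i, hi, t, rfl⟩)
  have hN : ∀ i < D.rank, ∀ t : K, t ≠ 0 → nbar D X (D.simple i) t ∈ TG D X :=
    fun i hi t ht => Subgroup.subset_closure (Or.inr ⟨i, hi, t, ht, rfl⟩)
  have hstep : ∀ i < D.rank, ∀ s < D.nroots, (∀ t : K, X s t ∈ TG D X) →
      ∀ t : K, X (D.reflectRoot i s) t ∈ TG D X := by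
    intro i hi s hs hP t
    obtain ⟨-, c, hc, e⟩ := nbar_act hD O S i hi 1 one_ne_zero s hs
    have := e (c⁻¹ * t)
    rw [← mul_assoc, mul_inv_cancel₀ hc, one_mul] at this
    rw [← this]
    exact (TG D X).mul_mem ((TG D X).mul_mem (hN i hi 1 one_ne_zero) (hP _)) ((TG D X).inv_mem (hN i hi 1 one_ne_zero))
  apply Cfsg.Agent.Helper36.root_induction D cert hcert (fun r => ∀ t : K, X r t ∈ TG D X)
  · intro i hi s hs
    obtain ⟨π', η, hn, hπ, he⟩ := Cfsg.Agent.Helper40.NData.exists_tables D hD i hi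
    have hn' := hn
    unfold nOK at hn'
    rw [Bool.and_eq_true] at hn'
    have hsp := monoOK_spec D i π' η hn'.1
    have h1 := hsp s hs
    rw [← piOK_spec hπ s hs]
    refine ⟨h1.1, ?_⟩
    rw [← piOK_spec hπ _ h1.1]
    exact h1.2.2
  · intro j hj
    refine ⟨hX j hj, ?_⟩
    have := hstep j hj _ (S.simple_lt j hj) (hX j hj)
    rw [reflectRoot_simple] at this
    exact this
  · exact hstep

/-- `Ū = X̄_p Ū_p` -/
theorem exists_X_mul (hD : D ∈ [chevG2, chevB2, chevD4, chevF4, chevE6, chevE7, chevE8]) (R : Rels D X)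
    {φ : ℕ → ℤ} (S : Std D φ) (i : ℕ) (hi : i < D.rank) (f : ℕ → ℤ) (hfa : ∀ s < D.nroots, IsAdditiveAt D f s)
    (hf0 : f (D.simple i) = 0) (hf : ∀ u < D.nroots, (0 < f u ↔ hlfOf D ≤ u ∧ u ≠ D.simple i))
    (g : Γ) (hg : g ∈ UG D X φ) : ∃ a : K, ∃ v ∈ UG D X f, g = X (D.simple i) a * v := by
  have hp := S.simple_lt i hi
  have key : ∀ r < D.nroots, 0 < φ r → ∀ (b a : K), ∀ v ∈ UG D X f,
      ∃ a' : K, ∃ v' ∈ UG D X f, X r b * (X (D.simple i) a * v) = X (D.simple i) a' * v' := by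
    intro r hr hφr b a v hv
    by_cases hrp : r = D.simple i
    · subst hrp
      exact ⟨b + a, v, hv, by rw [← mul_assoc, ← R.add _ hp]⟩
    · have hfr : 0 < f r := (hf r hr).mpr ⟨(S.pos r hr).mp hφr, hrp⟩
      have h1 := conj_X_mem_UG hD R f hfa _ hp hf0 (-a) _ (X_mem_UG f r hr hfr b)
      rw [R.X_neg _ hp, inv_inv] at h1
      refine ⟨a, (X (D.simple i) a)⁻¹ * X r b * X (D.simple i) a * v, (UG D X f).mul_mem h1 hv, ?_⟩
      group
  unfold UG at hg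
  induction hg using Subgroup.closure_induction_left with
  | one => exact ⟨0, 1, Subgroup.one_mem _, by rw [R.X_zero _ hp, mul_one]⟩
  | mul_left x hx y _ ih =>
    obtain ⟨r, hr, hφr, b, rfl⟩ := hx
    obtain ⟨a, v, hv, rfl⟩ := ih
    exact key r hr hφr b a v hv
  | inv_mul_cancel x hx y _ ih =>
    obtain ⟨r, hr, hφr, b, rfl⟩ := hx
    obtain ⟨a, v, hv, rfl⟩ := ih
    rw [← R.X_neg r hr]
    exact key r hr hφr (-b) a v hv

/-- the set `Ū N̄ Ū` -/
def BS (D : ChevalleyDatum) (X : ℕ → K → Γ) (φ : ℕ → ℤ) : Set Γ :=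
  {g | ∃ u ∈ UG D X φ, ∃ n ∈ NG D X, ∃ u' ∈ UG D X φ, g = u * n * u'}

theorem bs_aux (nb xa v n u' y : Γ) (e : nb * xa * nb⁻¹ = y) :
    nb * (xa * v * n * u') = (y * (nb * v * nb⁻¹) * y⁻¹) * y * (nb * n) * u' := by
  subst e
  group

/-- `Ū N̄ Ū` is stable under left multiplication by `n̄_p(t)` -/
theorem nbar_mul_mem_BS (hD : D ∈ [chevG2, chevB2, chevD4, chevF4, chevE6, chevE7, chevE8]) (O : Over D hadd X π)
    {φ : ℕ → ℤ} (S : Std D φ) (i : ℕ) (hi : i < D.rank) (t : K) (ht : t ≠ 0) (x : Γ) (hx : x ∈ BS D X φ) :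
    nbar D X (D.simple i) t * x ∈ BS D X φ := by
  obtain ⟨ub, hub, n, hn, u', hu', rfl⟩ := hx
  obtain ⟨f, hfa, hf0, hf⟩ := exists_posLvl D hD i hi
  obtain ⟨a, v, hv, rfl⟩ := exists_X_mul hD O.toRels S i hi f hfa hf0 hf ub hub
  have hp := S.simple_lt i hi
  have hnp := S.neg_lt _ hp
  have hle : UG D X f ≤ UG D X φ := UG_mono (fun u hu h => (S.pos u hu).mpr ((hf u hu).mp h).1)
  have e1 := nbar_conj_self hD O S i hi t a ht
  have hnorm := nbar_mem_normalizer hD O.toRels f hfa _ hp hnp hf0 t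
  have hv' := (Subgroup.mem_normalizer_iff.mp hnorm v).mp hv
  have hfn : f (D.neg (D.simple i)) = 0 := by rw [(hfa _ hp).1, hf0]; rfl
  have hv'' := conj_X_mem_UG hD O.toRels f hfa _ hnp hfn (-(t⁻¹ * t⁻¹ * a)) _ hv'
  have hn'' : nbar D X (D.simple i) t * n ∈ NG D X := (NG D X).mul_mem (nbar_mem_NG i hi t ht) hn
  rw [bs_aux _ _ v n u' _ e1]
  generalize X (D.neg (D.simple i)) (-(t⁻¹ * t⁻¹ * a)) * (nbar D X (D.simple i) t * v * (nbar D X (D.simple i) t)⁻¹) *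
    (X (D.neg (D.simple i)) (-(t⁻¹ * t⁻¹ * a)))⁻¹ = v2 at hv''
  generalize nbar D X (D.simple i) t * n = n2 at hn''
  generalize -(t⁻¹ * t⁻¹ * a) = a'
  obtain ⟨-, hm⟩ := mono_of_mem_NG hD O S n2 hn''
  obtain ⟨s', hs', c, c', hc, hc', m1, m2⟩ := hm _ hnp
  rw [S.neg_neg _ hp] at m2
  simp only [inv_inv] at m1 m2
  by_cases hpos : hlfOf D ≤ s'
  · refine ⟨v2, hle hv'', n2, hn'', X s' (c * a') * u', (UG D X φ).mul_mem
      (X_mem_UG φ s' hs' ((S.pos s' hs').mpr hpos) _) hu', ?_⟩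
    rw [← m1 a']
    group
  · by_cases ha' : a' = 0
    · subst ha'
      rw [O.X_zero _ hnp, mul_one]
      exact ⟨v2, hle hv'', n2, hn'', u', hu', rfl⟩
    · have hns' := S.neg_lt s' hs'
      have hnpos : hlfOf D ≤ D.neg s' := (S.pos_neg_iff s' hs').mpr hpos
      have e3 : X (D.neg (D.simple i)) a' =
          X (D.simple i) a'⁻¹ * nbar D X (D.simple i) (-a'⁻¹) * X (D.simple i) a'⁻¹ := by
        unfold nbar w
        rw [inv_neg, inv_inv, neg_neg, O.X_neg _ hp]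
        group
      refine ⟨v2 * X (D.simple i) a'⁻¹, (UG D X φ).mul_mem (hle hv'')
        (X_mem_UG φ _ hp ((S.pos _ hp).mpr (S.simple_pos i hi)) _), nbar D X (D.simple i) (-a'⁻¹) * n2,
        (NG D X).mul_mem (nbar_mem_NG i hi _ (neg_ne_zero.mpr (inv_ne_zero ha'))) hn'',
        X (D.neg s') (c' * a'⁻¹) * u', (UG D X φ).mul_mem (X_mem_UG φ _ hns' ((S.pos _ hns').mpr hnpos) _) hu', ?_⟩
      rw [e3, ← m2 a'⁻¹]
      group

theorem one_mem_BS (φ : ℕ → ℤ) : (1 : Γ) ∈ BS D X φ :=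
  ⟨1, Subgroup.one_mem _, 1, Subgroup.one_mem _, 1, Subgroup.one_mem _, by simp⟩

/-- `Ū N̄ Ū` is stable under left multiplication by `TG` -/
theorem mul_mem_BS (hD : D ∈ [chevG2, chevB2, chevD4, chevF4, chevE6, chevE7, chevE8]) (O : Over D hadd X π)
    {φ : ℕ → ℤ} (S : Std D φ) (g : Γ) (hg : g ∈ TG D X) :
    (∀ x ∈ BS D X φ, g * x ∈ BS D X φ) ∧ ∀ x ∈ BS D X φ, g⁻¹ * x ∈ BS D X φ := by
  have hXm : ∀ i < D.rank, ∀ t : K, ∀ x ∈ BS D X φ, X (D.simple i) t * x ∈ BS D X φ := by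
    rintro i hi t x ⟨ub, hub, n, hn, u', hu', rfl⟩
    have hp := S.simple_lt i hi
    refine ⟨X (D.simple i) t * ub, (UG D X φ).mul_mem
      (X_mem_UG φ _ hp ((S.pos _ hp).mpr (S.simple_pos i hi)) _) hub, n, hn, u', hu', ?_⟩
    group
  unfold TG at hg
  induction hg using Subgroup.closure_induction with
  | mem y hy =>
    rcases hy with ⟨i, hi, t, rfl⟩ | ⟨i, hi, t, ht, rfl⟩
    · have hp := S.simple_lt i hi
      refine ⟨hXm i hi t, ?_⟩
      rw [← O.X_neg _ hp]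
      exact hXm i hi (-t)
    · have hp := S.simple_lt i hi
      refine ⟨nbar_mul_mem_BS hD O S i hi t ht, ?_⟩
      rw [nbar_inv O.toRels _ hp (S.neg_lt _ hp)]
      exact nbar_mul_mem_BS hD O S i hi (-t) (neg_ne_zero.mpr ht)
  | one =>
    simp only [inv_one, one_mul]
    exact ⟨fun x hx => hx, fun x hx => hx⟩
  | mul y z _ _ hy hz =>
    refine ⟨fun x hx => ?_, fun x hx => ?_⟩
    · rw [mul_assoc]
      exact hy.1 _ (hz.1 x hx)
    · rw [mul_inv_rev, mul_assoc]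
      exact hz.2 _ (hy.2 x hx)
  | inv y _ hy =>
    rw [inv_inv]
    exact ⟨hy.2, hy.1⟩

/-- the Bruhat decomposition `Γ = Ū N̄ Ū` -/
theorem mem_BS (hD : D ∈ [chevG2, chevB2, chevD4, chevF4, chevE6, chevE7, chevE8]) (O : Over D hadd X π)
    {φ : ℕ → ℤ} (S : Std D φ) (gen : Subgroup.closure {g | ∃ r < D.nroots, ∃ t : K, g = X r t} = ⊤) (g : Γ) :
    g ∈ BS D X φ := by
  have h1 : g ∈ TG D X := by
    have : (⊤ : Subgroup Γ) ≤ TG D X := by
      rw [← gen, Subgroup.closure_le]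
      rintro x ⟨r, hr, t, rfl⟩
      exact X_mem_TG hD O S r hr t
    exact this (Subgroup.mem_top g)
  have := (mul_mem_BS hD O S g h1).1 1 (one_mem_BS φ)
  rwa [mul_one] at this

end

end Cfsg.Agent.Helper40.St
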