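import Cfsg.Prelude.Def_ChevStructure
import Cfsg.Prelude.Def_ChevG2
import Cfsg.Prelude.Def_ChevB2
import Cfsg.Prelude.Def_ChevD4
import Cfsg.Prelude.Def_ChevF4
import Cfsg.Prelude.Def_ChevE6
import Cfsg.Prelude.Def_ChevE7
import Cfsg.Prelude.Def_ChevE8
import Cfsg.Agent.Helper18.FastCheck
import Cfsg.Agent.S1024

/-!
Helper40: additivity `x_r(t₁) x_r(t₂) = x_r(t₁ + t₂)` of the root elements of a `ChevalleyDatum`,
from a table check of the shapes of the `r`-strings (`addOK D`).
-/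

set_option autoImplicit false

namespace Cfsg.Agent.Helper40.ChevAdd

open Cfsg Cfsg.Lie Cfsg.Agent.Helper18

/-- `colEntries` as a function of the row of the chain table -/
def ce (L : List (ℕ × Array (ℕ × ℤ))) (s : ℕ) : List (ℕ × ℕ × ℤ) :=
  (L.filter (fun e => e.1 = s)).flatMap fun e => (e.2.toList.zipIdx).map fun q => (q.1.1, q.2 + 1, q.1.2)

theorem colEntries_eq_ce (D : ChevalleyDatum) (r s : ℕ) :
    colEntries D r s = ce (D.chain.getD r #[]).toList s := rfl

theorem ce_eq_nil_of_not_mem (L : List (ℕ × Array (ℕ × ℤ))) (s : ℕ) (hs : s ∉ L.map (·.1)) : ce L s = [] := by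
  unfold ce
  rw [filter_key_eq_nil L s hs]
  rfl

/-- in range and different from `±r` -/
def gen (n r nr u : ℕ) : Bool := decide (u < n) && decide (u ≠ r) && decide (u ≠ nr)

/-- bit mask of the keys of a row -/
def mask : List (ℕ × Array (ℕ × ℤ)) → ℕ
  | [] => 0
  | e :: L => (1 <<< e.1) ||| mask L

theorem testBit_mask (L : List (ℕ × Array (ℕ × ℤ))) (s : ℕ) :
    Nat.testBit (mask L) s = true ↔ s ∈ L.map (·.1) := by
  induction L with
  | nil => simp [mask]
  | cons e L ih =>
    simp only [mask, Nat.testBit_or, Bool.or_eq_true, ih, List.map_cons, List.mem_cons]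
    rw [Nat.one_shiftLeft, Nat.testBit_two_pow]
    simp only [decide_eq_true_eq]
    constructor
    · rintro (h | h)
      · exact Or.inl h.symm
      · exact Or.inr h
    · rintro (h | h)
      · exact Or.inl h.symm
      · exact Or.inr h

/-- the keys are strictly increasing -/
def sortedKeys : List (ℕ × Array (ℕ × ℤ)) → Bool
  | [] => true
  | [_] => true
  | a :: b :: L => decide (a.1 < b.1) && sortedKeys (b :: L)

theorem lt_of_sortedKeys (a : ℕ × Array (ℕ × ℤ)) (L : List (ℕ × Array (ℕ × ℤ)))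
    (h : sortedKeys (a :: L) = true) : ∀ b ∈ L, a.1 < b.1 := by
  induction L generalizing a with
  | nil => intro b hb; cases hb
  | cons c L ih =>
    simp only [sortedKeys, Bool.and_eq_true, decide_eq_true_eq] at h
    intro b hb
    rcases List.mem_cons.mp hb with rfl | hb'
    · exact h.1
    · exact lt_trans h.1 (ih c h.2 b hb')

theorem sortedKeys_tail (a : ℕ × Array (ℕ × ℤ)) (L : List (ℕ × Array (ℕ × ℤ)))
    (h : sortedKeys (a :: L) = true) : sortedKeys L = true := by
  cases L with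
  | nil => rfl
  | cons c L =>
    simp only [sortedKeys, Bool.and_eq_true] at h
    exact h.2

theorem nodup_of_sortedKeys (L : List (ℕ × Array (ℕ × ℤ))) (h : sortedKeys L = true) :
    (L.map (·.1)).Nodup := by
  induction L with
  | nil => simp
  | cons a L ih =>
    rw [List.map_cons, List.nodup_cons]
    refine ⟨?_, ih (sortedKeys_tail a L h)⟩
    intro hmem
    obtain ⟨b, hb, hba⟩ := List.mem_map.mp hmem
    have := lt_of_sortedKeys a L h b hb
    omega

theorem ce_of_mem (L : List (ℕ × Array (ℕ × ℤ))) (hnd : (L.map (·.1)).Nodup) (e : ℕ × Array (ℕ × ℤ))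
    (he : e ∈ L) : ce L e.1 = (e.2.toList.zipIdx).map fun q => (q.1.1, q.2 + 1, q.1.2) := by
  unfold ce
  rw [filter_key_eq_singleton L hnd e he]
  simp

/-- the shape check for the string starting at the key of the entry `e` -/
def entOK (L : List (ℕ × Array (ℕ × ℤ))) (m n r nr : ℕ) (e : ℕ × Array (ℕ × ℤ)) : Bool :=
  match e.2.toList with
  | [] => true
  | [(s1, _)] => gen n r nr s1 && !(Nat.testBit m s1)
  | [(s1, M1), (s2, M2)] =>
      gen n r nr s1 && gen n r nr s2 && !(Nat.testBit m s2) &&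
      (match ce L s1 with
        | [(a, 1, N1)] => decide (a = s2) && decide (M1 * N1 = 2 * M2)
        | _ => false)
  | [(s1, M1), (s2, M2), (s3, M3)] =>
      gen n r nr s1 && gen n r nr s2 && gen n r nr s3 && !(Nat.testBit m s3) &&
      (match ce L s1 with
        | [(a, 1, N1), (b, 2, N2)] =>
            decide (a = s2) && decide (b = s3) && decide (M1 * N1 = 2 * M2) && decide (M1 * N2 = 3 * M3)
        | _ => false) &&
      (match ce L s2 with
        | [(a, 1, P1)] => decide (a = s3) && decide (M2 * P1 = 3 * M3)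
        | _ => false)
  | _ => false

/-- the check for the root `r` -/
def rootOK (D : ChevalleyDatum) (r : ℕ) : Bool :=
  decide (D.neg r < D.nroots) && decide (D.neg r ≠ r) && decide (pairing' D r r = 2) &&
    sortedKeys (D.chain.getD r #[]).toList &&
    (D.chain.getD r #[]).toList.all fun e =>
      entOK (D.chain.getD r #[]).toList (mask (D.chain.getD r #[]).toList) D.nroots r (D.neg r) e

/-- the check for all roots -/
def addOK (D : ChevalleyDatum) : Bool := (List.range D.nroots).all fun r => rootOK D r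

/-- the possible shapes of the `r`-string starting at `s` -/
inductive Shape (D : ChevalleyDatum) (r s : ℕ) : Prop
  | iso : colEntries D r s = [] → Shape D r s
  | one (s1 : ℕ) (M1 : ℤ) : colEntries D r s = [(s1, 1, M1)] →
      s1 < D.nroots → s1 ≠ r → s1 ≠ D.neg r → colEntries D r s1 = [] → Shape D r s
  | two (s1 s2 : ℕ) (M1 M2 N1 : ℤ) : colEntries D r s = [(s1, 1, M1), (s2, 2, M2)] →
      s1 < D.nroots → s1 ≠ r → s1 ≠ D.neg r → s2 < D.nroots → s2 ≠ r → s2 ≠ D.neg r →
      colEntries D r s1 = [(s2, 1, N1)] → colEntries D r s2 = [] → M1 * N1 = 2 * M2 → Shape D r s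
  | three (s1 s2 s3 : ℕ) (M1 M2 M3 N1 N2 P1 : ℤ) :
      colEntries D r s = [(s1, 1, M1), (s2, 2, M2), (s3, 3, M3)] →
      s1 < D.nroots → s1 ≠ r → s1 ≠ D.neg r → s2 < D.nroots → s2 ≠ r → s2 ≠ D.neg r →
      s3 < D.nroots → s3 ≠ r → s3 ≠ D.neg r →
      colEntries D r s1 = [(s2, 1, N1), (s3, 2, N2)] → colEntries D r s2 = [(s3, 1, P1)] →
      colEntries D r s3 = [] → M1 * N1 = 2 * M2 → M1 * N2 = 3 * M3 → M2 * P1 = 3 * M3 → Shape D r s

theorem gen_spec {n r nr u : ℕ} (h : gen n r nr u = true) : u < n ∧ u ≠ r ∧ u ≠ nr := by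
  unfold gen at h
  simp only [Bool.and_eq_true, decide_eq_true_eq] at h
  exact ⟨h.1.1, h.1.2, h.2⟩

theorem ce_nil_of_testBit (L : List (ℕ × Array (ℕ × ℤ))) (s : ℕ) (h : (!(Nat.testBit (mask L) s)) = true) :
    ce L s = [] := by
  apply ce_eq_nil_of_not_mem
  rw [← testBit_mask]
  simpa using h

theorem shape_of_entOK (D : ChevalleyDatum) (r : ℕ) (e : ℕ × Array (ℕ × ℤ))
    (hnd : ((D.chain.getD r #[]).toList.map (·.1)).Nodup) (he : e ∈ (D.chain.getD r #[]).toList)
    (h : entOK (D.chain.getD r #[]).toList (mask (D.chain.getD r #[]).toList) D.nroots r (D.neg r) e = true) :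
    Shape D r e.1 := by
  have hce := ce_of_mem _ hnd e he
  rw [← colEntries_eq_ce] at hce
  unfold entOK at h
  split at h
  · rename_i h0
    rw [h0] at hce
    exact Shape.iso hce
  · rename_i s1 M1 h0
    rw [h0] at hce
    simp only [Bool.and_eq_true] at h
    obtain ⟨g1, g2, g3⟩ := gen_spec h.1
    have e1 := ce_nil_of_testBit _ _ h.2
    rw [← colEntries_eq_ce] at e1
    exact Shape.one s1 M1 hce g1 g2 g3 e1
  · rename_i s1 M1 s2 M2 h0
    rw [h0] at hce
    simp only [Bool.and_eq_true] at h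
    obtain ⟨⟨⟨hg1, hg2⟩, he2⟩, hm⟩ := h
    obtain ⟨g1, g2, g3⟩ := gen_spec hg1
    obtain ⟨g4, g5, g6⟩ := gen_spec hg2
    have e2 := ce_nil_of_testBit _ _ he2
    rw [← colEntries_eq_ce] at e2
    split at hm
    · rename_i a N1 h1
      rw [← colEntries_eq_ce] at h1
      simp only [Bool.and_eq_true, decide_eq_true_eq] at hm
      obtain ⟨rfl, hmm⟩ := hm
      exact Shape.two s1 a M1 M2 N1 hce g1 g2 g3 g4 g5 g6 h1 e2 hmm
    · exact absurd hm (by simp)
  · rename_i s1 M1 s2 M2 s3 M3 h0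
    rw [h0] at hce
    simp only [Bool.and_eq_true] at h
    obtain ⟨⟨⟨⟨⟨hg1, hg2⟩, hg3⟩, he3⟩, hm1⟩, hm2⟩ := h
    obtain ⟨g1, g2, g3⟩ := gen_spec hg1
    obtain ⟨g4, g5, g6⟩ := gen_spec hg2
    obtain ⟨g7, g8, g9⟩ := gen_spec hg3
    have e3 := ce_nil_of_testBit _ _ he3
    rw [← colEntries_eq_ce] at e3
    split at hm1
    · rename_i a N1 b N2 h1
      rw [← colEntries_eq_ce] at h1
      simp only [Bool.and_eq_true, decide_eq_true_eq] at hm1
      obtain ⟨⟨⟨rfl, rfl⟩, hmm1⟩, hmm2⟩ := hm1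
      split at hm2
      · rename_i c P1 h2
        rw [← colEntries_eq_ce] at h2
        simp only [Bool.and_eq_true, decide_eq_true_eq] at hm2
        obtain ⟨rfl, hmm3⟩ := hm2
        exact Shape.three s1 a c M1 M2 M3 N1 N2 P1 hce g1 g2 g3 g4 g5 g6 g7 g8 g9 h1 h2 e3 hmm1 hmm2 hmm3
      · exact absurd hm2 (by simp)
    · exact absurd hm1 (by simp)
  · exact absurd h (by simp)

/-- what `rootOK` gives -/
theorem shape_of_rootOK (D : ChevalleyDatum) (r : ℕ) (h : rootOK D r = true) :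
    D.neg r < D.nroots ∧ D.neg r ≠ r ∧ pairing' D r r = 2 ∧ ∀ s, Shape D r s := by
  unfold rootOK at h
  simp only [Bool.and_eq_true, decide_eq_true_eq, List.all_eq_true] at h
  obtain ⟨⟨⟨⟨h1, h2⟩, h3⟩, hsort⟩, h4⟩ := h
  have hnd := nodup_of_sortedKeys _ hsort
  refine ⟨h1, h2, h3, fun s => ?_⟩
  by_cases hs : s ∈ (D.chain.getD r #[]).toList.map (·.1)
  · obtain ⟨e, he, rfl⟩ := List.mem_map.mp hs
    exact shape_of_entOK D r e hnd he (h4 e he)
  · exact Shape.iso (by rw [colEntries_eq_ce]; exact ce_eq_nil_of_not_mem _ s hs)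

section Mat
variable {F : Type*} [Field F]

theorem x_col2 (D : ChevalleyDatum) (r s s1 s2 : ℕ) (M1 M2 : ℤ) (hr : r < D.nroots) (hs : s < D.nroots)
    (hs1 : s1 < D.nroots) (hs2 : s2 < D.nroots) (h1 : s ≠ r) (h2 : s ≠ D.neg r)
    (hc : colEntries D r s = [(s1, 1, M1), (s2, 2, M2)]) (τ : F) :
    (D.x F r τ).mulVec (bR D s hs) =
      bR D s hs + ((M1 : F) * τ) • bR D s1 hs1 + ((M2 : F) * τ ^ 2) • bR D s2 hs2 := by
  unfold bR
  rw [x_mulVec_single]
  have : code D (Sum.inr ⟨s, hs⟩) = D.rank + s := rfl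
  rw [this, xCol_generic D r s hr hs h1 h2, hc]
  simp only [List.map_cons, List.map_nil]
  rw [vecD_cons_inr _ _ _ D s hs, vecD_cons_inr _ _ _ D s1 hs1, vecD_cons_inr _ _ _ D s2 hs2, vecD_nil]
  simp [bR, peval_pmul, peval_ppow, add_assoc]

theorem x_col3 (D : ChevalleyDatum) (r s s1 s2 s3 : ℕ) (M1 M2 M3 : ℤ) (hr : r < D.nroots) (hs : s < D.nroots)
    (hs1 : s1 < D.nroots) (hs2 : s2 < D.nroots) (hs3 : s3 < D.nroots) (h1 : s ≠ r) (h2 : s ≠ D.neg r)
    (hc : colEntries D r s = [(s1, 1, M1), (s2, 2, M2), (s3, 3, M3)]) (τ : F) :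
    (D.x F r τ).mulVec (bR D s hs) =
      bR D s hs + ((M1 : F) * τ) • bR D s1 hs1 + ((M2 : F) * τ ^ 2) • bR D s2 hs2 +
        ((M3 : F) * τ ^ 3) • bR D s3 hs3 := by
  unfold bR
  rw [x_mulVec_single]
  have : code D (Sum.inr ⟨s, hs⟩) = D.rank + s := rfl
  rw [this, xCol_generic D r s hr hs h1 h2, hc]
  simp only [List.map_cons, List.map_nil]
  rw [vecD_cons_inr _ _ _ D s hs, vecD_cons_inr _ _ _ D s1 hs1, vecD_cons_inr _ _ _ D s2 hs2,
    vecD_cons_inr _ _ _ D s3 hs3, vecD_nil]
  simp [bR, peval_pmul, peval_ppow, add_assoc]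

/-- additivity on a generic column -/
theorem add_generic (D : ChevalleyDatum) (r s : ℕ) (hr : r < D.nroots) (hs : s < D.nroots) (h1 : s ≠ r)
    (h2 : s ≠ D.neg r) (hsh : Shape D r s) (t₁ t₂ : F) :
    (D.x F r t₁).mulVec ((D.x F r t₂).mulVec (bR D s hs)) = (D.x F r (t₁ + t₂)).mulVec (bR D s hs) := by
  rcases hsh with h0 | ⟨s1, M1, h0, g1, g2, g3, e1⟩ |
    ⟨s1, s2, M1, M2, N1, h0, g1, g2, g3, g4, g5, g6, e1, e2, m1⟩ |
    ⟨s1, s2, s3, M1, M2, M3, N1, N2, P1, h0, g1, g2, g3, g4, g5, g6, g7, g8, g9, e1, e2, e3, m1, m2, m3⟩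
  · simp only [x_isolated D r s hr hs h1 h2 h0]
  · simp only [x_step D r s s1 M1 hr hs g1 h1 h2 h0, Matrix.mulVec_add, Matrix.mulVec_smul,
      x_isolated D r s1 hr g1 g2 g3 e1]
    module
  · have c1 : ((M1 : ℤ) : F) * (N1 : F) = 2 * (M2 : F) := by exact_mod_cast congrArg (fun z : ℤ => (z : F)) m1
    simp only [x_col2 D r s s1 s2 M1 M2 hr hs g1 g4 h1 h2 h0, Matrix.mulVec_add, Matrix.mulVec_smul,
      x_step D r s1 s2 N1 hr g1 g4 g2 g3 e1, x_isolated D r s2 hr g4 g5 g6 e2]
    funext i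
    simp only [Pi.add_apply, Pi.smul_apply, smul_eq_mul]
    linear_combination (t₁ * t₂ * bR D s2 g4 i) * c1
  · have c1 : ((M1 : ℤ) : F) * (N1 : F) = 2 * (M2 : F) := by exact_mod_cast congrArg (fun z : ℤ => (z : F)) m1
    have c2 : ((M1 : ℤ) : F) * (N2 : F) = 3 * (M3 : F) := by exact_mod_cast congrArg (fun z : ℤ => (z : F)) m2
    have c3 : ((M2 : ℤ) : F) * (P1 : F) = 3 * (M3 : F) := by exact_mod_cast congrArg (fun z : ℤ => (z : F)) m3
    simp only [x_col3 D r s s1 s2 s3 M1 M2 M3 hr hs g1 g4 g7 h1 h2 h0, Matrix.mulVec_add, Matrix.mulVec_smul,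
      x_col2 D r s1 s2 s3 N1 N2 hr g1 g4 g7 g2 g3 e1, x_step D r s2 s3 P1 hr g4 g7 g5 g6 e2,
      x_isolated D r s3 hr g7 g8 g9 e3]
    funext i
    simp only [Pi.add_apply, Pi.smul_apply, smul_eq_mul]
    linear_combination (t₁ * t₂ * bR D s2 g4 i) * c1 + (t₁ ^ 2 * t₂ * bR D s3 g7 i) * c2 +
      (t₁ * t₂ ^ 2 * bR D s3 g7 i) * c3

theorem pairing_cast (D : ChevalleyDatum) (r : ℕ) (h : pairing' D r r = 2) :
    ∑ i : Fin D.rank, (((D.coroot.getD r #[]).getD i.val 0 : ℤ) : F) *
      (((D.cartanSR.getD i.val #[]).getD r 0 : ℤ) : F) = 2 := by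
  unfold pairing' at h
  rw [list_range_sum_eq] at h
  have h3 := congrArg (fun z : ℤ => (z : F)) h
  push_cast at h3
  exact h3

/-- additivity of the root elements -/
theorem x_add_of_rootOK (D : ChevalleyDatum) (r : ℕ) (hr : r < D.nroots) (h : rootOK D r = true) (t₁ t₂ : F) :
    D.x F r t₁ * D.x F r t₂ = D.x F r (t₁ + t₂) := by
  obtain ⟨hn1, hn2, hp, hsh⟩ := shape_of_rootOK D r h
  apply matrix_ext_mulVec
  intro j
  rw [← Matrix.mulVec_mulVec]
  rcases j with i | s
  · -- column h_i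
    change (D.x F r t₁).mulVec ((D.x F r t₂).mulVec (bI D i)) = (D.x F r (t₁ + t₂)).mulVec (bI D i)
    simp only [x_cartan D r hr i, Matrix.mulVec_sub, Matrix.mulVec_smul, x_self D r hr]
    module
  · by_cases hsr : s.val = r
    · have hs : s = ⟨r, hr⟩ := Fin.ext hsr
      subst hs
      change (D.x F r t₁).mulVec ((D.x F r t₂).mulVec (bR D r hr)) = (D.x F r (t₁ + t₂)).mulVec (bR D r hr)
      simp only [x_self D r hr]
    · by_cases hsn : s.val = D.neg r
      · have hs : s = ⟨D.neg r, hn1⟩ := Fin.ext hsn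
        subst hs
        change (D.x F r t₁).mulVec ((D.x F r t₂).mulVec (bR D (D.neg r) hn1)) =
          (D.x F r (t₁ + t₂)).mulVec (bR D (D.neg r) hn1)
        have hp' := pairing_cast (F := F) D r hp
        simp only [x_neg D r (D.neg r) hr hn1 rfl hn2, Matrix.mulVec_add, Matrix.mulVec_sub, Matrix.mulVec_smul,
          Matrix.mulVec_sum, x_cartan D r hr, x_self D r hr]
        funext i
        simp only [Pi.add_apply, Pi.sub_apply, Pi.smul_apply, smul_eq_mul, Finset.sum_apply, Finset.mul_sum,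
          mul_sub, Finset.sum_sub_distrib]
        have e : ∑ x : Fin D.rank, t₂ * ((((D.coroot.getD r #[]).getD x.val 0 : ℤ) : F) *
            ((((D.cartanSR.getD x.val #[]).getD r 0 : ℤ) : F) * t₁ * bR D r hr i)) =
            t₁ * t₂ * bR D r hr i * ∑ x : Fin D.rank, (((D.coroot.getD r #[]).getD x.val 0 : ℤ) : F) *
              (((D.cartanSR.getD x.val #[]).getD r 0 : ℤ) : F) := by
          rw [Finset.mul_sum]
          apply Finset.sum_congr rfl
          intro x _
          ring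
        rw [e, hp']
        simp only [add_mul, Finset.sum_add_distrib]
        ring
      · change (D.x F r t₁).mulVec ((D.x F r t₂).mulVec (bR D s.val s.2)) =
          (D.x F r (t₁ + t₂)).mulVec (bR D s.val s.2)
        exact add_generic D r s.val hr s.2 hsr hsn (hsh s.val) t₁ t₂

/-- additivity of the root elements (the root index may be out of range: then `x = 1`) -/
theorem x_add (D : ChevalleyDatum) (h : addOK D = true) (r : ℕ) (t₁ t₂ : F) :
    D.x F r t₁ * D.x F r t₂ = D.x F r (t₁ + t₂) := by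
  by_cases hr : r < D.nroots
  · unfold addOK at h
    rw [List.all_eq_true] at h
    exact x_add_of_rootOK D r hr (h r (List.mem_range.mpr hr)) t₁ t₂
  · unfold ChevalleyDatum.x
    simp only [dif_neg hr, mul_one]

theorem x_mul_neg (D : ChevalleyDatum) (h : addOK D = true) (r : ℕ) (t : F) :
    D.x F r t * D.x F r (-t) = 1 := by
  rw [x_add D h, add_neg_cancel, Cfsg.Agent.S1024.x_zero]

theorem x_neg_mul (D : ChevalleyDatum) (h : addOK D = true) (r : ℕ) (t : F) :
    D.x F r (-t) * D.x F r t = 1 := by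
  rw [x_add D h, neg_add_cancel, Cfsg.Agent.S1024.x_zero]

/-- the root element `x_r(t)` as an element of the general linear group -/
def xGL (D : ChevalleyDatum) (h : addOK D = true) (F : Type*) [Field F] (r : ℕ) (t : F) : GL D.Idx F :=
  ⟨D.x F r t, D.x F r (-t), x_mul_neg D h r t, x_neg_mul D h r t⟩

@[simp] theorem coe_xGL (D : ChevalleyDatum) (h : addOK D = true) (r : ℕ) (t : F) :
    ((xGL D h F r t : GL D.Idx F) : Matrix D.Idx D.Idx F) = D.x F r t := rfl

theorem xGL_add (D : ChevalleyDatum) (h : addOK D = true) (r : ℕ) (t₁ t₂ : F) :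
    xGL D h F r t₁ * xGL D h F r t₂ = xGL D h F r (t₁ + t₂) := by
  apply Units.ext
  rw [Units.val_mul]
  exact x_add D h r t₁ t₂

theorem xGL_zero (D : ChevalleyDatum) (h : addOK D = true) (r : ℕ) : xGL D h F r 0 = 1 := by
  apply Units.ext
  exact Cfsg.Agent.S1024.x_zero D F r

theorem xGL_inv (D : ChevalleyDatum) (h : addOK D = true) (r : ℕ) (t : F) :
    (xGL D h F r t)⁻¹ = xGL D h F r (-t) := by
  rw [inv_eq_iff_mul_eq_one, xGL_add, add_neg_cancel, xGL_zero]

/-- `t ↦ x_r(t)` as a homomorphism from the additive group of the field -/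
def xHom (D : ChevalleyDatum) (h : addOK D = true) (F : Type*) [Field F] (r : ℕ) :
    Multiplicative F →* GL D.Idx F where
  toFun t := xGL D h F r (Multiplicative.toAdd t)
  map_one' := xGL_zero D h r
  map_mul' _ _ := (xGL_add D h r _ _).symm

/-- a unit whose matrix is `x_r(t)` is `xGL` -/
theorem eq_xGL (D : ChevalleyDatum) (h : addOK D = true) {g : GL D.Idx F} {r : ℕ} {t : F}
    (hg : (g : Matrix D.Idx D.Idx F) = D.x F r t) : g = xGL D h F r t :=
  Units.ext hg

end Mat

theorem addOK_G2 : addOK chevG2 = true := by decide +kernel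
theorem addOK_B2 : addOK chevB2 = true := by decide +kernel
theorem addOK_D4 : addOK chevD4 = true := by decide +kernel
theorem addOK_F4 : addOK chevF4 = true := by decide +kernel
theorem addOK_E6 : addOK chevE6 = true := by decide +kernel
theorem addOK_E7 : addOK chevE7 = true := by decide +kernel
theorem addOK_E8 : addOK chevE8 = true := by decide +kernel

theorem addOK_of_mem {D : ChevalleyDatum}
    (hD : D ∈ [chevG2, chevB2, chevD4, chevF4, chevE6, chevE7, chevE8]) : addOK D = true := by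
  simp only [List.mem_cons, List.mem_nil_iff, or_false] at hD
  rcases hD with rfl | rfl | rfl | rfl | rfl | rfl | rfl
  exacts [addOK_G2, addOK_B2, addOK_D4, addOK_F4, addOK_E6, addOK_E7, addOK_E8]

end Cfsg.Agent.Helper40.ChevAdd
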