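import Cfsg.Agent.Helper40.ChevSPC

/-!
Helper40: automorphisms of a Chevalley group induced by signed permutation matrices of the
Chevalley basis (graph automorphisms of simply laced types).
-/

set_option autoImplicit false

namespace Cfsg.Agent.Helper40.GraphAut

open Cfsg Cfsg.Lie Cfsg.Agent.Helper18 Cfsg.Agent.Helper40.ChevAdd Cfsg.Agent.Helper40.SPC

section Mat
variable {F : Type*} [Field F]

/-- the signed permutation matrix `h_i ↦ h_{ρ i}`, `e_s ↦ ε_s e_{π s}` -/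
def sgnPerm (D : ChevalleyDatum) (F : Type*) [Field F] (ρ π : ℕ → ℕ) (ε : ℕ → ℤ) : Matrix D.Idx D.Idx F :=
  Matrix.of fun row col =>
    match row, col with
    | Sum.inl j, Sum.inl i => if j.val = ρ i.val then 1 else 0
    | Sum.inr u, Sum.inr s => if u.val = π s.val then ((ε s.val : ℤ) : F) else 0
    | _, _ => 0

theorem sgnPerm_bR (D : ChevalleyDatum) (ρ π : ℕ → ℕ) (ε : ℕ → ℤ) (s : ℕ) (hs : s < D.nroots)
    (hπ : π s < D.nroots) :
    (sgnPerm D F ρ π ε).mulVec (bR D s hs) = ((ε s : ℤ) : F) • bR D (π s) hπ := by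
  unfold bR
  rw [Matrix.mulVec_single_one]
  funext row
  rcases row with j | u
  · simp [sgnPerm, Matrix.col]
  · simp only [sgnPerm, Matrix.col_apply, Matrix.of_apply, Pi.smul_apply, Pi.single_apply, smul_eq_mul]
    by_cases h : u.val = π s
    · have : u = ⟨π s, hπ⟩ := Fin.ext h
      simp [h, this]
    · have : ¬ (Sum.inr u : D.Idx) = Sum.inr ⟨π s, hπ⟩ := by
        intro e
        apply h
        have := Sum.inr.inj e
        rw [this]
      simp [h, this]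

theorem sgnPerm_bI (D : ChevalleyDatum) (ρ π : ℕ → ℕ) (ε : ℕ → ℤ) (i : Fin D.rank)
    (hρ : ρ i.val < D.rank) :
    (sgnPerm D F ρ π ε).mulVec (bI D i) = bI D ⟨ρ i.val, hρ⟩ := by
  unfold bI
  rw [Matrix.mulVec_single_one]
  funext row
  rcases row with j | u
  · simp only [sgnPerm, Matrix.col_apply, Matrix.of_apply, Pi.single_apply]
    by_cases h : j.val = ρ i.val
    · have : j = ⟨ρ i.val, hρ⟩ := Fin.ext h
      simp [h, this]
    · have : ¬ (Sum.inl j : D.Idx) = Sum.inl ⟨ρ i.val, hρ⟩ := by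
        intro e
        apply h
        have := Sum.inl.inj e
        rw [this]
      simp [h, this]
  · simp [sgnPerm, Matrix.col]

theorem sgnPerm_bI' (D : ChevalleyDatum) (ρ π : ℕ → ℕ) (ε : ℕ → ℤ) (i : Fin D.rank)
    (hρ : ρ i.val < D.rank) :
    (sgnPerm D F ρ π ε).mulVec (bI D i) =
      ∑ j : Fin D.rank, (((if j.val = ρ i.val then 1 else 0 : ℤ) : ℤ) : F) • bI (F := F) D j := by
  rw [sgnPerm_bI D ρ π ε i hρ, Finset.sum_eq_single (⟨ρ i.val, hρ⟩ : Fin D.rank)]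
  · simp
  · intro j _ hj
    have : ¬ j.val = ρ i.val := fun e => hj (Fin.ext e)
    simp [this]
  · intro h
    exact absurd (Finset.mem_univ _) h

end Mat

/-- `π`, `π'` mutually inverse on the roots, `ρ`, `ρ'` mutually inverse on the nodes, signs `±1` -/
def permsOK (D : ChevalleyDatum) (ρ ρ' π π' : ℕ → ℕ) (ε : ℕ → ℤ) : Bool :=
  ((List.range D.nroots).all fun s => decide (π s < D.nroots) && decide (π' s < D.nroots) &&
    decide (π' (π s) = s) && decide (π (π' s) = s) && (decide (ε s = 1) || decide (ε s = -1))) &&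
  ((List.range D.rank).all fun i => decide (ρ i < D.rank) && decide (ρ' i < D.rank) &&
    decide (ρ' (ρ i) = i) && decide (ρ (ρ' i) = i))

/-- the images of the fundamental roots and their negatives, with sign `1` -/
def simpleOK (D : ChevalleyDatum) (ρ π : ℕ → ℕ) (ε : ℕ → ℤ) : Bool :=
  (List.range D.rank).all fun i => decide (D.simple i < D.nroots) && decide (D.neg (D.simple i) < D.nroots) &&
    decide (π (D.simple i) = D.simple (ρ i)) && decide (π (D.neg (D.simple i)) = D.neg (D.simple (ρ i))) &&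
    decide (ε (D.simple i) = 1) && decide (ε (D.neg (D.simple i)) = 1)

/-- all the table checks -/
def allOK (D : ChevalleyDatum) (ρ ρ' π π' : ℕ → ℕ) (ε : ℕ → ℤ) : Bool :=
  permsOK D ρ ρ' π π' ε && simpleOK D ρ π ε &&
  (List.range D.nroots).all fun r => spcOK D π ε (fun j i => if j = ρ i then 1 else 0) r

section Aut
variable {F : Type*} [Field F]

theorem permsOK_spec {D : ChevalleyDatum} {ρ ρ' π π' : ℕ → ℕ} {ε : ℕ → ℤ} (h : permsOK D ρ ρ' π π' ε = true) :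
    (∀ s < D.nroots, π s < D.nroots ∧ π' s < D.nroots ∧ π' (π s) = s ∧ π (π' s) = s ∧ (ε s = 1 ∨ ε s = -1)) ∧
    (∀ i < D.rank, ρ i < D.rank ∧ ρ' i < D.rank ∧ ρ' (ρ i) = i ∧ ρ (ρ' i) = i) := by
  unfold permsOK at h
  rw [Bool.and_eq_true, List.all_eq_true, List.all_eq_true] at h
  constructor
  · intro s hs
    have := h.1 s (List.mem_range.mpr hs)
    simp only [Bool.and_eq_true, Bool.or_eq_true, decide_eq_true_eq] at this
    tauto
  · intro i hi
    have := h.2 i (List.mem_range.mpr hi)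
    simp only [Bool.and_eq_true, decide_eq_true_eq] at this
    tauto

/-- the conjugation relation for the signed permutation matrix -/
theorem sgnPerm_conj (D : ChevalleyDatum) (ρ ρ' π π' : ℕ → ℕ) (ε : ℕ → ℤ)
    (h : allOK D ρ ρ' π π' ε = true) (r : ℕ) (hr : r < D.nroots) (t : F) :
    sgnPerm D F ρ π ε * D.x F r t = D.x F (π r) (((ε r : ℤ) : F) * t) * sgnPerm D F ρ π ε := by
  unfold allOK at h
  rw [Bool.and_eq_true, Bool.and_eq_true, List.all_eq_true] at h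
  obtain ⟨⟨hp, -⟩, hall⟩ := h
  obtain ⟨hp1, hp2⟩ := permsOK_spec hp
  apply spc D (sgnPerm D F ρ π ε) π ε (fun j i => if j = ρ i then 1 else 0) (fun s hs => (hp1 s hs).1)
  · intro s hs s' hs' e
    rw [← (hp1 s hs).2.2.1, e, (hp1 s' hs').2.2.1]
  · exact fun s hs => (hp1 s hs).2.2.2.2
  · intro s hs
    exact sgnPerm_bR D ρ π ε s hs _
  · intro i
    exact sgnPerm_bI' D ρ π ε i (hp2 i.val i.2).1
  · exact hr
  · exact hall r (List.mem_range.mpr hr)

/-- `γ' γ = 1` for the inverse data -/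
theorem sgnPerm_mul_sgnPerm (D : ChevalleyDatum) (ρ ρ' π π' : ℕ → ℕ) (ε : ℕ → ℤ)
    (hp : permsOK D ρ ρ' π π' ε = true) :
    sgnPerm D F ρ' π' (fun s => ε (π' s)) * sgnPerm D F ρ π ε = 1 := by
  obtain ⟨hp1, hp2⟩ := permsOK_spec hp
  apply matrix_ext_mulVec
  intro j
  rw [← Matrix.mulVec_mulVec, Matrix.one_mulVec]
  rcases j with i | s
  · change (sgnPerm D F ρ' π' fun s => ε (π' s)).mulVec ((sgnPerm D F ρ π ε).mulVec (bI D i)) = bI D i
    rw [sgnPerm_bI D ρ π ε i (hp2 i.val i.2).1, sgnPerm_bI D ρ' π' _ _ (by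
      have := (hp2 _ (hp2 i.val i.2).1).2.1
      exact this)]
    congr 1
    exact Fin.ext (hp2 i.val i.2).2.2.1
  · change (sgnPerm D F ρ' π' fun s => ε (π' s)).mulVec ((sgnPerm D F ρ π ε).mulVec (bR D s.val s.2)) =
      bR D s.val s.2
    have h1 := hp1 s.val s.2
    rw [sgnPerm_bR D ρ π ε s.val s.2 h1.1, Matrix.mulVec_smul,
      sgnPerm_bR D ρ' π' _ (π s.val) h1.1 (hp1 _ h1.1).2.1, smul_smul]
    have e1 : π' (π s.val) = s.val := h1.2.2.1
    have e2 : (((ε s.val : ℤ) : F)) * ((ε (π' (π s.val)) : ℤ) : F) = 1 := by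
      rw [e1]
      exact int_sq_one h1.2.2.2.2
    rw [e2, one_smul]
    congr 1

/-- the signed permutation matrix as an element of `GL` -/
noncomputable def sgnPermGL (D : ChevalleyDatum) (F : Type*) [Field F] (ρ ρ' π π' : ℕ → ℕ) (ε : ℕ → ℤ)
    (hp : permsOK D ρ ρ' π π' ε = true) : GL D.Idx F :=
  ⟨sgnPerm D F ρ π ε, sgnPerm D F ρ' π' (fun s => ε (π' s)),
    (mul_eq_one_comm.mp (sgnPerm_mul_sgnPerm D ρ ρ' π π' ε hp)), sgnPerm_mul_sgnPerm D ρ ρ' π π' ε hp⟩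

/-- conjugation by `γ` sends a unit with matrix `x_r(t)` to a unit with matrix `x_{π r}(ε_r t)` -/
theorem conj_x (D : ChevalleyDatum) (ρ ρ' π π' : ℕ → ℕ) (ε : ℕ → ℤ)
    (h : allOK D ρ ρ' π π' ε = true) (hp : permsOK D ρ ρ' π π' ε = true)
    (g : GL D.Idx F) (r : ℕ) (hr : r < D.nroots) (t : F)
    (hg : (g : Matrix D.Idx D.Idx F) = D.x F r t) :
    ((MulAut.conj (sgnPermGL D F ρ ρ' π π' ε hp) g : GL D.Idx F) : Matrix D.Idx D.Idx F) =
      D.x F (π r) (((ε r : ℤ) : F) * t) := by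
  rw [MulAut.conj_apply]
  have e1 : ((sgnPermGL D F ρ ρ' π π' ε hp : GL D.Idx F) : Matrix D.Idx D.Idx F) = sgnPerm D F ρ π ε := rfl
  rw [Units.val_mul, Units.val_mul, hg, e1, sgnPerm_conj D ρ ρ' π π' ε h r hr t, mul_assoc, ← e1,
    ← Units.val_mul, mul_inv_cancel, Units.val_one, mul_one]

/-- conjugation by `γ⁻¹` sends a unit with matrix `x_r(t)` to a unit with matrix `x_{π' r}(ε_{π' r} t)` -/
theorem conj_symm_x (D : ChevalleyDatum) (ρ ρ' π π' : ℕ → ℕ) (ε : ℕ → ℤ)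
    (h : allOK D ρ ρ' π π' ε = true) (hp : permsOK D ρ ρ' π π' ε = true)
    (g : GL D.Idx F) (r : ℕ) (hr : r < D.nroots) (t : F)
    (hg : (g : Matrix D.Idx D.Idx F) = D.x F r t) :
    (((MulAut.conj (sgnPermGL D F ρ ρ' π π' ε hp)).symm g : GL D.Idx F) : Matrix D.Idx D.Idx F) =
      D.x F (π' r) (((ε (π' r) : ℤ) : F) * t) := by
  obtain ⟨hp1, -⟩ := permsOK_spec hp
  have h1 := hp1 r hr
  rw [MulAut.conj_symm_apply]
  have e1 : ((sgnPermGL D F ρ ρ' π π' ε hp : GL D.Idx F) : Matrix D.Idx D.Idx F) = sgnPerm D F ρ π ε := rfl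
  have key := sgnPerm_conj (F := F) D ρ ρ' π π' ε h (π' r) h1.2.1 (((ε (π' r) : ℤ) : F) * t)
  rw [h1.2.2.2.1, ← mul_assoc, int_sq_one (hp1 _ h1.2.1).2.2.2.2, one_mul] at key
  -- key : γ * x_{π' r}(ε t) = x_r(t) * γ
  rw [Units.val_mul, Units.val_mul, hg]
  have e2 : D.x F r t = sgnPerm D F ρ π ε * D.x F (π' r) (((ε (π' r) : ℤ) : F) * t) *
      ((sgnPermGL D F ρ ρ' π π' ε hp)⁻¹ : GL D.Idx F) := by
    rw [key, mul_assoc, ← e1, ← Units.val_mul, mul_inv_cancel, Units.val_one, mul_one]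
  rw [e2, ← e1, ← mul_assoc, ← mul_assoc, ← Units.val_mul, inv_mul_cancel, Units.val_one, one_mul, mul_assoc,
    ← Units.val_mul, inv_mul_cancel, Units.val_one, mul_one]

/-- conjugation by `γ` maps the Chevalley group onto itself -/
theorem map_conj_group (D : ChevalleyDatum) (ρ ρ' π π' : ℕ → ℕ) (ε : ℕ → ℤ)
    (h : allOK D ρ ρ' π π' ε = true) (hp : permsOK D ρ ρ' π π' ε = true) :
    (D.group F).map ((MulAut.conj (sgnPermGL D F ρ ρ' π π' ε hp) : GL D.Idx F ≃* GL D.Idx F) :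
      GL D.Idx F →* GL D.Idx F) = D.group F := by
  obtain ⟨hp1, -⟩ := permsOK_spec hp
  unfold ChevalleyDatum.group
  rw [MonoidHom.map_closure]
  congr 1
  ext g
  simp only [Set.mem_image, Set.mem_setOf_eq]
  constructor
  · rintro ⟨g0, ⟨r, t, hg0⟩, rfl⟩
    have hx : (g0 : Matrix D.Idx D.Idx F) = D.x F r.val t := by
      rw [hg0]; unfold ChevalleyDatum.x; rw [dif_pos r.2]
    refine ⟨⟨π r.val, (hp1 r.val r.2).1⟩, ((ε r.val : ℤ) : F) * t, ?_⟩
    have := conj_x D ρ ρ' π π' ε h hp g0 r.val r.2 t hx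
    unfold ChevalleyDatum.x at this; rw [dif_pos (hp1 r.val r.2).1] at this
    exact this
  · rintro ⟨r, t, hg⟩
    have hx : (g : Matrix D.Idx D.Idx F) = D.x F r.val t := by
      rw [hg]; unfold ChevalleyDatum.x; rw [dif_pos r.2]
    refine ⟨(MulAut.conj (sgnPermGL D F ρ ρ' π π' ε hp)).symm g, ?_, ?_⟩
    · refine ⟨⟨π' r.val, (hp1 r.val r.2).2.1⟩, ((ε (π' r.val) : ℤ) : F) * t, ?_⟩
      rw [conj_symm_x D ρ ρ' π π' ε h hp g r.val r.2 t hx]
      unfold ChevalleyDatum.x; rw [dif_pos (hp1 r.val r.2).2.1]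
    · exact MulEquiv.apply_symm_apply _ g

/-- the automorphism of the Chevalley group induced by `γ` -/
noncomputable def autOf (D : ChevalleyDatum) (F : Type*) [Field F] (ρ ρ' π π' : ℕ → ℕ) (ε : ℕ → ℤ)
    (h : allOK D ρ ρ' π π' ε = true) (hp : permsOK D ρ ρ' π π' ε = true) :
    ↥(D.group F) ≃* ↥(D.group F) :=
  (MulEquiv.subgroupMap (MulAut.conj (sgnPermGL D F ρ ρ' π π' ε hp)) (D.group F)).trans
    (MulEquiv.subgroupCongr (map_conj_group D ρ ρ' π π' ε h hp))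

theorem autOf_coe (D : ChevalleyDatum) (ρ ρ' π π' : ℕ → ℕ) (ε : ℕ → ℤ)
    (h : allOK D ρ ρ' π π' ε = true) (hp : permsOK D ρ ρ' π π' ε = true) (g : ↥(D.group F)) :
    ((autOf D F ρ ρ' π π' ε h hp g : ↥(D.group F)) : GL D.Idx F) =
      MulAut.conj (sgnPermGL D F ρ ρ' π π' ε hp) (g : GL D.Idx F) := rfl

/-- the graph automorphism statement -/
theorem exists_graph_aut (D : ChevalleyDatum) (ρ ρ' π π' : ℕ → ℕ) (ε : ℕ → ℤ)
    (h : allOK D ρ ρ' π π' ε = true) :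
    ∃ α : ↥(D.group F) ≃* ↥(D.group F), ∀ (g : ↥(D.group F)) (i : ℕ) (t : F), i < D.rank →
      (((g : GL D.Idx F) : Matrix D.Idx D.Idx F) = D.x F (D.simple i) t →
        ((α g : GL D.Idx F) : Matrix D.Idx D.Idx F) = D.x F (D.simple (ρ i)) t) ∧
      (((g : GL D.Idx F) : Matrix D.Idx D.Idx F) = D.x F (D.neg (D.simple i)) t →
        ((α g : GL D.Idx F) : Matrix D.Idx D.Idx F) = D.x F (D.neg (D.simple (ρ i))) t) := by
  have h' := h
  unfold allOK at h'
  rw [Bool.and_eq_true, Bool.and_eq_true] at h'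
  obtain ⟨⟨hp, hs⟩, -⟩ := h'
  refine ⟨autOf D F ρ ρ' π π' ε h hp, ?_⟩
  intro g i t hi
  unfold simpleOK at hs
  rw [List.all_eq_true] at hs
  have hsi := hs i (List.mem_range.mpr hi)
  simp only [Bool.and_eq_true, decide_eq_true_eq] at hsi
  obtain ⟨⟨⟨⟨⟨a1, a2⟩, a3⟩, a4⟩, a5⟩, a6⟩ := hsi
  constructor
  · intro hg
    rw [autOf_coe, conj_x D ρ ρ' π π' ε h hp _ _ a1 t hg, a3, a5]
    simp
  · intro hg
    rw [autOf_coe, conj_x D ρ ρ' π π' ε h hp _ _ a2 t hg, a4, a6]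
    simp

end Aut

end Cfsg.Agent.Helper40.GraphAut
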