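import Cfsg.Agent.Helper40.UGrade

set_option autoImplicit false

namespace Cfsg.Agent.Helper40.UData

open Cfsg Cfsg.Lie Cfsg.Agent.Helper40.UGrade

/-- an additive weight on the roots of B2 inducing the order of the positive roots, packed -/
def phiB2 : ℕ → ℤ := lkZ 57896045521816311171181206019070649725389256506501375810099865432508514435039
/-- witnesses `(s₀, u₀)` for the positive roots of B2, packed -/
def witB2 : ℕ → ℕ × ℕ := fun r => ((72057598332895232 >>> (8 * r)) % 256, (360852028244623360 >>> (8 * r)) % 256)
theorem gradeOK_B2 : gradeOK chevB2 phiB2 witB2 = true := by decide +kernel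
theorem posRoots_length_B2 : chevB2.posRoots.length = chevB2.nroots / 2 := by decide +kernel

end Cfsg.Agent.Helper40.UData
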