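import Cfsg.Agent.Helper40.UGrade

set_option autoImplicit false

namespace Cfsg.Agent.Helper40.UData

open Cfsg Cfsg.Lie Cfsg.Agent.Helper40.UGrade

/-- an additive weight on the roots of D4 inducing the order of the positive roots, packed -/
def phiD4 : ℕ → ℤ := lkZ 776260718147355283943195092561404457190305964398427064947015506721321447567797458198328358111233814675828139212683772241922022886376931754598744355705941872639907856121573200360296337312787209314038658495588147728390480721652739567
/-- witnesses `(s₀, u₀)` for the positive roots of D4, packed -/
def witD4 : ℕ → ℕ × ℕ := fun r => ((24519928653876522478932103419184248822107235857238851584 >>> (8 * r)) % 256, (344144033315948980329381970838936095027110194580637614080 >>> (8 * r)) % 256)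
theorem gradeOK_D4 : gradeOK chevD4 phiD4 witD4 = true := by decide +kernel
theorem posRoots_length_D4 : chevD4.posRoots.length = chevD4.nroots / 2 := by decide +kernel

end Cfsg.Agent.Helper40.UData
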