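import Cfsg.Agent.Helper40.UGrade

set_option autoImplicit false

namespace Cfsg.Agent.Helper40.UData

open Cfsg Cfsg.Lie Cfsg.Agent.Helper40.UGrade

/-- an additive weight on the roots of E6 inducing the order of the positive roots, packed -/
def phiE6 : ℕ → ℤ := lkZ 1872062446897666105513908736469123056959747949183666018402131976168003274816329881877749315148524414528960552533670043788964931144315002470397492236485802573437563558131367218470028949563343360319871376452673868558509339360612474286586071538622752350575945161115243899107622820479525218718016148891592546419922569104201875120578745888447958303703212485322609392093715562019581304589484575473710489748016416016495348332543608713536021934912883014664838614155300607807084889818497246334979409135118575114637516258589465653960830487568062097154827289630402823804172478437902167218850287258899510183428492799063688784632490331155189392291877143022508625530816429165297512376479743959087905694932191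
/-- witnesses `(s₀, u₀)` for the positive roots of E6, packed -/
def witE6 : ℕ → ℕ × ℕ := fun r => ((966134380754314586173837975866987726543651806183981798121837103214568744475661988372209542228959827074296013414998577255313124298102888474684518687181657900568405507833856 >>> (8 * r)) % 256, (44536885713743884284600499746095607171782789149426498222166619984446992714778262004310015946125282834925995421353226731138595789859411725240263172202342315707598769510940672 >>> (8 * r)) % 256)
theorem gradeOK_E6 : gradeOK chevE6 phiE6 witE6 = true := by decide +kernel
theorem posRoots_length_E6 : chevE6.posRoots.length = chevE6.nroots / 2 := by decide +kernel

end Cfsg.Agent.Helper40.UData
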