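import Cfsg.Agent.Helper40.UGrade

set_option autoImplicit false

namespace Cfsg.Agent.Helper40.UData

open Cfsg Cfsg.Lie Cfsg.Agent.Helper40.UGrade

/-- an additive weight on the roots of E7 inducing the order of the positive roots, packed -/
def phiE7 : ℕ → ℤ := lkZ 28780996228084190753807794877227487387730182757782698269826782121906031741132080530398487223693546848375951189922526700255279171152573553890801798982442945770240804595466415141177070370543465658004574209083415560182082600046871207626642684068899789954175228499609948558707693219240012863785342837365194786968765196875654651667937856260640008858323702971549184130996880039148928105551324314172862771677186562483928399215921610009143447926087245944427754321568658023594234428302923235698847908561072152467346773156913528321926587089675098605390525835259626535275224652711158328470316370103017157276754281072856824791728078612102329706928033479680675073168356418560553462658956912273643890296219915396870614086708364621300819971239590044483796727417909408853956705387966054022632135925335118971425358723416033218859973263256060865337553384350493035777346201653056959784646433724698644755485121431568838453401490697234677407312080870471961253144466593111720490946063453760482797802404726463290801292996471457693485571082705308486837112986715798898295344128626767627708705403665682670249623208424622640867748238168254385389902356622614596307519344725367765491252071571869922380451987120050779809068103024421389148667103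
/-- witnesses `(s₀, u₀)` for the positive roots of E7, packed -/
def witE7 : ℕ → ℕ × ℕ := fun r => ((10715086071862673209484250490600018105614048117055336074437503883703510511249361587823314764434883836289574519030404135199976909797351808787223326489059198874591473422823050320340143079317186047758752620063752572674657402671735629759928778964892672434133185559178451532416810468924860432340658277056512 >>> (8 * r)) % 256, (997847478151284395498047321765791004048537924614513105934319319764774604301458320420579310498476057099502331842851443518674686686367406655753280494357607435441432474672670088692836820171534604450614993211970563931297367410250612384439026280554013257739033738042937786222415729342241003667111839438733312 >>> (8 * r)) % 256)
theorem gradeOK_E7 : gradeOK chevE7 phiE7 witE7 = true := by decide +kernel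
theorem posRoots_length_E7 : chevE7.posRoots.length = chevE7.nroots / 2 := by decide +kernel

end Cfsg.Agent.Helper40.UData
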