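import Cfsg.Agent.Helper40.UGrade

set_option autoImplicit false

namespace Cfsg.Agent.Helper40.UData

open Cfsg Cfsg.Lie Cfsg.Agent.Helper40.UGrade

/-- an additive weight on the roots of F4 inducing the order of the positive roots, packed -/
def phiF4 : ℕ → ℤ := lkZ 1205161413770220646343171546055271379519424609261126701114881302999342644872030832561003642750436231439569916847954488509197010203380318046187336824318118730640497719127793597375156344605230356540028494227985266729460692256049699220072379514098577334115457604712613206727989467781533992882744608677169630698504762641492336904428721691589087928961272387061838878986936550469248565140258245244540607829450269428233988634948871038648297179923329175076047064672492494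
/-- witnesses `(s₀, u₀)` for the positive roots of F4, packed -/
def witF4 : ℕ → ℕ × ℕ := fun r => ((153914086704666481235646323460873540378302446420811971672408256175186212790273595134414049303073536453562580598784 >>> (8 * r)) % 256, (3707815784740975998434647743838294719256487884813497576816420316193565072338261159051786041653824116686515442024448 >>> (8 * r)) % 256)
theorem gradeOK_F4 : gradeOK chevF4 phiF4 witF4 = true := by decide +kernel
theorem posRoots_length_F4 : chevF4.posRoots.length = chevF4.nroots / 2 := by decide +kernel

end Cfsg.Agent.Helper40.UData
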