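import Cfsg.Agent.Helper40.UDataG2
import Cfsg.Agent.Helper40.UDataB2
import Cfsg.Agent.Helper40.UDataD4
import Cfsg.Agent.Helper40.UDataF4
import Cfsg.Agent.Helper40.UDataE6
import Cfsg.Agent.Helper40.UDataE7
import Cfsg.Agent.Helper40.UDataE8

set_option autoImplicit false

namespace Cfsg.Agent.Helper40.UData

open Cfsg Cfsg.Lie Cfsg.Agent.Helper40.UGrade

/-- grading tables for the seven types -/
theorem exists_grade (D : ChevalleyDatum) (hD : D ∈ [chevG2, chevB2, chevD4, chevF4, chevE6, chevE7, chevE8]) :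
    ∃ (φ : ℕ → ℤ) (wit : ℕ → ℕ × ℕ), gradeOK D φ wit = true ∧ D.posRoots.length = D.nroots / 2 := by
  simp only [List.mem_cons, List.not_mem_nil, or_false] at hD
  rcases hD with rfl | rfl | rfl | rfl | rfl | rfl | rfl
  · exact ⟨_, _, gradeOK_G2, posRoots_length_G2⟩
  · exact ⟨_, _, gradeOK_B2, posRoots_length_B2⟩
  · exact ⟨_, _, gradeOK_D4, posRoots_length_D4⟩
  · exact ⟨_, _, gradeOK_F4, posRoots_length_F4⟩
  · exact ⟨_, _, gradeOK_E6, posRoots_length_E6⟩
  · exact ⟨_, _, gradeOK_E7, posRoots_length_E7⟩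
  · exact ⟨_, _, gradeOK_E8, posRoots_length_E8⟩

end Cfsg.Agent.Helper40.UData
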