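import Cfsg.Agent.Helper40.CommChk

/-!
Helper40: the Boolean checks of the commutator formula for the type B2.
-/

set_option autoImplicit false

namespace Cfsg.Agent.Helper40.Comm

open Cfsg Cfsg.Lie Cfsg.Agent.Helper40.CommT

/-- the dominant roots of B2 with their base lists -/
def domsB2 : List (ℕ × List ℕ) := [(6,[3,5,7]),(7,[2,4,6])]

theorem no3_B2 : no3 chevB2 = true := by decide +kernel
theorem negOK_B2 : negOK chevB2 = true := by decide +kernel
theorem upOK_B2 : upOK chevB2 = true := by decide +kernel
theorem domsOK_B2 : domsOK chevB2 domsB2 = true := by decide +kernel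
theorem baseOK_B2 : baseOK chevB2 domsB2 = true := by decide +kernel

end Cfsg.Agent.Helper40.Comm
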