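import Cfsg.Agent.Helper40.CommChk

/-!
Helper40: the Boolean checks of the commutator formula for the type D4.
-/

set_option autoImplicit false

namespace Cfsg.Agent.Helper40.Comm

open Cfsg Cfsg.Lie Cfsg.Agent.Helper40.CommT

/-- the dominant roots of D4 with their base lists -/
def domsD4 : List (ℕ × List ℕ) := [(23,[9,12,13,18,22])]

theorem no3_D4 : no3 chevD4 = true := by decide +kernel
theorem negOK_D4 : negOK chevD4 = true := by decide +kernel
theorem upOK_D4 : upOK chevD4 = true := by decide +kernel
theorem domsOK_D4 : domsOK chevD4 domsD4 = true := by decide +kernel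
theorem baseOK_D4 : baseOK chevD4 domsD4 = true := by decide +kernel

end Cfsg.Agent.Helper40.Comm
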