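import Cfsg.Agent.Helper40.CommChk

/-!
Helper40: the Boolean checks of the commutator formula for the type E6.
-/

set_option autoImplicit false

namespace Cfsg.Agent.Helper40.Comm

open Cfsg Cfsg.Lie Cfsg.Agent.Helper40.CommT

/-- the dominant roots of E6 with their base lists -/
def domsE6 : List (ℕ × List ℕ) := [(71,[25,60,70])]

theorem no3_E6 : no3 chevE6 = true := by decide +kernel
theorem negOK_E6 : negOK chevE6 = true := by decide +kernel
theorem upOK_E6 : upOK chevE6 = true := by decide +kernel
theorem domsOK_E6 : domsOK chevE6 domsE6 = true := by decide +kernel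
theorem baseOK_E6 : baseOK chevE6 domsE6 = true := by decide +kernel

end Cfsg.Agent.Helper40.Comm
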