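import Cfsg.Agent.Helper40.CommChk

/-!
Helper40: the Boolean checks of the commutator formula for the type F4.
-/

set_option autoImplicit false

namespace Cfsg.Agent.Helper40.Comm

open Cfsg Cfsg.Lie Cfsg.Agent.Helper40.CommT

/-- the dominant roots of F4 with their base lists -/
def domsF4 : List (ℕ × List ℕ) := [(44,[6,14,29,32,40,47]),(47,[18,23,37,41,44,46])]

theorem no3_F4 : no3 chevF4 = true := by decide +kernel
theorem negOK_F4 : negOK chevF4 = true := by decide +kernel
theorem upOK_F4 : upOK chevF4 = true := by decide +kernel
theorem domsOK_F4 : domsOK chevF4 domsF4 = true := by decide +kernel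
theorem baseOK_F4 : baseOK chevF4 domsF4 = true := by decide +kernel

end Cfsg.Agent.Helper40.Comm
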