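import Cfsg.Agent.Helper40.CommChk

/-!
Helper40: the commutator formula for all pairs of roots of G2, by the engine.
-/

set_option autoImplicit false

namespace Cfsg.Agent.Helper40.Comm

open Cfsg Cfsg.Lie

theorem allPairsOK_G2 : allPairsOK chevG2 = true := by decide +kernel

end Cfsg.Agent.Helper40.Comm
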