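import Cfsg.Agent.Helper40.CommTerms

/-!
Helper40: Boolean checks for the commutator formula: base pairs (engine), all pairs (engine).
-/

set_option autoImplicit false

namespace Cfsg.Agent.Helper40.Comm

open Cfsg Cfsg.Lie

/-- the base pairs hold by the engine -/
def baseOK (D : ChevalleyDatum) (doms : List (ℕ × List ℕ)) : Bool :=
  doms.all fun e => e.2.all fun s => cfOK D e.1 s

/-- all pairs hold by the engine -/
def allPairsOK (D : ChevalleyDatum) : Bool :=
  (List.range D.nroots).all fun r => (List.range D.nroots).all fun s => s == r || s == D.neg r || cfOK D r s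

theorem cf_of_allPairsOK (D : ChevalleyDatum) {F : Type*} [Field F] (h : allPairsOK D = true) :
    ∀ r s, r < D.nroots → s < D.nroots → s ≠ r → s ≠ D.neg r → CF D F r s := by
  intro r s hr hs hsr hsn
  unfold allPairsOK at h
  rw [List.all_eq_true] at h
  have h1 := h r (List.mem_range.mpr hr)
  rw [List.all_eq_true] at h1
  have h2 := h1 s (List.mem_range.mpr hs)
  simp only [Bool.or_eq_true, beq_iff_eq] at h2
  rcases h2 with (h2 | h2) | h2
  · exact absurd h2 hsr
  · exact absurd h2 hsn
  · exact cf_of_cfOK D r s h2

end Cfsg.Agent.Helper40.Comm
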