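import Cfsg.Agent.Helper40.NData.All
import Cfsg.Agent.Helper40.CommChk

/-!
Helper40: the reduction of the commutator formula to base pairs, with the facts on the simple reflections
taken from the tables of `NData` (instead of the Boolean check `reflOK`), and the final assembly.
-/

set_option autoImplicit false

namespace Cfsg.Agent.Helper40.Comm

open Cfsg Cfsg.Lie Cfsg.Agent.Helper18 Cfsg.Agent.Helper40.ChevAdd Cfsg.Agent.Helper40.SPC
  Cfsg.Agent.Helper40.CommT Cfsg.Agent.Helper40.NMono

theorem cf_all' (D : ChevalleyDatum) {F : Type*} [Field F] (hneg : negOK D = true)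
    (hR : ∀ i < D.rank, ∀ s < D.nroots, D.reflectRoot i s < D.nroots ∧
      D.reflectRoot i (D.reflectRoot i s) = s ∧ D.reflectRoot i (D.neg s) = D.neg (D.reflectRoot i s))
    (hup : upOK D = true) (doms : List (ℕ × List ℕ)) (hdoms : domsOK D doms = true)
    (hbase : ∀ e ∈ doms, ∀ s ∈ e.2, CF D F e.1 s)
    (htrans : ∀ i < D.rank, ∀ r s, r < D.nroots → s < D.nroots → s ≠ r → s ≠ D.neg r →
      CF D F (D.reflectRoot i r) (D.reflectRoot i s) → CF D F r s) :
    ∀ r s, r < D.nroots → s < D.nroots → s ≠ r → s ≠ D.neg r → CF D F r s := by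
  -- unpack the checks
  have hN : ∀ s < D.nroots, D.neg s < D.nroots ∧ D.neg (D.neg s) = s ∧ D.neg s ≠ s := by
    intro s hs
    unfold negOK at hneg
    rw [List.all_eq_true] at hneg
    have := hneg s (List.mem_range.mpr hs)
    simp only [Bool.and_eq_true, decide_eq_true_eq] at this
    exact ⟨this.1.1, this.1.2, this.2⟩
  -- side conditions are preserved by a reflection
  have hside : ∀ i < D.rank, ∀ r s, r < D.nroots → s < D.nroots → s ≠ r → s ≠ D.neg r →
      D.reflectRoot i s ≠ D.reflectRoot i r ∧ D.reflectRoot i s ≠ D.neg (D.reflectRoot i r) := by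
    intro i hi r s hr hs h1 h2
    constructor
    · intro e
      apply h1
      rw [← (hR i hi s hs).2.1, e, (hR i hi r hr).2.1]
    · intro e
      apply h2
      rw [← (hR i hi r hr).2.2] at e
      rw [← (hR i hi s hs).2.1, e, (hR i hi _ (hN r hr).1).2.1]
  -- stage 2: `r` dominant
  have stage2 : ∀ r < D.nroots, dominant D r = true → ∀ k s, D.nroots - s ≤ k → s < D.nroots → s ≠ r →
      s ≠ D.neg r → CF D F r s := by
    intro r hr hdom
    unfold domsOK at hdoms
    rw [List.all_eq_true] at hdoms
    have h1 := hdoms r (List.mem_range.mpr hr)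
    rw [hdom] at h1
    simp only [Bool.not_true, Bool.false_or, List.any_eq_true, Bool.and_eq_true, beq_iff_eq] at h1
    obtain ⟨e, he, her, h2⟩ := h1
    unfold stage2OK at h2
    rw [List.all_eq_true] at h2
    intro k
    induction k with
    | zero => intro s hk hs; omega
    | succ k ih =>
      intro s hk hs hsr hsn
      have h3 := h2 s (List.mem_range.mpr hs)
      simp only [Bool.or_eq_true, beq_iff_eq, List.contains_iff_mem] at h3
      rcases h3 with ((h3 | h3) | h3) | h3
      · exact absurd h3 hsr
      · exact absurd h3 hsn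
      · have := hbase e he s h3
        rwa [her] at this
      · split at h3
        · rename_i i hi
          have hi' : i < D.rank := find_lt hi
          simp only [Bool.and_eq_true, decide_eq_true_eq] at h3
          obtain ⟨hfix, hlt⟩ := h3
          have hws := (hR i hi' s hs).1
          obtain ⟨hs1, hs2⟩ := hside i hi' r s hr hs hsr hsn
          rw [hfix] at hs1 hs2
          have := ih (D.reflectRoot i s) (by omega) hws hs1 hs2
          apply htrans i hi' r s hr hs hsr hsn
          rwa [hfix]
        · exact absurd h3 (by simp)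
  -- stage 1
  have stage1 : ∀ k r, D.nroots - r ≤ k → r < D.nroots → ∀ s, s < D.nroots → s ≠ r → s ≠ D.neg r → CF D F r s := by
    intro k
    induction k with
    | zero => intro r hk hr; omega
    | succ k ih =>
      intro r hk hr s hs hsr hsn
      unfold upOK at hup
      rw [List.all_eq_true] at hup
      have h1 := hup r (List.mem_range.mpr hr)
      rw [Bool.or_eq_true] at h1
      rcases h1 with h1 | h1
      · exact stage2 r hr h1 _ s le_rfl hs hsr hsn
      · split at h1
        · rename_i i hi
          have hi' : i < D.rank := find_lt hi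
          have hlt : r < D.reflectRoot i r := of_decide_eq_true h1
          obtain ⟨hs1, hs2⟩ := hside i hi' r s hr hs hsr hsn
          have := ih (D.reflectRoot i r) (by omega) (hR i hi' r hr).1 (D.reflectRoot i s) (hR i hi' s hs).1 hs1 hs2
          exact htrans i hi' r s hr hs hsr hsn this
        · exact absurd h1 (by simp)
  intro r s hr hs hsr hsn
  exact stage1 _ r le_rfl hr s hs hsr hsn


/-- the facts on a simple reflection, from the tables -/
theorem refl_facts (D : ChevalleyDatum) (i : ℕ) (π : ℕ → ℕ) (η : ℕ → ℤ) (h : nOK D i π η = true)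
    (hπ : piOK D i π = true) (s : ℕ) (hs : s < D.nroots) :
    D.reflectRoot i s < D.nroots ∧ D.reflectRoot i (D.reflectRoot i s) = s ∧
      D.reflectRoot i (D.neg s) = D.neg (D.reflectRoot i s) := by
  unfold nOK at h
  rw [Bool.and_eq_true, List.all_eq_true] at h
  obtain ⟨hm, hall⟩ := h
  have hsp := monoOK_spec D i π η hm s hs
  have h1 := hall s (List.mem_range.mpr hs)
  unfold spcOK at h1
  simp only [Bool.and_eq_true, decide_eq_true_eq] at h1
  obtain ⟨⟨⟨⟨⟨⟨⟨hn1, -⟩, -⟩, -⟩, hπn⟩, -⟩, -⟩, -⟩ := h1
  rw [← piOK_spec hπ s hs, ← piOK_spec hπ _ hsp.1, ← piOK_spec hπ _ hn1]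
  exact ⟨hsp.1, hsp.2.2, hπn⟩

/-- the commutator formula for all pairs of roots, for a datum without chains of length three -/
theorem cf_of_checks (D : ChevalleyDatum) {F : Type*} [Field F]
    (hD : D ∈ [chevG2, chevB2, chevD4, chevF4, chevE6, chevE7, chevE8])
    (hno3 : no3 D = true) (hneg : negOK D = true) (hup : upOK D = true) (doms : List (ℕ × List ℕ))
    (hdoms : domsOK D doms = true) (hbase : baseOK D doms = true) :
    ∀ r s, r < D.nroots → s < D.nroots → s ≠ r → s ≠ D.neg r → CF D F r s := by
  apply cf_all' D hneg _ hup doms hdoms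
  · intro e he s hs
    unfold baseOK at hbase
    rw [List.all_eq_true] at hbase
    have h1 := hbase e he
    rw [List.all_eq_true] at h1
    exact cf_of_cfOK D e.1 s (h1 s hs)
  · intro i hi r s hr hs _ _ hcf
    obtain ⟨π, η, h1, h2, -⟩ := NData.exists_tables D hD i hi
    exact cf_step_refl D (addOK_of_mem hD) hno3 i π η h1 h2 r s hr hs hcf
  · intro i hi s hs
    obtain ⟨π, η, h1, h2, -⟩ := NData.exists_tables D hD i hi
    exact refl_facts D i π η h1 h2 s hs

end Cfsg.Agent.Helper40.Comm
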