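import Cfsg.Agent.Helper40.UProd
import Cfsg.Agent.S1025

/-!
Helper40: every element of `U` is uniquely an ordered product of root elements over the positive roots
(from the commutator formula S1025 and a grading table), and `|U| = q^N`.
-/

set_option autoImplicit false

namespace Cfsg.Agent.Helper40.UProd

open Cfsg Cfsg.Lie Cfsg.Agent.Helper40.UT Cfsg.Agent.Helper40.ChevAdd Cfsg.Agent.Helper40.Comm
  Cfsg.Agent.Helper40.UGrade

theorem chainRoot_spec (D : ChevalleyDatum) (a b i u : ℕ) (h : D.chainRoot a b i = some u) :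
    ∃ e ∈ (D.chain.getD a #[]).toList, e.1 = b ∧ ∃ M : ℤ, ((u, M), i - 1) ∈ e.2.toList.zipIdx := by
  unfold ChevalleyDatum.chainRoot ChevalleyDatum.chainEntry at h
  cases hf : (D.chain.getD a #[]).toList.find? (fun e => e.1 = b) with
  | none =>
    rw [hf] at h
    simp at h
  | some e =>
    rw [hf] at h
    simp only at h
    have he : e ∈ (D.chain.getD a #[]).toList := List.mem_of_find?_eq_some hf
    have heb : e.1 = b := by
      have := List.find?_some hf
      simpa using this
    refine ⟨e, he, heb, ?_⟩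
    cases hq : e.2.toList[i - 1]? with
    | none => rw [hq] at h; simp at h
    | some q =>
      rw [hq] at h
      simp only [Option.map_some, Option.some.injEq] at h
      refine ⟨q.2, ?_⟩
      rw [List.mem_zipIdx_iff_getElem?]
      simp only
      rw [hq, ← h]

theorem commTerms_mem (D : ChevalleyDatum) (r s : ℕ) (c : ℕ × ℤ × ℕ × ℕ) (hc : c ∈ D.commTerms r s) :
    (∃ i, 1 ≤ i ∧ D.chainRoot r s i = some c.1) ∨ (∃ i, 1 ≤ i ∧ D.chainRoot s r i = some c.1) ∨
    (∃ k, D.chainRoot r s 3 = some k ∧ D.chainRoot k s 1 = some c.1) ∨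
    (∃ k, D.chainRoot s r 3 = some k ∧ D.chainRoot k r 1 = some c.1) := by
  unfold ChevalleyDatum.commTerms at hc
  simp only [List.mem_filterMap, List.mem_cons, List.not_mem_nil, or_false] at hc
  obtain ⟨cand, hcand, hmap⟩ := hc
  rw [Option.map_eq_some_iff] at hmap
  obtain ⟨k, hk, rfl⟩ := hmap
  rcases hcand with rfl | rfl | rfl | rfl | rfl | rfl | rfl
  · exact Or.inl ⟨1, le_rfl, hk⟩
  · exact Or.inl ⟨2, by norm_num, hk⟩
  · exact Or.inr (Or.inl ⟨2, by norm_num, hk⟩)
  · exact Or.inl ⟨3, by norm_num, hk⟩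
  · exact Or.inr (Or.inl ⟨3, by norm_num, hk⟩)
  · simp only at hk
    rw [Option.bind_eq_some_iff] at hk
    obtain ⟨k3, h1, h2⟩ := hk
    exact Or.inr (Or.inr (Or.inl ⟨k3, h1, h2⟩))
  · simp only at hk
    rw [Option.bind_eq_some_iff] at hk
    obtain ⟨k3, h1, h2⟩ := hk
    exact Or.inr (Or.inr (Or.inr ⟨k3, h1, h2⟩))

theorem mem_posRoots (D : ChevalleyDatum) (r : ℕ) : r ∈ D.posRoots ↔ D.IsPosRoot r := by
  unfold ChevalleyDatum.posRoots
  rw [List.mem_filter, List.mem_range, decide_eq_true_eq]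
  exact ⟨fun h => h.2, fun h => ⟨h.1, h⟩⟩

section
variable {D : ChevalleyDatum} {φ : ℕ → ℤ} {wit : ℕ → ℕ × ℕ}

theorem chainRoot_pos (hg : gradeOK D φ wit = true) (a b i u : ℕ) (ha : D.IsPosRoot a) (hi : 1 ≤ i)
    (h : D.chainRoot a b i = some u) : u < D.nroots ∧ φ u = φ b + (i : ℤ) * φ a := by
  obtain ⟨e, he, heb, M, hq⟩ := chainRoot_spec D a b i u h
  have := (gradeOK_pos hg a ha).1 e he _ hq
  simp only at this
  refine ⟨this.1, ?_⟩
  rw [this.2, heb]
  have : ((i - 1 : ℕ) : ℤ) + 1 = (i : ℤ) := by omega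
  rw [this]

theorem isPos_of_phi (hg : gradeOK D φ wit = true) (u : ℕ) (hu : u < D.nroots) (h : 0 < φ u) : D.IsPosRoot u :=
  (gradeOK_root hg u hu).2.2.mpr h

theorem phi_pos (hg : gradeOK D φ wit = true) (u : ℕ) (h : D.IsPosRoot u) : 0 < φ u :=
  (gradeOK_root hg u h.1).2.2.mp h

/-- the roots of the commutator formula of two positive roots are positive roots of larger weight -/
theorem commTerms_pos (hg : gradeOK D φ wit = true) (r s : ℕ) (hr : D.IsPosRoot r) (hs : D.IsPosRoot s)
    (c : ℕ × ℤ × ℕ × ℕ) (hc : c ∈ D.commTerms r s) : D.IsPosRoot c.1 ∧ φ r < φ c.1 := by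
  have hφr := phi_pos hg r hr
  have hφs := phi_pos hg s hs
  rcases commTerms_mem D r s c hc with ⟨i, hi, h⟩ | ⟨i, hi, h⟩ | ⟨k, h1, h2⟩ | ⟨k, h1, h2⟩
  · obtain ⟨hu, e⟩ := chainRoot_pos hg r s i c.1 hr hi h
    have hi' : (1 : ℤ) ≤ (i : ℤ) := by exact_mod_cast hi
    have : φ r < φ c.1 := by rw [e]; nlinarith
    exact ⟨isPos_of_phi hg _ hu (by omega), this⟩
  · obtain ⟨hu, e⟩ := chainRoot_pos hg s r i c.1 hs hi h
    have hi' : (1 : ℤ) ≤ (i : ℤ) := by exact_mod_cast hi
    have : φ r < φ c.1 := by rw [e]; nlinarith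
    exact ⟨isPos_of_phi hg _ hu (by omega), this⟩
  · obtain ⟨hk, ek⟩ := chainRoot_pos hg r s 3 k hr (by norm_num) h1
    have hkpos : D.IsPosRoot k := isPos_of_phi hg _ hk (by rw [ek]; push_cast; nlinarith)
    obtain ⟨hu, e⟩ := chainRoot_pos hg k s 1 c.1 hkpos le_rfl h2
    have : φ r < φ c.1 := by rw [e, ek]; push_cast; nlinarith
    exact ⟨isPos_of_phi hg _ hu (by omega), this⟩
  · obtain ⟨hk, ek⟩ := chainRoot_pos hg s r 3 k hs (by norm_num) h1
    have hkpos : D.IsPosRoot k := isPos_of_phi hg _ hk (by rw [ek]; push_cast; nlinarith)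
    obtain ⟨hu, e⟩ := chainRoot_pos hg k r 1 c.1 hkpos le_rfl h2
    have : φ r < φ c.1 := by rw [e, ek]; push_cast; nlinarith
    exact ⟨isPos_of_phi hg _ hu (by omega), this⟩

variable {F : Type*} [Field F]

/-- the ordered products over the positive roots are stable under left multiplication by positive root elements -/
theorem good_posRoots (hD : D ∈ [chevG2, chevB2, chevD4, chevF4, chevE6, chevE7, chevE8])
    (hg : gradeOK D φ wit = true) : Good D F D.posRoots := by
  apply good_of_suffix D (addOK_of_mem hD) φ D.posRoots (gradeOK_sorted hg) _ _ List.suffix_rfl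
  intro r hr s hs hrs
  rw [mem_posRoots] at hr hs
  constructor
  · intro t u
    apply Cfsg.Agent.S1025.result D hD r s hr.1 hs.1
    · rintro rfl; omega
    · rintro rfl
      have := (gradeOK_root hg r hr.1).2.1
      have h1 := phi_pos hg r hr
      have h2 := phi_pos hg _ hs
      omega
  · intro c hc
    obtain ⟨h1, h2⟩ := commTerms_pos hg r s hr hs c hc
    exact ⟨(mem_posRoots D _).mpr h1, h2⟩

/-- S1026, existence -/
theorem exists_pw (hD : D ∈ [chevG2, chevB2, chevD4, chevF4, chevE6, chevE7, chevE8])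
    (hg : gradeOK D φ wit = true) (g : GL D.Idx F) (hgU : g ∈ D.posUnipotent F) :
    ∃ t : ℕ → F, (g : Matrix D.Idx D.Idx F) = pw D D.posRoots t := by
  have hadd := addOK_of_mem hD
  have hG : Good D F D.posRoots := good_posRoots hD hg
  unfold ChevalleyDatum.posUnipotent at hgU
  induction hgU using Subgroup.closure_induction_left with
  | one => exact ⟨fun _ => 0, by
      rw [Units.val_one]
      symm
      unfold pw ChevalleyDatum.wordMat
      rw [List.map_map]
      apply List.prod_eq_one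
      intro x hx
      obtain ⟨r, -, rfl⟩ := List.mem_map.mp hx
      exact Cfsg.Agent.S1024.x_zero D F r⟩
  | mul_left x hx y _ ih =>
    obtain ⟨r, u, hr, hxm⟩ := hx
    obtain ⟨t, ht⟩ := ih
    obtain ⟨t', ht'⟩ := hG r ((mem_posRoots D r).mpr hr) u t
    exact ⟨t', by rw [Units.val_mul, hxm, ht, ht']⟩
  | inv_mul_cancel x hx y _ ih =>
    obtain ⟨r, u, hr, hxm⟩ := hx
    obtain ⟨t, ht⟩ := ih
    obtain ⟨t', ht'⟩ := hG r ((mem_posRoots D r).mpr hr) (-u) t
    have hx' : x = xGL D hadd F r u := eq_xGL D hadd hxm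
    exact ⟨t', by rw [Units.val_mul, hx', xGL_inv, coe_xGL, ht, ht']⟩

/-- S1026, the ordered products are in `U` -/
theorem pwGL_mem (hD : D ∈ [chevG2, chevB2, chevD4, chevF4, chevE6, chevE7, chevE8]) (t : ℕ → F) :
    pwGL D (addOK_of_mem hD) D.posRoots t ∈ D.posUnipotent F := by
  apply Subgroup.list_prod_mem
  intro g hg'
  obtain ⟨r, hr, rfl⟩ := List.mem_map.mp hg'
  unfold ChevalleyDatum.posUnipotent
  apply Subgroup.subset_closure
  exact ⟨r, t r, (mem_posRoots D r).mp hr, rfl⟩

/-- S1026, uniqueness -/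
theorem pw_unique (hD : D ∈ [chevG2, chevB2, chevD4, chevF4, chevE6, chevE7, chevE8])
    (hg : gradeOK D φ wit = true) (t t' : ℕ → F) (ht : ∀ r, ¬ D.IsPosRoot r → t r = 0)
    (ht' : ∀ r, ¬ D.IsPosRoot r → t' r = 0) (h : pw D D.posRoots t = pw D D.posRoots t') : t = t' := by
  funext r
  by_cases hr : D.IsPosRoot r
  · exact pw_inj hg (addOK_of_mem hD) D.posRoots (fun s hs => (mem_posRoots D s).mp hs) (gradeOK_sorted hg) t t' h r
      ((mem_posRoots D r).mpr hr)
  · rw [ht r hr, ht' r hr]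

/-- the statement S1026 from a grading table -/
theorem unique_expression (hD : D ∈ [chevG2, chevB2, chevD4, chevF4, chevE6, chevE7, chevE8])
    (hg : gradeOK D φ wit = true) :
    (∀ g : GL D.Idx F, g ∈ D.posUnipotent F →
      ∃! t : ℕ → F, (∀ r, ¬ D.IsPosRoot r → t r = 0) ∧
        (g : Matrix D.Idx D.Idx F) = D.wordMat F (D.posRoots.map fun r => (r, t r))) ∧
    (∀ t : ℕ → F, ∃ g : GL D.Idx F, g ∈ D.posUnipotent F ∧
      (g : Matrix D.Idx D.Idx F) = D.wordMat F (D.posRoots.map fun r => (r, t r))) := by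
  classical
  constructor
  · intro g hgU
    obtain ⟨t, ht⟩ := exists_pw hD hg g hgU
    refine ⟨fun r => if D.IsPosRoot r then t r else 0, ⟨?_, ?_⟩, ?_⟩
    · intro r hr
      simp [hr]
    · rw [ht]
      apply pw_congr
      intro r hr
      rw [if_pos ((mem_posRoots D r).mp hr)]
    · rintro t' ⟨h1, h2⟩
      apply pw_unique hD hg t' _ h1 (by intro r hr; simp [hr])
      have e : pw D D.posRoots t' = (g : Matrix D.Idx D.Idx F) := h2.symm
      rw [e, ht]
      apply pw_congr
      intro r hr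
      rw [if_pos ((mem_posRoots D r).mp hr)]
  · intro t
    exact ⟨pwGL D (addOK_of_mem hD) D.posRoots t, pwGL_mem hD t, pwGL_val D _ _ t⟩

/-- the statement S1027 from a grading table -/
theorem card_posUnipotent [Fintype F] (hD : D ∈ [chevG2, chevB2, chevD4, chevF4, chevE6, chevE7, chevE8])
    (hg : gradeOK D φ wit = true) (hlen : D.posRoots.length = D.nroots / 2) :
    Nat.card (D.posUnipotent F) = Fintype.card F ^ (D.nroots / 2) := by
  classical
  have hadd := addOK_of_mem hD
  have hnd : D.posRoots.Nodup := by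
    unfold ChevalleyDatum.posRoots
    exact List.Nodup.filter _ List.nodup_range
  let ext : (↥D.posRoots.toFinset → F) → ℕ → F := fun f r => if h : r ∈ D.posRoots.toFinset then f ⟨r, h⟩ else 0
  let Φ : (↥D.posRoots.toFinset → F) → ↥(D.posUnipotent F) :=
    fun f => ⟨pwGL D hadd D.posRoots (ext f), pwGL_mem hD _⟩
  have hbij : Function.Bijective Φ := by
    constructor
    · intro f f' hff
      have h1 : pw D D.posRoots (ext f) = pw D D.posRoots (ext f') := by
        have := congrArg (fun x : ↥(D.posUnipotent F) => ((x : GL D.Idx F) : Matrix D.Idx D.Idx F)) hff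
        simpa only [Φ, pwGL_val] using this
      have hext0 : ∀ (f : ↥D.posRoots.toFinset → F) (r : ℕ), ¬ D.IsPosRoot r → ext f r = 0 := by
        intro f r hr
        have : r ∉ D.posRoots.toFinset := by
          rw [List.mem_toFinset, mem_posRoots]; exact hr
        exact dif_neg this
      have h2 := pw_unique hD hg (ext f) (ext f') (hext0 f) (hext0 f') h1
      funext ⟨r, hr⟩
      have h3 := congrFun h2 r
      have e1 : ext f r = f ⟨r, hr⟩ := dif_pos hr
      have e2 : ext f' r = f' ⟨r, hr⟩ := dif_pos hr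
      rw [e1, e2] at h3
      exact h3
    · intro ⟨g, hgU⟩
      obtain ⟨t, ht⟩ := exists_pw hD hg g hgU
      refine ⟨fun r => t r.val, ?_⟩
      apply Subtype.ext
      apply Units.ext
      show ((pwGL D hadd D.posRoots _ : GL D.Idx F) : Matrix D.Idx D.Idx F) = g
      rw [pwGL_val, ht]
      apply pw_congr
      intro r hr
      have : r ∈ D.posRoots.toFinset := List.mem_toFinset.mpr hr
      exact dif_pos this
  rw [← Nat.card_congr (Equiv.ofBijective Φ hbij), Nat.card_fun, Nat.card_eq_fintype_card, Nat.card_eq_fintype_card,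
    Fintype.card_coe, List.toFinset_card_of_nodup hnd, hlen]

end

end Cfsg.Agent.Helper40.UProd
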