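import Cfsg.Agent.Helper40.SL2ChevData

/-!
Helper40: the rank-one relations in the Chevalley groups of the seven tabulated types, and the homomorphism
`SL₂(F) → ⟨X_r, X_{-r}⟩` for every root `r`.
-/

set_option autoImplicit false

namespace Cfsg.Agent.Helper40.SL2Chev

open Cfsg Cfsg.Lie Cfsg.Agent.Helper40.NMono Cfsg.Agent.Helper40.ChevAdd Cfsg.Agent.Helper40.SL2Hom

theorem sign1 {F : Type*} [Field F] (e t : F) (he : e = 1 ∨ e = -1) : e * (-t⁻¹) = -(e * t)⁻¹ := by
  rcases he with rfl | rfl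
  · simp
  · simp [inv_neg]

theorem sign2 {F : Type*} [Field F] (e t u : F) (he : e = 1 ∨ e = -1) :
    e * -((e * t)⁻¹ * (e * t)⁻¹ * (e * u)) = -(t⁻¹ * t⁻¹ * u) := by
  rcases he with rfl | rfl
  · simp
  · simp [inv_neg]

theorem sign3 {F : Type*} [Field F] (e t : F) (he : e = 1 ∨ e = -1) (ht : t ≠ 0) : e * t ≠ 0 := by
  rcases he with rfl | rfl
  · simpa using ht
  · simpa using ht

theorem sign4 {F : Type*} [Field F] (e : F) (he : e = 1 ∨ e = -1) : e * e = 1 := by
  rcases he with rfl | rfl <;> simp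

section

variable {F : Type*} [Field F] (D : ChevalleyDatum) (hadd : addOK D = true)

/-- `n_r(t)` in the general linear group -/
noncomputable def nG (r : ℕ) (t : F) : GL D.Idx F := w (xGL D hadd F r) (xGL D hadd F (D.neg r)) t

/-- `h_r(t)` in the general linear group -/
noncomputable def hG (r : ℕ) (t : F) : GL D.Idx F := h (xGL D hadd F r) (xGL D hadd F (D.neg r)) t

theorem coe_nG (r : ℕ) (t : F) :
    ((nG D hadd r t : GL D.Idx F) : Matrix D.Idx D.Idx F) = D.nMat F r t := by
  simp [nG, w, ChevalleyDatum.nMat, ChevalleyDatum.nWord, ChevalleyDatum.wordMat, mul_assoc]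

theorem nG_inv (r : ℕ) (t : F) : (nG D hadd r t)⁻¹ = nG D hadd r (-t) :=
  (w_neg_of_add _ _ (fun s t => (xGL_add D hadd r s t).symm) (fun s t => (xGL_add D hadd _ s t).symm) t).symm

theorem coe_hG (r : ℕ) (t : F) :
    ((hG D hadd r t : GL D.Idx F) : Matrix D.Idx D.Idx F) = D.hMat F r t := by
  have e : hG D hadd r t = nG D hadd r t * (nG D hadd r 1)⁻¹ := rfl
  rw [e, nG_inv, Units.val_mul, coe_nG, coe_nG]
  simp [ChevalleyDatum.hMat, ChevalleyDatum.hWord, ChevalleyDatum.nMat, ChevalleyDatum.wordMat, List.map_append,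
    List.prod_append]

/-- the relation (B) for the root `r` -/
def PB (r : ℕ) : Prop :=
  ∀ t u : F, t ≠ 0 →
    nG D hadd r t * xGL D hadd F r u * (nG D hadd r t)⁻¹ = xGL D hadd F (D.neg r) (-(t⁻¹ * t⁻¹ * u))

theorem nconj (i : ℕ) (π : ℕ → ℕ) (η : ℕ → ℤ) (hn : nOK D i π η = true) (s : ℕ) (hs : s < D.nroots) (t : F) :
    nG D hadd (D.simple i) 1 * xGL D hadd F s t * (nG D hadd (D.simple i) 1)⁻¹ =
      xGL D hadd F (π s) (((η s : ℤ) : F) * t) := by
  rw [mul_inv_eq_iff_eq_mul]
  apply Units.ext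
  rw [Units.val_mul, Units.val_mul, coe_nG, coe_xGL, coe_xGL]
  exact n_conj D i π η hn s hs t

theorem reflectRoot_simple (i : ℕ) : D.reflectRoot i (D.simple i) = D.neg (D.simple i) := by
  unfold ChevalleyDatum.reflectRoot
  simp

/-- transport of (B) along a fundamental reflection -/
theorem PB_step (i : ℕ) (hi : i < D.rank) (π : ℕ → ℕ) (η : ℕ → ℤ) (hn : nOK D i π η = true)
    (hπ : piOK D i π = true) (he : etaOK D i π η = true) (hnr : negReflOK D = true)
    (s : ℕ) (hs : s < D.nroots) (hP : PB (F := F) D hadd s) : PB (F := F) D hadd (D.reflectRoot i s) := by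
  have hn' := hn
  unfold nOK at hn'
  rw [Bool.and_eq_true] at hn'
  have hsp := monoOK_spec D i π η hn'.1
  unfold etaOK at he
  simp only [Bool.and_eq_true, decide_eq_true_eq, List.all_eq_true, List.mem_range] at he
  obtain ⟨-, e3⟩ := he
  unfold negReflOK at hnr
  simp only [Bool.and_eq_true, decide_eq_true_eq, List.all_eq_true, List.mem_range, beq_iff_eq] at hnr
  obtain ⟨hnr1, hns⟩ := hnr i hi s hs
  rw [← piOK_spec hπ s hs]
  -- the sign
  have hη : η s = 1 ∨ η s = -1 := (hsp s hs).2.1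
  have hηn : η (D.neg s) = η s := by
    have := (e3 s hs).2
    rcases hη with h1 | h1
    · rw [h1] at this ⊢; omega
    · rw [h1] at this ⊢; omega
  have hπn : π (D.neg s) = D.neg (π s) := by
    rw [piOK_spec hπ _ hns, piOK_spec hπ s hs]
    exact hnr1
  set n := nG D hadd (D.simple i) (1 : F) with hn_def
  set e : F := ((η s : ℤ) : F) with he_def
  have hee : e = 1 ∨ e = -1 := by
    rcases hη with h1 | h1
    · left; rw [he_def, h1]; simp
    · right; rw [he_def, h1]; simp
  have c1 : ∀ t : F, n * xGL D hadd F s t * n⁻¹ = xGL D hadd F (π s) (e * t) :=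
    fun t => nconj D hadd i π η hn s hs t
  have c2 : ∀ t : F, n * xGL D hadd F (D.neg s) t * n⁻¹ = xGL D hadd F (D.neg (π s)) (e * t) := by
    intro t
    have := nconj D hadd i π η hn (D.neg s) hns t
    rw [hπn, hηn] at this
    exact this
  have c3 : ∀ t : F, n * nG D hadd s t * n⁻¹ = nG D hadd (π s) (e * t) := by
    intro t
    unfold nG w
    have : n * (xGL D hadd F s t * xGL D hadd F (D.neg s) (-t⁻¹) * xGL D hadd F s t) * n⁻¹ =
        (n * xGL D hadd F s t * n⁻¹) * (n * xGL D hadd F (D.neg s) (-t⁻¹) * n⁻¹) *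
          (n * xGL D hadd F s t * n⁻¹) := by group
    rw [this, c1, c2]
    congr 3
    exact sign1 e t hee
  intro t' u' ht'
  have het : e * t' ≠ 0 := sign3 e t' hee ht'
  have h0 := hP (e * t') (e * u') het
  have h1 : n * (nG D hadd s (e * t') * xGL D hadd F s (e * u') * (nG D hadd s (e * t'))⁻¹) * n⁻¹ =
      (n * nG D hadd s (e * t') * n⁻¹) * (n * xGL D hadd F s (e * u') * n⁻¹) *
        (n * nG D hadd s (e * t') * n⁻¹)⁻¹ := by group
  rw [h0, c3, c1, c2] at h1
  have ee : e * e = 1 := sign4 e hee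
  have e1 : e * (e * t') = t' := by rw [← mul_assoc, ee, one_mul]
  have e2 : e * (e * u') = u' := by rw [← mul_assoc, ee, one_mul]
  have e3' : e * -((e * t')⁻¹ * (e * t')⁻¹ * (e * u')) = -(t'⁻¹ * t'⁻¹ * u') := sign2 e t' u' hee
  rw [e1, e2, e3'] at h1
  exact h1.symm

theorem hconj (hD : D ∈ [chevG2, chevB2, chevD4, chevF4, chevE6, chevE7, chevE8]) (r s : ℕ) (hr : r < D.nroots)
    (hs : s < D.nroots) (t u : F) (ht : t ≠ 0) :
    hG D hadd r t * xGL D hadd F s u * (hG D hadd r t)⁻¹ =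
      xGL D hadd F s (t ^ Cfsg.Agent.Helper18.pairing' D r s * u) := by
  rw [mul_inv_eq_iff_eq_mul]
  apply Units.ext
  rw [Units.val_mul, Units.val_mul, coe_hG, coe_xGL, coe_xGL]
  exact Cfsg.Agent.Helper18.hMat_mul_x D hD r s hr hs t u ht

/-- (B) for a fundamental root -/
theorem PB_base (hD : D ∈ [chevG2, chevB2, chevD4, chevF4, chevE6, chevE7, chevE8]) (i : ℕ) (hi : i < D.rank)
    (π : ℕ → ℕ) (η : ℕ → ℤ) (hn : nOK D i π η = true)
    (hπ : piOK D i π = true) (he : etaOK D i π η = true) (hnr : negReflOK D = true) (hp : pairOK D = true) :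
    PB (F := F) D hadd (D.simple i) := by
  intro t u ht
  have hs := Cfsg.Agent.Helper18.simple_lt D (Cfsg.Agent.Helper18.simpleOK_of_mem D hD) i hi
  unfold negReflOK at hnr
  simp only [Bool.and_eq_true, decide_eq_true_eq, List.all_eq_true, List.mem_range, beq_iff_eq] at hnr
  obtain ⟨-, hns⟩ := hnr i hi _ hs
  unfold etaOK at he
  simp only [Bool.and_eq_true, decide_eq_true_eq, List.all_eq_true, List.mem_range] at he
  obtain ⟨⟨e1, -⟩, -⟩ := he
  unfold pairOK at hp
  simp only [List.all_eq_true, List.mem_range, beq_iff_eq] at hp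
  have hp2 := hp i hi
  have e0 : nG D hadd (D.simple i) t = hG D hadd (D.simple i) t * nG D hadd (D.simple i) 1 := by
    unfold hG h nG
    rw [inv_mul_cancel_right]
  have c := nconj D hadd i π η hn (D.simple i) hs u
  rw [piOK_spec hπ _ hs, reflectRoot_simple, e1] at c
  rw [e0]
  calc hG D hadd (D.simple i) t * nG D hadd (D.simple i) 1 * xGL D hadd F (D.simple i) u *
        (hG D hadd (D.simple i) t * nG D hadd (D.simple i) 1)⁻¹
      = hG D hadd (D.simple i) t * (nG D hadd (D.simple i) 1 * xGL D hadd F (D.simple i) u *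
          (nG D hadd (D.simple i) 1)⁻¹) * (hG D hadd (D.simple i) t)⁻¹ := by group
    _ = xGL D hadd F (D.neg (D.simple i))
          (t ^ Cfsg.Agent.Helper18.pairing' D (D.simple i) (D.neg (D.simple i)) * (((-1 : ℤ) : F) * u)) := by
        rw [c, hconj D hadd hD _ _ hs hns t _ ht]
    _ = xGL D hadd F (D.neg (D.simple i)) (-(t⁻¹ * t⁻¹ * u)) := by
        rw [hp2]
        congr 1
        rw [zpow_neg, zpow_two, mul_inv]
        push_cast
        ring

/-- (B) for all roots -/
theorem PB_all (hD : D ∈ [chevG2, chevB2, chevD4, chevF4, chevE6, chevE7, chevE8]) :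
    ∀ r < D.nroots, PB (F := F) D hadd r := by
  obtain ⟨hp, hnr, cert, hcert⟩ := checks_of_mem D hD
  apply Cfsg.Agent.Helper36.root_induction D cert hcert
  · intro i hi s hs
    obtain ⟨π, η, hn, hπ, he⟩ := Cfsg.Agent.Helper40.NData.exists_tables D hD i hi
    have hn' := hn
    unfold nOK at hn'
    rw [Bool.and_eq_true] at hn'
    have hsp := monoOK_spec D i π η hn'.1
    have h1 := hsp s hs
    rw [← piOK_spec hπ s hs]
    refine ⟨h1.1, ?_⟩
    rw [← piOK_spec hπ _ h1.1]
    exact h1.2.2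
  · intro j hj
    obtain ⟨π, η, hn, hπ, he⟩ := Cfsg.Agent.Helper40.NData.exists_tables D hD j hj
    have hs := Cfsg.Agent.Helper18.simple_lt D (Cfsg.Agent.Helper18.simpleOK_of_mem D hD) j hj
    have hb := PB_base (F := F) D hadd hD j hj π η hn hπ he hnr hp
    refine ⟨hb, ?_⟩
    have := PB_step (F := F) D hadd j hj π η hn hπ he hnr _ hs hb
    rw [reflectRoot_simple] at this
    exact this
  · intro i hi s hs hP
    obtain ⟨π, η, hn, hπ, he⟩ := Cfsg.Agent.Helper40.NData.exists_tables D hD i hi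
    exact PB_step (F := F) D hadd i hi π η hn hπ he hnr s hs hP

/-- Steinberg's rank-one relations for the root `r` -/
theorem rel (hD : D ∈ [chevG2, chevB2, chevD4, chevF4, chevE6, chevE7, chevE8]) (r : ℕ) (hr : r < D.nroots) :
    Rel (xGL D hadd F r) (xGL D hadd F (D.neg r)) where
  x_add := fun s t => (xGL_add D hadd r s t).symm
  y_add := fun s t => (xGL_add D hadd _ s t).symm
  conj := fun t u ht => PB_all D hadd hD r hr t u ht
  h_mul := by
    intro s t hs ht
    apply Units.ext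
    change ((hG D hadd r (s * t) : GL D.Idx F) : Matrix D.Idx D.Idx F) =
      ((hG D hadd r s * hG D hadd r t : GL D.Idx F) : Matrix D.Idx D.Idx F)
    have hdiag : ∀ c : F, c ≠ 0 → D.hMat F r c =
        Matrix.diagonal fun j => c ^ Cfsg.Agent.Helper18.wt D r (Cfsg.Agent.Helper18.code D j) :=
      fun c hc => Cfsg.Agent.Helper18.diagAll_of_mem D hD r hr c hc
    rw [Units.val_mul, coe_hG, coe_hG, coe_hG, hdiag (s * t) (mul_ne_zero hs ht), hdiag s hs, hdiag t ht,
      Matrix.diagonal_mul_diagonal]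
    congr 1
    funext j
    rw [mul_zpow]

end

end Cfsg.Agent.Helper40.SL2Chev
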