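import Mathlib
import Cfsg.Agent.Helper96.StC.Basic
import Cfsg.Agent.Helper96.StLift.Basic

/-!
# Central extensions of a group with a Steinberg family of type `C`: vocabulary (S2092, part II)

`π : E →* D` is a surjection with central kernel and `X p q t` a family of type `C` in `D`
(`Cfsg.Agent.Helper96.StC.SpRel`).  `lc hπ a b` (`Cfsg.Agent.Helper96.StLift.lc`) is the commutator
of arbitrary lifts of `a` and `b`.

* `AbsNe p q`: the indices `p`, `q` of `ι ⊕ ι` have different "absolute values";
* `CLC hπ X`: lifts of root elements which commute by `SpRel.comm` commute;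
* `CLong hπ X`, `CFar hπ X`: the same for a long root element against the root elements commuting
  with it, resp. against the short root elements on two other absolute values.
-/

set_option autoImplicit false

namespace Cfsg.Agent.Helper40.StCLift

open scoped commutatorElement
open Cfsg.Agent.Helper96.StN Cfsg.Agent.Helper96.StC Cfsg.Agent.Helper96.StLift

universe u v v' w

variable {K : Type u} [Field K] {D : Type v} [Group D] {E : Type v'} [Group E] {π : E →* D}
  {ι : Type w} {X : ι ⊕ ι → ι ⊕ ι → K → D}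

/-- `|p| ≠ |q|` -/
def AbsNe (p q : ι ⊕ ι) : Prop := p ≠ q ∧ p ≠ bar q

theorem AbsNe.symm {p q : ι ⊕ ι} (h : AbsNe p q) : AbsNe q p :=
  ⟨h.1.symm, fun e => h.2 (by rw [e, bar_bar])⟩

theorem AbsNe.bar_left {p q : ι ⊕ ι} (h : AbsNe p q) : AbsNe (bar p) q :=
  ⟨fun e => h.2 (by rw [← e, bar_bar]), fun e => h.1 (bar_injective e)⟩

theorem AbsNe.bar_right {p q : ι ⊕ ι} (h : AbsNe p q) : AbsNe p (bar q) :=
  ⟨h.2, by rw [bar_bar]; exact h.1⟩

theorem AbsNe.ne_bar' {p q : ι ⊕ ι} (h : AbsNe p q) : q ≠ bar p := h.symm.2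

theorem absNe_iff {p q : ι ⊕ ι} : AbsNe p q ↔ p ≠ q ∧ q ≠ bar p :=
  ⟨fun h => ⟨h.1, h.ne_bar'⟩, fun h => ⟨h.1, fun e => h.2 (by rw [e, bar_bar])⟩⟩

/-- lifts of root elements commuting by `SpRel.comm` commute -/
def CLC (hπ : Function.Surjective π) (X : ι ⊕ ι → ι ⊕ ι → K → D) : Prop :=
  ∀ p q r s, p ≠ q → r ≠ s → q ≠ r → q ≠ bar s → p ≠ bar r → p ≠ s → ∀ t u,
    lc hπ (X p q t) (X r s u) = 1

/-- lifts of a long root element and of a root element commuting with it commute -/
def CLong (hπ : Function.Surjective π) (X : ι ⊕ ι → ι ⊕ ι → K → D) : Prop :=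
  ∀ p r s, r ≠ s → r ≠ bar p → s ≠ p → ∀ t u, lc hπ (X p (bar p) t) (X r s u) = 1

/-- lifts of a long root element and of a short root element on two other absolute values
commute -/
def CFar (hπ : Function.Surjective π) (X : ι ⊕ ι → ι ⊕ ι → K → D) : Prop :=
  ∀ p r s, AbsNe r p → AbsNe s p → AbsNe r s → ∀ t u, lc hπ (X p (bar p) t) (X r s u) = 1

variable (hπ : Function.Surjective π) (hc : π.ker ≤ Subgroup.center E)

include hc in
/-- lifts of `a`, `b` commute as soon as `lc a b = 1` -/
theorem commute_of_lc_eq_one {a b : D} (h : lc hπ a b = 1) {x y : E} (hx : π x = a)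
    (hy : π y = b) : Commute x y := by
  have h' := lc_eq' hπ hc hx hy
  rw [h] at h'
  exact commutatorElement_eq_one_iff_commute.mp h'

theorem lc_eq_one_symm {a b : D} (h : lc hπ a b = 1) : lc hπ b a = 1 := by
  rw [← lc_inv, h, inv_one]

include hc in
theorem lc_inv_right {a b : D} (h : Commute a b) : lc hπ a b⁻¹ = (lc hπ a b)⁻¹ := by
  have h1 := lc_mul_right_of_commute hπ hc (a := a) (b := b) (b' := b⁻¹) h.inv_right
  rw [mul_inv_cancel, lc_one_right hπ hc] at h1
  exact eq_inv_of_mul_eq_one_right h1.symm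

include hc in
theorem lc_inv_left {a b : D} (h : Commute a b) : lc hπ a⁻¹ b = (lc hπ a b)⁻¹ := by
  have h1 := lc_mul_left_of_commute hπ hc (a := a) (a' := a⁻¹) (b := b) h.inv_left
  rw [mul_inv_cancel, lc_one_left hπ hc] at h1
  exact eq_inv_of_mul_eq_one_left h1.symm

include hc in
/-- the symbol of a commuting pair is central -/
theorem lc_central {a b : D} (h : Commute a b) (x : E) : x * lc hπ a b = lc hπ a b * x := by
  have hz := lc_mem_center hπ hc h
  rw [Subgroup.mem_center_iff] at hz
  exact hz x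

include hc in
/-- `lc a` is trivial on the subgroup generated by elements `b` commuting with `a` with
`lc a b = 1` -/
theorem lc_eq_one_of_mem_closure (a : D) {S : Set D}
    (hS : ∀ b ∈ S, Commute a b ∧ lc hπ a b = 1) {g : D} (hg : g ∈ Subgroup.closure S) :
    Commute a g ∧ lc hπ a g = 1 := by
  induction hg using Subgroup.closure_induction with
  | mem b hb => exact hS b hb
  | one => exact ⟨Commute.one_right a, lc_one_right hπ hc a⟩
  | mul x y _ _ hx hy =>
    refine ⟨hx.1.mul_right hy.1, ?_⟩
    rw [lc_mul_right_of_commute hπ hc hy.1, hx.2, hy.2, one_mul]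
  | inv x _ hx =>
    refine ⟨hx.1.inv_right, ?_⟩
    rw [lc_inv_right hπ hc hx.1, hx.2, inv_one]

include hc in
/-- an element `g` with `lc g a = 1` acts trivially (by conjugation of lifts) on the lifts of
`a` -/
theorem conj_lift_eq {a g : D} (h : lc hπ g a = 1) {x y : E} (hx : π x = g) (hy : π y = a) :
    x * y * x⁻¹ = y := by
  have hcomm := commute_of_lc_eq_one hπ hc h hx hy
  rw [hcomm.eq, mul_inv_cancel_right]

end Cfsg.Agent.Helper40.StCLift
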