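import Cfsg.Agent.Helper40.GenQ2D4

/-!
Helper40: the Chevalley group of type `F₄` over a field with two elements is generated by `x_0(1) x_9(1)` (a long and
a short root element that commute) and `n_w`, `w` the Coxeter element `w_0 w_1 w_2 w_3`.
-/

set_option autoImplicit false

namespace Cfsg.Agent.Helper40.GenQ2

open Cfsg Cfsg.Lie Cfsg.Agent.Helper18 Cfsg.Agent.Helper40.Comm Cfsg.Agent.Helper40.GenNX

theorem comm_prod {G : Type*} [Group G] (A B A' B' : G) (h1 : Commute A B) (h2 : Commute A A') (h3 : Commute A B')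
    (h4 : Commute A' B) (h5 : Commute A' B') :
    (A' * B')⁻¹ * (A * B)⁻¹ * (A' * B') * (A * B) = B'⁻¹ * B⁻¹ * B' * B := by
  have e1 : A⁻¹ * (A' * B') * A = A' * B' := by
    rw [mul_assoc, (h2.mul_right h3).eq.symm, inv_mul_cancel_left]
  have e2 : A'⁻¹ * B⁻¹ * A' = B⁻¹ := by
    rw [mul_assoc, ← (h4.inv_right).eq, inv_mul_cancel_left]
  calc (A' * B')⁻¹ * (A * B)⁻¹ * (A' * B') * (A * B)
      = B'⁻¹ * A'⁻¹ * B⁻¹ * (A⁻¹ * (A' * B') * A) * B := by group
    _ = B'⁻¹ * (A'⁻¹ * B⁻¹ * A') * B' * B := by rw [e1]; group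
    _ = B'⁻¹ * B⁻¹ * B' * B := by rw [e2]

/-- the two roots are distinct, not opposite, in range, and their root subgroups commute -/
def commOK (D : ChevalleyDatum) (r s : ℕ) : Bool :=
  decide (r < D.nroots) && decide (s < D.nroots) && decide (s ≠ r) && decide (s ≠ D.neg r) &&
    decide (D.commTerms r s = [])

/-- the configuration of four roots: all cross pairs commute except `(b, b')`, which has a single term -/
def pairOK (D : ChevalleyDatum) (a b a' b' c : ℕ) (C : ℤ) : Bool :=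
  commOK D a b && commOK D a a' && commOK D a b' && commOK D a' b && commOK D a' b' &&
    decide (b < D.nroots) && decide (b' < D.nroots) && decide (b' ≠ b) && decide (b' ≠ D.neg b) &&
    decide (D.commTerms b b' = [(c, C, 1, 1)]) && decide (C.natAbs = 1)

section
variable {F : Type*} [Field F] (D : ChevalleyDatum)
variable (hD : D ∈ [chevG2, chevB2, chevD4, chevF4, chevE6, chevE7, chevE8])
include hD

theorem commute_of_commOK (r s : ℕ) (h : commOK D r s = true) (t u : F) :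
    Commute (xGL D F r t) (xGL D F s u) := by
  unfold commOK at h
  simp only [Bool.and_eq_true, decide_eq_true_eq] at h
  obtain ⟨⟨⟨⟨hr, hs⟩, hne⟩, hneg⟩, h0⟩ := h
  exact xGL_commute D hD r s hr hs hne hneg h0 t u

variable (hF : ∀ x : F, x = 0 ∨ x = 1)
include hF

/-- conjugating a product of two root elements by `n_w` -/
theorem pair_conj (M : Subgroup (GL D.Idx F)) (cw : List ℕ) (hcw : ∀ i ∈ cw, i < D.rank)
    (hn : nWordsGL D F cw ∈ M) (a b : ℕ) (ha : a < D.nroots) (hb : b < D.nroots)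
    (h : xGL D F a 1 * xGL D F b 1 ∈ M) : xGL D F (rho D cw a) 1 * xGL D F (rho D cw b) 1 ∈ M := by
  obtain ⟨-, η, hη, hconj⟩ := word_conj D hD (F := F) cw hcw a ha
  obtain ⟨-, η', hη', hconj'⟩ := word_conj D hD (F := F) cw hcw b hb
  have e1 := hconj 1
  have e2 := hconj' 1
  rw [intCast_eq_one hF η hη, one_mul] at e1
  rw [intCast_eq_one hF η' hη', one_mul] at e2
  have : xGL D F (rho D cw a) 1 * xGL D F (rho D cw b) 1 =
      nWordsGL D F cw * (xGL D F a 1 * xGL D F b 1) * (nWordsGL D F cw)⁻¹ := by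
    rw [← e1, ← e2]; group
  rw [this]
  exact M.mul_mem (M.mul_mem hn h) (M.inv_mem hn)

/-- the commutator of two products of commuting root elements with a single non-commuting cross pair -/
theorem pair_comm (M : Subgroup (GL D.Idx F)) (a b a' b' c : ℕ) (C : ℤ) (hp : pairOK D a b a' b' c C = true)
    (h : xGL D F a 1 * xGL D F b 1 ∈ M) (h' : xGL D F a' 1 * xGL D F b' 1 ∈ M) : RootIn D M c := by
  unfold pairOK at hp
  simp only [Bool.and_eq_true, decide_eq_true_eq] at hp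
  obtain ⟨⟨⟨⟨⟨⟨⟨⟨⟨⟨c1, c2⟩, c3⟩, c4⟩, c5⟩, hb⟩, hb'⟩, hne⟩, hneg⟩, hbad⟩, hC⟩ := hp
  apply rootIn_of_one hF D hD M c
  have e := xGL_comm_single D hD b b' c C hb hb' hne hneg hbad (1 : F) (1 : F)
  have hval : (C : F) * (-1) * 1 = 1 := by
    rw [neg_one_eq_one hF, mul_one, mul_one]
    exact intCast_eq_one hF C (by
      rcases Int.natAbs_eq C with h1 | h1 <;> rw [hC] at h1
      · exact Or.inl h1
      · exact Or.inr h1)
  rw [hval] at e
  have e2 : xGL D F c 1 = (xGL D F b' 1)⁻¹ * (xGL D F b 1)⁻¹ * xGL D F b' 1 * xGL D F b 1 := by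
    calc xGL D F c 1 = (xGL D F b 1 * xGL D F b' 1)⁻¹ * (xGL D F b 1 * xGL D F b' 1 * xGL D F c 1) := by group
      _ = (xGL D F b 1 * xGL D F b' 1)⁻¹ * (xGL D F b' 1 * xGL D F b 1) := by rw [e]
      _ = _ := by group
  rw [e2, ← comm_prod (xGL D F a 1) (xGL D F b 1) (xGL D F a' 1) (xGL D F b' 1)
    (commute_of_commOK D hD a b c1 1 1) (commute_of_commOK D hD a a' c2 1 1) (commute_of_commOK D hD a b' c3 1 1)
    (commute_of_commOK D hD a' b c4 1 1) (commute_of_commOK D hD a' b' c5 1 1)]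
  exact M.mul_mem (M.mul_mem (M.mul_mem (M.inv_mem h') (M.inv_mem h)) h') h

omit hF in
theorem pair_swap (M : Subgroup (GL D.Idx F)) (a b : ℕ) (hc : commOK D a b = true)
    (h : xGL D F a 1 * xGL D F b 1 ∈ M) : xGL D F b 1 * xGL D F a 1 ∈ M := by
  rw [← (commute_of_commOK D hD a b hc (1 : F) 1).eq]
  exact h

end

/-! ### the data for `F₄` -/

theorem hF4 : chevF4 ∈ [chevG2, chevB2, chevD4, chevF4, chevE6, chevE7, chevE8] := by simp

theorem f4_rho_0 : rho chevF4 [0, 1, 2, 3] 0 = 15 := by decide +kernel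
theorem f4_rho_9 : rho chevF4 [0, 1, 2, 3] 9 = 19 := by decide +kernel
theorem f4_rho_15 : rho chevF4 [0, 1, 2, 3] 15 = 21 := by decide +kernel
theorem f4_rho_19 : rho chevF4 [0, 1, 2, 3] 19 = 11 := by decide +kernel
theorem f4_rho_21 : rho chevF4 [0, 1, 2, 3] 21 = 41 := by decide +kernel
theorem f4_rho_11 : rho chevF4 [0, 1, 2, 3] 11 = 33 := by decide +kernel
theorem f4_rho_41 : rho chevF4 [0, 1, 2, 3] 41 = 45 := by decide +kernel
theorem f4_rho_33 : rho chevF4 [0, 1, 2, 3] 33 = 27 := by decide +kernel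
theorem f4_rho_45 : rho chevF4 [0, 1, 2, 3] 45 = 46 := by decide +kernel
theorem f4_rho_27 : rho chevF4 [0, 1, 2, 3] 27 = 35 := by decide +kernel

theorem f4_pair1 : pairOK chevF4 0 9 15 19 7 (-1) = true := by decide +kernel
theorem f4_pair5 : pairOK chevF4 9 0 35 46 23 (-1) = true := by decide +kernel
theorem f4_comm09 : commOK chevF4 0 9 = true := by decide +kernel
theorem f4_comm4635 : commOK chevF4 46 35 = true := by decide +kernel

/-- the final derivation for `F₄` from the roots `7` (short), `23` (long) -/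
def f4Steps : List (ℕ × ℕ × ℕ) :=
  [(1, 3, 0), (1, 10, 0), (0, 7, 0), (0, 8, 0), (0, 18, 0), (2, 10, 34), (0, 19, 0), (0, 11, 0), (0, 34, 0), (1, 13, 0),
    (1, 29, 0), (2, 37, 29), (2, 3, 40), (2, 8, 40), (2, 18, 13), (1, 12, 0), (1, 20, 0), (0, 23, 0), (0, 42, 0),
    (0, 30, 0), (0, 43, 0), (0, 31, 0), (1, 22, 0), (1, 16, 0), (1, 4, 0), (1, 17, 0), (2, 31, 17)]

theorem f4_deriv : derivOK chevF4 [0, 1, 2, 3] [7, 23] f4Steps = true := by decide +kernel

/-- every subgroup containing `x_0(1) x_9(1)` and `n_w` contains `F₄(F)`, `F` a field with two elements -/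
theorem f4_le {F : Type*} [Field F] (hF : ∀ x : F, x = 0 ∨ x = 1) (M : Subgroup (GL chevF4.Idx F))
    (h1 : xGL chevF4 F 0 1 * xGL chevF4 F 9 1 ∈ M) (hn : nWordsGL chevF4 F [0, 1, 2, 3] ∈ M) :
    chevF4.group F ≤ M := by
  have hcw : ∀ i ∈ [0, 1, 2, 3], i < chevF4.rank := by decide
  have p1 : xGL chevF4 F 15 1 * xGL chevF4 F 19 1 ∈ M := by
    have := pair_conj chevF4 hF4 hF M [0, 1, 2, 3] hcw hn 0 9 (by decide) (by decide) h1
    rwa [f4_rho_0, f4_rho_9] at this
  have p2 : xGL chevF4 F 21 1 * xGL chevF4 F 11 1 ∈ M := by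
    have := pair_conj chevF4 hF4 hF M [0, 1, 2, 3] hcw hn 15 19 (by decide) (by decide) p1
    rwa [f4_rho_15, f4_rho_19] at this
  have p3 : xGL chevF4 F 41 1 * xGL chevF4 F 33 1 ∈ M := by
    have := pair_conj chevF4 hF4 hF M [0, 1, 2, 3] hcw hn 21 11 (by decide) (by decide) p2
    rwa [f4_rho_21, f4_rho_11] at this
  have p4 : xGL chevF4 F 45 1 * xGL chevF4 F 27 1 ∈ M := by
    have := pair_conj chevF4 hF4 hF M [0, 1, 2, 3] hcw hn 41 33 (by decide) (by decide) p3
    rwa [f4_rho_41, f4_rho_33] at this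
  have p5 : xGL chevF4 F 46 1 * xGL chevF4 F 35 1 ∈ M := by
    have := pair_conj chevF4 hF4 hF M [0, 1, 2, 3] hcw hn 45 27 (by decide) (by decide) p4
    rwa [f4_rho_45, f4_rho_27] at this
  have r7 : RootIn chevF4 M 7 := pair_comm chevF4 hF4 hF M 0 9 15 19 7 (-1) f4_pair1 h1 p1
  have r23 : RootIn chevF4 M 23 :=
    pair_comm chevF4 hF4 hF M 9 0 35 46 23 (-1) f4_pair5 (pair_swap chevF4 hF4 M 0 9 f4_comm09 h1)
      (pair_swap chevF4 hF4 M 46 35 f4_comm4635 p5)
  apply group_le_of_deriv chevF4 hF4 M [0, 1, 2, 3] hn [7, 23] f4Steps f4_deriv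
  intro s hs
  simp only [List.mem_cons, List.not_mem_nil, or_false] at hs
  rcases hs with rfl | rfl
  · exact ⟨by decide, r7⟩
  · exact ⟨by decide, r23⟩

/-- `F₄(2)` is generated by two elements -/
theorem gen_F4_q2 {F : Type*} [Field F] (hF : ∀ x : F, x = 0 ∨ x = 1) :
    ∃ a b : ↥(chevF4.group F), Subgroup.closure ({a, b} : Set ↥(chevF4.group F)) = ⊤ := by
  apply two_gen_of chevF4 (xGL chevF4 F 0 1 * xGL chevF4 F 9 1) (nWordsGL chevF4 F [0, 1, 2, 3])
    ((chevF4.group F).mul_mem (xGL_mem_group chevF4 hF4 0 1) (xGL_mem_group chevF4 hF4 9 1))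
    (nWordsGL_mem_group chevF4 hF4 _ (by decide))
  intro M h1 h2
  exact f4_le hF M h1 h2

end Cfsg.Agent.Helper40.GenQ2
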