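import Cfsg.Agent.Helper40.GenQ2Rules

/-!
Helper40: the Chevalley group of type `D₄` over a field with two elements is generated by `x_1(1)` and `x_2(1) n_w`
(`w` the Coxeter element `w_0 w_1 w_2 w_3`); the general assembly lemma `two_gen_of`.
-/

set_option autoImplicit false

namespace Cfsg.Agent.Helper40.GenQ2

open Cfsg Cfsg.Lie Cfsg.Agent.Helper18 Cfsg.Agent.Helper40.Comm Cfsg.Agent.Helper40.GenNX

/-- two elements of the Chevalley group such that every subgroup of `GL` containing them contains the group -/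
theorem two_gen_of {F : Type*} [Field F] (D : ChevalleyDatum) (g1 g2 : GL D.Idx F) (h1 : g1 ∈ D.group F)
    (h2 : g2 ∈ D.group F) (h : ∀ M : Subgroup (GL D.Idx F), g1 ∈ M → g2 ∈ M → D.group F ≤ M) :
    ∃ a b : ↥(D.group F), Subgroup.closure ({a, b} : Set ↥(D.group F)) = ⊤ := by
  refine ⟨⟨g1, h1⟩, ⟨g2, h2⟩, ?_⟩
  set L := Subgroup.closure ({⟨g1, h1⟩, ⟨g2, h2⟩} : Set ↥(D.group F)) with hL
  have ha : (⟨g1, h1⟩ : ↥(D.group F)) ∈ L := Subgroup.subset_closure (by simp)
  have hb : (⟨g2, h2⟩ : ↥(D.group F)) ∈ L := Subgroup.subset_closure (by simp)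
  have hle := h (L.map (D.group F).subtype) ⟨_, ha, rfl⟩ ⟨_, hb, rfl⟩
  rw [eq_top_iff]
  intro x _
  obtain ⟨y, hy, hyx⟩ := hle x.2
  have : y = x := Subtype.ext hyx
  rw [← this]
  exact hy

theorem nWordsGL_mem_group {F : Type*} [Field F] (D : ChevalleyDatum)
    (hD : D ∈ [chevG2, chevB2, chevD4, chevF4, chevE6, chevE7, chevE8]) (w : List ℕ) (hw : ∀ i ∈ w, i < D.rank) :
    nWordsGL D F w ∈ D.group F :=
  (Cfsg.Agent.S1043.result (F := F) D hD).2.1 (nWordsGL_mem D hD w hw)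

theorem xGL_mem_group {F : Type*} [Field F] (D : ChevalleyDatum)
    (hD : D ∈ [chevG2, chevB2, chevD4, chevF4, chevE6, chevE7, chevE8]) (r : ℕ) (t : F) :
    xGL D F r t ∈ D.group F :=
  Cfsg.Agent.S1043.xGL_mem_group D _ (triOK_of_mem D hD) r t

/-! ### the data for `D₄` -/

theorem hD4 : chevD4 ∈ [chevG2, chevB2, chevD4, chevF4, chevE6, chevE7, chevE8] := by simp

theorem d4_rho9 : rho chevD4 [0, 1, 2, 3] 9 = 1 := by decide +kernel
theorem d4_rho5 : rho chevD4 [0, 1, 2, 3] 5 = 9 := by decide +kernel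
theorem d4_rho22 : rho chevD4 [0, 1, 2, 3] 22 = 5 := by decide +kernel
theorem d4_rho0 : rho chevD4 [0, 1, 2, 3] 0 = 6 := by decide +kernel
theorem d4_rho1 : rho chevD4 [0, 1, 2, 3] 1 = 18 := by decide +kernel
theorem d4_c21 : chevD4.commTerms 2 1 = [] := by decide +kernel
theorem d4_c29 : chevD4.commTerms 2 9 = [] := by decide +kernel
theorem d4_c25 : chevD4.commTerms 2 5 = [] := by decide +kernel
theorem d4_c26 : chevD4.commTerms 2 6 = [] := by decide +kernel
theorem d4_c19 : chevD4.commTerms 1 9 = [(0, 1, 1, 1)] := by decide +kernel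
theorem d4_c226 : chevD4.commTerms 22 6 = [(18, -1, 1, 1)] := by decide +kernel
theorem d4_c218 : chevD4.commTerms 2 18 = [(7, -1, 1, 1)] := by decide +kernel
theorem d4_c57 : chevD4.commTerms 5 7 = [(2, 1, 1, 1)] := by decide +kernel

/-- the final derivation for `D₄` from the roots `1`, `2` -/
def d4Steps : List (ℕ × ℕ × ℕ) :=
  [(0, 1, 0), (1, 9, 0), (1, 5, 0), (0, 18, 0), (1, 13, 0), (0, 2, 0), (0, 8, 0), (2, 1, 13), (1, 12, 0), (2, 2, 18),
    (0, 7, 0)]

theorem d4_deriv : derivOK chevD4 [0, 1, 2, 3] [1, 2] d4Steps = true := by decide +kernel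

/-- every subgroup containing `x_1(1)` and `x_2(1) n_w` contains `D₄(F)`, `F` a field with two elements -/
theorem d4_le {F : Type*} [Field F] (hF : ∀ x : F, x = 0 ∨ x = 1) (M : Subgroup (GL chevD4.Idx F))
    (h1 : xGL chevD4 F 1 1 ∈ M) (h2 : xGL chevD4 F 2 1 * nWordsGL chevD4 F [0, 1, 2, 3] ∈ M) :
    chevD4.group F ≤ M := by
  have hcw : ∀ i ∈ [0, 1, 2, 3], i < chevD4.rank := by decide
  have hb : 2 < chevD4.nroots := by decide
  have r1 : RootIn chevD4 M 1 := rootIn_of_one hF chevD4 hD4 M 1 h1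
  have r9 : RootIn chevD4 M 9 := by
    apply rule_bwd chevD4 hD4 M [0, 1, 2, 3] hcw 2 hb h2 9 (by decide)
    · rw [d4_rho9]; decide
    · rw [d4_rho9]; decide
    · rw [d4_rho9]; exact d4_c21
    · rw [d4_rho9]; exact r1
  have r5 : RootIn chevD4 M 5 := by
    apply rule_bwd chevD4 hD4 M [0, 1, 2, 3] hcw 2 hb h2 5 (by decide)
    · rw [d4_rho5]; decide
    · rw [d4_rho5]; decide
    · rw [d4_rho5]; exact d4_c29
    · rw [d4_rho5]; exact r9
  have r22 : RootIn chevD4 M 22 := by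
    apply rule_bwd chevD4 hD4 M [0, 1, 2, 3] hcw 2 hb h2 22 (by decide)
    · rw [d4_rho22]; decide
    · rw [d4_rho22]; decide
    · rw [d4_rho22]; exact d4_c25
    · rw [d4_rho22]; exact r5
  have hcf : ∀ r s : ℕ, r < chevD4.nroots → s < chevD4.nroots → s ≠ r → s ≠ chevD4.neg r → CF chevD4 F r s :=
    fun r s hr hs hrs hneg => Cfsg.Agent.S1025.result chevD4 hD4 r s hr hs hrs hneg
  have r0 : RootIn chevD4 M 0 :=
    rootIn_comm chevD4 hD4 M 1 9 0 1 (hcf 1 9 (by decide) (by decide) (by decide) (by decide)) d4_c19 (by simp) r1 r9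
  have r6 : RootIn chevD4 M 6 := by
    have := rule_fwd chevD4 hD4 M [0, 1, 2, 3] hcw 2 hb h2 0 (by decide) (by rw [d4_rho0]; decide)
      (by rw [d4_rho0]; decide) (by rw [d4_rho0]; exact d4_c26) r0
    rwa [d4_rho0] at this
  have r18 : RootIn chevD4 M 18 :=
    rootIn_comm chevD4 hD4 M 22 6 18 (-1) (hcf 22 6 (by decide) (by decide) (by decide) (by decide)) d4_c226
      (by simp) r22 r6
  have r7 : RootIn chevD4 M 7 := by
    apply rule_fwd_single chevD4 hD4 M [0, 1, 2, 3] hcw 2 hb h2 1 7 (-1) (by decide) (by decide)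
    · rw [d4_rho1]; decide
    · rw [d4_rho1]; decide
    · rw [d4_rho1]; exact d4_c218
    · exact r1
    · rw [d4_rho1]; exact r18
  have r2 : RootIn chevD4 M 2 :=
    rootIn_comm chevD4 hD4 M 5 7 2 1 (hcf 5 7 (by decide) (by decide) (by decide) (by decide)) d4_c57 (by simp) r5 r7
  have hn : nWordsGL chevD4 F [0, 1, 2, 3] ∈ M := cox_mem chevD4 hD4 M [0, 1, 2, 3] hcw 2 hb h2 r2
  apply group_le_of_deriv chevD4 hD4 M [0, 1, 2, 3] hn [1, 2] d4Steps d4_deriv
  intro s hs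
  simp only [List.mem_cons, List.not_mem_nil, or_false] at hs
  rcases hs with rfl | rfl
  · exact ⟨by decide, r1⟩
  · exact ⟨by decide, r2⟩

/-- `D₄(2)` is generated by two elements -/
theorem gen_D4_q2 {F : Type*} [Field F] (hF : ∀ x : F, x = 0 ∨ x = 1) :
    ∃ a b : ↥(chevD4.group F), Subgroup.closure ({a, b} : Set ↥(chevD4.group F)) = ⊤ := by
  apply two_gen_of chevD4 (xGL chevD4 F 1 1) (xGL chevD4 F 2 1 * nWordsGL chevD4 F [0, 1, 2, 3])
    (xGL_mem_group chevD4 hD4 1 1)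
    ((chevD4.group F).mul_mem (xGL_mem_group chevD4 hD4 2 1) (nWordsGL_mem_group chevD4 hD4 _ (by decide)))
  intro M h1 h2
  exact d4_le hF M h1 h2

end Cfsg.Agent.Helper40.GenQ2
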