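import Mathlib
import Cfsg.Agent.Helper40.StCDefs
import Cfsg.Agent.Helper96.StC.Generic

/-!
# Central extensions of a group with a Steinberg family of type `C`: the lifted family (S2092, II)

Definitions only (the relations are proved in the files of the pieces):

* `Zs hπ X h3 p s t = ⁅x̃_{pk}(t), x̃_{ks}(1)⁆`: the lift of the short root element `X p s t`;
* `Ll hπ X h3 p q t u = Z_{pq}(tu)⁻¹ ⁅x̃_{p,-p}(t), x̃_{-p,q}(u)⁆`: a lift of the long root element
  `X (bar q) q (ε_p ε_q t u²)` (relation (R6));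
* `Zl hπ X h3 r w`: the lift of the long root element `X r (bar r) w`;
* `Zc hπ X h3`: the lifted family.
-/

set_option autoImplicit false

namespace Cfsg.Agent.Helper40.StCLift

open scoped commutatorElement
open Cfsg.Agent.Helper96.StN Cfsg.Agent.Helper96.StC Cfsg.Agent.Helper96.StLift

universe u v v' w

variable {K : Type u} [Field K] {D : Type v} [Group D] {E : Type v'} [Group E] {π : E →* D}
  {ι : Type w}

/-- the short root lifts -/
noncomputable def Zs (hπ : Function.Surjective π) (X : ι ⊕ ι → ι ⊕ ι → K → D)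
    (h3 : ∀ p q : ι ⊕ ι, ∃ k, AbsNe k p ∧ AbsNe k q) (p s : ι ⊕ ι) (t : K) : E :=
  lc hπ (X p (Classical.choose (h3 p s)) t) (X (Classical.choose (h3 p s)) s 1)

/-- the lift `Z_pq(tu)⁻¹ ⁅x_{p,-p}(t), x_{-p,q}(u)⁆` of `x_{-q,q}(ε t u²)` -/
noncomputable def Ll (hπ : Function.Surjective π) (X : ι ⊕ ι → ι ⊕ ι → K → D)
    (h3 : ∀ p q : ι ⊕ ι, ∃ k, AbsNe k p ∧ AbsNe k q) (p q : ι ⊕ ι) (t u : K) : E :=
  (Zs hπ X h3 p q (t * u))⁻¹ * lc hπ (X p (bar p) t) (X (bar p) q u)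

/-- the long root lifts: `Zl r w` lifts `X r (bar r) w` -/
noncomputable def Zl (hπ : Function.Surjective π) (X : ι ⊕ ι → ι ⊕ ι → K → D)
    (h3 : ∀ p q : ι ⊕ ι, ∃ k, AbsNe k p ∧ AbsNe k q) (r : ι ⊕ ι) (w : K) : E :=
  Ll hπ X h3 (Classical.choose (h3 r r)) (bar r)
    (eps K (Classical.choose (h3 r r)) (bar r) * w) 1

/-- the lifted family -/
noncomputable def Zc [DecidableEq ι] (hπ : Function.Surjective π) (X : ι ⊕ ι → ι ⊕ ι → K → D)
    (h3 : ∀ p q : ι ⊕ ι, ∃ k, AbsNe k p ∧ AbsNe k q) (p q : ι ⊕ ι) (t : K) : E :=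
  if q = bar p then Zl hπ X h3 p t else Zs hπ X h3 p q t

end Cfsg.Agent.Helper40.StCLift
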