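import Mathlib

/-!
Helper40: a homomorphism out of `SL₂(F)` from Steinberg's rank-one relations.

If `x y : F → Γ` are additive, `w(t) = x(t) y(-t⁻¹) x(t)`, `h(t) = w(t) w(1)⁻¹`,
`w(t) x(u) w(t)⁻¹ = y(-t⁻² u)` and `h` is multiplicative, then there is a homomorphism `SL₂(F) → Γ`
with `[[1,t],[0,1]] ↦ x(t)` and `[[1,0],[t,1]] ↦ y(t)`.
-/

set_option autoImplicit false

namespace Cfsg.Agent.Helper40.SL2Hom

variable {F : Type*} [Field F] {Γ : Type*} [Group Γ]

/-- `w(t) = x(t) y(-t⁻¹) x(t)` -/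
def w (x y : F → Γ) (t : F) : Γ := x t * y (-t⁻¹) * x t

/-- `h(t) = w(t) w(1)⁻¹` -/
def h (x y : F → Γ) (t : F) : Γ := w x y t * (w x y 1)⁻¹

/-- `w(-t) = w(t)⁻¹`, from additivity alone -/
theorem w_neg_of_add (x y : F → Γ) (hx : ∀ s t, x (s + t) = x s * x t) (hy : ∀ s t, y (s + t) = y s * y t)
    (t : F) : w x y (-t) = (w x y t)⁻¹ := by
  have x0 : x 0 = 1 := by simpa using hx 0 0
  have y0 : y 0 = 1 := by simpa using hy 0 0
  have xn : ∀ t, x (-t) = (x t)⁻¹ := fun t => by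
    apply eq_inv_of_mul_eq_one_left
    rw [← hx, neg_add_cancel, x0]
  have yn : ∀ t, y (-t) = (y t)⁻¹ := fun t => by
    apply eq_inv_of_mul_eq_one_left
    rw [← hy, neg_add_cancel, y0]
  unfold w
  rw [_root_.mul_inv_rev, _root_.mul_inv_rev, ← xn, ← yn, inv_neg, neg_neg, mul_assoc]

/-- Steinberg's relations in rank one -/
structure Rel (x y : F → Γ) : Prop where
  x_add : ∀ s t, x (s + t) = x s * x t
  y_add : ∀ s t, y (s + t) = y s * y t
  conj : ∀ t u, t ≠ 0 → w x y t * x u * (w x y t)⁻¹ = y (-(t⁻¹ * t⁻¹ * u))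
  h_mul : ∀ s t, s ≠ 0 → t ≠ 0 → h x y (s * t) = h x y s * h x y t

namespace Rel

variable {x y : F → Γ} (R : Rel x y)
include R

theorem x_zero : x 0 = 1 := by
  have := R.x_add 0 0
  simpa using this

theorem y_zero : y 0 = 1 := by
  have := R.y_add 0 0
  simpa using this

theorem x_neg (t : F) : x (-t) = (x t)⁻¹ := by
  apply eq_inv_of_mul_eq_one_left
  rw [← R.x_add, neg_add_cancel, R.x_zero]

theorem y_neg (t : F) : y (-t) = (y t)⁻¹ := by
  apply eq_inv_of_mul_eq_one_left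
  rw [← R.y_add, neg_add_cancel, R.y_zero]

theorem w_neg (t : F) : w x y (-t) = (w x y t)⁻¹ := by
  unfold w
  rw [_root_.mul_inv_rev, _root_.mul_inv_rev, ← R.x_neg, ← R.y_neg, inv_neg, neg_neg, mul_assoc]

theorem conj' (t u : F) (ht : t ≠ 0) : (w x y t)⁻¹ * x u * w x y t = y (-(t⁻¹ * t⁻¹ * u)) := by
  have := R.conj (-t) u (neg_ne_zero.mpr ht)
  rw [R.w_neg, inv_inv, inv_neg, neg_mul_neg] at this
  exact this

theorem conj_y (t v : F) (ht : t ≠ 0) : w x y t * y v * (w x y t)⁻¹ = x (-(t * t * v)) := by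
  have := R.conj' t (-(t * t * v)) ht
  have e : -(t⁻¹ * t⁻¹ * -(t * t * v)) = v := by field_simp
  rw [e] at this
  rw [← this]
  group

theorem conj_y' (t v : F) (ht : t ≠ 0) : (w x y t)⁻¹ * y v * w x y t = x (-(t * t * v)) := by
  have := R.conj_y (-t) v (neg_ne_zero.mpr ht)
  rw [R.w_neg, inv_inv, neg_mul_neg] at this
  exact this

omit R in
theorem h_one : h x y 1 = 1 := by
  unfold h
  rw [mul_inv_cancel]

theorem h_inv (t : F) (ht : t ≠ 0) : h x y t⁻¹ = (h x y t)⁻¹ := by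
  apply eq_inv_of_mul_eq_one_left
  rw [← R.h_mul _ _ (inv_ne_zero ht) ht, inv_mul_cancel₀ ht, h_one]

omit R in
theorem h_mul_n (t : F) : h x y t * w x y 1 = w x y t := by
  unfold h
  rw [inv_mul_cancel_right]

/-- `h(t) x(u) h(t)⁻¹ = x(t² u)` -/
theorem h_x (t u : F) (ht : t ≠ 0) : h x y t * x u * (h x y t)⁻¹ = x (t * t * u) := by
  have h1 := R.conj' 1 u one_ne_zero
  have h2 := R.conj_y t (-(1⁻¹ * 1⁻¹ * u)) ht
  rw [← h1] at h2
  have e : -(t * t * -(1⁻¹ * 1⁻¹ * u)) = t * t * u := by simp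
  rw [e] at h2
  rw [← h2]
  unfold h
  group

theorem h_x' (t u : F) (ht : t ≠ 0) : h x y t * x u = x (t * t * u) * h x y t := by
  rw [← R.h_x t u ht]
  group

/-- the symmetric form of `w` -/
theorem w_alt (s : F) (hs : s ≠ 0) : w x y s = y (-s⁻¹) * x s * y (-s⁻¹) := by
  have h1 := R.conj s s hs
  have h2 := R.conj_y s (-s⁻¹) hs
  have e1 : -(s⁻¹ * s⁻¹ * s) = -s⁻¹ := by field_simp
  have e2 : -(s * s * -s⁻¹) = s := by field_simp
  rw [e1] at h1
  rw [e2] at h2
  calc w x y s = w x y s * (x s * y (-s⁻¹) * x s) * (w x y s)⁻¹ := by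
        change w x y s = w x y s * w x y s * (w x y s)⁻¹
        group
    _ = (w x y s * x s * (w x y s)⁻¹) * (w x y s * y (-s⁻¹) * (w x y s)⁻¹) *
          (w x y s * x s * (w x y s)⁻¹) := by group
    _ = y (-s⁻¹) * x s * y (-s⁻¹) := by rw [h1, h2]

theorem n_w (t : F) (ht : t ≠ 0) : w x y 1 * w x y t * (w x y 1)⁻¹ = w x y t⁻¹ := by
  have h1 := R.conj 1 t one_ne_zero
  have h2 := R.conj_y 1 (-t⁻¹) one_ne_zero
  have h3 := R.w_alt t⁻¹ (inv_ne_zero ht)
  have e1 : -((1 : F)⁻¹ * 1⁻¹ * t) = -t := by simp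
  have e2 : -((1 : F) * 1 * -t⁻¹) = t⁻¹ := by simp
  rw [e1] at h1
  rw [e2] at h2
  rw [inv_inv] at h3
  rw [h3]
  calc w x y 1 * w x y t * (w x y 1)⁻¹
      = w x y 1 * (x t * y (-t⁻¹) * x t) * (w x y 1)⁻¹ := rfl
    _ = (w x y 1 * x t * (w x y 1)⁻¹) * (w x y 1 * y (-t⁻¹) * (w x y 1)⁻¹) *
          (w x y 1 * x t * (w x y 1)⁻¹) := by group
    _ = y (-t) * x t⁻¹ * y (-t) := by rw [h1, h2]

/-- `n h(t) n⁻¹ = h(t⁻¹)` -/
theorem n_h (t : F) (ht : t ≠ 0) : w x y 1 * h x y t * (w x y 1)⁻¹ = h x y t⁻¹ := by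
  have := R.n_w t ht
  unfold h
  rw [← this]
  group

theorem n_h' (t : F) (ht : t ≠ 0) : w x y 1 * h x y t = h x y t⁻¹ * w x y 1 := by
  rw [← R.n_h t ht]
  group

theorem h_neg_one : h x y (-1) = (w x y 1)⁻¹ * (w x y 1)⁻¹ := by
  unfold h
  rw [R.w_neg]

/-- `n² = h(-1)` -/
theorem n_sq : w x y 1 * w x y 1 = h x y (-1) := by
  have h1 : h x y (-1) * h x y (-1) = 1 := by
    rw [← R.h_mul _ _ (by simp) (by simp)]
    simp [h_one]
  have h2 := R.h_neg_one
  rw [h2] at h1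
  rw [h2]
  calc w x y 1 * w x y 1
      = w x y 1 * w x y 1 * ((w x y 1)⁻¹ * (w x y 1)⁻¹ * ((w x y 1)⁻¹ * (w x y 1)⁻¹)) := by
        rw [h1, mul_one]
    _ = (w x y 1)⁻¹ * (w x y 1)⁻¹ := by group

theorem h_neg_one_x (v : F) : h x y (-1) * x v = x v * h x y (-1) := by
  have := R.h_x' (-1) v (by simp)
  simpa using this

theorem n_h_neg_one : w x y 1 * h x y (-1) = h x y (-1) * w x y 1 := by
  rw [← R.n_sq, mul_assoc]

/-- the rank-one Bruhat relation `n x(u) n = x(-u⁻¹) h(-u⁻¹) n x(-u⁻¹)` -/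
theorem n_x_n (u : F) (hu : u ≠ 0) :
    w x y 1 * x u * w x y 1 = x (-u⁻¹) * h x y (-u⁻¹) * w x y 1 * x (-u⁻¹) := by
  have h1 := R.conj 1 u one_ne_zero
  have e1 : -((1 : F)⁻¹ * 1⁻¹ * u) = -u := by simp
  rw [e1] at h1
  -- y(-u) = x(-u⁻¹) w(u⁻¹) x(-u⁻¹)
  have h2 : y (-u) = x (-u⁻¹) * w x y u⁻¹ * x (-u⁻¹) := by
    have : w x y u⁻¹ = x u⁻¹ * y (-u) * x u⁻¹ := by
      unfold w
      rw [inv_inv]
    rw [this, R.x_neg]
    group
  have h3 : h x y (-u⁻¹) = h x y u⁻¹ * h x y (-1) := by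
    rw [← R.h_mul _ _ (inv_ne_zero hu) (by simp)]
    congr 1
    ring
  calc w x y 1 * x u * w x y 1
      = (w x y 1 * x u * (w x y 1)⁻¹) * (w x y 1 * w x y 1) := by group
    _ = x (-u⁻¹) * w x y u⁻¹ * x (-u⁻¹) * h x y (-1) := by rw [h1, h2, R.n_sq]
    _ = x (-u⁻¹) * w x y u⁻¹ * (h x y (-1) * x (-u⁻¹)) := by rw [R.h_neg_one_x]; group
    _ = x (-u⁻¹) * (h x y u⁻¹ * w x y 1) * (h x y (-1) * x (-u⁻¹)) := by rw [h_mul_n]
    _ = x (-u⁻¹) * h x y u⁻¹ * (w x y 1 * h x y (-1)) * x (-u⁻¹) := by group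
    _ = x (-u⁻¹) * h x y u⁻¹ * (h x y (-1) * w x y 1) * x (-u⁻¹) := by rw [R.n_h_neg_one]
    _ = x (-u⁻¹) * (h x y u⁻¹ * h x y (-1)) * w x y 1 * x (-u⁻¹) := by group
    _ = x (-u⁻¹) * h x y (-u⁻¹) * w x y 1 * x (-u⁻¹) := by rw [h3]

end Rel

/-- the value of the homomorphism at the matrix `[[a,b],[c,d]]` -/
noncomputable def phi (x y : F → Γ) (a b c d : F) : Γ :=
  open Classical in
  if c = 0 then x (a * b) * h x y a else x (a / c) * h x y (-c⁻¹) * w x y 1 * x (d / c)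

namespace Rel

variable {x y : F → Γ} (R : Rel x y)
include R

/-- right multiplication by `[[1,t],[0,1]]` -/
theorem phi_mul_U (a b c d t : F) (hdet : a * d - b * c = 1) :
    phi x y a (a * t + b) c (c * t + d) = phi x y a b c d * x t := by
  unfold phi
  by_cases hc : c = 0
  · subst hc
    have ha : a ≠ 0 := by
      rintro rfl
      simp at hdet
    rw [if_pos rfl, if_pos rfl]
    rw [mul_assoc, R.h_x' a t ha, ← mul_assoc, ← R.x_add]
    congr 2
    ring
  · rw [if_neg hc, if_neg hc, mul_assoc _ (x (d / c)), ← R.x_add]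
    congr 2
    field_simp
    ring

/-- right multiplication by `[[0,1],[-1,0]]` -/
theorem phi_mul_W (a b c d : F) (hdet : a * d - b * c = 1) :
    phi x y (-b) a (-d) c = phi x y a b c d * w x y 1 := by
  unfold phi
  by_cases hc : c = 0
  · subst hc
    have ha : a ≠ 0 := by
      rintro rfl
      simp at hdet
    have hd : d ≠ 0 := by
      rintro rfl
      simp at hdet
    have hd' : -d ≠ 0 := neg_ne_zero.mpr hd
    rw [if_pos rfl, if_neg hd']
    have e1 : -b / -d = a * b := by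
      field_simp
      linear_combination (-b) * hdet
    have e2 : -(-d)⁻¹ = a := by
      have : a * d = 1 := by linear_combination hdet
      rw [inv_neg, neg_neg]
      exact (eq_inv_of_mul_eq_one_left this).symm
    rw [e1, e2]
    simp [R.x_zero]
  · by_cases hd : d = 0
    · subst hd
      have hb : b ≠ 0 := by
        rintro rfl
        simp at hdet
      rw [if_pos (by simp), if_neg hc]
      have e1 : a / c = -b * a := by
        field_simp
        linear_combination (-a) * hdet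
      have e2 : -c⁻¹ = b := by
        have : b * (-c) = 1 := by linear_combination hdet
        rw [← inv_neg]
        exact (eq_inv_of_mul_eq_one_left this).symm
      rw [e1, e2]
      simp only [zero_div, R.x_zero, mul_one]
      rw [mul_assoc, mul_assoc, R.n_sq, ← R.h_mul _ _ hb (by simp)]
      simp
    · have hd' : -d ≠ 0 := neg_ne_zero.mpr hd
      rw [if_neg hd', if_neg hc]
      have hdc : d / c ≠ 0 := div_ne_zero hd hc
      have hc' : -c⁻¹ ≠ 0 := neg_ne_zero.mpr (inv_ne_zero hc)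
      have key := R.n_x_n (d / c) hdc
      calc x (-b / -d) * h x y (-(-d)⁻¹) * w x y 1 * x (c / -d)
          = x (a / c) * x ((-c⁻¹) * (-c⁻¹) * (-(d / c)⁻¹)) * (h x y (-c⁻¹) * h x y (-(d / c)⁻¹)) * w x y 1 *
              x (-(d / c)⁻¹) := by
            rw [← R.x_add, ← R.h_mul _ _ hc' (neg_ne_zero.mpr (inv_ne_zero hdc))]
            congr 2
            · congr 2
              · field_simp
                linear_combination (-1 : F) * hdet
              · field_simp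
            · field_simp
        _ = x (a / c) * (h x y (-c⁻¹) * x (-(d / c)⁻¹)) * h x y (-(d / c)⁻¹) * w x y 1 * x (-(d / c)⁻¹) := by
            rw [R.h_x' _ _ hc']
            group
        _ = x (a / c) * h x y (-c⁻¹) * (x (-(d / c)⁻¹) * h x y (-(d / c)⁻¹) * w x y 1 * x (-(d / c)⁻¹)) := by
            group
        _ = x (a / c) * h x y (-c⁻¹) * (w x y 1 * x (d / c) * w x y 1) := by rw [key]
        _ = x (a / c) * h x y (-c⁻¹) * w x y 1 * x (d / c) * w x y 1 := by group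

end Rel

/-! ### The special linear group -/

/-- `[[1,t],[0,1]]` -/
def U (t : F) : Matrix.SpecialLinearGroup (Fin 2) F := ⟨!![1, t; 0, 1], by simp [Matrix.det_fin_two]⟩

/-- `[[1,0],[t,1]]` -/
def L (t : F) : Matrix.SpecialLinearGroup (Fin 2) F := ⟨!![1, 0; t, 1], by simp [Matrix.det_fin_two]⟩

/-- `[[0,1],[-1,0]]` -/
def W : Matrix.SpecialLinearGroup (Fin 2) F := ⟨!![0, 1; -1, 0], by simp [Matrix.det_fin_two]⟩

/-- `[[0,-1],[1,0]]` -/
def W' : Matrix.SpecialLinearGroup (Fin 2) F := ⟨!![0, -1; 1, 0], by simp [Matrix.det_fin_two]⟩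

theorem U_coe (t : F) :
    ((U t : Matrix.SpecialLinearGroup (Fin 2) F) : Matrix (Fin 2) (Fin 2) F) = !![1, t; 0, 1] := rfl

theorem L_coe (t : F) :
    ((L t : Matrix.SpecialLinearGroup (Fin 2) F) : Matrix (Fin 2) (Fin 2) F) = !![1, 0; t, 1] := rfl

theorem W_coe : ((W : Matrix.SpecialLinearGroup (Fin 2) F) : Matrix (Fin 2) (Fin 2) F) = !![0, 1; -1, 0] := rfl

theorem W'_coe : ((W' : Matrix.SpecialLinearGroup (Fin 2) F) : Matrix (Fin 2) (Fin 2) F) = !![0, -1; 1, 0] := rfl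

theorem sl2_det (g : Matrix.SpecialLinearGroup (Fin 2) F) : g 0 0 * g 1 1 - g 0 1 * g 1 0 = 1 := by
  have := g.det_coe
  rw [Matrix.det_fin_two] at this
  exact this

theorem sl2_ext (g g' : Matrix.SpecialLinearGroup (Fin 2) F) (h00 : g 0 0 = g' 0 0) (h01 : g 0 1 = g' 0 1)
    (h10 : g 1 0 = g' 1 0) (h11 : g 1 1 = g' 1 1) : g = g' := by
  apply Matrix.SpecialLinearGroup.ext
  intro i j
  fin_cases i <;> fin_cases j
  · exact h00
  · exact h01
  · exact h10
  · exact h11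

theorem mul_U_apply (g : Matrix.SpecialLinearGroup (Fin 2) F) (t : F) :
    (g * U t) 0 0 = g 0 0 ∧ (g * U t) 0 1 = g 0 0 * t + g 0 1 ∧ (g * U t) 1 0 = g 1 0 ∧
      (g * U t) 1 1 = g 1 0 * t + g 1 1 := by
  simp only [Matrix.SpecialLinearGroup.coe_mul, U_coe]
  simp [Matrix.mul_apply, Fin.sum_univ_two]

theorem mul_W_apply (g : Matrix.SpecialLinearGroup (Fin 2) F) :
    (g * (W : Matrix.SpecialLinearGroup (Fin 2) F)) 0 0 = - g 0 1 ∧
    (g * (W : Matrix.SpecialLinearGroup (Fin 2) F)) 0 1 = g 0 0 ∧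
    (g * (W : Matrix.SpecialLinearGroup (Fin 2) F)) 1 0 = - g 1 1 ∧
    (g * (W : Matrix.SpecialLinearGroup (Fin 2) F)) 1 1 = g 1 0 := by
  simp only [Matrix.SpecialLinearGroup.coe_mul, W_coe]
  simp [Matrix.mul_apply, Fin.sum_univ_two]

theorem W'_mul_W : (W' : Matrix.SpecialLinearGroup (Fin 2) F) * W = 1 := by
  apply sl2_ext <;>
  · simp only [Matrix.SpecialLinearGroup.coe_mul, W_coe, W'_coe, Matrix.SpecialLinearGroup.coe_one]
    simp [Matrix.mul_apply, Fin.sum_univ_two]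

theorem W_inv : (W : Matrix.SpecialLinearGroup (Fin 2) F)⁻¹ = W' :=
  inv_eq_of_mul_eq_one_left W'_mul_W

/-- `SL₂(F)` is generated by the `U t` and `W` -/
theorem closure_U_W :
    Subgroup.closure ({g | ∃ t : F, g = U t} ∪ {W}) = (⊤ : Subgroup (Matrix.SpecialLinearGroup (Fin 2) F)) := by
  rw [eq_top_iff]
  intro g _
  set S : Subgroup (Matrix.SpecialLinearGroup (Fin 2) F) :=
    Subgroup.closure ({g | ∃ t : F, g = U t} ∪ {W}) with hS
  have hU : ∀ t : F, U t ∈ S := fun t => Subgroup.subset_closure (Or.inl ⟨t, rfl⟩)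
  have hW : (W : Matrix.SpecialLinearGroup (Fin 2) F) ∈ S := Subgroup.subset_closure (Or.inr rfl)
  have hW' : (W' : Matrix.SpecialLinearGroup (Fin 2) F) ∈ S := by
    rw [← W_inv]
    exact S.inv_mem hW
  -- the case `c ≠ 0`
  have key : ∀ g : Matrix.SpecialLinearGroup (Fin 2) F, g 1 0 ≠ 0 → g ∈ S := by
    intro g hc
    have hdet := sl2_det g
    have e : g = U ((g 0 0 - 1) / g 1 0) * (W' * U (- g 1 0) * W) * U ((g 1 1 - 1) / g 1 0) := by
      apply sl2_ext
      · simp only [Matrix.SpecialLinearGroup.coe_mul, W_coe, W'_coe, U_coe]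
        simp [Matrix.mul_apply, Fin.sum_univ_two]
        field_simp
        ring
      · simp only [Matrix.SpecialLinearGroup.coe_mul, W_coe, W'_coe, U_coe]
        simp [Matrix.mul_apply, Fin.sum_univ_two]
        field_simp
        linear_combination (-1 : F) * hdet
      · simp only [Matrix.SpecialLinearGroup.coe_mul, W_coe, W'_coe, U_coe]
        simp [Matrix.mul_apply, Fin.sum_univ_two]
      · simp only [Matrix.SpecialLinearGroup.coe_mul, W_coe, W'_coe, U_coe]
        simp [Matrix.mul_apply, Fin.sum_univ_two]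
        field_simp
        ring
    rw [e]
    exact S.mul_mem (S.mul_mem (hU _) (S.mul_mem (S.mul_mem hW' (hU _)) hW)) (hU _)
  by_cases hc : g 1 0 = 0
  · have hdet := sl2_det g
    have h1 : (g * (W : Matrix.SpecialLinearGroup (Fin 2) F)) 1 0 ≠ 0 := by
      rw [(mul_W_apply g).2.2.1]
      intro h0
      rw [neg_eq_zero] at h0
      rw [h0, hc] at hdet
      simp at hdet
    have := key _ h1
    have e : g = g * W * W⁻¹ := by group
    rw [e]
    exact S.mul_mem this (S.inv_mem hW)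
  · exact key g hc

/-- the map on `SL₂(F)` -/
noncomputable def phiFun (x y : F → Γ) (g : Matrix.SpecialLinearGroup (Fin 2) F) : Γ :=
  phi x y (g 0 0) (g 0 1) (g 1 0) (g 1 1)

namespace Rel

variable {x y : F → Γ} (R : Rel x y)
include R

omit R in
theorem phiFun_U (t : F) : phiFun x y (U t) = x t := by
  unfold phiFun phi
  simp [U_coe, h_one]

theorem phiFun_W : phiFun x y (W : Matrix.SpecialLinearGroup (Fin 2) F) = w x y 1 := by
  unfold phiFun phi
  simp [W_coe, h_one, R.x_zero]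

theorem phiFun_one : phiFun x y (1 : Matrix.SpecialLinearGroup (Fin 2) F) = 1 := by
  unfold phiFun phi
  simp [h_one, R.x_zero]

theorem phiFun_L (t : F) : phiFun x y (L t) = y t := by
  unfold phiFun phi
  by_cases ht : t = 0
  · subst ht
    simp [L_coe, h_one, R.x_zero, R.y_zero]
  · have h10 : (L t : Matrix.SpecialLinearGroup (Fin 2) F) 1 0 = t := by simp [L_coe]
    have h00 : (L t : Matrix.SpecialLinearGroup (Fin 2) F) 0 0 = 1 := by simp [L_coe]
    have h11 : (L t : Matrix.SpecialLinearGroup (Fin 2) F) 1 1 = 1 := by simp [L_coe]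
    rw [h10, h00, h11, if_neg ht, mul_assoc (x (1 / t)), h_mul_n]
    unfold w
    rw [inv_neg, neg_neg, inv_inv, one_div, R.x_neg]
    group

theorem phiFun_mul_U (g : Matrix.SpecialLinearGroup (Fin 2) F) (t : F) :
    phiFun x y (g * U t) = phiFun x y g * x t := by
  obtain ⟨h1, h2, h3, h4⟩ := mul_U_apply g t
  unfold phiFun
  rw [h1, h2, h3, h4]
  exact R.phi_mul_U _ _ _ _ t (sl2_det g)

theorem phiFun_mul_W (g : Matrix.SpecialLinearGroup (Fin 2) F) :
    phiFun x y (g * W) = phiFun x y g * w x y 1 := by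
  obtain ⟨h1, h2, h3, h4⟩ := mul_W_apply g
  unfold phiFun
  rw [h1, h2, h3, h4]
  exact R.phi_mul_W _ _ _ _ (sl2_det g)

theorem phiFun_mul (g g' : Matrix.SpecialLinearGroup (Fin 2) F) :
    phiFun x y (g * g') = phiFun x y g * phiFun x y g' := by
  have hmem : g' ∈ Subgroup.closure ({g | ∃ t : F, g = U t} ∪ {W}) := by
    rw [closure_U_W]
    trivial
  revert g
  induction hmem using Subgroup.closure_induction with
  | mem s hs =>
    intro g
    rcases hs with ⟨t, rfl⟩ | hs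
    · rw [R.phiFun_mul_U, phiFun_U]
    · rw [Set.mem_singleton_iff] at hs
      subst hs
      rw [R.phiFun_mul_W, R.phiFun_W]
  | one =>
    intro g
    rw [mul_one, R.phiFun_one, mul_one]
  | mul a b _ _ iha ihb =>
    intro g
    rw [← mul_assoc, ihb, iha, ihb a, mul_assoc]
  | inv a _ iha =>
    intro g
    have h1 := iha (g * a⁻¹)
    rw [inv_mul_cancel_right] at h1
    have h2 := iha a⁻¹
    rw [inv_mul_cancel, R.phiFun_one] at h2
    have h3 : phiFun x y a⁻¹ = (phiFun x y a)⁻¹ := eq_inv_of_mul_eq_one_left h2.symm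
    rw [h3, h1, mul_inv_cancel_right]

/-- the homomorphism -/
noncomputable def hom : Matrix.SpecialLinearGroup (Fin 2) F →* Γ where
  toFun := phiFun x y
  map_one' := R.phiFun_one
  map_mul' := R.phiFun_mul

theorem hom_U (t : F) : R.hom (U t) = x t := phiFun_U t

theorem hom_L (t : F) : R.hom (L t) = y t := R.phiFun_L t

theorem range_hom : R.hom.range = Subgroup.closure (Set.range x ∪ Set.range y) := by
  apply le_antisymm
  · rintro _ ⟨g, rfl⟩
    set C := Subgroup.closure (Set.range x ∪ Set.range y) with hC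
    have hx : ∀ t, x t ∈ C := fun t => Subgroup.subset_closure (Or.inl ⟨t, rfl⟩)
    have hy : ∀ t, y t ∈ C := fun t => Subgroup.subset_closure (Or.inr ⟨t, rfl⟩)
    have hw : ∀ t, w x y t ∈ C := fun t => C.mul_mem (C.mul_mem (hx _) (hy _)) (hx _)
    have hh : ∀ t, h x y t ∈ C := fun t => C.mul_mem (hw _) (C.inv_mem (hw _))
    change phiFun x y g ∈ C
    unfold phiFun phi
    split_ifs
    · exact C.mul_mem (hx _) (hh _)
    · exact C.mul_mem (C.mul_mem (C.mul_mem (hx _) (hh _)) (hw _)) (hx _)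
  · rw [Subgroup.closure_le]
    rintro _ (⟨t, rfl⟩ | ⟨t, rfl⟩)
    · exact ⟨U t, R.hom_U t⟩
    · exact ⟨L t, R.hom_L t⟩

end Rel

end Cfsg.Agent.Helper40.SL2Hom
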