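import Cfsg.Agent.Helper18.CommTerms
import Cfsg.Agent.Helper40.ChevAdd

/-!
Helper40: Steinberg's relations (A) (additivity) and (B) (commutator formula) in an abstract group, and the
collection process: for a positive system `{φ > 0}` (`φ` additive and injective on the roots) every element of the
subgroup generated by the root elements of that system is an ordered product `∏ x_a(t_a)`.
-/

set_option autoImplicit false

namespace Cfsg.Agent.Helper40.St

open Cfsg Cfsg.Lie Cfsg.Agent.Helper18

set_option linter.unusedSectionVars false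

section
variable {K : Type*} [Field K] (D : ChevalleyDatum) {Γ : Type*} [Group Γ]

/-- the product of a word of root elements -/
def wordG (X : ℕ → K → Γ) (w : List (ℕ × K)) : Γ := (w.map fun p => X p.1 p.2).prod

/-- Steinberg's relations (A) and (B) -/
structure Rels (X : ℕ → K → Γ) : Prop where
  add : ∀ r < D.nroots, ∀ t u : K, X r (t + u) = X r t * X r u
  comm : ∀ r s, r < D.nroots → s < D.nroots → s ≠ r → s ≠ D.neg r → ∀ t u : K,
    X s u * X r t = X r t * X s u * wordG X (D.commWord K r s t u)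

/-- the ordered product `∏_{r ∈ L} x_r(t r)` -/
def pwG (X : ℕ → K → Γ) (L : List ℕ) (t : ℕ → K) : Γ := (L.map fun r => X r (t r)).prod

variable {D}
variable {X : ℕ → K → Γ}

theorem pwG_nil (t : ℕ → K) : pwG X [] t = 1 := by simp [pwG]

theorem pwG_cons (r : ℕ) (L : List ℕ) (t : ℕ → K) : pwG X (r :: L) t = X r (t r) * pwG X L t := by
  simp [pwG]

theorem pwG_congr (L : List ℕ) (t t' : ℕ → K) (h : ∀ r ∈ L, t r = t' r) : pwG X L t = pwG X L t' := by
  unfold pwG
  congr 1
  apply List.map_congr_left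
  intro r hr
  rw [h r hr]

theorem wordG_cons (e : ℕ × K) (w : List (ℕ × K)) : wordG X (e :: w) = X e.1 e.2 * wordG X w := by
  simp [wordG]

theorem wordG_append (w₁ w₂ : List (ℕ × K)) : wordG X (w₁ ++ w₂) = wordG X w₁ * wordG X w₂ := by
  simp [wordG, List.map_append, List.prod_append]

namespace Rels

variable (R : Rels D X)
include R

theorem X_zero (r : ℕ) (hr : r < D.nroots) : X r 0 = 1 := by
  have := R.add r hr 0 0
  simpa using this

theorem X_neg (r : ℕ) (hr : r < D.nroots) (t : K) : X r (-t) = (X r t)⁻¹ := by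
  apply eq_inv_of_mul_eq_one_left
  rw [← R.add r hr, neg_add_cancel, R.X_zero r hr]

end Rels

/-- the set of ordered products over `L` is stable under left multiplication by the `x_s(u)`, `s ∈ L` -/
def Good (X : ℕ → K → Γ) (L : List ℕ) : Prop :=
  ∀ s ∈ L, ∀ (u : K) (t : ℕ → K), ∃ t' : ℕ → K, X s u * pwG X L t = pwG X L t'

theorem good_word {L : List ℕ} (hG : Good X L) (w : List (ℕ × K)) (hw : ∀ e ∈ w, e.1 ∈ L) (t : ℕ → K) :
    ∃ t' : ℕ → K, wordG X w * pwG X L t = pwG X L t' := by
  induction w with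
  | nil => exact ⟨t, by simp [wordG]⟩
  | cons e w ih =>
    obtain ⟨t1, h1⟩ := ih (fun e' he' => hw e' (List.mem_cons_of_mem _ he'))
    obtain ⟨t2, h2⟩ := hG e.1 (hw e List.mem_cons_self) e.2 t1
    exact ⟨t2, by rw [wordG_cons, mul_assoc, h1, h2]⟩

theorem good_cons (R : Rels D X) (r : ℕ) (hrn : r < D.nroots) (L : List ℕ) (hLn : ∀ s ∈ L, s < D.nroots)
    (hr : r ∉ L) (hnr : D.neg r ∉ L) (hG : Good X L)
    (hterms : ∀ s ∈ L, ∀ c ∈ D.commTerms r s, c.1 ∈ L) : Good X (r :: L) := by
  intro s hs0 u t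
  rw [pwG_cons]
  rcases List.mem_cons.mp hs0 with hsr0 | hs
  · subst hsr0
    refine ⟨Function.update t s (u + t s), ?_⟩
    rw [pwG_cons, ← mul_assoc, ← R.add s hrn, Function.update_self]
    congr 1
    apply pwG_congr
    intro x hx
    rw [Function.update_of_ne]
    rintro rfl
    exact hr hx
  · have hsr : s ≠ r := fun e => hr (e ▸ hs)
    have hsn : s ≠ D.neg r := fun e => hnr (e ▸ hs)
    have h1 := R.comm r s hrn (hLn s hs) hsr hsn (t r) u
    have hw : ∀ e ∈ D.commWord K r s (t r) u, e.1 ∈ L := by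
      intro e he
      unfold ChevalleyDatum.commWord at he
      obtain ⟨c, hc, rfl⟩ := List.mem_map.mp he
      exact hterms s hs c hc
    obtain ⟨t1, e1⟩ := good_word hG _ hw t
    obtain ⟨t2, e2⟩ := hG s hs u t1
    refine ⟨Function.update t2 r (t r), ?_⟩
    rw [← mul_assoc, h1, mul_assoc, mul_assoc, e1, e2, pwG_cons, Function.update_self]
    congr 1
    apply pwG_congr
    intro x hx
    rw [Function.update_of_ne]
    rintro rfl
    exact hr hx

/-- elements of a list with strictly increasing keys after a given one -/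
theorem mem_of_suffix_of_lt' {φ : ℕ → ℤ} {P : List ℕ} (hP : P.Pairwise (fun a b => φ a < φ b)) {r : ℕ}
    {L : List ℕ} (hL : (r :: L) <:+ P) {x : ℕ} (hx : x ∈ P) (hrx : φ r < φ x) : x ∈ L := by
  obtain ⟨A, rfl⟩ := hL
  rw [List.pairwise_append] at hP
  rcases List.mem_append.mp hx with h | h
  · have := hP.2.2 x h r List.mem_cons_self
    omega
  · rcases List.mem_cons.mp h with rfl | h
    · omega
    · exact h

theorem good_of_suffix (R : Rels D X) (φ : ℕ → ℤ) (P : List ℕ) (hP : P.Pairwise (fun a b => φ a < φ b))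
    (hPn : ∀ s ∈ P, s < D.nroots ∧ D.neg s ∉ P)
    (H : ∀ r ∈ P, ∀ s ∈ P, φ r < φ s → ∀ c ∈ D.commTerms r s, c.1 ∈ P ∧ φ r < φ c.1)
    (L : List ℕ) (hL : L <:+ P) : Good X L := by
  induction L with
  | nil => intro s hs; cases hs
  | cons r L ih =>
    have hL' : L <:+ P := (List.suffix_cons r L).trans hL
    have hsub : (r :: L).Pairwise (fun a b => φ a < φ b) := hP.sublist hL.sublist
    rw [List.pairwise_cons] at hsub
    have hrP : r ∈ P := hL.subset List.mem_cons_self
    apply good_cons R r (hPn r hrP).1 L (fun s hs => (hPn s (hL'.subset hs)).1) _ _ (ih hL')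
    · intro s hs c hc
      obtain ⟨h1, h2⟩ := H r hrP s (hL'.subset hs) (hsub.1 s hs) c hc
      exact mem_of_suffix_of_lt' hP hL h1 h2
    · intro hr
      have := hsub.1 r hr
      omega
    · intro hnr
      exact (hPn r hrP).2 (hL'.subset hnr)

/-- every element of the subgroup generated by the root elements of a good list is an ordered product -/
theorem exists_pwG (R : Rels D X) (L : List ℕ) (hLn : ∀ s ∈ L, s < D.nroots) (hG : Good X L) (g : Γ)
    (hg : g ∈ Subgroup.closure {g | ∃ a ∈ L, ∃ t : K, g = X a t}) : ∃ t : ℕ → K, g = pwG X L t := by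
  induction hg using Subgroup.closure_induction_left with
  | one =>
    refine ⟨fun _ => 0, ?_⟩
    unfold pwG
    symm
    apply List.prod_eq_one
    intro x hx
    obtain ⟨a, ha, rfl⟩ := List.mem_map.mp hx
    exact R.X_zero a (hLn a ha)
  | mul_left x hx y _ ih =>
    obtain ⟨a, ha, t, rfl⟩ := hx
    obtain ⟨t0, rfl⟩ := ih
    obtain ⟨t', ht'⟩ := hG a ha t t0
    exact ⟨t', ht'⟩
  | inv_mul_cancel x hx y _ ih =>
    obtain ⟨a, ha, t, rfl⟩ := hx
    obtain ⟨t0, rfl⟩ := ih
    rw [← R.X_neg a (hLn a ha)]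
    obtain ⟨t', ht'⟩ := hG a ha (-t) t0
    exact ⟨t', ht'⟩

end

/-! ### positive systems -/

/-- the roots with `φ > 0`, sorted by `φ` -/
def posList (D : ChevalleyDatum) (φ : ℕ → ℤ) : List ℕ :=
  ((List.range D.nroots).filter fun a => decide (0 < φ a)).mergeSort (fun a b => decide (φ a ≤ φ b))

theorem mem_posList (D : ChevalleyDatum) (φ : ℕ → ℤ) (a : ℕ) : a ∈ posList D φ ↔ a < D.nroots ∧ 0 < φ a := by
  unfold posList
  rw [List.mem_mergeSort, List.mem_filter, List.mem_range, decide_eq_true_eq]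

/-- a regular additive functional on the roots -/
structure Reg (D : ChevalleyDatum) (φ : ℕ → ℤ) : Prop where
  add : ∀ v < D.nroots, IsAdditiveAt D φ v
  inj : ∀ a < D.nroots, ∀ b < D.nroots, φ a = φ b → a = b

theorem posList_sorted {D : ChevalleyDatum} {φ : ℕ → ℤ} (h : Reg D φ) :
    (posList D φ).Pairwise (fun a b => φ a < φ b) := by
  have h1 : (posList D φ).Pairwise (fun a b => decide (φ a ≤ φ b) = true) := by
    unfold posList
    apply List.pairwise_mergeSort
    · intro a b c hab hbc
      rw [decide_eq_true_eq] at *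
      omega
    · intro a b
      rw [Bool.or_eq_true, decide_eq_true_eq, decide_eq_true_eq]
      omega
  have h2 : (posList D φ).Nodup := by
    unfold posList
    rw [(List.mergeSort_perm _ _).nodup_iff]
    exact (List.nodup_range).filter _
  have h3 := h1.and h2
  refine h3.imp_of_mem ?_
  intro a b ha hb hab
  obtain ⟨h4, h5⟩ := hab
  rw [decide_eq_true_eq] at h4
  have ha' := ((mem_posList D φ a).mp ha).1
  have hb' := ((mem_posList D φ b).mp hb).1
  have : φ a ≠ φ b := fun e => h5 (h.inj a ha' b hb' e)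
  omega

section
variable {K : Type*} [Field K] {D : ChevalleyDatum} {Γ : Type*} [Group Γ] {X : ℕ → K → Γ}

theorem good_posList (hD : D ∈ [chevG2, chevB2, chevD4, chevF4, chevE6, chevE7, chevE8]) (R : Rels D X)
    {φ : ℕ → ℤ} (h : Reg D φ) : Good X (posList D φ) := by
  apply good_of_suffix R φ (posList D φ) (posList_sorted h) _ _ _ List.suffix_rfl
  · intro s hs
    rw [mem_posList] at hs
    refine ⟨hs.1, ?_⟩
    intro hn
    rw [mem_posList] at hn
    have := (h.add s hs.1).1
    omega
  · intro r hr s hs hrs c hc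
    rw [mem_posList] at hr hs
    obtain ⟨h1, h2, h3, h4⟩ := commTerms_lvl D hD φ h.add r s hr.1 hs.1 c hc
    have h5 : φ r < φ c.1 := by
      rw [h2]
      have : (1 : ℤ) ≤ (c.2.2.1 : ℤ) := by exact_mod_cast h3
      have : (1 : ℤ) ≤ (c.2.2.2 : ℤ) := by exact_mod_cast h4
      nlinarith
    refine ⟨?_, h5⟩
    rw [mem_posList]
    exact ⟨h1, by omega⟩

/-- every element of the subgroup generated by the root elements of a positive system is an ordered product -/
theorem exists_pwG_posList (hD : D ∈ [chevG2, chevB2, chevD4, chevF4, chevE6, chevE7, chevE8]) (R : Rels D X)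
    {φ : ℕ → ℤ} (h : Reg D φ) (g : Γ)
    (hg : g ∈ Subgroup.closure {g | ∃ a < D.nroots, 0 < φ a ∧ ∃ t : K, g = X a t}) :
    ∃ t : ℕ → K, g = pwG X (posList D φ) t := by
  apply exists_pwG R (posList D φ) (fun s hs => ((mem_posList D φ s).mp hs).1) (good_posList hD R h)
  have : {g | ∃ a < D.nroots, 0 < φ a ∧ ∃ t : K, g = X a t} = {g | ∃ a ∈ posList D φ, ∃ t : K, g = X a t} := by
    ext g
    constructor
    · rintro ⟨a, ha, hp, t, rfl⟩
      exact ⟨a, (mem_posList D φ a).mpr ⟨ha, hp⟩, t, rfl⟩
    · rintro ⟨a, ha, t, rfl⟩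
      rw [mem_posList] at ha
      exact ⟨a, ha.1, ha.2, t, rfl⟩
  rw [← this]
  exact hg

end

end Cfsg.Agent.Helper40.St
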