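import Cfsg.Agent.Helper18.CommTerms
import Cfsg.Agent.Helper40.StColl

/-!
Helper40: regular additive functionals on the roots from integer combinations of the rows of the Cartan table,
and the standard one (positive exactly on the positive roots).
-/

set_option autoImplicit false

namespace Cfsg.Agent.Helper40.St

open Cfsg Cfsg.Lie Cfsg.Agent.Helper18

theorem isAdditiveAt_neg {D : ChevalleyDatum} {f : ℕ → ℤ} {s : ℕ} (h : IsAdditiveAt D f s) :
    IsAdditiveAt D (fun u => - f u) s := by
  obtain ⟨h1, h2⟩ := h
  refine ⟨?_, ?_⟩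
  · simp only [h1]
  · intro v u km hkm
    have := h2 v u km hkm
    simp only [this]
    ring

theorem Reg.neg {D : ChevalleyDatum} {φ : ℕ → ℤ} (h : Reg D φ) : Reg D (fun u => - φ u) where
  add := fun v hv => isAdditiveAt_neg (h.add v hv)
  inj := fun a ha b hb e => h.inj a ha b hb (by simpa using e)

/-- the values of the functional `lvlFast D m` are pairwise different -/
def regOK (D : ChevalleyDatum) (m : List ℤ) : Bool :=
  decide (((List.range D.nroots).map (lvlFast D m)).Nodup)

theorem isAdditiveAt_lvlF_of_mem (D : ChevalleyDatum)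
    (hD : D ∈ [chevG2, chevB2, chevD4, chevF4, chevE6, chevE7, chevE8]) (m : List ℤ) (s : ℕ) (hs : s < D.nroots) :
    IsAdditiveAt D (lvlF D m) s := by
  have hadd := addAllOK_of_mem D hD
  apply isAdditiveAt_lvlF
  intro j hj
  unfold addAllOK at hadd
  rw [List.all_eq_true] at hadd
  exact isAdditiveAt_cartan D j (hadd j (List.mem_range.mpr hj)) s hs

theorem reg_of_regOK (D : ChevalleyDatum) (hD : D ∈ [chevG2, chevB2, chevD4, chevF4, chevE6, chevE7, chevE8])
    (m : List ℤ) (h : regOK D m = true) : Reg D (lvlF D m) where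
  add := fun v hv => isAdditiveAt_lvlF_of_mem D hD m v hv
  inj := by
    intro a ha b hb e
    have hadd := addAllOK_of_mem D hD
    unfold regOK at h
    rw [decide_eq_true_eq] at h
    apply List.inj_on_of_nodup_map h (List.mem_range.mpr ha) (List.mem_range.mpr hb)
    rw [lvlFast_eq D hadd m a ha, lvlFast_eq D hadd m b hb, e]

/-- `lvlFast D m` is regular and positive exactly on the positive roots -/
def posRegOK (D : ChevalleyDatum) (m : List ℤ) : Bool :=
  regOK D m && (List.range D.nroots).all fun u =>
    (decide (0 < lvlFast D m u) == decide (hlfOf D ≤ u)) && decide (lvlFast D m u ≠ 0)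

set_option maxRecDepth 100000 in
theorem posRegOK_G2 : posRegOK chevG2 [4, 7] = true := by decide +kernel
set_option maxRecDepth 100000 in
theorem posRegOK_B2 : posRegOK chevB2 [2, 3] = true := by decide +kernel
set_option maxRecDepth 100000 in
theorem posRegOK_D4 : posRegOK chevD4 [22, 38, 21, 23] = true := by decide +kernel
set_option maxRecDepth 100000 in
theorem posRegOK_F4 : posRegOK chevF4 [28, 55, 77, 40] = true := by decide +kernel
set_option maxRecDepth 100000 in
theorem posRegOK_E6 : posRegOK chevE6 [176, 252, 331, 480, 347, 181] = true := by decide +kernel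
set_option maxRecDepth 100000 in
theorem posRegOK_E7 : posRegOK chevE7 [192, 286, 379, 553, 425, 288, 149] = true := by decide +kernel
set_option maxRecDepth 100000 in
theorem posRegOK_E8 : posRegOK chevE8 [737, 1083, 1459, 2158, 1763, 1344, 904, 458] = true := by decide +kernel

/-- the standard positive system as the positive system of a regular functional -/
theorem exists_posFun (D : ChevalleyDatum) (hD : D ∈ [chevG2, chevB2, chevD4, chevF4, chevE6, chevE7, chevE8]) :
    ∃ φ : ℕ → ℤ, Reg D φ ∧ ∀ u < D.nroots, (0 < φ u ↔ hlfOf D ≤ u) ∧ φ u ≠ 0 := by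
  have key : ∀ m : List ℤ, posRegOK D m = true →
      ∃ φ : ℕ → ℤ, Reg D φ ∧ ∀ u < D.nroots, (0 < φ u ↔ hlfOf D ≤ u) ∧ φ u ≠ 0 := by
    intro m hm
    unfold posRegOK at hm
    rw [Bool.and_eq_true, List.all_eq_true] at hm
    refine ⟨lvlF D m, reg_of_regOK D hD m hm.1, ?_⟩
    intro u hu
    have h1 := hm.2 u (List.mem_range.mpr hu)
    rw [Bool.and_eq_true, beq_iff_eq, decide_eq_decide, decide_eq_true_eq] at h1
    rw [← lvlFast_eq D (addAllOK_of_mem D hD) m u hu]
    exact h1
  have hD' := hD
  simp only [List.mem_cons, List.not_mem_nil, or_false] at hD'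
  rcases hD' with rfl | rfl | rfl | rfl | rfl | rfl | rfl
  · exact key _ posRegOK_G2
  · exact key _ posRegOK_B2
  · exact key _ posRegOK_D4
  · exact key _ posRegOK_F4
  · exact key _ posRegOK_E6
  · exact key _ posRegOK_E7
  · exact key _ posRegOK_E8

end Cfsg.Agent.Helper40.St
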