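import Cfsg.Agent.Helper40.StPres
import Cfsg.Agent.S1042
import Cfsg.Agent.S0312
import Cfsg.Agent.S1051

/-!
Helper40: the relators (R3) hold in the Chevalley group; the Chevalley group has trivial centre.
-/

set_option autoImplicit false
set_option linter.unusedSectionVars false

namespace Cfsg.Agent.Helper40.St

open Cfsg Cfsg.Lie Cfsg.Agent.Helper18 Cfsg.Agent.Helper40.ChevAdd Cfsg.Agent.Helper40.SL2Chev

section
variable {K : Type*} [Field K] (D : ChevalleyDatum) (hadd : ChevAdd.addOK D = true)

theorem wGL_hWord (r : ℕ) (t : K) : wGL D hadd (D.hWord r t) = hG D hadd r t := by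
  apply Units.ext
  rw [coe_wGL, coe_hG]
  rfl

/-- (R1), (R2), (R3) hold in the Chevalley group -/
theorem lift_rels (hD : D ∈ [chevG2, chevB2, chevD4, chevF4, chevE6, chevE7, chevE8]) :
    ∀ g ∈ D.steinbergRels K, FreeGroup.lift (fGL D hadd) g = 1 := by
  intro g hg
  rcases hg with hg | ⟨r, t₁, t₂, hr, h1, h2, rfl⟩
  · exact lift_relsAB D hadd hD g hg
  · unfold ChevalleyDatum.stH
    rw [map_mul, map_mul, map_inv, lift_stWord, lift_stWord, lift_stWord, wGL_hWord, wGL_hWord, wGL_hWord]
    have := (rel (F := K) D hadd hD r hr).h_mul t₁ t₂ h1 h2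
    unfold hG
    rw [this, mul_inv_cancel]

theorem relsAB_subset : D.steinbergRelsAB K ⊆ D.steinbergRels K := fun _ h => Or.inl h

/-- the Chevalley group has trivial centre -/
theorem center_group_eq_bot (hD : D ∈ [chevG2, chevB2, chevD4, chevF4, chevE6, chevE7, chevE8]) :
    Subgroup.center ↥(D.group K) = ⊥ := by
  obtain ⟨P, hB, -, -⟩ := Cfsg.Agent.S1042.result (F := K) D hD
  have h1 := Cfsg.Agent.S0312.result P (J := ∅) (Set.empty_subset _)
  have hpar : P.parabolic ∅ = P.B := by
    unfold BNPair.parabolic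
    rw [Subgroup.closure_empty, sup_bot_eq]
  rw [hpar] at h1
  have h2 : Subgroup.center ↥(D.group K) ≤ P.B := by
    rw [← h1]
    exact Subgroup.center_le_normalizer _
  have h3 := Cfsg.Agent.S1051.result (F := K) D hD
  rw [← hB] at h3
  rw [eq_bot_iff, ← h3]
  exact (Subgroup.normal_le_normalCore).mpr h2

end

end Cfsg.Agent.Helper40.St
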