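import Cfsg.Agent.Helper40.StH
import Cfsg.Agent.Helper40.StPres2

/-!
Helper40: the kernel of the projection of Steinberg's presented group onto the Chevalley group lies in `H̄`.
-/

set_option autoImplicit false
set_option linter.unusedSectionVars false

namespace Cfsg.Agent.Helper40.St

open Cfsg Cfsg.Lie Cfsg.Agent.Helper18 Cfsg.Agent.Helper40.ChevAdd Cfsg.Agent.Helper40.SL2Chev
  Cfsg.Agent.Helper40.SL2Hom

section
variable {K : Type*} [Field K] {D : ChevalleyDatum} (hadd : ChevAdd.addOK D = true)

theorem mk_stWord (rels : Set (FreeGroup (Fin D.nroots × K))) (wd : List (ℕ × K)) :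
    PresentedGroup.mk rels (D.stWord wd) = wordG (fun r t => PresentedGroup.mk rels (D.stX r t)) wd := by
  unfold wordG ChevalleyDatum.stWord
  rw [map_list_prod, List.map_map]
  rfl

theorem mk_stH (rels : Set (FreeGroup (Fin D.nroots × K))) (r : ℕ) (t : K) :
    PresentedGroup.mk rels (D.stH r t) =
      nbar D (fun r t => PresentedGroup.mk rels (D.stX r t)) r t *
        nbar D (fun r t => PresentedGroup.mk rels (D.stX r t)) r (-1) := by
  unfold ChevalleyDatum.stH ChevalleyDatum.hWord
  rw [mk_stWord, wordG_append]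
  unfold ChevalleyDatum.nWord nbar w wordG
  simp [mul_assoc]

/-- a homomorphism from a presented group (relators containing (R1), (R2), holding in the Chevalley group) to the
Chevalley group with the expected values on the generators: its kernel lies in `H̄` -/
theorem presented_ker_le (hD : D ∈ [chevG2, chevB2, chevD4, chevF4, chevE6, chevE7, chevE8])
    (rels : Set (FreeGroup (Fin D.nroots × K))) (hAB : D.steinbergRelsAB K ⊆ rels)
    (hG : ∀ g ∈ rels, FreeGroup.lift (fGL D hadd) g = 1)
    (θ : PresentedGroup rels →* ↥(D.group K))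
    (hθ : ∀ (r : ℕ) (t : K), r < D.nroots →
      ((θ (PresentedGroup.mk rels (D.stX r t)) : GL D.Idx K) : Matrix D.Idx D.Idx K) = D.x K r t) :
    θ.ker ≤ Subgroup.closure {h | ∃ (i : ℕ) (t : K), i < D.rank ∧ t ≠ 0 ∧
      h = PresentedGroup.mk rels (D.stH (D.simple i) t)} := by
  have O : Over D hadd (fun r t => PresentedGroup.mk rels (D.stX r t)) ((D.group K).subtype.comp θ) :=
    { toRels := (over_presented hadd rels hAB hG).toRels
      π_X := by
        intro r hr t
        apply Units.ext
        rw [coe_xGL, ← hθ r t hr]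
        rfl }
  have h1 := ker_le_HB hD O (gen_presented rels)
  obtain ⟨φ, S⟩ := exists_std D hD
  intro g hg
  have hg' : g ∈ ((D.group K).subtype.comp θ).ker := by
    rw [MonoidHom.mem_ker] at hg ⊢
    rw [MonoidHom.comp_apply, hg, map_one]
  have h2 := h1 hg'
  have h3 : HB D (fun r t => PresentedGroup.mk rels (D.stX r t)) ≤
      Subgroup.closure {h | ∃ (i : ℕ) (t : K), i < D.rank ∧ t ≠ 0 ∧
        h = PresentedGroup.mk rels (D.stH (D.simple i) t)} := by
    unfold HB
    apply Subgroup.closure_mono
    rintro x ⟨i, hi, t, ht, rfl⟩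
    refine ⟨i, t, hi, ht, ?_⟩
    have hp := S.simple_lt i hi
    rw [mk_stH, ← nbar_inv O.toRels _ hp (S.neg_lt _ hp)]
    rfl
  exact h3 h2

end

end Cfsg.Agent.Helper40.St
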