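import Cfsg.Agent.Helper40.StCentral
import Cfsg.Agent.Helper18.BNStruct

/-!
Helper40: in a group `Γ` generated by root elements satisfying Steinberg's relations (A), (B), (C) and lying over the
Chevalley group, the kernel of the projection lies in the subgroup `H̄` generated by the `h̄_p(t)`, `p` fundamental.
-/

set_option autoImplicit false
set_option linter.unusedSectionVars false

namespace Cfsg.Agent.Helper40.St

open Cfsg Cfsg.Lie Cfsg.Agent.Helper18 Cfsg.Agent.Helper40.ChevAdd Cfsg.Agent.Helper40.UProd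
  Cfsg.Agent.Helper40.SL2Hom Cfsg.Agent.Helper40.SL2Chev Cfsg.Agent.Helper40.NMono

section
variable {K : Type*} [Field K] {D : ChevalleyDatum} {Γ : Type*} [Group Γ] {X : ℕ → K → Γ}
  {hadd : ChevAdd.addOK D = true} {π : Γ →* GL D.Idx K}

theorem xGL_inj (hD : D ∈ [chevG2, chevB2, chevD4, chevF4, chevE6, chevE7, chevE8]) (s : ℕ) (hs : s < D.nroots)
    (a b : K) (h : xGL D hadd K s a = xGL D hadd K s b) : a = b := by
  have h1 : xGL D hadd K s (a - b) = 1 := by
    rw [sub_eq_add_neg, ← xGL_add, h, xGL_add, add_neg_cancel, xGL_zero]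
  have h2 := congrArg (fun g : GL D.Idx K => (g : Matrix D.Idx D.Idx K)) h1
  simp only [coe_xGL, Units.val_one] at h2
  exact sub_eq_zero.mp ((Cfsg.Agent.S1024.result D hD s hs _).mp h2)

/-- the kernel of `π` lies in `N̄` -/
theorem ker_le_NG (hD : D ∈ [chevG2, chevB2, chevD4, chevF4, chevE6, chevE7, chevE8]) (O : Over D hadd X π)
    (gen : Subgroup.closure {g | ∃ r < D.nroots, ∃ t : K, g = X r t} = ⊤) : π.ker ≤ NG D X := by
  obtain ⟨φ, S⟩ := exists_std D hD
  intro g hg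
  have hcen := ker_le_center hD O gen
  obtain ⟨ub, hub, n, hn, u', hu', rfl⟩ := mem_BS hD O S gen g
  rw [MonoidHom.mem_ker, map_mul, map_mul] at hg
  have h1 : π n = (π ub)⁻¹ * (π u')⁻¹ := by
    rw [← mul_one (π ub)⁻¹, ← hg]
    group
  have h2 : π n ∈ D.posUnipotent K ⊓ D.monomialSubgroup K := by
    refine ⟨?_, π_NG hD O S n hn⟩
    rw [h1]
    exact Subgroup.mul_mem _ (Subgroup.inv_mem _ (π_UG_pos hD O S ub hub))
      (Subgroup.inv_mem _ (π_UG_pos hD O S u' hu'))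
  rw [posUnipotent_inf_monomialSubgroup D hD, Subgroup.mem_bot] at h2
  have h3 : ub * u' = 1 := by
    apply transfer hD O S.reg _ _ ((UG D X φ).mul_mem hub hu') (Subgroup.one_mem _)
    rw [map_mul, map_one]
    rw [h2, mul_one] at hg
    exact hg
  have h5 : n ∈ Subgroup.center Γ := hcen (MonoidHom.mem_ker.mpr h2)
  rw [Subgroup.mem_center_iff] at h5
  rw [h5 ub, mul_assoc, h3, mul_one]
  exact hn

/-- the action of `n̄_p(1)` on a pair of opposite root elements -/
theorem nbar_one_act (hD : D ∈ [chevG2, chevB2, chevD4, chevF4, chevE6, chevE7, chevE8]) (O : Over D hadd X π)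
    {φ : ℕ → ℤ} (S : Std D φ) (i : ℕ) (hi : i < D.rank) (s : ℕ) (hs : s < D.nroots) :
    ∃ e : K, (e = 1 ∨ e = -1) ∧
      (∀ u : K, nbar D X (D.simple i) 1 * X s u * (nbar D X (D.simple i) 1)⁻¹ = X (D.reflectRoot i s) (e * u)) ∧
      ∀ u : K, nbar D X (D.simple i) 1 * X (D.neg s) u * (nbar D X (D.simple i) 1)⁻¹ =
        X (D.neg (D.reflectRoot i s)) (e * u) := by
  obtain ⟨π', η, hn, hπ, he⟩ := Cfsg.Agent.Helper40.NData.exists_tables D hD i hi
  have hn' := hn
  unfold nOK at hn'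
  rw [Bool.and_eq_true] at hn'
  have hsp := monoOK_spec D i π' η hn'.1
  unfold etaOK at he
  simp only [Bool.and_eq_true, decide_eq_true_eq, List.all_eq_true, List.mem_range] at he
  obtain ⟨-, e3⟩ := he
  have hp := S.simple_lt i hi
  have hnp := S.neg_lt _ hp
  have hns := S.neg_lt s hs
  have hη : η s = 1 ∨ η s = -1 := (hsp s hs).2.1
  have hηn : η (D.neg s) = η s := by
    have := (e3 s hs).2
    rcases hη with h1 | h1
    · rw [h1] at this ⊢; omega
    · rw [h1] at this ⊢; omega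
  have key : ∀ r < D.nroots, ∀ u : K,
      nbar D X (D.simple i) 1 * X r u * (nbar D X (D.simple i) 1)⁻¹ = X (D.reflectRoot i r) (((η r : ℤ) : K) * u) := by
    intro r hr u
    obtain ⟨hrs, c, hc, e1⟩ := nbar_act hD O S i hi 1 one_ne_zero r hr
    have e2 := congrArg π (e1 1)
    rw [map_mul, map_mul, map_inv, π_nbar O _ hp hnp, O.π_X r hr, O.π_X _ hrs, nconj D hadd i π' η hn r hr 1,
      piOK_spec hπ r hr] at e2
    have e3 := xGL_inj hD _ hrs _ _ e2
    rw [mul_one, mul_one] at e3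
    rw [e1 u, ← e3]
  refine ⟨((η s : ℤ) : K), ?_, key s hs, ?_⟩
  · rcases hη with h1 | h1 <;> rw [h1] <;> simp
  · intro u
    rw [key _ hns u, S.refl_neg i hi s hs, hηn]

/-- the action of `n̄_p(1)` on `n̄_r(t)` -/
theorem nbar_one_conj_nbar (hD : D ∈ [chevG2, chevB2, chevD4, chevF4, chevE6, chevE7, chevE8]) (O : Over D hadd X π)
    {φ : ℕ → ℤ} (S : Std D φ) (i : ℕ) (hi : i < D.rank) (s : ℕ) (hs : s < D.nroots) :
    ∃ e : K, (e = 1 ∨ e = -1) ∧ ∀ t : K,
      nbar D X (D.simple i) 1 * nbar D X s t * (nbar D X (D.simple i) 1)⁻¹ = nbar D X (D.reflectRoot i s) (e * t) := by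
  obtain ⟨e, he, h1, h2⟩ := nbar_one_act hD O S i hi s hs
  refine ⟨e, he, fun t => ?_⟩
  unfold nbar w
  have : ∀ n a b c : Γ, n * (a * b * c) * n⁻¹ = (n * a * n⁻¹) * (n * b * n⁻¹) * (n * c * n⁻¹) := by
    intro n a b c
    group
  show (X (D.simple i) 1 * X (D.neg (D.simple i)) (-(1 : K)⁻¹) * X (D.simple i) 1) *
      (X s t * X (D.neg s) (-t⁻¹) * X s t) *
      (X (D.simple i) 1 * X (D.neg (D.simple i)) (-(1 : K)⁻¹) * X (D.simple i) 1)⁻¹ = _
  have h1' := h1
  have h2' := h2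
  unfold nbar w at h1' h2'
  rw [this, h1', h2', sign1 e t he]

/-- `h̄_r(t) = n̄_r(t) n̄_r(1)⁻¹` -/
def hbar (D : ChevalleyDatum) (X : ℕ → K → Γ) (r : ℕ) (t : K) : Γ := nbar D X r t * (nbar D X r 1)⁻¹

/-- the subgroup `H̄` generated by the `h̄_p(t)`, `p` fundamental -/
def HB (D : ChevalleyDatum) (X : ℕ → K → Γ) : Subgroup Γ :=
  Subgroup.closure {g | ∃ i < D.rank, ∃ t : K, t ≠ 0 ∧ g = hbar D X (D.simple i) t}

theorem hbar_mem_HB (i : ℕ) (hi : i < D.rank) (t : K) (ht : t ≠ 0) : hbar D X (D.simple i) t ∈ HB D X :=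
  Subgroup.subset_closure ⟨i, hi, t, ht, rfl⟩

theorem π_hbar (O : Over D hadd X π) (p : ℕ) (hp : p < D.nroots) (hn : D.neg p < D.nroots) (t : K) :
    π (hbar D X p t) = hG D hadd p t := by
  unfold hbar hG h
  rw [map_mul, map_inv, π_nbar O p hp hn, π_nbar O p hp hn]
  rfl

/-- the action of `h̄_p(t)` on the root elements -/
theorem hbar_act (hD : D ∈ [chevG2, chevB2, chevD4, chevF4, chevE6, chevE7, chevE8]) (O : Over D hadd X π)
    {φ : ℕ → ℤ} (S : Std D φ) (i : ℕ) (hi : i < D.rank) (t : K) (ht : t ≠ 0) (s : ℕ) (hs : s < D.nroots) (u : K) :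
    hbar D X (D.simple i) t * X s u * (hbar D X (D.simple i) t)⁻¹ =
      X s (t ^ pairing' D (D.simple i) s * u) := by
  have hp := S.simple_lt i hi
  have hnp := S.neg_lt _ hp
  obtain ⟨hrs, c₂, hc₂, e2⟩ := nbar_act hD O S i hi (-1) (neg_ne_zero.mpr one_ne_zero) s hs
  obtain ⟨-, c₁, hc₁, e1⟩ := nbar_act hD O S i hi t ht _ hrs
  rw [reflectRoot_reflectRoot D hD i s hi hs] at e1
  have e0 : ∀ v : K, hbar D X (D.simple i) t * X s v * (hbar D X (D.simple i) t)⁻¹ = X s (c₁ * (c₂ * v)) := by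
    intro v
    unfold hbar
    rw [nbar_inv O.toRels _ hp hnp, ← e1, ← e2]
    group
  have e3 := congrArg π (e0 1)
  rw [map_mul, map_mul, map_inv, π_hbar O _ hp hnp, O.π_X s hs, O.π_X s hs, hconj D hadd hD _ _ hp hs t _ ht] at e3
  have e4 := xGL_inj hD s hs _ _ e3
  rw [mul_one, mul_one] at e4
  rw [e0 u, ← mul_assoc, ← e4]

/-- `h̄_q(t) n̄_p(a) h̄_q(t)⁻¹ = n̄_p(c a)` -/
theorem hbar_conj_nbar (hD : D ∈ [chevG2, chevB2, chevD4, chevF4, chevE6, chevE7, chevE8]) (O : Over D hadd X π)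
    {φ : ℕ → ℤ} (S : Std D φ) (i : ℕ) (hi : i < D.rank) (t : K) (ht : t ≠ 0) (p : ℕ) (hp : p < D.nroots) (a : K) :
    hbar D X (D.simple i) t * nbar D X p a * (hbar D X (D.simple i) t)⁻¹ =
      nbar D X p (t ^ pairing' D (D.simple i) p * a) := by
  have hnp := S.neg_lt _ hp
  have h1 := hbar_act hD O S i hi t ht p hp
  have h2 := hbar_act hD O S i hi t ht _ hnp
  have : ∀ n x y z : Γ, n * (x * y * z) * n⁻¹ = (n * x * n⁻¹) * (n * y * n⁻¹) * (n * z * n⁻¹) := by
    intro n x y z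
    group
  show hbar D X (D.simple i) t * (X p a * X (D.neg p) (-a⁻¹) * X p a) * (hbar D X (D.simple i) t)⁻¹ =
    X p (t ^ pairing' D (D.simple i) p * a) * X (D.neg p) (-(t ^ pairing' D (D.simple i) p * a)⁻¹) *
      X p (t ^ pairing' D (D.simple i) p * a)
  rw [this, h1, h2, pairing'_neg_right D hD _ _ hp, zpow_neg]
  congr 3
  rw [mul_inv, mul_neg]

/-- `n̄_p(t')` normalizes `H̄` -/
theorem nbar_conj_HB (hD : D ∈ [chevG2, chevB2, chevD4, chevF4, chevE6, chevE7, chevE8]) (O : Over D hadd X π)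
    {φ : ℕ → ℤ} (S : Std D φ) (j : ℕ) (hj : j < D.rank) (t' : K) (ht' : t' ≠ 0) (g : Γ) (hg : g ∈ HB D X) :
    nbar D X (D.simple j) t' * g * (nbar D X (D.simple j) t')⁻¹ ∈ HB D X := by
  have hp := S.simple_lt j hj
  unfold HB at hg
  induction hg using Subgroup.closure_induction with
  | mem x hx =>
    obtain ⟨i, hi, t, ht, rfl⟩ := hx
    have h1 := hbar_conj_nbar hD O S i hi t ht _ hp t'
    have hc : t ^ pairing' D (D.simple i) (D.simple j) * t' ≠ 0 := mul_ne_zero (zpow_ne_zero _ ht) ht'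
    have e : nbar D X (D.simple j) t' * hbar D X (D.simple i) t * (nbar D X (D.simple j) t')⁻¹ =
        hbar D X (D.simple j) t' * (hbar D X (D.simple j) (t ^ pairing' D (D.simple i) (D.simple j) * t'))⁻¹ *
          hbar D X (D.simple i) t := by
      conv_rhs => rw [hbar, hbar, ← h1]
      group
    rw [e]
    exact (HB D X).mul_mem ((HB D X).mul_mem (hbar_mem_HB j hj t' ht') ((HB D X).inv_mem (hbar_mem_HB j hj _ hc)))
      (hbar_mem_HB i hi t ht)
  | one =>
    simp only [mul_one, mul_inv_cancel]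
    exact Subgroup.one_mem _
  | mul x y _ _ hx hy =>
    have : nbar D X (D.simple j) t' * (x * y) * (nbar D X (D.simple j) t')⁻¹ =
        (nbar D X (D.simple j) t' * x * (nbar D X (D.simple j) t')⁻¹) *
          (nbar D X (D.simple j) t' * y * (nbar D X (D.simple j) t')⁻¹) := by group
    rw [this]
    exact Subgroup.mul_mem _ hx hy
  | inv x _ hx =>
    have : nbar D X (D.simple j) t' * x⁻¹ * (nbar D X (D.simple j) t')⁻¹ =
        (nbar D X (D.simple j) t' * x * (nbar D X (D.simple j) t')⁻¹)⁻¹ := by group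
    rw [this]
    exact Subgroup.inv_mem _ hx

/-- `N̄` normalizes `H̄` -/
theorem NG_conj_HB (hD : D ∈ [chevG2, chevB2, chevD4, chevF4, chevE6, chevE7, chevE8]) (O : Over D hadd X π)
    {φ : ℕ → ℤ} (S : Std D φ) (n : Γ) (hn : n ∈ NG D X) :
    (∀ g ∈ HB D X, n * g * n⁻¹ ∈ HB D X) ∧ ∀ g ∈ HB D X, n⁻¹ * g * n⁻¹⁻¹ ∈ HB D X := by
  unfold NG at hn
  induction hn using Subgroup.closure_induction with
  | mem x hx =>
    obtain ⟨j, hj, t, ht, rfl⟩ := hx
    have hp := S.simple_lt j hj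
    refine ⟨nbar_conj_HB hD O S j hj t ht, ?_⟩
    rw [nbar_inv O.toRels _ hp (S.neg_lt _ hp)]
    exact nbar_conj_HB hD O S j hj (-t) (neg_ne_zero.mpr ht)
  | one =>
    simp only [inv_one, one_mul, mul_one]
    exact ⟨fun g hg => hg, fun g hg => hg⟩
  | mul x y _ _ hx hy =>
    refine ⟨fun g hg => ?_, fun g hg => ?_⟩
    · have : x * y * g * (x * y)⁻¹ = x * (y * g * y⁻¹) * x⁻¹ := by group
      rw [this]
      exact hx.1 _ (hy.1 g hg)
    · have : (x * y)⁻¹ * g * (x * y)⁻¹⁻¹ = y⁻¹ * (x⁻¹ * g * x⁻¹⁻¹) * y⁻¹⁻¹ := by group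
      rw [this]
      exact hy.2 _ (hx.2 g hg)
  | inv x _ hx =>
    exact ⟨hx.2, by simpa using hx.1⟩

/-- the product `n̄_{i₁}(1) ⋯ n̄_{i_k}(1)` of a word in the fundamental reflections -/
def nuW (D : ChevalleyDatum) (X : ℕ → K → Γ) (wd : List ℕ) : Γ := (wd.map fun i => nbar D X (D.simple i) 1).prod

theorem nuW_nil : nuW D X [] = 1 := by simp [nuW]

theorem nuW_cons (i : ℕ) (wd : List ℕ) : nuW D X (i :: wd) = nbar D X (D.simple i) 1 * nuW D X wd := by
  simp [nuW]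

theorem nuW_append (w₁ w₂ : List ℕ) : nuW D X (w₁ ++ w₂) = nuW D X w₁ * nuW D X w₂ := by
  simp [nuW, List.map_append, List.prod_append]

theorem nuW_mem_NG (wd : List ℕ) (hw : ∀ i ∈ wd, i < D.rank) : nuW D X wd ∈ NG D X := by
  apply Subgroup.list_prod_mem
  intro g hg
  obtain ⟨i, hi, rfl⟩ := List.mem_map.mp hg
  exact nbar_mem_NG i (hw i hi) 1 one_ne_zero

/-- `N̄ = H̄ · {n̄_w}` -/
theorem exists_HB_mul_nuW (hD : D ∈ [chevG2, chevB2, chevD4, chevF4, chevE6, chevE7, chevE8]) (O : Over D hadd X π)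
    {φ : ℕ → ℤ} (S : Std D φ) (n : Γ) (hn : n ∈ NG D X) :
    ∃ h0 ∈ HB D X, ∃ wd : List ℕ, (∀ i ∈ wd, i < D.rank) ∧ n = h0 * nuW D X wd := by
  have key : ∀ i < D.rank, ∀ t : K, t ≠ 0 → ∀ h0 ∈ HB D X, ∀ wd : List ℕ, (∀ i ∈ wd, i < D.rank) →
      ∃ h1 ∈ HB D X, ∃ wd' : List ℕ, (∀ i ∈ wd', i < D.rank) ∧
        nbar D X (D.simple i) t * (h0 * nuW D X wd) = h1 * nuW D X wd' := by
    intro i hi t ht h0 hh0 wd hwd
    refine ⟨hbar D X (D.simple i) t * (nbar D X (D.simple i) 1 * h0 * (nbar D X (D.simple i) 1)⁻¹),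
      (HB D X).mul_mem (hbar_mem_HB i hi t ht) (nbar_conj_HB hD O S i hi 1 one_ne_zero h0 hh0), i :: wd, ?_, ?_⟩
    · intro j hj
      rcases List.mem_cons.mp hj with rfl | hj
      · exact hi
      · exact hwd j hj
    · rw [nuW_cons]
      unfold hbar
      group
  unfold NG at hn
  induction hn using Subgroup.closure_induction_left with
  | one => exact ⟨1, Subgroup.one_mem _, [], fun i hi => absurd hi List.not_mem_nil, by rw [nuW_nil, mul_one]⟩
  | mul_left x hx y _ ih =>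
    obtain ⟨i, hi, t, ht, rfl⟩ := hx
    obtain ⟨h0, hh0, wd, hwd, rfl⟩ := ih
    exact key i hi t ht h0 hh0 wd hwd
  | inv_mul_cancel x hx y _ ih =>
    obtain ⟨i, hi, t, ht, rfl⟩ := hx
    obtain ⟨h0, hh0, wd, hwd, rfl⟩ := ih
    have hp := S.simple_lt i hi
    rw [nbar_inv O.toRels _ hp (S.neg_lt _ hp)]
    exact key i hi (-t) (neg_ne_zero.mpr ht) h0 hh0 wd hwd

/-- `g` normalizes every root subgroup of the Chevalley group -/
def DiagG (D : ChevalleyDatum) (hadd : ChevAdd.addOK D = true) (g : GL D.Idx K) : Prop :=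
  ∀ s < D.nroots, ∃ c : K, c ≠ 0 ∧ ∀ u : K, g * xGL D hadd K s u * g⁻¹ = xGL D hadd K s (c * u)

theorem DiagG.mul {g₁ g₂ : GL D.Idx K} (h₁ : DiagG D hadd g₁) (h₂ : DiagG D hadd g₂) : DiagG D hadd (g₁ * g₂) := by
  intro s hs
  obtain ⟨c, hc, e1⟩ := h₂ s hs
  obtain ⟨d, hd, e2⟩ := h₁ s hs
  refine ⟨d * c, mul_ne_zero hd hc, fun u => ?_⟩
  have : g₁ * g₂ * xGL D hadd K s u * (g₁ * g₂)⁻¹ = g₁ * (g₂ * xGL D hadd K s u * g₂⁻¹) * g₁⁻¹ := by group
  rw [this, e1, e2, mul_assoc]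

theorem DiagG.inv {g : GL D.Idx K} (h : DiagG D hadd g) : DiagG D hadd g⁻¹ := by
  intro s hs
  obtain ⟨c, hc, e1⟩ := h s hs
  refine ⟨c⁻¹, inv_ne_zero hc, fun u => ?_⟩
  have := e1 (c⁻¹ * u)
  rw [← mul_assoc, mul_inv_cancel₀ hc, one_mul] at this
  rw [← this]
  group

theorem diagG_of_mem_HB (hD : D ∈ [chevG2, chevB2, chevD4, chevF4, chevE6, chevE7, chevE8]) (O : Over D hadd X π)
    {φ : ℕ → ℤ} (S : Std D φ) (g : Γ) (hg : g ∈ HB D X) : DiagG D hadd (π g) := by
  unfold HB at hg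
  induction hg using Subgroup.closure_induction with
  | mem x hx =>
    obtain ⟨i, hi, t, ht, rfl⟩ := hx
    intro s hs
    refine ⟨t ^ pairing' D (D.simple i) s, zpow_ne_zero _ ht, fun u => ?_⟩
    have := congrArg π (hbar_act hD O S i hi t ht s hs u)
    rw [map_mul, map_mul, map_inv, O.π_X s hs, O.π_X s hs] at this
    exact this
  | one =>
    intro s hs
    exact ⟨1, one_ne_zero, fun u => by simp⟩
  | mul x y _ _ hx hy =>
    rw [map_mul]
    exact hx.mul hy
  | inv x _ hx =>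
    rw [map_inv]
    exact hx.inv

/-- the action of `n̄_w` on the root elements and on the `n̄_s(t)` -/
theorem nuW_act (hD : D ∈ [chevG2, chevB2, chevD4, chevF4, chevE6, chevE7, chevE8]) (O : Over D hadd X π)
    {φ : ℕ → ℤ} (S : Std D φ) (wd : List ℕ) (hw : ∀ i ∈ wd, i < D.rank) (s : ℕ) (hs : s < D.nroots) :
    (∃ c : K, c ≠ 0 ∧ ∀ u : K, nuW D X wd * X s u * (nuW D X wd)⁻¹ = X (rho D wd s) (c * u)) ∧
    ∃ e : K, (e = 1 ∨ e = -1) ∧ ∀ t : K, nuW D X wd * nbar D X s t * (nuW D X wd)⁻¹ = nbar D X (rho D wd s) (e * t) := by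
  induction wd with
  | nil =>
    refine ⟨⟨1, one_ne_zero, fun u => ?_⟩, 1, Or.inl rfl, fun t => ?_⟩
    · rw [nuW_nil]; simp [rho]
    · rw [nuW_nil]; simp [rho]
  | cons i wd ih =>
    have hw' : ∀ j ∈ wd, j < D.rank := fun j hj => hw j (List.mem_cons_of_mem _ hj)
    have hi := hw i List.mem_cons_self
    obtain ⟨⟨c, hc, e1⟩, e, he, e2⟩ := ih hw'
    have hrs := rho_lt D hD wd hw' s hs
    have hrho : rho D (i :: wd) s = D.reflectRoot i (rho D wd s) := rfl
    obtain ⟨-, c', hc', f1⟩ := nbar_act hD O S i hi 1 one_ne_zero _ hrs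
    obtain ⟨e', he', f2⟩ := nbar_one_conj_nbar hD O S i hi _ hrs
    have hconj : ∀ g : Γ, nuW D X (i :: wd) * g * (nuW D X (i :: wd))⁻¹ =
        nbar D X (D.simple i) 1 * (nuW D X wd * g * (nuW D X wd)⁻¹) * (nbar D X (D.simple i) 1)⁻¹ := by
      intro g
      rw [nuW_cons]
      group
    refine ⟨⟨c' * c, mul_ne_zero hc' hc, fun u => ?_⟩, e' * e, ?_, fun t => ?_⟩
    · rw [hconj, e1, f1, hrho, mul_assoc]
    · rcases he with rfl | rfl <;> rcases he' with rfl | rfl <;> simp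
    · rw [hconj, e2, f2, hrho, mul_assoc]

/-- a fundamental reflection mapping a negative root to a positive one -/
theorem eq_neg_simple_of_refl_pos (hD : D ∈ [chevG2, chevB2, chevD4, chevF4, chevE6, chevE7, chevE8])
    {φ : ℕ → ℤ} (S : Std D φ) (i : ℕ) (hi : i < D.rank) (r : ℕ) (hr : r < D.nroots) (hneg : ¬ hlfOf D ≤ r)
    (hpos : hlfOf D ≤ D.reflectRoot i r) : r = D.neg (D.simple i) := by
  by_contra hne
  have hnr := S.neg_lt r hr
  have h1 : hlfOf D ≤ D.neg r := (S.pos_neg_iff r hr).mpr hneg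
  have h2 : D.neg r ≠ D.simple i := by
    intro e
    apply hne
    rw [← e, S.neg_neg r hr]
  obtain ⟨r1, r2, -⟩ := reflectRoot_pos D hD i (D.neg r) hi ⟨h1, hnr⟩ h2
  rw [S.refl_neg i hi r hr] at r1
  have hrr := reflectRoot_lt D hD i r hi hr
  exact ((S.pos_neg_iff _ hrr).mp r1) hpos

/-- a word mapping a negative root to a positive one passes through the negative of a fundamental root -/
theorem exists_split_of_pos (hD : D ∈ [chevG2, chevB2, chevD4, chevF4, chevE6, chevE7, chevE8])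
    {φ : ℕ → ℤ} (S : Std D φ) (v : List ℕ) (hv : ∀ i ∈ v, i < D.rank) (s : ℕ) (hs : s < D.nroots)
    (hneg : ¬ hlfOf D ≤ s) (hpos : hlfOf D ≤ rho D v s) :
    ∃ (v₁ : List ℕ) (i : ℕ) (v₂ : List ℕ), v = v₁ ++ i :: v₂ ∧ rho D v₂ s = D.neg (D.simple i) := by
  induction v with
  | nil => exact absurd hpos hneg
  | cons i v ih =>
    have hv' : ∀ j ∈ v, j < D.rank := fun j hj => hv j (List.mem_cons_of_mem _ hj)
    have hi := hv i List.mem_cons_self
    have hrho : rho D (i :: v) s = D.reflectRoot i (rho D v s) := rfl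
    by_cases hp : hlfOf D ≤ rho D v s
    · obtain ⟨v₁, i', v₂, rfl, h2⟩ := ih hv' hp
      exact ⟨i :: v₁, i', v₂, rfl, h2⟩
    · rw [hrho] at hpos
      exact ⟨[], i, v, rfl, eq_neg_simple_of_refl_pos hD S i hi _ (rho_lt D hD v hv' s hs) hp hpos⟩

theorem rho_append (w₁ w₂ : List ℕ) (s : ℕ) : rho D (w₁ ++ w₂) s = rho D w₁ (rho D w₂ s) := by
  unfold rho
  rw [List.foldr_append]

/-- positive roots stay positive under a word whose `n̄_w` lies over a diagonal element -/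
theorem rho_pos_of_diagG (hD : D ∈ [chevG2, chevB2, chevD4, chevF4, chevE6, chevE7, chevE8]) (O : Over D hadd X π)
    {φ : ℕ → ℤ} (S : Std D φ) (wd : List ℕ) (hw : ∀ i ∈ wd, i < D.rank) (hdiag : DiagG D hadd (π (nuW D X wd)))
    (s : ℕ) (hs : s < D.nroots) (hpos : hlfOf D ≤ s) : hlfOf D ≤ rho D wd s := by
  by_contra hneg
  obtain ⟨⟨c, hc, e1⟩, -⟩ := nuW_act hD O S wd hw s hs
  obtain ⟨c', hc', e2⟩ := hdiag s hs
  have hrs := rho_lt D hD wd hw s hs
  have e3 := congrArg π (e1 1)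
  rw [map_mul, map_mul, map_inv, O.π_X s hs, e2 1, O.π_X _ hrs, mul_one, mul_one] at e3
  have hmem : xGL D hadd K s c' ∈ D.posUnipotent K ⊓ D.negUnipotent K := by
    refine ⟨?_, ?_⟩
    · rw [← O.π_X s hs]
      exact π_UG_pos hD O S _ (X_mem_UG φ s hs ((S.pos s hs).mpr hpos) _)
    · rw [e3, ← O.π_X _ hrs]
      apply π_UG_neg hD O S _ (X_mem_UG _ _ hrs _ _)
      have h1 := S.nz _ hrs
      have h2 : ¬ 0 < φ (rho D wd s) := fun h' => hneg ((S.pos _ hrs).mp h')
      show 0 < - φ (rho D wd s)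
      omega
  rw [pos_inf_neg hD, Subgroup.mem_bot, ← xGL_zero D hadd s] at hmem
  exact hc' (xGL_inj hD s hs _ _ hmem)

/-- a word whose `n̄_w` lies over a diagonal element has `n̄_w ∈ H̄` -/
theorem nuW_mem_HB (hD : D ∈ [chevG2, chevB2, chevD4, chevF4, chevE6, chevE7, chevE8]) (O : Over D hadd X π)
    {φ : ℕ → ℤ} (S : Std D φ) : ∀ (n : ℕ) (wd : List ℕ), wd.length = n → (∀ i ∈ wd, i < D.rank) →
      DiagG D hadd (π (nuW D X wd)) → nuW D X wd ∈ HB D X := by
  intro n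
  induction n using Nat.strong_induction_on with
  | _ n ih =>
    intro wd hlen hw hdiag
    rcases List.eq_nil_or_concat wd with rfl | ⟨w₀, k, hwd⟩
    · rw [nuW_nil]
      exact Subgroup.one_mem _
    · rw [List.concat_eq_append] at hwd
      subst hwd
      have hw₀ : ∀ i ∈ w₀, i < D.rank := fun i hi => hw i (List.mem_append_left _ hi)
      have hk : k < D.rank := hw k (List.mem_append_right _ List.mem_cons_self)
      have hα := S.simple_lt k hk
      have hnα := S.neg_lt _ hα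
      have hpos := rho_pos_of_diagG hD O S _ hw hdiag _ hα (S.simple_pos k hk)
      have e1 : rho D (w₀ ++ [k]) (D.simple k) = rho D w₀ (D.neg (D.simple k)) := by
        rw [rho_append]
        show rho D w₀ (D.reflectRoot k (D.simple k)) = _
        rw [reflectRoot_simple]
      rw [e1] at hpos
      have hnegα : ¬ hlfOf D ≤ D.neg (D.simple k) := by
        rw [S.pos_neg_iff _ hα]
        exact not_not.mpr (S.simple_pos k hk)
      obtain ⟨v₁, i, v₂, rfl, h2⟩ := exists_split_of_pos hD S w₀ hw₀ _ hnα hnegα hpos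
      have hv₁ : ∀ j ∈ v₁, j < D.rank := fun j hj => hw₀ j (List.mem_append_left _ hj)
      have hi : i < D.rank := hw₀ i (List.mem_append_right _ List.mem_cons_self)
      have hv₂ : ∀ j ∈ v₂, j < D.rank :=
        fun j hj => hw₀ j (List.mem_append_right _ (List.mem_cons_of_mem _ hj))
      have hβ := S.simple_lt i hi
      have h3 : rho D v₂ (D.simple k) = D.simple i := by
        rw [rho_neg D hD v₂ hv₂ _ hα] at h2
        have := congrArg D.neg h2
        rw [S.neg_neg _ (rho_lt D hD v₂ hv₂ _ hα), S.neg_neg _ hβ] at this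
        exact this
      obtain ⟨-, e, he, e2⟩ := nuW_act hD O S v₂ hv₂ _ hα
      have e3 := e2 1
      rw [h3, mul_one] at e3
      -- the two extra letters give an element of `H̄`
      have h0 : nbar D X (D.simple i) 1 * nbar D X (D.simple i) e ∈ HB D X := by
        rcases he with rfl | rfl
        · have : nbar D X (D.simple i) 1 * nbar D X (D.simple i) 1 = (hbar D X (D.simple i) (-1))⁻¹ := by
            unfold hbar
            rw [← nbar_inv O.toRels _ hβ (S.neg_lt _ hβ), mul_inv_rev, inv_inv]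
          rw [this]
          exact (HB D X).inv_mem (hbar_mem_HB i hi _ (neg_ne_zero.mpr one_ne_zero))
        · rw [← nbar_inv O.toRels _ hβ (S.neg_lt _ hβ), mul_inv_cancel]
          exact Subgroup.one_mem _
      have e4 : nuW D X (v₁ ++ i :: v₂ ++ [k]) =
          (nuW D X v₁ * (nbar D X (D.simple i) 1 * nbar D X (D.simple i) e) * (nuW D X v₁)⁻¹) *
            nuW D X (v₁ ++ v₂) := by
        rw [nuW_append, nuW_append, nuW_cons, nuW_cons, nuW_nil, nuW_append, ← e3]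
        group
      have h1 := (NG_conj_HB hD O S _ (nuW_mem_NG v₁ hv₁)).1 _ h0
      rw [e4]
      apply (HB D X).mul_mem h1
      have hw' : ∀ j ∈ v₁ ++ v₂, j < D.rank := by
        intro j hj
        rcases List.mem_append.mp hj with hj | hj
        · exact hv₁ j hj
        · exact hv₂ j hj
      apply ih (v₁ ++ v₂).length _ (v₁ ++ v₂) rfl hw'
      · have e5 : π (nuW D X (v₁ ++ v₂)) =
            (π (nuW D X v₁ * (nbar D X (D.simple i) 1 * nbar D X (D.simple i) e) * (nuW D X v₁)⁻¹))⁻¹ *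
              π (nuW D X (v₁ ++ i :: v₂ ++ [k])) := by
          have e6 := congrArg π e4
          rw [map_mul] at e6
          rw [e6, inv_mul_cancel_left]
        rw [e5]
        exact (diagG_of_mem_HB hD O S _ h1).inv.mul hdiag
      · rw [← hlen]
        simp only [List.length_append, List.length_cons, List.length_nil]
        omega

/-- the kernel of `π` lies in `H̄` -/
theorem ker_le_HB (hD : D ∈ [chevG2, chevB2, chevD4, chevF4, chevE6, chevE7, chevE8]) (O : Over D hadd X π)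
    (gen : Subgroup.closure {g | ∃ r < D.nroots, ∃ t : K, g = X r t} = ⊤) : π.ker ≤ HB D X := by
  obtain ⟨φ, S⟩ := exists_std D hD
  intro g hg
  obtain ⟨h0, hh0, wd, hwd, rfl⟩ := exists_HB_mul_nuW hD O S g (ker_le_NG hD O gen hg)
  rw [MonoidHom.mem_ker, map_mul] at hg
  have e : π (nuW D X wd) = (π h0)⁻¹ := eq_inv_of_mul_eq_one_right hg
  apply (HB D X).mul_mem hh0
  apply nuW_mem_HB hD O S wd.length wd rfl hwd
  rw [e]
  exact (diagG_of_mem_HB hD O S _ hh0).inv

end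

end Cfsg.Agent.Helper40.St
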