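import Mathlib

/-!
Counting invertible block triangular matrices over a finite field.
-/

set_option autoImplicit false

namespace Cfsg.Agent.Helper40

open Matrix

section equiv


variable {ι : Type*} [Fintype ι] [DecidableEq ι] {α : Type*} [LinearOrder α] [Fintype α]
  {F : Type*} [Field F]

/-- invertible block triangular matrices -/
abbrev BTInv (F : Type*) [Field F] (b : ι → α) : Type _ :=
  {M : Matrix ι ι F // M.BlockTriangular b ∧ M.det ≠ 0}

/-- data: invertible diagonal blocks and the strictly upper entries -/
abbrev BTData (F : Type*) [Field F] (b : ι → α) : Type _ :=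
  (∀ a : α, {A : Matrix {i : ι // b i = a} {i : ι // b i = a} F // A.det ≠ 0}) ×
    ({p : ι × ι // b p.1 < b p.2} → F)

theorem det_blocks_ne_zero (b : ι → α) (M : Matrix ι ι F) (hM : M.BlockTriangular b) (hdet : M.det ≠ 0)
    (a : α) : (M.toSquareBlock b a).det ≠ 0 := by
  rw [hM.det_fintype] at hdet
  exact (Finset.prod_ne_zero_iff.1 hdet) a (Finset.mem_univ a)

/-- assemble a matrix from data -/
def assembleMat (b : ι → α) (d : BTData F b) : Matrix ι ι F :=
  Matrix.of fun i j =>
    if h : b i = b j then (d.1 (b i)).1 ⟨i, rfl⟩ ⟨j, h.symm⟩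
    else if h' : b i < b j then d.2 ⟨(i, j), h'⟩ else 0

theorem assembleMat_blockTriangular (b : ι → α) (d : BTData F b) :
    (assembleMat b d).BlockTriangular b := by
  intro i j hij
  have h1 : ¬ b i = b j := fun h => by rw [h] at hij; exact lt_irrefl _ hij
  have h2 : ¬ b i < b j := fun h => lt_asymm h hij
  simp [assembleMat, h1, h2]

theorem assembleMat_toSquareBlock (b : ι → α) (d : BTData F b) (a : α) :
    (assembleMat b d).toSquareBlock b a = (d.1 a).1 := by
  ext ⟨i, hi⟩ ⟨j, hj⟩
  subst hi
  simp only [toSquareBlock_def, of_apply, assembleMat]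
  rw [dif_pos hj.symm]

theorem assembleMat_det_ne_zero (b : ι → α) (d : BTData F b) : (assembleMat b d).det ≠ 0 := by
  rw [(assembleMat_blockTriangular b d).det_fintype]
  apply Finset.prod_ne_zero_iff.2
  intro a _
  rw [assembleMat_toSquareBlock]
  exact (d.1 a).2

/-- the equivalence -/
def btEquiv (b : ι → α) : BTInv F b ≃ BTData F b where
  toFun M := (fun a => ⟨M.1.toSquareBlock b a, det_blocks_ne_zero b M.1 M.2.1 M.2.2 a⟩,
    fun p => M.1 p.1.1 p.1.2)
  invFun d := ⟨assembleMat b d, assembleMat_blockTriangular b d, assembleMat_det_ne_zero b d⟩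
  left_inv M := by
    apply Subtype.ext
    ext i j
    simp only [assembleMat, of_apply, toSquareBlock_def]
    by_cases h : b i = b j
    · rw [dif_pos h]
    · rw [dif_neg h]
      by_cases h' : b i < b j
      · rw [dif_pos h']
      · rw [dif_neg h']
        have : b j < b i := lt_of_le_of_ne (not_lt.1 h') (Ne.symm h)
        exact (M.2.1 this).symm
  right_inv d := by
    apply Prod.ext
    · funext a
      apply Subtype.ext
      exact assembleMat_toSquareBlock b d a
    · funext p
      obtain ⟨⟨i, j⟩, hp⟩ := p
      have h1 : ¬ b i = b j := fun h => by simp only [h] at hp; exact lt_irrefl _ hp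
      simp only [assembleMat, of_apply]
      rw [dif_neg h1, dif_pos hp]


end equiv


/-- `GL` as matrices with non-zero determinant -/
def glEquivDetNeZero (κ : Type*) [Fintype κ] [DecidableEq κ] (F : Type*) [Field F] :
    Matrix.GeneralLinearGroup κ F ≃ {A : Matrix κ κ F // A.det ≠ 0} where
  toFun g := ⟨(g : Matrix κ κ F), by
    have := Matrix.GeneralLinearGroup.det_ne_zero g
    exact this⟩
  invFun A := Matrix.GeneralLinearGroup.mkOfDetNeZero A.1 A.2
  left_inv g := by
    apply Units.ext
    rfl
  right_inv A := by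
    apply Subtype.ext
    rfl

theorem card_detNeZero (κ : Type*) [Fintype κ] [DecidableEq κ] (F : Type*) [Field F] [Fintype F] :
    Nat.card {A : Matrix κ κ F // A.det ≠ 0} =
      ∏ i : Fin (Fintype.card κ), (Fintype.card F ^ (Fintype.card κ) - Fintype.card F ^ (i : ℕ)) := by
  rw [← Matrix.card_GL_field]
  let e : κ ≃ Fin (Fintype.card κ) := Fintype.equivFin κ
  have e2 : {A : Matrix κ κ F // A.det ≠ 0} ≃
      {A : Matrix (Fin (Fintype.card κ)) (Fin (Fintype.card κ)) F // A.det ≠ 0} :=
    (Matrix.reindex e e).subtypeEquiv (fun A => by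
      rw [Matrix.det_reindex_self])
  rw [Nat.card_congr e2]
  exact Nat.card_congr (glEquivDetNeZero _ F).symm



section arith

variable (q : ℕ)

/-- `[r]! = ∏_{j<r} (1 + q + ⋯ + q^j)` -/
def qFact (r : ℕ) : ℕ := ∏ j ∈ Finset.range r, ∑ l ∈ Finset.range (j + 1), q ^ l

/-- `∏_{i<m} (q^m - q^i)` -/
def glCard (m : ℕ) : ℕ := ∏ i : Fin m, (q ^ m - q ^ (i : ℕ))

/-- `0 + 1 + ⋯ + (m-1)` -/
def triNum (m : ℕ) : ℕ := ∑ i ∈ Finset.range m, i

theorem triNum_succ (m : ℕ) : triNum (m + 1) = triNum m + m := by
  simp [triNum, Finset.sum_range_succ]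

theorem two_triNum_add (m : ℕ) : 2 * triNum m + m = m * m := by
  induction m with
  | zero => simp [triNum]
  | succ m ih => rw [triNum_succ]; nlinarith

theorem geom_identity (k : ℕ) : (q - 1) * (∑ l ∈ Finset.range k, q ^ l) + 1 = q ^ k ∨ q = 0 := by
  rcases Nat.eq_zero_or_pos q with h | h
  · right; exact h
  · left
    induction k with
    | zero => simp
    | succ k ih =>
      rw [Finset.sum_range_succ, mul_add, pow_succ]
      have : (q - 1) * q ^ k + q ^ k = q ^ k * q := by
        have hq : q - 1 + 1 = q := Nat.sub_add_cancel h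
        calc (q - 1) * q ^ k + q ^ k = (q - 1 + 1) * q ^ k := by ring
          _ = q ^ k * q := by rw [hq]; ring
      omega

theorem glCard_eq (hq : 1 ≤ q) (m : ℕ) : glCard q m = q ^ triNum m * (q - 1) ^ m * qFact q m := by
  have hgeom : ∀ k, q ^ k - 1 = (q - 1) * ∑ l ∈ Finset.range k, q ^ l := by
    intro k
    rcases geom_identity q k with h | h
    · omega
    · omega
  unfold glCard
  rw [Fin.prod_univ_eq_prod_range (fun i => q ^ m - q ^ i) m]
  have h1 : ∀ i ∈ Finset.range m, q ^ m - q ^ i = q ^ i * ((q - 1) * ∑ l ∈ Finset.range (m - i), q ^ l) := by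
    intro i hi
    rw [Finset.mem_range] at hi
    rw [← hgeom, Nat.mul_sub, mul_one, ← pow_add]
    congr 2
    omega
  rw [Finset.prod_congr rfl h1, Finset.prod_mul_distrib, Finset.prod_mul_distrib, Finset.prod_const,
    Finset.card_range, Finset.prod_pow_eq_pow_sum]
  rw [mul_assoc]
  congr 1
  congr 1
  unfold qFact
  rw [← Finset.prod_range_reflect]
  apply Finset.prod_congr rfl
  intro j hj
  rw [Finset.mem_range] at hj
  congr 2
  omega

end arith


section pairs


variable {ι : Type*} [Fintype ι] [DecidableEq ι] {α : Type*} [LinearOrder α] [Fintype α]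

/-- pairs: `n² = 2 e + Σ m_a²` -/
theorem card_pairs_split (b : ι → α) :
    Fintype.card ι * Fintype.card ι =
      2 * Fintype.card {p : ι × ι // b p.1 < b p.2} +
        ∑ a : α, Fintype.card {i : ι // b i = a} * Fintype.card {i : ι // b i = a} := by
  classical
  have h0 : Fintype.card ι * Fintype.card ι = (Finset.univ : Finset (ι × ι)).card := by
    rw [Finset.card_univ, Fintype.card_prod]
  have hlt : Fintype.card {p : ι × ι // b p.1 < b p.2} =
      (Finset.univ.filter (fun p : ι × ι => b p.1 < b p.2)).card := Fintype.card_subtype _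
  have hgt : (Finset.univ.filter (fun p : ι × ι => b p.2 < b p.1)).card =
      (Finset.univ.filter (fun p : ι × ι => b p.1 < b p.2)).card := by
    apply Finset.card_bij (fun p _ => (p.2, p.1))
    · intro p hp
      simpa using hp
    · intro p _ p' _ h
      simp only [Prod.mk.injEq] at h
      exact Prod.ext h.2 h.1
    · intro p hp
      exact ⟨(p.2, p.1), by simpa using hp, rfl⟩
  have heq : (Finset.univ.filter (fun p : ι × ι => b p.1 = b p.2)).card =
      ∑ a : α, Fintype.card {i : ι // b i = a} * Fintype.card {i : ι // b i = a} := by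
    rw [Finset.card_eq_sum_card_fiberwise (f := fun p : ι × ι => b p.1) (t := Finset.univ)
      (fun _ _ => Finset.mem_univ _)]
    apply Finset.sum_congr rfl
    intro a _
    have : (Finset.univ.filter (fun p : ι × ι => b p.1 = b p.2)).filter (fun p => b p.1 = a) =
        (Finset.univ.filter (fun i : ι => b i = a)) ×ˢ (Finset.univ.filter (fun i : ι => b i = a)) := by
      ext p
      simp only [Finset.mem_filter, Finset.mem_univ, true_and, Finset.mem_product]
      constructor
      · rintro ⟨h1, h2⟩
        exact ⟨h2, h1 ▸ h2⟩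
      · rintro ⟨h1, h2⟩
        exact ⟨h1.trans h2.symm, h1⟩
    rw [this, Finset.card_product, Fintype.card_subtype]
  have hsplit : (Finset.univ : Finset (ι × ι)).card =
      (Finset.univ.filter (fun p : ι × ι => b p.1 < b p.2)).card +
      (Finset.univ.filter (fun p : ι × ι => b p.2 < b p.1)).card +
      (Finset.univ.filter (fun p : ι × ι => b p.1 = b p.2)).card := by
    rw [← Finset.card_union_of_disjoint, ← Finset.card_union_of_disjoint]
    · congr 1
      ext p
      simp only [Finset.mem_univ, Finset.mem_union, Finset.mem_filter, true_and, true_iff]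
      rcases lt_trichotomy (b p.1) (b p.2) with h | h | h
      · exact Or.inl (Or.inl h)
      · exact Or.inr h
      · exact Or.inl (Or.inr h)
    · rw [Finset.disjoint_left]
      intro p hp hp'
      simp only [Finset.mem_union, Finset.mem_filter, Finset.mem_univ, true_and] at hp hp'
      rcases hp with h | h
      · exact absurd hp' (ne_of_lt h)
      · exact absurd hp'.symm (ne_of_lt h)
    · rw [Finset.disjoint_left]
      intro p hp hp'
      simp only [Finset.mem_filter, Finset.mem_univ, true_and] at hp hp'
      exact lt_asymm hp hp'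
  rw [h0, hsplit, hgt, heq, hlt]
  ring


end pairs

section count

variable {ι : Type*} [Fintype ι] [DecidableEq ι] {α : Type*} [LinearOrder α] [Fintype α]
  {F : Type*} [Field F] [Fintype F]

theorem sum_card_fibers (b : ι → α) : ∑ a : α, Fintype.card {i : ι // b i = a} = Fintype.card ι := by
  classical
  rw [← Finset.card_univ (α := ι), Finset.card_eq_sum_card_fiberwise (f := b) (t := Finset.univ)
    (fun _ _ => Finset.mem_univ _)]
  apply Finset.sum_congr rfl
  intro a _
  rw [Fintype.card_subtype]

theorem triNum_split (b : ι → α) :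
    Fintype.card {p : ι × ι // b p.1 < b p.2} + ∑ a : α, triNum (Fintype.card {i : ι // b i = a}) =
      triNum (Fintype.card ι) := by
  have h1 := card_pairs_split b
  have h2 := sum_card_fibers b
  have h3 := two_triNum_add (Fintype.card ι)
  have h4 : ∑ a : α, (2 * triNum (Fintype.card {i : ι // b i = a}) + Fintype.card {i : ι // b i = a}) =
      ∑ a : α, Fintype.card {i : ι // b i = a} * Fintype.card {i : ι // b i = a} :=
    Finset.sum_congr rfl (fun a _ => two_triNum_add _)
  rw [Finset.sum_add_distrib, ← Finset.mul_sum, h2] at h4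
  omega

theorem card_BTInv (b : ι → α) :
    Nat.card (BTInv F b) = Fintype.card F ^ triNum (Fintype.card ι) * (Fintype.card F - 1) ^ Fintype.card ι *
      ∏ a : α, qFact (Fintype.card F) (Fintype.card {i : ι // b i = a}) := by
  classical
  have hq : 1 ≤ Fintype.card F := Fintype.card_pos
  rw [Nat.card_congr (btEquiv (F := F) b), Nat.card_prod, Nat.card_pi, Nat.card_fun]
  have h1 : ∀ a ∈ (Finset.univ : Finset α),
      Nat.card {A : Matrix {i : ι // b i = a} {i : ι // b i = a} F // A.det ≠ 0} =
      Fintype.card F ^ triNum (Fintype.card {i : ι // b i = a}) *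
        (Fintype.card F - 1) ^ (Fintype.card {i : ι // b i = a}) *
        qFact (Fintype.card F) (Fintype.card {i : ι // b i = a}) := by
    intro a _
    rw [card_detNeZero]
    exact glCard_eq _ hq _
  rw [Finset.prod_congr rfl h1, Finset.prod_mul_distrib, Finset.prod_mul_distrib,
    Finset.prod_pow_eq_pow_sum, Finset.prod_pow_eq_pow_sum, sum_card_fibers,
    Nat.card_eq_fintype_card, Nat.card_eq_fintype_card, ← triNum_split b, pow_add]
  ring

end count

end Cfsg.Agent.Helper40
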