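import Mathlib

/-!
# Verified Todd–Coxeter certificates for finite Coxeter groups (helper40)

For a Coxeter matrix `M` on `Fin l`, a Cartan-type integer matrix `AL` (list of rows) compatible with
`M`, and coset tables `lev k` for `W_k \ W_{k+1}` (`W_k` generated by the first `k` simple
reflections), all checked by `decide +kernel`, we get

* `card_group` : `Nat.card M.Group = ∏ j < l, (lev j).N`;
* `word_criterion` : a word is trivial in `M.Group` as soon as it fixes the `l` unit vectors
  under the reflection action on `ℤ^l` (computed on lists by `actL`);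
* `ne_one_of_actL` : a word moving some vector is nontrivial;
* `eq_one_of_ract` : an element acting trivially on the unit vectors is trivial (faithfulness).

The tables are produced by `scratch/cox/tc.py` style coset enumeration; each entry carries a
justification (tree edge, subgroup generator, mirror, or a relator scan with a single gap using
entries of smaller rank).
-/

set_option autoImplicit false

namespace Cfsg.Agent.Helper40.TC

open CoxeterSystem

variable {l : ℕ} (M : CoxeterMatrix (Fin l))

/-- generator with natural-number index (1 out of range) -/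
noncomputable def gN (a : ℕ) : M.Group := if h : a < l then M.simple ⟨a, h⟩ else 1

theorem gN_mul_self (a : ℕ) : gN M a * gN M a = 1 := by
  unfold gN
  split_ifs with h
  · rw [← CoxeterMatrix.toCoxeterSystem_simple]
    exact M.toCoxeterSystem.simple_mul_simple_self _
  · exact one_mul 1

theorem gN_inv (a : ℕ) : (gN M a)⁻¹ = gN M a :=
  inv_eq_of_mul_eq_one_left (gN_mul_self M a)

/-- word product with natural-number letters -/
noncomputable def wpN (w : List ℕ) : M.Group := (w.map (gN M)).prod

@[simp] theorem wpN_nil : wpN M [] = 1 := rfl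
theorem wpN_cons (a : ℕ) (w : List ℕ) : wpN M (a :: w) = gN M a * wpN M w := by
  simp [wpN]
theorem wpN_append (w w' : List ℕ) : wpN M (w ++ w') = wpN M w * wpN M w' := by
  simp [wpN]
theorem wpN_singleton (a : ℕ) : wpN M [a] = gN M a := by simp [wpN]
theorem wpN_reverse (w : List ℕ) : wpN M w.reverse = (wpN M w)⁻¹ := by
  induction w with
  | nil => simp
  | cons a w ih =>
    rw [List.reverse_cons, wpN_append, ih, wpN_singleton, wpN_cons, mul_inv_rev, gN_inv]

/-- Coxeter matrix entries with natural-number indices (0 out of range) -/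
def mN (i j : ℕ) : ℕ := if h : i < l ∧ j < l then M.M ⟨i, h.1⟩ ⟨j, h.2⟩ else 0

/-- the relator `(i j)^m` -/
def relWord (i j : ℕ) : List ℕ := (List.replicate (mN M i j) [i, j]).flatten

theorem wpN_replicate (i j m : ℕ) :
    wpN M (List.replicate m [i, j]).flatten = (gN M i * gN M j) ^ m := by
  induction m with
  | zero => simp
  | succ m ih =>
    rw [List.replicate_succ, List.flatten_cons, wpN_append, ih, pow_succ']
    congr 1
    simp [wpN]

theorem wpN_relWord (i j : ℕ) : wpN M (relWord M i j) = 1 := by
  unfold relWord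
  rw [wpN_replicate]
  unfold mN
  split_ifs with h
  · unfold gN
    rw [dif_pos h.1, dif_pos h.2, ← CoxeterMatrix.toCoxeterSystem_simple]
    exact M.toCoxeterSystem.simple_mul_simple_pow _ _
  · exact pow_zero _

/-- the subgroup generated by the first `k` generators -/
noncomputable def Wk (k : ℕ) : Subgroup M.Group := Subgroup.closure {g | ∃ a, a < k ∧ g = gN M a}

theorem gN_mem_Wk {a k : ℕ} (h : a < k) : gN M a ∈ Wk M k :=
  Subgroup.subset_closure ⟨a, h, rfl⟩

theorem Wk_mono {k k' : ℕ} (h : k ≤ k') : Wk M k ≤ Wk M k' := by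
  apply Subgroup.closure_mono
  rintro g ⟨a, ha, rfl⟩
  exact ⟨a, lt_of_lt_of_le ha h, rfl⟩

theorem Wk_zero : Wk M 0 = ⊥ := by
  unfold Wk
  rw [Subgroup.closure_eq_bot_iff]
  rintro g ⟨a, ha, rfl⟩
  omega

theorem Wk_top : Wk M l = ⊤ := by
  rw [eq_top_iff, ← M.toCoxeterSystem.subgroup_closure_range_simple]
  apply Subgroup.closure_mono
  rintro g ⟨i, rfl⟩
  refine ⟨i.val, i.isLt, ?_⟩
  unfold gN
  rw [dif_pos i.isLt, CoxeterMatrix.toCoxeterSystem_simple]

theorem wpN_mem_Wk {k : ℕ} (w : List ℕ) (h : ∀ a ∈ w, a < k) : wpN M w ∈ Wk M k := by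
  induction w with
  | nil => exact one_mem _
  | cons a w ih =>
    rw [wpN_cons]
    exact mul_mem (gN_mem_Wk M (h a (by simp))) (ih (fun b hb => h b (by simp [hb])))


/-! ### Coset tables -/

/-- a coset table for `W_k \ W_{k+1}`: representatives and rows of `(target, rank, justification)` -/
structure Level where
  k : ℕ
  reps : List (List ℕ)
  rows : List (List (ℕ × ℕ × List ℕ))

namespace Level

variable (L : Level)

def N : ℕ := L.reps.length
def rep (x : ℕ) : List ℕ := L.reps.getD x []
def ent (x s : ℕ) : ℕ × ℕ × List ℕ := (L.rows.getD x []).getD s (0, 0, [])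
def tbl (x s : ℕ) : ℕ := (L.ent x s).1
def rank (x s : ℕ) : ℕ := (L.ent x s).2.1
def just (x s : ℕ) : List ℕ := (L.ent x s).2.2

/-- trace a word through the table, using only entries of rank `< ρ` -/
def trace (ρ : ℕ) : ℕ → List ℕ → Option ℕ
  | z, [] => some z
  | z, a :: w => if z < L.N ∧ a ≤ L.k ∧ L.rank z a < ρ then trace ρ (L.tbl z a) w else none

end Level

variable (L : Level)

/-- check the justification of one entry -/
def checkEntry (x s : ℕ) : Bool :=
  decide (L.tbl x s < L.N) &&
  match L.just x s with
  | [0] => decide (L.rep (L.tbl x s) = L.rep x ++ [s])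
  | [1] => decide (L.rep x = L.rep (L.tbl x s) ++ [s])
  | [2] => decide (x = 0 ∧ L.tbl x s = 0 ∧ s < L.k)
  | [3] => decide (L.tbl (L.tbl x s) s = x ∧ L.rank (L.tbl x s) s < L.rank x s)
  | [4, i, j, z, p] =>
      decide ((relWord M i j)[p]? = some s ∧
        L.trace (L.rank x s) z ((relWord M i j).take p) = some x ∧
        L.trace (L.rank x s) z ((relWord M i j).drop (p + 1)).reverse = some (L.tbl x s))
  | _ => false

/-- the validity of an entry -/
def Valid (x s : ℕ) : Prop :=
  wpN M (L.rep x) * gN M s * (wpN M (L.rep (L.tbl x s)))⁻¹ ∈ Wk M L.k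

theorem trace_sound (ρ : ℕ)
    (hprev : ∀ x s, x < L.N → s ≤ L.k → L.rank x s < ρ → Valid M L x s) :
    ∀ (w : List ℕ) (z u : ℕ), L.trace ρ z w = some u →
      wpN M (L.rep z) * wpN M w * (wpN M (L.rep u))⁻¹ ∈ Wk M L.k := by
  intro w
  induction w with
  | nil =>
    intro z u h
    simp only [Level.trace, Option.some.injEq] at h
    subst h
    simp
  | cons a w ih =>
    intro z u h
    simp only [Level.trace] at h
    split_ifs at h with hc
    have h1 := hprev z a hc.1 hc.2.1 hc.2.2
    have h2 := ih _ _ h
    have := mul_mem h1 h2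
    unfold Valid at h1
    convert this using 1
    rw [wpN_cons]
    group

theorem entry_sound (hrep0 : L.rep 0 = []) (x s : ℕ) (_hx : x < L.N) (hs : s ≤ L.k)
    (hcheck : checkEntry M L x s = true)
    (hprev : ∀ x' s', x' < L.N → s' ≤ L.k → L.rank x' s' < L.rank x s → Valid M L x' s') :
    L.tbl x s < L.N ∧ Valid M L x s := by
  unfold checkEntry at hcheck
  rw [Bool.and_eq_true] at hcheck
  obtain ⟨h1, h2⟩ := hcheck
  have hN : L.tbl x s < L.N := of_decide_eq_true h1
  refine ⟨hN, ?_⟩
  unfold Valid
  split at h2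
  · -- tree
    have h := of_decide_eq_true h2
    rw [h, wpN_append, wpN_singleton, mul_inv_cancel]
    exact one_mem _
  · -- reverse tree
    have h := of_decide_eq_true h2
    rw [h, wpN_append, wpN_singleton]
    have : wpN M (L.rep (L.tbl x s)) * gN M s * gN M s * (wpN M (L.rep (L.tbl x s)))⁻¹ = 1 := by
      rw [mul_assoc (wpN M _), gN_mul_self, mul_one, mul_inv_cancel]
    rw [this]
    exact one_mem _
  · -- subgroup generator
    obtain ⟨hx0, ht0, hsk⟩ := of_decide_eq_true h2
    rw [ht0, hx0, hrep0, wpN_nil, one_mul, inv_one, mul_one]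
    exact gN_mem_Wk M hsk
  · -- mirror
    obtain ⟨hback, hrank⟩ := of_decide_eq_true h2
    have hv := hprev (L.tbl x s) s hN hs hrank
    unfold Valid at hv
    rw [hback] at hv
    have := inv_mem hv
    convert this using 1
    rw [mul_inv_rev, mul_inv_rev, inv_inv, gN_inv, mul_assoc]
  · -- relator
    rename_i i j z p heq
    obtain ⟨hget, hpre, hpost⟩ := of_decide_eq_true h2
    set r := relWord M i j with hr
    have hsplit : r = r.take p ++ s :: r.drop (p + 1) := by
      have hp : p < r.length := by
        by_contra hcon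
        rw [List.getElem?_eq_none (by omega)] at hget
        exact absurd hget (by simp)
      have h3 : r[p] = s := by
        rw [List.getElem?_eq_getElem hp] at hget
        exact Option.some.inj hget
      conv_lhs => rw [← List.take_append_drop p r]
      rw [List.drop_eq_getElem_cons hp, h3]
    have hrel : wpN M (r.take p) * gN M s * wpN M (r.drop (p + 1)) = 1 := by
      have := wpN_relWord M i j
      rw [← hr, hsplit, wpN_append, wpN_cons, ← mul_assoc] at this
      exact this
    have hA := trace_sound M L (L.rank x s) hprev _ _ _ hpre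
    have hB := trace_sound M L (L.rank x s) hprev _ _ _ hpost
    rw [wpN_reverse] at hB
    have := mul_mem (inv_mem hA) hB
    convert this using 1
    have e : gN M s = (wpN M (r.take p))⁻¹ * (wpN M (r.drop (p + 1)))⁻¹ := by
      have h4 : gN M s = (wpN M (r.take p))⁻¹ * (wpN M (r.take p) * gN M s * wpN M (r.drop (p + 1))) *
          (wpN M (r.drop (p + 1)))⁻¹ := by group
      rw [hrel, mul_one] at h4
      exact h4
    rw [e]; group
  · exact absurd h2 (by simp)

/-- the whole-table check -/
def checkLevel : Bool :=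
  decide (L.rep 0 = []) && decide (0 < L.N) &&
    (List.range L.N).all (fun x => (List.range (L.k + 1)).all (fun s => checkEntry M L x s)) &&
    L.reps.all (fun w => w.all (fun a => decide (a ≤ L.k)))

theorem level_valid (h : checkLevel M L = true) :
    ∀ x s, x < L.N → s ≤ L.k → L.tbl x s < L.N ∧ Valid M L x s := by
  unfold checkLevel at h
  simp only [Bool.and_eq_true, decide_eq_true_eq, List.all_eq_true, List.mem_range] at h
  obtain ⟨⟨⟨hrep0, hN0⟩, hall⟩, hreps⟩ := h
  have key : ∀ ρ x s, x < L.N → s ≤ L.k → L.rank x s < ρ → Valid M L x s := by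
    intro ρ
    induction ρ with
    | zero => intro x s _ _ h; omega
    | succ ρ ih =>
      intro x s hx hs hr
      refine (entry_sound M L hrep0 x s hx hs (hall x hx s (by omega)) ?_).2
      intro x' s' hx' hs' hr'
      exact ih x' s' hx' hs' (by omega)
  intro x s hx hs
  refine entry_sound M L hrep0 x s hx hs (hall x hx s (by omega)) ?_
  intro x' s' hx' hs' hr'
  exact key _ x' s' hx' hs' hr'

theorem rep_mem (h : checkLevel M L = true) (x : ℕ) : wpN M (L.rep x) ∈ Wk M (L.k + 1) := by
  unfold checkLevel at h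
  simp only [Bool.and_eq_true, decide_eq_true_eq, List.all_eq_true, List.mem_range] at h
  obtain ⟨⟨⟨hrep0, hN0⟩, hall⟩, hreps⟩ := h
  apply wpN_mem_Wk
  intro a ha
  unfold Level.rep at ha
  by_cases hx : x < L.reps.length
  · rw [List.getD_eq_getElem _ _ hx] at ha
    have := hreps _ (List.getElem_mem hx) a ha
    omega
  · rw [List.getD_eq_default _ _ (by omega)] at ha
    exact absurd ha (by simp)

theorem level_cover (h : checkLevel M L = true) :
    ∀ g ∈ Wk M (L.k + 1), ∃ x, x < L.N ∧ g * (wpN M (L.rep x))⁻¹ ∈ Wk M L.k := by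
  have hv := level_valid M L h
  have h' := h
  unfold checkLevel at h
  simp only [Bool.and_eq_true, decide_eq_true_eq, List.all_eq_true, List.mem_range] at h
  obtain ⟨⟨⟨hrep0, hN0⟩, hall⟩, hreps⟩ := h
  intro g hg
  unfold Wk at hg
  induction hg using Subgroup.closure_induction_right with
  | one =>
    refine ⟨0, hN0, ?_⟩
    rw [hrep0, wpN_nil, inv_one, mul_one]
    exact one_mem _
  | mul_right g y hg hy ih =>
    obtain ⟨a, ha, rfl⟩ := hy
    obtain ⟨x, hx, hgx⟩ := ih
    obtain ⟨hN, hval⟩ := hv x a hx (by omega)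
    refine ⟨L.tbl x a, hN, ?_⟩
    have := mul_mem hgx hval
    convert this using 1
    group
  | mul_inv_cancel g y hg hy ih =>
    obtain ⟨a, ha, rfl⟩ := hy
    obtain ⟨x, hx, hgx⟩ := ih
    obtain ⟨hN, hval⟩ := hv x a hx (by omega)
    refine ⟨L.tbl x a, hN, ?_⟩
    have := mul_mem hgx hval
    rw [gN_inv]
    convert this using 1
    group


/-! ### The reflection representation on `ℤ^l` (weight coordinates) -/

section refl

variable (AL : List (List ℤ))

/-- Cartan-type entries read from a list of rows -/
def cA (i k : ℕ) : ℤ := (AL.getD i []).getD k 0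

/-- reflection `v ↦ v - v_i α_i` where `α_i` is the `i`-th row -/
def reflF (i : Fin l) (v : Fin l → ℤ) : Fin l → ℤ := fun k => v k - v i * cA AL i k

theorem reflF_apply (i : Fin l) (v : Fin l → ℤ) (k : Fin l) :
    reflF AL i v k = v k - v i * cA AL i k := rfl

/-- admissible pairs of Cartan entries for a Coxeter matrix entry -/
def cartanCase (m : ℕ) (a b : ℤ) : Bool :=
  (decide (m = 2) && decide (a = 0) && decide (b = 0)) ||
  (decide (m = 3) && decide (a = -1) && decide (b = -1)) ||
  (decide (m = 4) && decide (a = -1) && decide (b = -2)) ||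
  (decide (m = 4) && decide (a = -2) && decide (b = -1)) ||
  (decide (m = 6) && decide (a = -1) && decide (b = -3)) ||
  (decide (m = 6) && decide (a = -3) && decide (b = -1))

/-- the list of rows is a Cartan matrix compatible with `M` -/
def cartanOK : Bool :=
  decide (AL.length = l) && AL.all (fun row => decide (row.length = l)) &&
  decide (∀ i j : Fin l, if i = j then cA AL i i = 2 else
    cartanCase (M.M i j) (cA AL i j) (cA AL j i) = true)

variable (hA : cartanOK M AL = true)
include hA

theorem cA_diag (i : Fin l) : cA AL i i = 2 := by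
  unfold cartanOK at hA
  simp only [Bool.and_eq_true, decide_eq_true_eq] at hA
  have := hA.2 i i
  simpa using this

theorem cA_case (i j : Fin l) (hij : i ≠ j) :
    cartanCase (M.M i j) (cA AL i j) (cA AL j i) = true := by
  unfold cartanOK at hA
  simp only [Bool.and_eq_true, decide_eq_true_eq] at hA
  have := hA.2 i j
  rwa [if_neg hij] at this

theorem reflF_invol (i : Fin l) (v : Fin l → ℤ) : reflF AL i (reflF AL i v) = v := by
  funext k
  simp only [reflF_apply, cA_diag M AL hA]
  ring

/-- the reflection as a permutation of `ℤ^l` -/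
def reflPerm (i : Fin l) : Equiv.Perm (Fin l → ℤ) :=
  Function.Involutive.toPerm (reflF AL i) (reflF_invol M AL hA i)

theorem reflPerm_apply (i : Fin l) (v : Fin l → ℤ) : reflPerm M AL hA i v = reflF AL i v := rfl

theorem isLiftable : M.IsLiftable (reflPerm M AL hA) := by
  intro i j
  by_cases hij : i = j
  · subst hij
    rw [M.diagonal i, pow_one]
    ext v k
    simp only [Equiv.Perm.mul_apply, reflPerm_apply, Equiv.Perm.one_apply]
    rw [reflF_invol M AL hA]
  · have hc := cA_case M AL hA i j hij
    have hii := cA_diag M AL hA i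
    have hjj := cA_diag M AL hA j
    unfold cartanCase at hc
    simp only [Bool.or_eq_true, Bool.and_eq_true, decide_eq_true_eq] at hc
    rcases hc with ((((⟨⟨hm, ha⟩, hb⟩ | ⟨⟨hm, ha⟩, hb⟩) | ⟨⟨hm, ha⟩, hb⟩) | ⟨⟨hm, ha⟩, hb⟩) | ⟨⟨hm, ha⟩, hb⟩) | ⟨⟨hm, ha⟩, hb⟩
    all_goals
      show (reflPerm M AL hA i * reflPerm M AL hA j) ^ (M.M i j) = 1
      rw [hm]
      ext v k
      simp only [pow_succ, pow_zero, one_mul, Equiv.Perm.mul_apply, reflPerm_apply,
        Equiv.Perm.one_apply, reflF_apply, hii, hjj, ha, hb]
      ring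

/-- the reflection representation -/
noncomputable def R : M.Group →* Equiv.Perm (Fin l → ℤ) :=
  M.toCoxeterSystem.lift ⟨reflPerm M AL hA, isLiftable M AL hA⟩

theorem R_simple (i : Fin l) : R M AL hA (M.simple i) = reflPerm M AL hA i := by
  unfold R
  rw [← CoxeterMatrix.toCoxeterSystem_simple, CoxeterSystem.lift_apply_simple]

/-- reflection with natural index (identity out of range) -/
def reflN (a : ℕ) (v : Fin l → ℤ) : Fin l → ℤ := if h : a < l then reflF AL ⟨a, h⟩ v else v

/-- right action of `W` on `ℤ^l` -/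
noncomputable def ract (g : M.Group) (v : Fin l → ℤ) : Fin l → ℤ := R M AL hA g⁻¹ v

theorem ract_one (v : Fin l → ℤ) : ract M AL hA 1 v = v := by simp [ract]

theorem ract_mul (g h : M.Group) (v : Fin l → ℤ) :
    ract M AL hA (g * h) v = ract M AL hA h (ract M AL hA g v) := by
  simp [ract, mul_inv_rev, map_mul, Equiv.Perm.mul_apply]

theorem ract_gN (a : ℕ) (v : Fin l → ℤ) : ract M AL hA (gN M a) v = reflN AL a v := by
  unfold ract
  rw [gN_inv]
  unfold gN reflN
  split_ifs with h
  · rw [R_simple, reflPerm_apply]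
  · simp

/-- action of a word, computed by reflections -/
def actF (w : List ℕ) (v : Fin l → ℤ) : Fin l → ℤ := w.foldl (fun v a => reflN AL a v) v

omit hA in
theorem actF_cons (a : ℕ) (w : List ℕ) (v : Fin l → ℤ) :
    actF AL (a :: w) v = actF AL w (reflN AL a v) := rfl

theorem ract_wpN (w : List ℕ) : ∀ v : Fin l → ℤ, ract M AL hA (wpN M w) v = actF AL w v := by
  induction w with
  | nil => intro v; simp [ract_one, actF]
  | cons a w ih =>
    intro v
    rw [wpN_cons, ract_mul, ract_gN, ih, actF_cons]

theorem ract_inv_eq {g : M.Group} {v : Fin l → ℤ} (h : ract M AL hA g v = v) :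
    ract M AL hA g⁻¹ v = v := by
  have := ract_mul M AL hA g g⁻¹ v
  rw [mul_inv_cancel, ract_one, h] at this
  exact this.symm

/-- the stabiliser of a vector -/
noncomputable def stab (v : Fin l → ℤ) : Subgroup M.Group where
  carrier := {g | ract M AL hA g v = v}
  one_mem' := ract_one M AL hA v
  mul_mem' := by
    intro g h hg hh
    show ract M AL hA (g * h) v = v
    rw [ract_mul, hg, hh]
  inv_mem' := by
    intro g hg
    exact ract_inv_eq M AL hA hg

theorem mem_stab (g : M.Group) (v : Fin l → ℤ) : g ∈ stab M AL hA v ↔ ract M AL hA g v = v := Iff.rfl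

end refl


/-! ### Computing with lists -/

section lists

variable (AL : List (List ℤ))

/-- reflection on lists -/
def reflL (i : ℕ) (v : List ℤ) : List ℤ :=
  List.zipWith (fun x a => x - v.getD i 0 * a) v (AL.getD i [])

/-- action of a word on lists -/
def actL (w : List ℕ) (v : List ℤ) : List ℤ := w.foldl (fun v a => reflL AL a v) v

/-- list to function -/
def ofL (v : List ℤ) : Fin l → ℤ := fun k => v.getD k 0

/-- rows have the right length -/
def rowsOK : Prop := AL.length = l ∧ ∀ row ∈ AL, row.length = l

variable {AL}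

theorem reflL_length (hrows : rowsOK (l := l) AL) (i : ℕ) (hi : i < l) (v : List ℤ) (hv : v.length = l) :
    (reflL AL i v).length = l := by
  unfold reflL
  rw [List.length_zipWith, hv]
  have : (AL.getD i []).length = l := by
    rw [List.getD_eq_getElem _ _ (by rw [hrows.1]; exact hi)]
    exact hrows.2 _ (List.getElem_mem _)
  rw [this, min_self]

theorem ofL_reflL (hrows : rowsOK (l := l) AL) (i : ℕ) (hi : i < l) (v : List ℤ) (hv : v.length = l) :
    ofL (l := l) (reflL AL i v) = reflF AL ⟨i, hi⟩ (ofL v) := by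
  funext k
  have hrow : (AL.getD i []).length = l := by
    rw [List.getD_eq_getElem _ _ (by rw [hrows.1]; exact hi)]
    exact hrows.2 _ (List.getElem_mem _)
  unfold ofL reflL
  rw [reflF_apply]
  have hk1 : k.val < v.length := by rw [hv]; exact k.isLt
  have hk2 : k.val < (AL.getD i []).length := by rw [hrow]; exact k.isLt
  rw [List.getD_eq_getElem _ _ (by rw [List.length_zipWith]; omega), List.getElem_zipWith,
    List.getD_eq_getElem _ _ hk1]
  unfold cA
  rw [List.getD_eq_getElem (AL.getD i []) _ hk2]

theorem actL_length (hrows : rowsOK (l := l) AL) (w : List ℕ) (hw : ∀ a ∈ w, a < l) :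
    ∀ (v : List ℤ), v.length = l → (actL AL w v).length = l := by
  induction w with
  | nil => intro v hv; exact hv
  | cons a w ih =>
    intro v hv
    show (actL AL w (reflL AL a v)).length = l
    exact ih (fun b hb => hw b (by simp [hb])) _ (reflL_length hrows a (hw a (by simp)) v hv)

theorem ofL_actL (hrows : rowsOK (l := l) AL) (w : List ℕ) (hw : ∀ a ∈ w, a < l) :
    ∀ (v : List ℤ), v.length = l → ofL (l := l) (actL AL w v) = actF AL w (ofL v) := by
  induction w with
  | nil => intro v _; rfl
  | cons a w ih =>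
    intro v hv
    have ha : a < l := hw a (by simp)
    show ofL (actL AL w (reflL AL a v)) = actF AL w (reflN AL a (ofL v))
    rw [ih (fun b hb => hw b (by simp [hb])) _ (reflL_length hrows a ha v hv), ofL_reflL hrows a ha v hv]
    unfold reflN
    rw [dif_pos ha]

end lists


/-! ### The chain argument -/

section chain

variable (AL : List (List ℤ))

/-- unit vector as a list -/
def eL (l k : ℕ) : List ℤ := (List.range l).map (fun m => if m = k then 1 else 0)

theorem eL_length (k : ℕ) : (eL l k).length = l := by simp [eL]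

theorem ofL_eL (k : ℕ) (m : Fin l) : ofL (l := l) (eL l k) m = if m.val = k then 1 else 0 := by
  unfold ofL eL
  rw [List.getD_eq_getElem _ _ (by simp)]
  simp

/-- the orbit of the `k`-th unit vector under the representatives has no repetition -/
def orbitOK (l : ℕ) (AL : List (List ℤ)) (L : Level) : Bool :=
  decide ((L.reps.map (fun w => actL AL w (eL l L.k))).Nodup)

theorem ofL_injective {v v' : List ℤ} (hv : v.length = l) (hv' : v'.length = l)
    (h : ofL (l := l) v = ofL v') : v = v' := by
  apply List.ext_getElem (by rw [hv, hv'])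
  intro m h1 h2
  have := congrFun h ⟨m, by omega⟩
  unfold ofL at this
  simp only at this
  rwa [List.getD_eq_getElem _ _ h1, List.getD_eq_getElem _ _ h2] at this

variable (hA : cartanOK M AL = true)
include hA

theorem rowsOK_of_cartanOK : rowsOK (l := l) AL := by
  unfold cartanOK at hA
  simp only [Bool.and_eq_true, decide_eq_true_eq, List.all_eq_true] at hA
  exact ⟨hA.1.1, hA.1.2⟩

/-- `W_k` fixes the `k`-th unit vector -/
theorem Wk_le_stab (k : ℕ) : Wk M k ≤ stab M AL hA (ofL (eL l k)) := by
  unfold Wk
  rw [Subgroup.closure_le]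
  rintro g ⟨a, ha, rfl⟩
  show ract M AL hA (gN M a) _ = _
  rw [ract_gN]
  unfold reflN
  split_ifs with h
  · funext m
    rw [reflF_apply, ofL_eL, ofL_eL]
    have : ¬ ((⟨a, h⟩ : Fin l).val = k) := by simp; omega
    rw [if_neg this, zero_mul, sub_zero]
  · rfl

omit hA in
theorem rep_letters (hL : checkLevel M L = true) (hk : L.k < l) (x : ℕ) : ∀ a ∈ L.rep x, a < l := by
  intro a ha
  have h := hL
  unfold checkLevel at h
  simp only [Bool.and_eq_true, decide_eq_true_eq, List.all_eq_true, List.mem_range] at h
  obtain ⟨⟨⟨hrep0, hN0⟩, hall⟩, hreps⟩ := h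
  unfold Level.rep at ha
  by_cases hx : x < L.reps.length
  · rw [List.getD_eq_getElem _ _ hx] at ha
    have := hreps _ (List.getElem_mem hx) a ha
    omega
  · rw [List.getD_eq_default _ _ (by omega)] at ha
    exact absurd ha (by simp)

theorem orbit_inj (hL : checkLevel M L = true) (hO : orbitOK l AL L = true) (hk : L.k < l)
    (x x' : ℕ) (hx : x < L.N) (hx' : x' < L.N)
    (h : actF (l := l) AL (L.rep x) (ofL (eL l L.k)) = actF AL (L.rep x') (ofL (eL l L.k))) : x = x' := by
  have hrows := rowsOK_of_cartanOK M AL hA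
  have h1 := ofL_actL hrows (L.rep x) (rep_letters M L hL hk x) (eL l L.k) (eL_length _)
  have h2 := ofL_actL hrows (L.rep x') (rep_letters M L hL hk x') (eL l L.k) (eL_length _)
  rw [← h1, ← h2] at h
  have h3 := ofL_injective
    (actL_length hrows _ (rep_letters M L hL hk x) _ (eL_length _))
    (actL_length hrows _ (rep_letters M L hL hk x') _ (eL_length _)) h
  have hnd : (L.reps.map (fun w => actL AL w (eL l L.k))).Nodup := of_decide_eq_true hO
  have hlen : (L.reps.map (fun w => actL AL w (eL l L.k))).length = L.N := by simp [Level.N]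
  have := (List.Nodup.getElem_inj_iff hnd (i := x) (j := x') (hi := by omega) (hj := by omega)).1 (by
    simp only [List.getElem_map]
    unfold Level.rep at h3
    unfold Level.N at hx hx'
    rwa [List.getD_eq_getElem _ _ hx, List.getD_eq_getElem _ _ hx'] at h3)
  exact this

/-- decomposition of `W_{k+1}` into cosets, with the coset read off from the action -/
theorem ract_coset (u : M.Group) (hu : u ∈ Wk M L.k) (x : ℕ) :
    ract M AL hA (u * wpN M (L.rep x)) (ofL (eL l L.k)) = actF AL (L.rep x) (ofL (eL l L.k)) := by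
  rw [ract_mul, (mem_stab M AL hA u _).1 (Wk_le_stab M AL hA L.k hu), ract_wpN]

theorem card_step (hL : checkLevel M L = true) (hO : orbitOK l AL L = true) (hk : L.k < l) :
    Nat.card (Wk M (L.k + 1)) = Nat.card (Wk M L.k) * L.N := by
  let f : Wk M L.k × Fin L.N → Wk M (L.k + 1) := fun p =>
    ⟨p.1.1 * wpN M (L.rep p.2.val), mul_mem (Wk_mono M (Nat.le_succ _) p.1.2) (rep_mem M L hL _)⟩
  have hf : Function.Bijective f := by
    constructor
    · rintro ⟨⟨u, hu⟩, x⟩ ⟨⟨u', hu'⟩, x'⟩ h
      have h0 : u * wpN M (L.rep x.val) = u' * wpN M (L.rep x'.val) := congrArg Subtype.val h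
      have h1 : ract M AL hA (u * wpN M (L.rep x.val)) (ofL (eL l L.k)) =
          ract M AL hA (u' * wpN M (L.rep x'.val)) (ofL (eL l L.k)) := by rw [h0]
      rw [ract_coset M L AL hA u hu, ract_coset M L AL hA u' hu'] at h1
      have hxx := orbit_inj M L AL hA hL hO hk x.val x'.val x.isLt x'.isLt h1
      have hxx' : x = x' := Fin.ext hxx
      subst hxx'
      have : u = u' := mul_right_cancel h0
      subst this
      rfl
    · rintro ⟨g, hg⟩
      obtain ⟨x, hx, hgx⟩ := level_cover M L hL g hg
      refine ⟨(⟨g * (wpN M (L.rep x))⁻¹, hgx⟩, ⟨x, hx⟩), ?_⟩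
      apply Subtype.ext
      simp [f]
  rw [← Nat.card_eq_of_bijective f hf, Nat.card_prod, Nat.card_fin]

theorem fix_step (hL : checkLevel M L = true) (hO : orbitOK l AL L = true) (hk : L.k < l)
    (hprev : ∀ g ∈ Wk M L.k, (∀ j < L.k, ract M AL hA g (ofL (eL l j)) = ofL (eL l j)) → g = 1) :
    ∀ g ∈ Wk M (L.k + 1), (∀ j < L.k + 1, ract M AL hA g (ofL (eL l j)) = ofL (eL l j)) → g = 1 := by
  intro g hg hfix
  obtain ⟨x, hx, hgx⟩ := level_cover M L hL g hg
  have h' := hL
  unfold checkLevel at h'
  simp only [Bool.and_eq_true, decide_eq_true_eq, List.all_eq_true, List.mem_range] at h'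
  obtain ⟨⟨⟨hrep0, hN0⟩, hall⟩, hreps⟩ := h'
  have e : g = (g * (wpN M (L.rep x))⁻¹) * wpN M (L.rep x) := by group
  have h1 := hfix L.k (Nat.lt_succ_self _)
  rw [e, ract_coset M L AL hA _ hgx] at h1
  have h2 : actF (l := l) AL (L.rep 0) (ofL (eL l L.k)) = ofL (eL l L.k) := by rw [hrep0]; rfl
  have hx0 : x = 0 := orbit_inj M L AL hA hL hO hk x 0 hx hN0 (by rw [h1, h2])
  subst hx0
  rw [hrep0, wpN_nil, inv_one, mul_one] at hgx
  exact hprev g hgx (fun j hj => hfix j (by omega))

end chain


/-! ### Main theorems -/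

section main

variable (AL : List (List ℤ)) (lev : ℕ → Level)

/-- the hypotheses checked by `decide +kernel` -/
def LevOK (k : ℕ) : Prop :=
  (lev k).k = k ∧ checkLevel M (lev k) = true ∧ orbitOK l AL (lev k) = true

variable (hA : cartanOK M AL = true) (hlev : ∀ k, k < l → LevOK M AL lev k)
include hA hlev

theorem chain_card : ∀ k, k ≤ l → Nat.card (Wk M k) = ∏ j ∈ Finset.range k, (lev j).N := by
  intro k
  induction k with
  | zero =>
    intro _
    rw [Wk_zero, Finset.range_zero, Finset.prod_empty]
    exact Nat.card_unique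
  | succ k ih =>
    intro hk
    obtain ⟨h1, h2, h3⟩ := hlev k (by omega)
    have := card_step M (lev k) AL hA h2 h3 (by rw [h1]; omega)
    rw [h1] at this
    rw [this, ih (by omega), Finset.prod_range_succ]

theorem chain_fix : ∀ k, k ≤ l → ∀ g ∈ Wk M k,
    (∀ j < k, ract M AL hA g (ofL (eL l j)) = ofL (eL l j)) → g = 1 := by
  intro k
  induction k with
  | zero =>
    intro _ g hg _
    rw [Wk_zero] at hg
    exact Subgroup.mem_bot.1 hg
  | succ k ih =>
    intro hk
    obtain ⟨h1, h2, h3⟩ := hlev k (by omega)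
    have := fix_step M (lev k) AL hA h2 h3 (by rw [h1]; omega)
    rw [h1] at this
    exact this (ih (by omega))

theorem card_group : Nat.card M.Group = ∏ j ∈ Finset.range l, (lev j).N := by
  rw [← chain_card M AL lev hA hlev l le_rfl, Wk_top]
  exact (Nat.card_congr (Subgroup.topEquiv).toEquiv).symm

theorem eq_one_of_ract (g : M.Group)
    (h : ∀ j < l, ract M AL hA g (ofL (eL l j)) = ofL (eL l j)) : g = 1 :=
  chain_fix M AL lev hA hlev l le_rfl g (by rw [Wk_top]; exact Subgroup.mem_top _) h

/-- word problem criterion -/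
theorem word_criterion (w : List ℕ) (hw : ∀ a ∈ w, a < l)
    (h : ∀ j < l, actL AL w (eL l j) = eL l j) : wpN M w = 1 := by
  apply eq_one_of_ract M AL lev hA hlev
  intro j hj
  rw [ract_wpN, ← ofL_actL (rowsOK_of_cartanOK M AL hA) w hw _ (eL_length j), h j hj]

omit hlev in
theorem ne_one_of_actL (w : List ℕ) (hw : ∀ a ∈ w, a < l) (v : List ℤ) (hv : v.length = l)
    (h : actL AL w v ≠ v) : wpN M w ≠ 1 := by
  intro h1
  apply h
  have hrows := rowsOK_of_cartanOK M AL hA
  apply ofL_injective (l := l) (actL_length hrows w hw v hv) hv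
  rw [ofL_actL hrows w hw v hv, ← ract_wpN M AL hA, h1, ract_one]

end main

end Cfsg.Agent.Helper40.TC
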