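import Cfsg.Agent.Helper40.StCentral
import Cfsg.Agent.S1025
import Cfsg.Prelude.Def_SteinbergCover

/-!
Helper40: groups presented by Steinberg's generators subject to a set of relators containing (R1), (R2) and holding in
the Chevalley group are central extensions of the Chevalley group.
-/

set_option autoImplicit false
set_option linter.unusedSectionVars false

namespace Cfsg.Agent.Helper40.St

open Cfsg Cfsg.Lie Cfsg.Agent.Helper18 Cfsg.Agent.Helper40.ChevAdd

section
variable {K : Type*} [Field K] (D : ChevalleyDatum) (hadd : ChevAdd.addOK D = true)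

/-- the images of the generators in the general linear group -/
noncomputable def fGL : Fin D.nroots × K → GL D.Idx K := fun p => xGL D hadd K p.1.val p.2

theorem xGL_of_ge (r : ℕ) (hr : ¬ r < D.nroots) (t : K) : xGL D hadd K r t = 1 := by
  apply Units.ext
  rw [coe_xGL, Units.val_one]
  unfold ChevalleyDatum.x
  rw [dif_neg hr]

theorem lift_stX (r : ℕ) (t : K) : FreeGroup.lift (fGL D hadd) (D.stX r t) = xGL D hadd K r t := by
  unfold ChevalleyDatum.stX
  by_cases hr : r < D.nroots
  · rw [dif_pos hr, FreeGroup.lift_apply_of]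
    rfl
  · rw [dif_neg hr, map_one, xGL_of_ge D hadd r hr]

/-- the product of a word of root elements in the general linear group -/
noncomputable def wGL (w : List (ℕ × K)) : GL D.Idx K := (w.map fun p => xGL D hadd K p.1 p.2).prod

theorem lift_stWord (w : List (ℕ × K)) : FreeGroup.lift (fGL D hadd) (D.stWord w) = wGL D hadd w := by
  unfold ChevalleyDatum.stWord wGL
  rw [map_list_prod, List.map_map]
  congr 1
  apply List.map_congr_left
  intro p _
  exact lift_stX D hadd p.1 p.2

theorem coe_wGL (w : List (ℕ × K)) : ((wGL D hadd w : GL D.Idx K) : Matrix D.Idx D.Idx K) = D.wordMat K w := by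
  unfold wGL ChevalleyDatum.wordMat
  induction w with
  | nil => simp
  | cons p w ih => rw [List.map_cons, List.prod_cons, Units.val_mul, ih, List.map_cons, List.prod_cons, coe_xGL]

/-- (R1), (R2) hold in the Chevalley group -/
theorem lift_relsAB (hD : D ∈ [chevG2, chevB2, chevD4, chevF4, chevE6, chevE7, chevE8]) :
    ∀ g ∈ D.steinbergRelsAB K, FreeGroup.lift (fGL D hadd) g = 1 := by
  intro g hg
  rcases hg with ⟨r, t₁, t₂, hr, rfl⟩ | ⟨r, s, t, u, hr, hs, h1, h2, rfl⟩
  · rw [map_mul, map_mul, map_inv, lift_stX, lift_stX, lift_stX, xGL_add, mul_inv_cancel]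
  · rw [map_mul, map_mul, map_mul, map_mul, map_inv, map_inv, map_inv, lift_stX, lift_stX, lift_stWord]
    have e : xGL D hadd K s u * xGL D hadd K r t = xGL D hadd K r t * xGL D hadd K s u *
        wGL D hadd (D.commWord K r s t u) := by
      apply Units.ext
      rw [Units.val_mul, Units.val_mul, Units.val_mul, coe_xGL, coe_xGL, coe_wGL]
      exact Cfsg.Agent.S1025.result D hD r s hr hs h1 h2 t u
    rw [mul_assoc _ (xGL D hadd K s u), e]
    group

variable {D} in
/-- the presented group over the Chevalley group -/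
theorem over_presented (rels : Set (FreeGroup (Fin D.nroots × K))) (hAB : D.steinbergRelsAB K ⊆ rels)
    (hG : ∀ g ∈ rels, FreeGroup.lift (fGL D hadd) g = 1) :
    Over D hadd (fun r t => PresentedGroup.mk rels (D.stX r t)) (PresentedGroup.toGroup hG) where
  add := by
    intro r hr t u
    rw [← map_mul]
    symm
    apply PresentedGroup.mk_eq_mk_of_mul_inv_mem
    apply hAB
    left
    exact ⟨r, t, u, hr, rfl⟩
  comm := by
    intro r s hr hs h1 h2 t u
    have hrel : (D.stX s u)⁻¹ * (D.stX r t)⁻¹ * D.stX s u * D.stX r t * (D.stWord (D.commWord K r s t u))⁻¹ ∈ rels := by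
      apply hAB
      right
      exact ⟨r, s, t, u, hr, hs, h1, h2, rfl⟩
    have h3 := PresentedGroup.mk_eq_mk_of_mul_inv_mem hrel
    have h4 : wordG (fun r t => PresentedGroup.mk rels (D.stX r t)) (D.commWord K r s t u) =
        PresentedGroup.mk rels (D.stWord (D.commWord K r s t u)) := by
      unfold wordG ChevalleyDatum.stWord
      rw [map_list_prod, List.map_map]
      rfl
    rw [h4, ← h3]
    simp only [map_mul, map_inv]
    group
  π_X := by
    intro r hr t
    show PresentedGroup.toGroup hG (PresentedGroup.mk rels (D.stX r t)) = _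
    have : PresentedGroup.mk rels (D.stX r t) = PresentedGroup.of (⟨r, hr⟩, t) := by
      unfold ChevalleyDatum.stX
      rw [dif_pos hr]
      rfl
    rw [this, PresentedGroup.toGroup.of]
    rfl

variable {D} in
theorem gen_presented (rels : Set (FreeGroup (Fin D.nroots × K))) :
    Subgroup.closure {g | ∃ r < D.nroots, ∃ t : K, g = PresentedGroup.mk rels (D.stX r t)} = ⊤ := by
  rw [eq_top_iff, ← PresentedGroup.closure_range_of, Subgroup.closure_le]
  rintro x ⟨⟨r, t⟩, rfl⟩
  apply Subgroup.subset_closure
  refine ⟨r.val, r.isLt, t, ?_⟩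
  unfold ChevalleyDatum.stX
  rw [dif_pos r.isLt]
  rfl

variable {D} in
/-- a presented group whose relators contain (R1), (R2) and hold in the Chevalley group is a central extension
of the Chevalley group -/
theorem presented_central (hD : D ∈ [chevG2, chevB2, chevD4, chevF4, chevE6, chevE7, chevE8])
    (rels : Set (FreeGroup (Fin D.nroots × K))) (hAB : D.steinbergRelsAB K ⊆ rels)
    (hG : ∀ g ∈ rels, FreeGroup.lift (fGL D hadd) g = 1) :
    ∃ θ : PresentedGroup rels →* ↥(D.group K), Function.Surjective θ ∧ θ.ker ≤ Subgroup.center (PresentedGroup rels) ∧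
      (∀ g, ((θ g : GL D.Idx K)) = PresentedGroup.toGroup hG g) ∧
      ∀ (r : ℕ) (t : K), r < D.nroots →
        ((θ (PresentedGroup.mk rels (D.stX r t)) : GL D.Idx K) : Matrix D.Idx D.Idx K) = D.x K r t := by
  have O := over_presented hadd rels hAB hG
  have hrange : ∀ g, PresentedGroup.toGroup hG g ∈ D.group K := by
    intro g
    have : (⊤ : Subgroup (PresentedGroup rels)) ≤ (D.group K).comap (PresentedGroup.toGroup hG) := by
      rw [← gen_presented rels, Subgroup.closure_le]
      rintro x ⟨r, hr, t, rfl⟩
      rw [SetLike.mem_coe, Subgroup.mem_comap, O.π_X r hr]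
      apply Subgroup.subset_closure
      refine ⟨⟨r, hr⟩, t, ?_⟩
      rw [coe_xGL]
      unfold ChevalleyDatum.x
      rw [dif_pos hr]
    exact this (Subgroup.mem_top g)
  refine ⟨(PresentedGroup.toGroup hG).codRestrict (D.group K) hrange, ?_, ?_, fun g => rfl, ?_⟩
  · rintro ⟨y, hy⟩
    have : D.group K ≤ (PresentedGroup.toGroup hG).range := by
      unfold ChevalleyDatum.group
      rw [Subgroup.closure_le]
      rintro g ⟨r, t, hg⟩
      refine ⟨PresentedGroup.mk rels (D.stX r.val t), ?_⟩
      rw [O.π_X r.val r.isLt]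
      apply Units.ext
      rw [coe_xGL, hg]
      unfold ChevalleyDatum.x
      rw [dif_pos r.isLt]
    obtain ⟨x, hx⟩ := this hy
    exact ⟨x, Subtype.ext hx⟩
  · have hk := ker_le_center hD O (gen_presented rels)
    intro g hg
    apply hk
    rw [MonoidHom.mem_ker] at hg ⊢
    have := congrArg (fun z : ↥(D.group K) => (z : GL D.Idx K)) hg
    exact this
  · intro r t hr
    show ((PresentedGroup.toGroup hG (PresentedGroup.mk rels (D.stX r t)) : GL D.Idx K) : Matrix D.Idx D.Idx K) = _
    rw [O.π_X r hr, coe_xGL]

end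

end Cfsg.Agent.Helper40.St
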