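import Cfsg.Agent.Helper40.StH

/-!
Helper40: if the Cartan matrix is unimodular and `h̄_p` is multiplicative for the fundamental roots `p`, then the
projection onto the Chevalley group is injective on `H̄`.
-/

set_option autoImplicit false
set_option linter.unusedSectionVars false

namespace Cfsg.Agent.Helper40.St

open Cfsg Cfsg.Lie Cfsg.Agent.Helper18 Cfsg.Agent.Helper40.ChevAdd Cfsg.Agent.Helper40.UProd
  Cfsg.Agent.Helper40.SL2Hom Cfsg.Agent.Helper40.SL2Chev Cfsg.Agent.Helper40.NMono

section
variable {K : Type*} [Field K] {D : ChevalleyDatum} {Γ : Type*} [Group Γ] {X : ℕ → K → Γ}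
  {hadd : ChevAdd.addOK D = true} {π : Γ →* GL D.Idx K}

theorem hbar_one (r : ℕ) : hbar D X r (1 : K) = 1 := by
  unfold hbar
  rw [mul_inv_cancel]

theorem hbar_mul_inv (r : ℕ) (a b : K) : hbar D X r a * (hbar D X r b)⁻¹ = nbar D X r a * (nbar D X r b)⁻¹ := by
  unfold hbar
  group

/-- the `h̄_p(t)`, `p` fundamental, commute -/
theorem hbar_comm (hD : D ∈ [chevG2, chevB2, chevD4, chevF4, chevE6, chevE7, chevE8]) (O : Over D hadd X π)
    {φ : ℕ → ℤ} (S : Std D φ)
    (hmul : ∀ i < D.rank, ∀ t u : K, t ≠ 0 → u ≠ 0 →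
      hbar D X (D.simple i) (t * u) = hbar D X (D.simple i) t * hbar D X (D.simple i) u)
    (i j : ℕ) (hi : i < D.rank) (hj : j < D.rank) (t u : K) (ht : t ≠ 0) (hu : u ≠ 0) :
    Commute (hbar D X (D.simple i) t) (hbar D X (D.simple j) u) := by
  have hp := S.simple_lt j hj
  have h1 := hbar_conj_nbar hD O S i hi t ht _ hp u
  have h2 := hbar_conj_nbar hD O S i hi t ht _ hp 1
  have hc : t ^ pairing' D (D.simple i) (D.simple j) ≠ 0 := zpow_ne_zero _ ht
  have e : hbar D X (D.simple i) t * hbar D X (D.simple j) u * (hbar D X (D.simple i) t)⁻¹ =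
      hbar D X (D.simple j) u := by
    have e1 : hbar D X (D.simple i) t * hbar D X (D.simple j) u * (hbar D X (D.simple i) t)⁻¹ =
        (hbar D X (D.simple i) t * nbar D X (D.simple j) u * (hbar D X (D.simple i) t)⁻¹) *
          (hbar D X (D.simple i) t * nbar D X (D.simple j) 1 * (hbar D X (D.simple i) t)⁻¹)⁻¹ := by
      conv_lhs => rw [hbar.eq_def D X (D.simple j) u]
      group
    rw [e1, h1, h2, mul_one, ← hbar_mul_inv, mul_comm _ u, hmul j hj u _ hu hc, mul_inv_cancel_right]
  exact mul_inv_eq_iff_eq_mul.mp e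

variable (hD : D ∈ [chevG2, chevB2, chevD4, chevF4, chevE6, chevE7, chevE8]) (O : Over D hadd X π)
  {φ : ℕ → ℤ} (S : Std D φ)
  (hmul : ∀ i < D.rank, ∀ t u : K, t ≠ 0 → u ≠ 0 →
    hbar D X (D.simple i) (t * u) = hbar D X (D.simple i) t * hbar D X (D.simple i) u)

/-- `t ↦ h̄_{p_i}(t)` as a homomorphism -/
def hbarHom (hmul : ∀ i < D.rank, ∀ t u : K, t ≠ 0 → u ≠ 0 →
    hbar D X (D.simple i) (t * u) = hbar D X (D.simple i) t * hbar D X (D.simple i) u) (i : Fin D.rank) : Kˣ →* Γ where
  toFun t := hbar D X (D.simple i) (t : K)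
  map_one' := by rw [Units.val_one, hbar_one]
  map_mul' a b := by rw [Units.val_mul, hmul i i.isLt _ _ a.ne_zero b.ne_zero]

include hD O S in
theorem hbarHom_comm : Pairwise fun i j : Fin D.rank => ∀ x y : Kˣ, Commute (hbarHom hmul i x) (hbarHom hmul j y) := by
  intro i j _ x y
  exact hbar_comm hD O S hmul i j i.isLt j.isLt _ _ x.ne_zero y.ne_zero

/-- the torus `(Kˣ)^rank → H̄` -/
noncomputable def torusHom : (Fin D.rank → Kˣ) →* Γ :=
  MonoidHom.noncommPiCoprod (hbarHom hmul) (hbarHom_comm hD O S hmul)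

include hD O S in
theorem HB_le_range : HB D X ≤ (torusHom hD O S hmul).range := by
  unfold HB
  rw [Subgroup.closure_le]
  rintro x ⟨i, hi, t, ht, rfl⟩
  refine ⟨Pi.mulSingle ⟨i, hi⟩ (Units.mk0 t ht), ?_⟩
  unfold torusHom
  rw [MonoidHom.noncommPiCoprod_mulSingle]
  rfl

/-- the character of the torus on the fundamental root `p_j` -/
noncomputable def chi (D : ChevalleyDatum) (K : Type*) [Field K] (j : Fin D.rank) (t : Fin D.rank → Kˣ) : Kˣ :=
  ∏ i : Fin D.rank, (t i) ^ pairing' D (D.simple i) (D.simple j)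

theorem chi_one (j : Fin D.rank) : chi D K j 1 = 1 := by
  unfold chi
  simp

theorem chi_mul (j : Fin D.rank) (f g : Fin D.rank → Kˣ) : chi D K j (f * g) = chi D K j f * chi D K j g := by
  unfold chi
  rw [← Finset.prod_mul_distrib]
  apply Finset.prod_congr rfl
  intro i _
  rw [Pi.mul_apply, mul_zpow]

theorem chi_mulSingle (j i : Fin D.rank) (x : Kˣ) :
    chi D K j (Pi.mulSingle i x) = x ^ pairing' D (D.simple i) (D.simple j) := by
  unfold chi
  rw [Finset.prod_eq_single i]
  · rw [Pi.mulSingle_eq_same]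
  · intro b _ hb
    rw [Pi.mulSingle_eq_of_ne hb, one_zpow]
  · intro h
    exact absurd (Finset.mem_univ i) h

include hD O S in
/-- the action of the torus on the fundamental root elements -/
theorem torusHom_act (t : Fin D.rank → Kˣ) (j : Fin D.rank) (u : K) :
    torusHom hD O S hmul t * X (D.simple j) u * (torusHom hD O S hmul t)⁻¹ =
      X (D.simple j) ((chi D K j t : K) * u) := by
  induction t using Pi.mulSingle_induction generalizing u with
  | one => rw [map_one, chi_one]; simp
  | mul f g hf hg =>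
    rw [map_mul, chi_mul, Units.val_mul]
    have : torusHom hD O S hmul f * torusHom hD O S hmul g * X (D.simple j) u *
        (torusHom hD O S hmul f * torusHom hD O S hmul g)⁻¹ =
        torusHom hD O S hmul f * (torusHom hD O S hmul g * X (D.simple j) u * (torusHom hD O S hmul g)⁻¹) *
          (torusHom hD O S hmul f)⁻¹ := by group
    rw [this, hg, hf, mul_assoc]
  | mulSingle i x =>
    unfold torusHom
    rw [MonoidHom.noncommPiCoprod_mulSingle, chi_mulSingle, Units.val_zpow_eq_zpow_val]
    exact hbar_act hD O S i i.isLt _ x.ne_zero _ (S.simple_lt j j.isLt) u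

theorem prod_zpow_sum {G ι : Type*} [CommGroup G] (x : G) (s : Finset ι) (n : ι → ℤ) :
    ∏ j ∈ s, x ^ n j = x ^ ∑ j ∈ s, n j := by
  classical
  induction s using Finset.induction_on with
  | empty => simp
  | insert a s ha ih => rw [Finset.prod_insert ha, Finset.sum_insert ha, zpow_add, ih]

/-- unimodularity of the Cartan matrix: the torus element is determined by its characters -/
theorem eq_prod_chi (B : ℕ → ℕ → ℤ)
    (hB : ∀ i < D.rank, ∀ k < D.rank,
      ∑ j ∈ Finset.range D.rank, pairing' D (D.simple i) (D.simple j) * B j k = if i = k then 1 else 0)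
    (t : Fin D.rank → Kˣ) (k : Fin D.rank) : t k = ∏ j : Fin D.rank, (chi D K j t) ^ B j k := by
  induction t using Pi.mulSingle_induction with
  | one => simp [chi_one]
  | mul f g hf hg =>
    rw [Pi.mul_apply, hf, hg, ← Finset.prod_mul_distrib]
    apply Finset.prod_congr rfl
    intro j _
    rw [chi_mul, mul_zpow]
  | mulSingle i x =>
    have e1 : ∀ j : Fin D.rank, (chi D K j (Pi.mulSingle i x)) ^ B j k =
        x ^ (pairing' D (D.simple i) (D.simple j) * B j k) := by
      intro j
      rw [chi_mulSingle, zpow_mul]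
    rw [Finset.prod_congr rfl (fun j _ => e1 j), prod_zpow_sum,
      Fin.sum_univ_eq_sum_range (fun j => pairing' D (D.simple i) (D.simple j) * B j k), hB i i.isLt k k.isLt]
    by_cases hik : i = k
    · subst hik
      rw [Pi.mulSingle_eq_same, if_pos rfl, zpow_one]
    · have : (i : ℕ) ≠ (k : ℕ) := fun e => hik (Fin.ext e)
      rw [Pi.mulSingle_eq_of_ne (Ne.symm hik), if_neg this, zpow_zero]

include hD O S hmul in
/-- the projection is injective on `H̄` when the Cartan matrix is unimodular -/
theorem eq_one_of_mem_HB (B : ℕ → ℕ → ℤ)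
    (hB : ∀ i < D.rank, ∀ k < D.rank,
      ∑ j ∈ Finset.range D.rank, pairing' D (D.simple i) (D.simple j) * B j k = if i = k then 1 else 0)
    (g : Γ) (hg : g ∈ HB D X) (hπ : π g = 1) : g = 1 := by
  obtain ⟨t, rfl⟩ := HB_le_range hD O S hmul hg
  have hχ : ∀ j, chi D K j t = 1 := by
    intro j
    have hp := S.simple_lt j j.isLt
    have h1 := congrArg π (torusHom_act hD O S hmul t j 1)
    rw [map_mul, map_mul, map_inv, hπ, one_mul, inv_one, mul_one, O.π_X _ hp, O.π_X _ hp, mul_one] at h1
    exact Units.ext (xGL_inj hD _ hp _ _ h1).symm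
  have ht : t = 1 := by
    funext k
    rw [eq_prod_chi B hB t k]
    simp [hχ]
  rw [ht, map_one]

end

end Cfsg.Agent.Helper40.St
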