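import Cfsg.Agent.Helper40.StSym
import Cfsg.Agent.Helper40.StPres3
import Cfsg.Agent.Helper40.StTorus

/-!
Helper40: over a finite field the relators (R3) follow from (R1), (R2): `h̄_r` is multiplicative in every group
generated by root elements satisfying (R1), (R2) and lying over the Chevalley group.
-/

set_option autoImplicit false
set_option linter.unusedSectionVars false

namespace Cfsg.Agent.Helper40.St

open Cfsg Cfsg.Lie Cfsg.Agent.Helper18 Cfsg.Agent.Helper40.ChevAdd Cfsg.Agent.Helper40.SL2Chev
  Cfsg.Agent.Helper40.SL2Hom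

section
variable {K : Type*} [Field K] {D : ChevalleyDatum} {Γ : Type*} [Group Γ] {X : ℕ → K → Γ}
  {hadd : ChevAdd.addOK D = true} {π : Γ →* GL D.Idx K}

/-- `h̄_p` is multiplicative for the fundamental roots `p` (finite field) -/
theorem hbar_mul_simple [Finite K] (hD : D ∈ [chevG2, chevB2, chevD4, chevF4, chevE6, chevE7, chevE8])
    (O : Over D hadd X π) (gen : Subgroup.closure {g | ∃ r < D.nroots, ∃ t : K, g = X r t} = ⊤)
    (i : ℕ) (hi : i < D.rank) (t u : K) (ht : t ≠ 0) (hu : u ≠ 0) :
    hbar D X (D.simple i) (t * u) = hbar D X (D.simple i) t * hbar D X (D.simple i) u := by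
  obtain ⟨φ, S⟩ := exists_std D hD
  have hp := S.simple_lt i hi
  have hn := S.neg_lt _ hp
  have R : Cfsg.Agent.Helper40.StSym.Rel0 (X (D.simple i)) (X (D.neg (D.simple i))) :=
    { x_add := fun s t => O.add _ hp s t
      y_add := fun s t => O.add _ hn s t
      conj := fun t u ht => nbar_conj_self hD O S i hi t u ht }
  have hker := ker_le_center hD O gen
  have hπ : ∀ s t : K, s ≠ 0 → t ≠ 0 →
      π (h (X (D.simple i)) (X (D.neg (D.simple i))) (s * t)) =
        π (h (X (D.simple i)) (X (D.neg (D.simple i))) s) * π (h (X (D.simple i)) (X (D.neg (D.simple i))) t) := by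
    intro s t hs ht
    have e : ∀ c : K, π (h (X (D.simple i)) (X (D.neg (D.simple i))) c) = hG D hadd (D.simple i) c :=
      fun c => π_hbar O _ hp hn c
    rw [e, e, e]
    exact (SL2Chev.rel D hadd hD _ hp).h_mul s t hs ht
  exact R.h_mul_of_finite π hker hπ t u ht hu

/-- `h̄_r` is multiplicative for all roots `r` (finite field) -/
theorem hbar_mul_all [Finite K] (hD : D ∈ [chevG2, chevB2, chevD4, chevF4, chevE6, chevE7, chevE8])
    (O : Over D hadd X π) (gen : Subgroup.closure {g | ∃ r < D.nroots, ∃ t : K, g = X r t} = ⊤) :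
    ∀ r < D.nroots, ∀ t u : K, t ≠ 0 → u ≠ 0 → hbar D X r (t * u) = hbar D X r t * hbar D X r u := by
  obtain ⟨φ, S⟩ := exists_std D hD
  obtain ⟨-, -, cert, hcert⟩ := checks_of_mem D hD
  have hstep : ∀ i < D.rank, ∀ s < D.nroots,
      (∀ t u : K, t ≠ 0 → u ≠ 0 → hbar D X s (t * u) = hbar D X s t * hbar D X s u) →
      ∀ t u : K, t ≠ 0 → u ≠ 0 →
        hbar D X (D.reflectRoot i s) (t * u) = hbar D X (D.reflectRoot i s) t * hbar D X (D.reflectRoot i s) u := by
    intro i hi s hs hP
    obtain ⟨e, he, hc⟩ := nbar_one_conj_nbar hD O S i hi s hs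
    set n := nbar D X (D.simple i) 1 with hn
    set r' := D.reflectRoot i s with hr'
    -- `g(t) = n h̄_s(t) n⁻¹`
    have hg : ∀ t : K, n * hbar D X s t * n⁻¹ = hbar D X r' (e * t) * (hbar D X r' e)⁻¹ := by
      intro t
      have h1 := hc t
      have h2 := hc 1
      rw [mul_one] at h2
      rw [hbar_mul_inv, ← h1, ← h2]
      unfold hbar
      group
    have hgmul : ∀ t u : K, t ≠ 0 → u ≠ 0 →
        n * hbar D X s (t * u) * n⁻¹ = (n * hbar D X s t * n⁻¹) * (n * hbar D X s u * n⁻¹) := by
      intro t u ht hu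
      rw [hP t u ht hu]
      group
    have key : ∀ t : K, t ≠ 0 → hbar D X r' t = n * hbar D X s t * n⁻¹ := by
      intro t ht
      rcases he with rfl | rfl
      · rw [hg t, one_mul, hbar_one, inv_one, mul_one]
      · have h1 := hg (-t)
        have h2 := hg (-1)
        rw [neg_mul_neg, one_mul] at h1
        rw [neg_mul_neg, one_mul, hbar_one, one_mul] at h2
        have h3 := hgmul t (-1) ht (neg_ne_zero.mpr one_ne_zero)
        rw [mul_neg, mul_one, h1, h2] at h3
        exact (mul_right_cancel h3)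
    intro t u ht hu
    rw [key t ht, key u hu, key (t * u) (mul_ne_zero ht hu)]
    exact hgmul t u ht hu
  apply Cfsg.Agent.Helper36.root_induction D cert hcert
  · intro i hi s hs
    exact ⟨reflectRoot_lt D hD i s hi hs, reflectRoot_reflectRoot D hD i s hi hs⟩
  · intro j hj
    have h1 : ∀ t u : K, t ≠ 0 → u ≠ 0 →
        hbar D X (D.simple j) (t * u) = hbar D X (D.simple j) t * hbar D X (D.simple j) u :=
      fun t u ht hu => hbar_mul_simple hD O gen j hj t u ht hu
    refine ⟨h1, ?_⟩
    have h2 := hstep j hj _ (S.simple_lt j hj) h1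
    rw [SL2Chev.reflectRoot_simple D j] at h2
    exact h2
  · exact hstep

end

/-- enlarging a set of relators by consequences does not change the presented group -/
theorem exists_equiv_of_subset {α : Type*} (s t : Set (FreeGroup α)) (hst : s ⊆ t)
    (h : ∀ g ∈ t, PresentedGroup.mk s g = 1) :
    ∃ e : PresentedGroup s ≃* PresentedGroup t, ∀ w, e (PresentedGroup.mk s w) = PresentedGroup.mk t w := by
  have hN : Subgroup.normalClosure s = Subgroup.normalClosure t :=
    le_antisymm (Subgroup.normalClosure_mono hst)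
      (Subgroup.normalClosure_le_normal (fun g hg => PresentedGroup.mk_eq_one_iff.mp (h g hg)))
  exact ⟨QuotientGroup.quotientMulEquivOfEq hN, fun w => rfl⟩

/-- **Over a finite field the group presented by (R1), (R2) is the group presented by (R1)–(R3).** -/
theorem cover_equiv {K : Type*} [Field K] [Finite K] (D : ChevalleyDatum)
    (hD : D ∈ [chevG2, chevB2, chevD4, chevF4, chevE6, chevE7, chevE8]) :
    ∃ e : D.SteinbergCover K ≃* D.SteinbergGroup K, ∀ (r : ℕ) (t : K), e (D.scGen K r t) = D.stGen K r t := by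
  have hadd := ChevAdd.addOK_of_mem hD
  have hG := lift_rels (K := K) D hadd hD
  have hGAB : ∀ g ∈ D.steinbergRelsAB K, FreeGroup.lift (fGL D hadd) g = 1 :=
    fun g hg => hG g (relsAB_subset D hg)
  have O := over_presented hadd (D.steinbergRelsAB K) (fun _ h => h) hGAB
  have gen := gen_presented (K := K) (D := D) (D.steinbergRelsAB K)
  have hmul := hbar_mul_all hD O gen
  obtain ⟨φ, S⟩ := exists_std D hD
  obtain ⟨e, he⟩ := exists_equiv_of_subset (D.steinbergRelsAB K) (D.steinbergRels K) (relsAB_subset D) (by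
    rintro g (hg | ⟨r, t₁, t₂, hr, h1, h2, rfl⟩)
    · exact PresentedGroup.one_of_mem hg
    · have hnr := S.neg_lt r hr
      have e1 : ∀ t : K, PresentedGroup.mk (D.steinbergRelsAB K) (D.stH r t) =
          hbar D (fun r t => PresentedGroup.mk (D.steinbergRelsAB K) (D.stX r t)) r t := by
        intro t
        rw [mk_stH, ← nbar_inv O.toRels r hr hnr]
        rfl
      rw [map_mul, map_mul, map_inv, e1, e1, e1, hmul r hr t₁ t₂ h1 h2, mul_inv_cancel])
  exact ⟨e, fun r t => he _⟩

end Cfsg.Agent.Helper40.St
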