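import Cfsg.Agent.Helper40.ChevAdd

/-!
Helper40: "signed permutation conjugation" (SPC).  If a matrix `γ` acts on the Chevalley basis by
`γ e_s = ε_s e_{π s}` and `γ h_i = Σ_j C_{ji} h_j`, and the tables of the datum satisfy the Boolean
check `spcOK D π ε C r`, then `γ x_r(t) = x_{π r}(ε_r t) γ`.
-/

set_option autoImplicit false

namespace Cfsg.Agent.Helper40.SPC

open Cfsg Cfsg.Lie Cfsg.Agent.Helper18 Cfsg.Agent.Helper40.ChevAdd

section Col
variable {F : Type*} [Field F]

/-- `e_u`, or `0` when `u` is out of range -/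
def bR' (D : ChevalleyDatum) (u : ℕ) : D.Idx → F := if h : u < D.nroots then bR D u h else 0

theorem bR'_of_lt (D : ChevalleyDatum) {u : ℕ} (h : u < D.nroots) : bR' (F := F) D u = bR D u h := by
  unfold bR'; rw [dif_pos h]

theorem single_code_eq (D : ChevalleyDatum) (u : ℕ) (a : F) :
    (fun j : D.Idx => if D.rank + u = code D j then a else 0) = a • bR' (F := F) D u := by
  unfold bR'
  split_ifs with h
  · funext j
    simp only [Pi.smul_apply, bR, Pi.single_apply, smul_eq_mul]
    by_cases hj : j = Sum.inr ⟨u, h⟩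
    · subst hj; simp [code]
    · have : ¬ D.rank + u = code D j := by
        intro e
        apply hj
        apply code_injective D
        rw [← e]; rfl
      simp [hj, this]
  · funext j
    have : ¬ D.rank + u = code D j := by
      intro e
      have := code_lt D j
      omega
    simp [this]

theorem vecD_map_entries (D : ChevalleyDatum) (τ : F) (L : List (ℕ × ℕ × ℤ)) :
    vecD τ 0 0 D (L.map fun e => (D.rank + e.1, pmul (pconst e.2.2) (ppow pX e.2.1))) =
      (L.map fun e => (((e.2.2 : ℤ) : F) * τ ^ e.2.1) • bR' (F := F) D e.1).sum := by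
  induction L with
  | nil => rfl
  | cons e L ih =>
    simp only [List.map_cons, List.sum_cons]
    rw [vecD_cons, ih, single_code_eq]
    simp [peval_pmul, peval_ppow]

/-- the generic column of `x_r(τ)` -/
theorem x_col_generic (D : ChevalleyDatum) (r s : ℕ) (hr : r < D.nroots) (hs : s < D.nroots) (h1 : s ≠ r)
    (h2 : s ≠ D.neg r) (τ : F) :
    (D.x F r τ).mulVec (bR D s hs) =
      bR D s hs + ((colEntries D r s).map fun e => (((e.2.2 : ℤ) : F) * τ ^ e.2.1) • bR' (F := F) D e.1).sum := by
  unfold bR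
  rw [x_mulVec_single]
  have : code D (Sum.inr ⟨s, hs⟩) = D.rank + s := rfl
  rw [this, xCol_generic D r s hr hs h1 h2]
  have hcons : ∀ (v : SVec), vecD τ 0 0 D ((D.rank + s, pconst 1) :: v) = bR D s hs + vecD τ 0 0 D v := by
    intro v
    rw [vecD_cons_inr _ _ _ D s hs]
    simp
  rw [hcons, vecD_map_entries]
  rfl

theorem mulVec_list_sum {ι : Type*} [Fintype ι] (A : Matrix ι ι F) (l : List (ι → F)) :
    A.mulVec l.sum = (l.map A.mulVec).sum := by
  induction l with
  | nil => simp
  | cons a l ih => simp [Matrix.mulVec_add, ih]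

end Col

/-- the Cartan-part conditions at the root `r` -/
def cartanPartOK (D : ChevalleyDatum) (π : ℕ → ℕ) (C : ℕ → ℕ → ℤ) (r : ℕ) : Bool :=
  (List.range D.rank).all (fun i =>
    decide (((List.range D.rank).map fun j => C j i * (D.cartanSR.getD j #[]).getD (π r) 0).sum =
      (D.cartanSR.getD i #[]).getD r 0)) &&
  (List.range D.rank).all (fun j =>
    decide (((List.range D.rank).map fun i => C j i * (D.coroot.getD r #[]).getD i 0).sum =
      (D.coroot.getD (π r) #[]).getD j 0))

/-- the chain-table transport at the root `r` -/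
def chainPartOK (D : ChevalleyDatum) (π : ℕ → ℕ) (ε : ℕ → ℤ) (r : ℕ) : Bool :=
  sortedKeys (D.chain.getD r #[]).toList && sortedKeys (D.chain.getD (π r) #[]).toList &&
  decide ((D.chain.getD r #[]).toList.length = (D.chain.getD (π r) #[]).toList.length) &&
  (D.chain.getD r #[]).toList.all fun e =>
    decide (e.1 < D.nroots) && Nat.testBit (mask (D.chain.getD (π r) #[]).toList) (π e.1) &&
    e.2.toList.all (fun q => decide (q.1 < D.nroots)) &&
    decide (ce (D.chain.getD (π r) #[]).toList (π e.1) =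
      (e.2.toList.zipIdx).map fun q => (π q.1.1, q.2 + 1, ε e.1 * ε q.1.1 * ε r ^ (q.2 + 1) * q.1.2))

/-- the full check at the root `r` -/
def spcOK (D : ChevalleyDatum) (π : ℕ → ℕ) (ε : ℕ → ℤ) (C : ℕ → ℕ → ℤ) (r : ℕ) : Bool :=
  decide (D.neg r < D.nroots) && decide (D.neg r ≠ r) && decide (D.neg (π r) < D.nroots) &&
  decide (D.neg (π r) ≠ π r) && decide (π (D.neg r) = D.neg (π r)) && decide (ε (D.neg r) = ε r) &&
  cartanPartOK D π C r && chainPartOK D π ε r

/-- global conditions on `π` and `ε`: `π'` is a left inverse of `π` on the roots, signs are `±1` -/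
def permOK (D : ChevalleyDatum) (π π' : ℕ → ℕ) (ε : ℕ → ℤ) : Bool :=
  (List.range D.nroots).all fun s => decide (π s < D.nroots) && decide (π' (π s) = s) &&
    (decide (ε s = 1) || decide (ε s = -1))

theorem permOK_spec {D : ChevalleyDatum} {π π' : ℕ → ℕ} {ε : ℕ → ℤ} (h : permOK D π π' ε = true) :
    (∀ s < D.nroots, π s < D.nroots) ∧ (∀ s < D.nroots, ∀ s' < D.nroots, π s = π s' → s = s') ∧
      (∀ s < D.nroots, ε s = 1 ∨ ε s = -1) := by
  unfold permOK at h
  rw [List.all_eq_true] at h
  have h' : ∀ s < D.nroots, π s < D.nroots ∧ π' (π s) = s ∧ (ε s = 1 ∨ ε s = -1) := by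
    intro s hs
    have := h s (List.mem_range.mpr hs)
    simp only [Bool.and_eq_true, Bool.or_eq_true, decide_eq_true_eq] at this
    exact ⟨this.1.1, this.1.2, this.2⟩
  refine ⟨fun s hs => (h' s hs).1, ?_, fun s hs => (h' s hs).2.2⟩
  intro s hs s' hs' e
  rw [← (h' s hs).2.1, e, (h' s' hs').2.1]

/-- what the chain part gives: transport of `colEntries`, and range of the targets -/
theorem chainPart_spec (D : ChevalleyDatum) (π : ℕ → ℕ) (ε : ℕ → ℤ) (r : ℕ)
    (hinj : ∀ s < D.nroots, ∀ s' < D.nroots, π s = π s' → s = s')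
    (h : chainPartOK D π ε r = true) (s : ℕ) (hs : s < D.nroots) :
    colEntries D (π r) (π s) =
      (colEntries D r s).map (fun e => (π e.1, e.2.1, ε s * ε e.1 * ε r ^ e.2.1 * e.2.2)) ∧
    ∀ e ∈ colEntries D r s, e.1 < D.nroots := by
  unfold chainPartOK at h
  simp only [Bool.and_eq_true, decide_eq_true_eq, List.all_eq_true] at h
  obtain ⟨⟨⟨hs1, hs2⟩, hlen⟩, hall⟩ := h
  set L := (D.chain.getD r #[]).toList with hL
  set L' := (D.chain.getD (π r) #[]).toList with hL'
  have hnd := nodup_of_sortedKeys L hs1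
  have hnd' := nodup_of_sortedKeys L' hs2
  rw [colEntries_eq_ce, colEntries_eq_ce, ← hL, ← hL']
  by_cases hkey : s ∈ L.map (·.1)
  · obtain ⟨e, he, rfl⟩ := List.mem_map.mp hkey
    obtain ⟨⟨⟨_, _⟩, hrange⟩, hce⟩ := hall e he
    rw [hce, ce_of_mem L hnd e he, List.map_map]
    refine ⟨?_, ?_⟩
    · apply List.map_congr_left
      intro q _
      rfl
    · intro x hx
      rw [List.mem_map] at hx
      obtain ⟨q, hq, rfl⟩ := hx
      exact hrange q.1 (List.fst_mem_of_mem_zipIdx hq)
  · rw [ce_eq_nil_of_not_mem L s hkey]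
    refine ⟨?_, by intro e he; cases he⟩
    simp only [List.map_nil]
    apply ce_eq_nil_of_not_mem
    -- keys of `L'` are the images of the keys of `L`
    intro hmem
    have hA : ((L.map (·.1)).map π).Nodup := by
      apply List.Nodup.map_on _ hnd
      intro a ha b hb hab
      obtain ⟨ea, hea, rfl⟩ := List.mem_map.mp ha
      obtain ⟨eb, heb, rfl⟩ := List.mem_map.mp hb
      exact hinj _ (hall ea hea).1.1.1 _ (hall eb heb).1.1.1 hab
    have hsub : (L.map (·.1)).map π ⊆ L'.map (·.1) := by
      intro x hx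
      obtain ⟨a, ha, rfl⟩ := List.mem_map.mp hx
      obtain ⟨ea, hea, rfl⟩ := List.mem_map.mp ha
      exact (testBit_mask L' _).mp (hall ea hea).1.1.2
    have hperm : ((L.map (·.1)).map π).Perm (L'.map (·.1)) :=
      (List.subperm_of_subset hA hsub).perm_of_length_le (by simp [hlen])
    have := hperm.mem_iff.mpr hmem
    obtain ⟨a, ha, hae⟩ := List.mem_map.mp this
    obtain ⟨ea, hea, rfl⟩ := List.mem_map.mp ha
    have : ea.1 = s := hinj _ (hall ea hea).1.1.1 _ hs hae
    exact hkey (this ▸ ha)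

section Main
variable {F : Type*} [Field F]

theorem int_sq_one {a : ℤ} (h : a = 1 ∨ a = -1) : ((a : ℤ) : F) * ((a : ℤ) : F) = 1 := by
  rcases h with h | h <;> simp [h]

theorem int_pow_sq_one {a : ℤ} (h : a = 1 ∨ a = -1) (k : ℕ) :
    ((a : ℤ) : F) ^ k * ((a : ℤ) : F) ^ k = 1 := by
  rw [← mul_pow, int_sq_one h, one_pow]

/-- the main theorem -/
theorem spc (D : ChevalleyDatum) (γ : Matrix D.Idx D.Idx F) (π : ℕ → ℕ) (ε : ℕ → ℤ) (C : ℕ → ℕ → ℤ)
    (hπ : ∀ s < D.nroots, π s < D.nroots)
    (hinj : ∀ s < D.nroots, ∀ s' < D.nroots, π s = π s' → s = s')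
    (hε : ∀ s < D.nroots, ε s = 1 ∨ ε s = -1)
    (hγR : ∀ s (hs : s < D.nroots), γ.mulVec (bR D s hs) = ((ε s : ℤ) : F) • bR D (π s) (hπ s hs))
    (hγI : ∀ i : Fin D.rank, γ.mulVec (bI D i) = ∑ j : Fin D.rank, ((C j.val i.val : ℤ) : F) • bI D j)
    (r : ℕ) (hr : r < D.nroots) (hchk : spcOK D π ε C r = true) (t : F) :
    γ * D.x F r t = D.x F (π r) (((ε r : ℤ) : F) * t) * γ := by
  unfold spcOK at hchk
  simp only [Bool.and_eq_true, decide_eq_true_eq] at hchk
  obtain ⟨⟨⟨⟨⟨⟨⟨hn1, hn2⟩, hn3⟩, hn4⟩, hπn⟩, hεn⟩, hcart⟩, hchain⟩ := hchk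
  have hr' : π r < D.nroots := hπ r hr
  unfold cartanPartOK at hcart
  simp only [Bool.and_eq_true, decide_eq_true_eq, List.all_eq_true, List.mem_range] at hcart
  obtain ⟨hT1, hT2⟩ := hcart
  have hεr := hε r hr
  apply matrix_ext_mulVec
  intro j
  rw [← Matrix.mulVec_mulVec, ← Matrix.mulVec_mulVec]
  rcases j with i | s
  · -- column `h_i`
    change γ.mulVec ((D.x F r t).mulVec (bI D i)) = (D.x F (π r) (((ε r : ℤ) : F) * t)).mulVec (γ.mulVec (bI D i))
    rw [x_cartan D r hr i, Matrix.mulVec_sub, Matrix.mulVec_smul, hγI, hγR r hr, Matrix.mulVec_sum]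
    have e1 : ∀ j : Fin D.rank, (D.x F (π r) (((ε r : ℤ) : F) * t)).mulVec (((C j.val i.val : ℤ) : F) • bI D j) =
        ((C j.val i.val : ℤ) : F) • bI D j -
          ((((C j.val i.val : ℤ) : F) * (((D.cartanSR.getD j.val #[]).getD (π r) 0 : ℤ) : F)) *
            (((ε r : ℤ) : F) * t)) • bR D (π r) hr' := by
      intro j
      rw [Matrix.mulVec_smul, x_cartan D (π r) hr' j, smul_sub, smul_smul]
      congr 2
      ring
    simp only [e1, Finset.sum_sub_distrib, ← Finset.sum_smul, ← Finset.sum_mul]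
    have e2 : ∑ j : Fin D.rank, ((C j.val i.val : ℤ) : F) * (((D.cartanSR.getD j.val #[]).getD (π r) 0 : ℤ) : F) =
        (((D.cartanSR.getD i.val #[]).getD r 0 : ℤ) : F) := by
      have := hT1 i.val i.2
      rw [list_range_sum_eq] at this
      have h3 := congrArg (fun z : ℤ => (z : F)) this
      push_cast at h3
      exact h3
    rw [e2, smul_smul]
    congr 2
    ring
  · by_cases hsr : s.val = r
    · -- column `e_r`
      have hs : s = ⟨r, hr⟩ := Fin.ext hsr
      subst hs
      change γ.mulVec ((D.x F r t).mulVec (bR D r hr)) =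
        (D.x F (π r) (((ε r : ℤ) : F) * t)).mulVec (γ.mulVec (bR D r hr))
      rw [x_self D r hr, hγR r hr, Matrix.mulVec_smul, x_self D (π r) hr']
    · by_cases hsn : s.val = D.neg r
      · -- column `e_{-r}`
        have hs : s = ⟨D.neg r, hn1⟩ := Fin.ext hsn
        subst hs
        change γ.mulVec ((D.x F r t).mulVec (bR D (D.neg r) hn1)) =
          (D.x F (π r) (((ε r : ℤ) : F) * t)).mulVec (γ.mulVec (bR D (D.neg r) hn1))
        rw [x_neg D r (D.neg r) hr hn1 rfl hn2, hγR (D.neg r) hn1]
        have hbR : bR (F := F) D (π (D.neg r)) (hπ _ hn1) = bR D (D.neg (π r)) hn3 := by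
          congr 1
        rw [hbR, Matrix.mulVec_smul, x_neg D (π r) (D.neg (π r)) hr' hn3 rfl hn4]
        rw [Matrix.mulVec_sub, Matrix.mulVec_add, Matrix.mulVec_smul, Matrix.mulVec_smul, Matrix.mulVec_sum,
          hγR r hr, hγR (D.neg r) hn1, hbR]
        simp only [Matrix.mulVec_smul, hγI]
        have e3 : ∑ i : Fin D.rank, (((D.coroot.getD r #[]).getD i.val 0 : ℤ) : F) •
            ∑ j : Fin D.rank, ((C j.val i.val : ℤ) : F) • bI (F := F) D j =
            ∑ j : Fin D.rank, (((D.coroot.getD (π r) #[]).getD j.val 0 : ℤ) : F) • bI D j := by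
          simp only [Finset.smul_sum, smul_smul]
          rw [Finset.sum_comm]
          apply Finset.sum_congr rfl
          intro j _
          rw [← Finset.sum_smul]
          congr 1
          have := hT2 j.val j.2
          rw [list_range_sum_eq] at this
          have h3 := congrArg (fun z : ℤ => (z : F)) this
          push_cast at h3
          rw [← h3]
          apply Finset.sum_congr rfl
          intro i _
          ring
        rw [e3, hεn]
        have hsq := int_sq_one (F := F) hεr
        set E := ((ε r : ℤ) : F) with hE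
        set S := ∑ j : Fin D.rank, (((D.coroot.getD (π r) #[]).getD j.val 0 : ℤ) : F) • bI (F := F) D j with hS
        have e4 : (E * t) • S = E • (t • S) := by rw [smul_smul]
        have e5 : ((E * t) ^ 2) • bR (F := F) D (π r) hr' = (t ^ 2) • bR D (π r) hr' := by
          congr 1
          rw [mul_pow, pow_two E, hsq, one_mul]
        rw [smul_sub, smul_add, e4, e5, smul_smul, smul_smul, hsq, one_smul, mul_comm, mul_smul]
      · -- generic column
        change γ.mulVec ((D.x F r t).mulVec (bR D s.val s.2)) =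
          (D.x F (π r) (((ε r : ℤ) : F) * t)).mulVec (γ.mulVec (bR D s.val s.2))
        obtain ⟨htr, hrange⟩ := chainPart_spec D π ε r hinj hchain s.val s.2
        have hs1 : π s.val ≠ π r := fun e => hsr (hinj _ s.2 _ hr e)
        have hs2 : π s.val ≠ D.neg (π r) := by
          intro e
          rw [← hπn] at e
          exact hsn (hinj _ s.2 _ hn1 e)
        rw [x_col_generic D r s.val hr s.2 hsr hsn, hγR s.val s.2, Matrix.mulVec_smul,
          x_col_generic D (π r) (π s.val) hr' (hπ _ s.2) hs1 hs2, htr, Matrix.mulVec_add, hγR s.val s.2,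
          mulVec_list_sum, smul_add]
        congr 1
        rw [List.map_map, List.map_map, List.smul_sum, List.map_map]
        congr 1
        apply List.map_congr_left
        intro e he
        have hu : e.1 < D.nroots := hrange e he
        simp only [Function.comp]
        rw [Matrix.mulVec_smul, bR'_of_lt D hu, hγR e.1 hu, bR'_of_lt D (hπ _ hu), smul_smul, smul_smul]
        congr 1
        have h1 := int_sq_one (F := F) (hε s.val s.2)
        have h2 := int_pow_sq_one (F := F) hεr e.2.1
        push_cast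
        rw [mul_pow]
        linear_combination (-((ε e.1 : F) * (e.2.2 : F) * t ^ e.2.1) * (((ε r : ℤ) : F) ^ e.2.1 * ((ε r : ℤ) : F) ^ e.2.1)) * h1 -
          ((ε e.1 : F) * (e.2.2 : F) * t ^ e.2.1) * h2

end Main

end Cfsg.Agent.Helper40.SPC
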