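import Cfsg.Prelude.Def_ChevStructure
import Cfsg.Prelude.Def_ChevG2
import Cfsg.Prelude.Def_ChevB2
import Cfsg.Prelude.Def_ChevD4
import Cfsg.Prelude.Def_ChevF4
import Cfsg.Prelude.Def_ChevE6
import Cfsg.Prelude.Def_ChevE7
import Cfsg.Prelude.Def_ChevE8
import Cfsg.Agent.Helper40.UniTri

/-!
Helper40: the root elements `x_r(t)` of a `ChevalleyDatum` are unitriangular with respect to the
level function `lvl D` (negative roots by index, then all `h_i` on one level, then the positive roots
by index), provided the Boolean table check `triOK D` holds (it does for the seven tabulated types).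
Consequences for `D.posUnipotent F` and `D.negUnipotent F`.
-/

set_option autoImplicit false

namespace Cfsg.Agent.Helper40.ChevTri

open Cfsg Cfsg.Lie Cfsg.Agent.Helper40.UT

theorem chainCoeff_ne_nil (D : ChevalleyDatum) {r s u : ℕ} (h : D.chainCoeff r s u ≠ []) :
    ∃ e ∈ (D.chain.getD r #[]).toList, e.1 = s ∧ ∃ q ∈ e.2.toList, q.1 = u := by
  obtain ⟨x, hx⟩ := List.exists_mem_of_ne_nil _ h
  unfold ChevalleyDatum.chainCoeff at hx
  rw [List.mem_flatMap] at hx
  obtain ⟨e, he, hx⟩ := hx
  rw [List.mem_filter] at he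
  rw [List.mem_map] at hx
  obtain ⟨q, hq, -⟩ := hx
  rw [List.mem_filter] at hq
  refine ⟨e, he.1, by simpa using he.2, q.1, List.fst_mem_of_mem_zipIdx hq.1, by simpa using hq.2⟩

/-- generic criterion for `x_r(t) - 1` to raise a level function -/
theorem x_sub_one_raises (D : ChevalleyDatum) {F : Type*} [Field F] (lv : D.Idx → ℤ) (r : ℕ) (hr : r < D.nroots)
    (ha : ∀ i, lv (Sum.inl i) + 1 ≤ lv (Sum.inr ⟨r, hr⟩))
    (hb : ∀ s : Fin D.nroots, s.val = D.negIdx.getD r 0 →
      (∀ i, lv (Sum.inr s) + 1 ≤ lv (Sum.inl i)) ∧ lv (Sum.inr s) + 1 ≤ lv (Sum.inr ⟨r, hr⟩))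
    (hd : ∀ e ∈ (D.chain.getD r #[]).toList, ∀ q ∈ e.2.toList, ∀ s u : Fin D.nroots,
      s.val = e.1 → u.val = q.1 → lv (Sum.inr s) + 1 ≤ lv (Sum.inr u))
    (t : F) : RaisesBy lv 1 (D.x F r t - 1) := by
  intro i j hne
  rw [Matrix.sub_apply] at hne
  unfold ChevalleyDatum.x at hne
  rw [dif_pos hr] at hne
  simp only [ChevalleyDatum.xMat, Matrix.of_apply] at hne
  rcases j with a | s
  · dsimp only at hne
    rcases i with a' | u
    · exfalso; apply hne
      by_cases h : a' = a
      · subst h; simp
      · have : (Sum.inl a' : D.Idx) ≠ Sum.inl a := fun e => h (Sum.inl.inj e)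
        simp [h, Matrix.one_apply_ne this]
    · by_cases h : u = ⟨r, hr⟩
      · subst h; exact ha a
      · exfalso; apply hne
        simp [h]
  · dsimp only at hne
    by_cases h1 : s = ⟨r, hr⟩
    · exfalso; apply hne
      rw [if_pos h1]
      rcases i with a' | u
      · simp
      · by_cases h : u = ⟨r, hr⟩
        · rw [h1, h]; simp
        · have : (Sum.inr u : D.Idx) ≠ Sum.inr s := fun e => h (h1 ▸ Sum.inr.inj e)
          simp [h, Matrix.one_apply_ne this]
    · rw [if_neg h1] at hne
      by_cases h2 : s.val = D.negIdx.getD r 0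
      · rw [if_pos h2] at hne
        obtain ⟨hb1, hb2⟩ := hb s h2
        rcases i with a' | u
        · exact hb1 a'
        · by_cases h3 : u = s
          · exfalso; apply hne
            subst h3; simp
          · by_cases h4 : u = ⟨r, hr⟩
            · subst h4; exact hb2
            · exfalso; apply hne
              have : (Sum.inr u : D.Idx) ≠ Sum.inr s := fun e => h3 (Sum.inr.inj e)
              simp [h3, h4, Matrix.one_apply_ne this]
      · rw [if_neg h2] at hne
        rcases i with a' | u
        · exfalso; apply hne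
          simp
        · dsimp only at hne
          have hc : D.chainCoeff r s.val u.val ≠ [] := by
            intro hc
            apply hne
            rw [hc]
            by_cases h3 : u = s
            · subst h3; simp
            · have : (Sum.inr u : D.Idx) ≠ Sum.inr s := fun e => h3 (Sum.inr.inj e)
              simp [h3, Matrix.one_apply_ne this]
          obtain ⟨e, he, hes, q, hq, hqu⟩ := chainCoeff_ne_nil D hc
          exact hd e he q hq s u hes.symm hqu.symm

/-- the level function: negative roots by index, all `h_i` on level `nroots / 2`, positive roots by index + 1 -/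
def lvl (D : ChevalleyDatum) : D.Idx → ℤ
  | Sum.inl _ => ((D.nroots / 2 : ℕ) : ℤ)
  | Sum.inr s => if s.val < D.nroots / 2 then (s.val : ℤ) else (s.val : ℤ) + 1

/-- the opposite level function -/
def lvlNeg (D : ChevalleyDatum) : D.Idx → ℤ := fun i => - lvl D i

theorem lvl_nonneg (D : ChevalleyDatum) (i : D.Idx) : 0 ≤ lvl D i := by
  rcases i with a | s <;> simp only [lvl]
  · positivity
  · split_ifs <;> positivity

theorem lvl_le (D : ChevalleyDatum) (i : D.Idx) : lvl D i ≤ D.nroots := by
  rcases i with a | s <;> simp only [lvl]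
  · have : D.nroots / 2 ≤ D.nroots := Nat.div_le_self _ _
    exact_mod_cast this
  · have := s.2
    split_ifs <;> omega

theorem lvl_bound (D : ChevalleyDatum) (h : 0 < D.rank) (i j : D.Idx) :
    lvl D i < lvl D j + ((D.rank + D.nroots : ℕ) : ℤ) := by
  have := lvl_le D i
  have := lvl_nonneg D j
  push_cast
  omega

theorem lvlNeg_bound (D : ChevalleyDatum) (h : 0 < D.rank) (i j : D.Idx) :
    lvlNeg D i < lvlNeg D j + ((D.rank + D.nroots : ℕ) : ℤ) := by
  have := lvl_le D j
  have := lvl_nonneg D i
  simp only [lvlNeg]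
  push_cast
  omega

theorem lvl_inr_lt (D : ChevalleyDatum) {s u : Fin D.nroots} (h : s.val < u.val) :
    lvl D (Sum.inr s) + 1 ≤ lvl D (Sum.inr u) := by
  simp only [lvl]
  split_ifs <;> omega

/-- table row check (positive roots) -/
def rowPos (e : ℕ × Array (ℕ × ℤ)) : Bool := e.2.toList.all fun q => decide (e.1 < q.1)

/-- table row check (negative roots) -/
def rowNeg (e : ℕ × Array (ℕ × ℤ)) : Bool := e.2.toList.all fun q => decide (q.1 < e.1)

/-- the table check -/
def triOK (D : ChevalleyDatum) : Bool :=
  decide (0 < D.rank) && (List.range D.nroots).all fun r =>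
    (!(decide (D.IsPosRoot r)) ||
      (decide (D.nroots / 2 ≤ r) && decide (D.negIdx.getD r 0 < D.nroots / 2) &&
        (D.chain.getD r #[]).toList.all rowPos)) &&
    (!(decide (D.IsNegRoot r)) ||
      (decide (r < D.nroots / 2) && decide (D.nroots / 2 ≤ D.negIdx.getD r 0) &&
        (D.chain.getD r #[]).toList.all rowNeg))

theorem triOK_rank {D : ChevalleyDatum} (h : triOK D = true) : 0 < D.rank := by
  unfold triOK at h
  rw [Bool.and_eq_true] at h
  exact of_decide_eq_true h.1

theorem triOK_pos {D : ChevalleyDatum} (h : triOK D = true) {r : ℕ} (hr : D.IsPosRoot r) :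
    D.nroots / 2 ≤ r ∧ D.negIdx.getD r 0 < D.nroots / 2 ∧
      ∀ e ∈ (D.chain.getD r #[]).toList, ∀ q ∈ e.2.toList, e.1 < q.1 := by
  unfold triOK at h
  rw [Bool.and_eq_true, List.all_eq_true] at h
  have h2 := h.2 r (List.mem_range.mpr hr.1)
  rw [Bool.and_eq_true] at h2
  have h3 := h2.1
  rw [Bool.or_eq_true] at h3
  rcases h3 with h3 | h3
  · simp [hr] at h3
  · rw [Bool.and_eq_true, Bool.and_eq_true, List.all_eq_true] at h3
    refine ⟨of_decide_eq_true h3.1.1, of_decide_eq_true h3.1.2, fun e he q hq => ?_⟩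
    have := h3.2 e he
    unfold rowPos at this
    rw [List.all_eq_true] at this
    exact of_decide_eq_true (this q hq)

theorem triOK_neg {D : ChevalleyDatum} (h : triOK D = true) {r : ℕ} (hr : D.IsNegRoot r) :
    r < D.nroots / 2 ∧ D.nroots / 2 ≤ D.negIdx.getD r 0 ∧
      ∀ e ∈ (D.chain.getD r #[]).toList, ∀ q ∈ e.2.toList, q.1 < e.1 := by
  unfold triOK at h
  rw [Bool.and_eq_true, List.all_eq_true] at h
  have h2 := h.2 r (List.mem_range.mpr hr.1)
  rw [Bool.and_eq_true] at h2
  have h3 := h2.2
  rw [Bool.or_eq_true] at h3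
  rcases h3 with h3 | h3
  · simp [hr] at h3
  · rw [Bool.and_eq_true, Bool.and_eq_true, List.all_eq_true] at h3
    refine ⟨of_decide_eq_true h3.1.1, of_decide_eq_true h3.1.2, fun e he q hq => ?_⟩
    have := h3.2 e he
    unfold rowNeg at this
    rw [List.all_eq_true] at this
    exact of_decide_eq_true (this q hq)

variable {F : Type*} [Field F]

/-- positive root elements are upper unitriangular -/
theorem isUT_x_pos {D : ChevalleyDatum} (h : triOK D = true) {r : ℕ} (hr : D.IsPosRoot r) (t : F) :
    IsUT (lvl D) (D.x F r t) := by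
  obtain ⟨h1, h2, h3⟩ := triOK_pos h hr
  apply x_sub_one_raises D (lvl D) r hr.1
  · intro i
    simp only [lvl]
    have : ¬ r < D.nroots / 2 := by omega
    rw [if_neg this]
    omega
  · intro s hs
    have hs' : s.val < D.nroots / 2 := by omega
    refine ⟨fun i => ?_, ?_⟩
    · simp only [lvl]
      rw [if_pos hs']
      omega
    · apply lvl_inr_lt
      show s.val < r
      omega
  · intro e he q hq s u hs hu
    apply lvl_inr_lt
    have := h3 e he q hq
    omega

/-- negative root elements are lower unitriangular -/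
theorem isUT_x_neg {D : ChevalleyDatum} (h : triOK D = true) {r : ℕ} (hr : D.IsNegRoot r) (t : F) :
    IsUT (lvlNeg D) (D.x F r t) := by
  obtain ⟨h1, h2, h3⟩ := triOK_neg h hr
  apply x_sub_one_raises D (lvlNeg D) r hr.1
  · intro i
    simp only [lvlNeg, lvl]
    rw [if_pos h1]
    omega
  · intro s hs
    have hs' : ¬ s.val < D.nroots / 2 := by omega
    refine ⟨fun i => ?_, ?_⟩
    · simp only [lvlNeg, lvl]
      rw [if_neg hs']
      omega
    · have := lvl_inr_lt D (s := ⟨r, hr.1⟩) (u := s) (by show r < s.val; omega)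
      simp only [lvlNeg]
      omega
  · intro e he q hq s u hs hu
    have h4 := h3 e he q hq
    have := lvl_inr_lt D (s := u) (u := s) (by omega)
    simp only [lvlNeg]
    omega

/-- `U ≤` the upper unitriangular group -/
theorem posUnipotent_le {D : ChevalleyDatum} (h : triOK D = true) :
    D.posUnipotent F ≤ utSub (lvl D) F 0 := by
  unfold ChevalleyDatum.posUnipotent
  rw [Subgroup.closure_le]
  rintro g ⟨r, t, hr, hg⟩
  show g ∈ utSub (lvl D) F 0
  rw [mem_utSub_zero, hg]
  exact isUT_x_pos h hr t

/-- `V ≤` the lower unitriangular group -/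
theorem negUnipotent_le {D : ChevalleyDatum} (h : triOK D = true) :
    D.negUnipotent F ≤ utSub (lvlNeg D) F 0 := by
  unfold ChevalleyDatum.negUnipotent
  rw [Subgroup.closure_le]
  rintro g ⟨r, t, hr, hg⟩
  show g ∈ utSub (lvlNeg D) F 0
  rw [mem_utSub_zero, hg]
  exact isUT_x_neg h hr t

theorem triOK_G2 : triOK chevG2 = true := by decide +kernel
theorem triOK_B2 : triOK chevB2 = true := by decide +kernel
theorem triOK_D4 : triOK chevD4 = true := by decide +kernel
theorem triOK_F4 : triOK chevF4 = true := by decide +kernel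
theorem triOK_E6 : triOK chevE6 = true := by decide +kernel
theorem triOK_E7 : triOK chevE7 = true := by decide +kernel
theorem triOK_E8 : triOK chevE8 = true := by decide +kernel

theorem triOK_of_mem {D : ChevalleyDatum}
    (hD : D ∈ [chevG2, chevB2, chevD4, chevF4, chevE6, chevE7, chevE8]) : triOK D = true := by
  simp only [List.mem_cons, List.mem_nil_iff, or_false] at hD
  rcases hD with rfl | rfl | rfl | rfl | rfl | rfl | rfl
  exacts [triOK_G2, triOK_B2, triOK_D4, triOK_F4, triOK_E6, triOK_E7, triOK_E8]

/-- every element of `U` is upper unitriangular -/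
theorem isUT_of_mem_posUnipotent {D : ChevalleyDatum} (h : triOK D = true) {g : GL D.Idx F}
    (hg : g ∈ D.posUnipotent F) : IsUT (lvl D) (g : Matrix D.Idx D.Idx F) :=
  mem_utSub_zero.mp (posUnipotent_le h hg)

/-- every element of `V` is lower unitriangular -/
theorem isUT_of_mem_negUnipotent {D : ChevalleyDatum} (h : triOK D = true) {g : GL D.Idx F}
    (hg : g ∈ D.negUnipotent F) : IsUT (lvlNeg D) (g : Matrix D.Idx D.Idx F) :=
  mem_utSub_zero.mp (negUnipotent_le h hg)

end Cfsg.Agent.Helper40.ChevTri
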