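import Cfsg.Agent.Helper40.ChevAdd

/-!
Helper40: Chevalley's commutator formula for a pair of roots, checked with the polynomial engine of
helper18 (`cfOK D r s`), and the skeleton of the reduction of all pairs to base pairs by simple reflections.
-/

set_option autoImplicit false

namespace Cfsg.Agent.Helper40.Comm

open Cfsg Cfsg.Lie Cfsg.Agent.Helper18

/-- the commutator formula for the pair `(r, s)` over `F` -/
def CF (D : ChevalleyDatum) (F : Type*) [Field F] (r s : ℕ) : Prop :=
  ∀ t u : F, D.x F s u * D.x F r t = D.x F r t * D.x F s u * D.wordMat F (D.commWord F r s t u)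

/-- the word on the right of the commutator formula, with `t = X`, `u = Y` -/
def commWordP (D : ChevalleyDatum) (r s : ℕ) : List (ℕ × Poly) :=
  (D.commTerms r s).map fun c =>
    (c.1, pmul (pconst c.2.1) (pmul (ppow (pmul (pconst (-1)) pX) c.2.2.1) (ppow pY c.2.2.2)))

/-- column `j` of the commutator formula -/
def cfCol (D : ChevalleyDatum) (r s j : ℕ) : Bool :=
  decide (applyWord D [(s, pY), (r, pX)] [(j, pconst 1)] =
    applyWord D ((r, pX) :: (s, pY) :: commWordP D r s) [(j, pconst 1)])

/-- all columns -/
def cfOK (D : ChevalleyDatum) (r s : ℕ) : Bool := (List.range (D.rank + D.nroots)).all (cfCol D r s)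

section Sound
variable {F : Type*} [Field F]

theorem commWordP_eval (D : ChevalleyDatum) (r s : ℕ) (t u z : F) :
    ((commWordP D r s).map fun e => (e.1, peval t u z e.2)) = D.commWord F r s t u := by
  unfold commWordP ChevalleyDatum.commWord
  rw [List.map_map]
  apply List.map_congr_left
  intro c _
  simp only [Function.comp, peval_pmul, peval_pconst, peval_ppow, peval_pX, peval_pY]
  congr 1
  push_cast
  ring

theorem cf_of_cfOK (D : ChevalleyDatum) (r s : ℕ) (h : cfOK D r s = true) : CF D F r s := by
  intro t u
  apply matrix_ext_mulVec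
  intro j
  have hj : cfCol D r s (code D j) = true := by
    unfold cfOK at h
    rw [List.all_eq_true] at h
    exact h _ (List.mem_range.mpr (code_lt D j))
  unfold cfCol at hj
  have h' := of_decide_eq_true hj
  have h1 := applyWord_spec t u (0 : F) D [(s, pY), (r, pX)] [(code D j, pconst 1)]
  have h2 := applyWord_spec t u (0 : F) D ((r, pX) :: (s, pY) :: commWordP D r s) [(code D j, pconst 1)]
  rw [h', h2] at h1
  rw [vecD_single, peval_pconst] at h1
  simp only [List.map_cons, List.map_nil, peval_pX, peval_pY] at h1
  rw [commWordP_eval] at h1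
  have e1 : D.wordMat F ((r, t) :: (s, u) :: D.commWord F r s t u) =
      D.x F r t * D.x F s u * D.wordMat F (D.commWord F r s t u) := by
    simp [ChevalleyDatum.wordMat, mul_assoc]
  have e2 : D.wordMat F [(s, u), (r, t)] = D.x F s u * D.x F r t := by
    simp [ChevalleyDatum.wordMat]
  rw [e1, e2] at h1
  simp only [Int.cast_one] at h1
  exact h1.symm

end Sound

end Cfsg.Agent.Helper40.Comm
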