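import Cfsg.Agent.Helper40.CommBase

/-!
Helper40: reduction of the commutator formula for all pairs of roots to base pairs `(r₀, s₀)`
(`r₀` dominant, `s₀` dominant for the simple reflections fixing `r₀`) by simple reflections.
-/

set_option autoImplicit false

namespace Cfsg.Agent.Helper40.Comm

open Cfsg Cfsg.Lie

/-- `r` is dominant -/
def dominant (D : ChevalleyDatum) (r : ℕ) : Bool := (List.range D.rank).all fun i => decide (0 ≤ D.cartan i r)

/-- a simple reflection moving `r` up -/
def up (D : ChevalleyDatum) (r : ℕ) : Option ℕ := (List.range D.rank).find? fun i => decide (D.cartan i r < 0)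

/-- a simple reflection fixing `r0` and moving `s` up -/
def up2 (D : ChevalleyDatum) (r0 s : ℕ) : Option ℕ :=
  (List.range D.rank).find? fun i => decide (D.cartan i r0 = 0) && decide (D.cartan i s < 0)

/-- `neg` is a fixed-point-free involution of the roots -/
def negOK (D : ChevalleyDatum) : Bool :=
  (List.range D.nroots).all fun s => decide (D.neg s < D.nroots) && decide (D.neg (D.neg s) = s) && decide (D.neg s ≠ s)

/-- simple reflections are involutions of the roots commuting with `neg` -/
def reflOK (D : ChevalleyDatum) : Bool :=
  (List.range D.rank).all fun i => (List.range D.nroots).all fun s =>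
    decide (D.reflectRoot i s < D.nroots) && decide (D.reflectRoot i (D.reflectRoot i s) = s) &&
      decide (D.reflectRoot i (D.neg s) = D.neg (D.reflectRoot i s))

/-- non-dominant roots move up -/
def upOK (D : ChevalleyDatum) : Bool :=
  (List.range D.nroots).all fun r => dominant D r ||
    (match up D r with
      | some i => decide (r < D.reflectRoot i r)
      | none => false)

/-- for the dominant root `r0`: every other root is in `base` or moves up by a reflection fixing `r0` -/
def stage2OK (D : ChevalleyDatum) (r0 : ℕ) (base : List ℕ) : Bool :=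
  (List.range D.nroots).all fun s => s == r0 || s == D.neg r0 || base.contains s ||
    (match up2 D r0 s with
      | some i => decide (D.reflectRoot i r0 = r0) && decide (s < D.reflectRoot i s)
      | none => false)

/-- the list of dominant roots with their base lists is complete -/
def domsOK (D : ChevalleyDatum) (doms : List (ℕ × List ℕ)) : Bool :=
  (List.range D.nroots).all fun r => !(dominant D r) || doms.any fun e => e.1 == r && stage2OK D r e.2

theorem find_lt {n : ℕ} {p : ℕ → Bool} {i : ℕ} (h : (List.range n).find? p = some i) : i < n :=
  List.mem_range.mp (List.mem_of_find?_eq_some h)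

theorem cf_all (D : ChevalleyDatum) {F : Type*} [Field F] (hneg : negOK D = true) (hrefl : reflOK D = true)
    (hup : upOK D = true) (doms : List (ℕ × List ℕ)) (hdoms : domsOK D doms = true)
    (hbase : ∀ e ∈ doms, ∀ s ∈ e.2, CF D F e.1 s)
    (htrans : ∀ i < D.rank, ∀ r s, r < D.nroots → s < D.nroots → s ≠ r → s ≠ D.neg r →
      CF D F (D.reflectRoot i r) (D.reflectRoot i s) → CF D F r s) :
    ∀ r s, r < D.nroots → s < D.nroots → s ≠ r → s ≠ D.neg r → CF D F r s := by
  -- unpack the checks
  have hN : ∀ s < D.nroots, D.neg s < D.nroots ∧ D.neg (D.neg s) = s ∧ D.neg s ≠ s := by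
    intro s hs
    unfold negOK at hneg
    rw [List.all_eq_true] at hneg
    have := hneg s (List.mem_range.mpr hs)
    simp only [Bool.and_eq_true, decide_eq_true_eq] at this
    exact ⟨this.1.1, this.1.2, this.2⟩
  have hR : ∀ i < D.rank, ∀ s < D.nroots, D.reflectRoot i s < D.nroots ∧
      D.reflectRoot i (D.reflectRoot i s) = s ∧ D.reflectRoot i (D.neg s) = D.neg (D.reflectRoot i s) := by
    intro i hi s hs
    unfold reflOK at hrefl
    rw [List.all_eq_true] at hrefl
    have h1 := hrefl i (List.mem_range.mpr hi)
    rw [List.all_eq_true] at h1
    have := h1 s (List.mem_range.mpr hs)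
    simp only [Bool.and_eq_true, decide_eq_true_eq] at this
    exact ⟨this.1.1, this.1.2, this.2⟩
  -- side conditions are preserved by a reflection
  have hside : ∀ i < D.rank, ∀ r s, r < D.nroots → s < D.nroots → s ≠ r → s ≠ D.neg r →
      D.reflectRoot i s ≠ D.reflectRoot i r ∧ D.reflectRoot i s ≠ D.neg (D.reflectRoot i r) := by
    intro i hi r s hr hs h1 h2
    constructor
    · intro e
      apply h1
      rw [← (hR i hi s hs).2.1, e, (hR i hi r hr).2.1]
    · intro e
      apply h2
      rw [← (hR i hi r hr).2.2] at e
      rw [← (hR i hi s hs).2.1, e, (hR i hi _ (hN r hr).1).2.1]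
  -- stage 2: `r` dominant
  have stage2 : ∀ r < D.nroots, dominant D r = true → ∀ k s, D.nroots - s ≤ k → s < D.nroots → s ≠ r →
      s ≠ D.neg r → CF D F r s := by
    intro r hr hdom
    unfold domsOK at hdoms
    rw [List.all_eq_true] at hdoms
    have h1 := hdoms r (List.mem_range.mpr hr)
    rw [hdom] at h1
    simp only [Bool.not_true, Bool.false_or, List.any_eq_true, Bool.and_eq_true, beq_iff_eq] at h1
    obtain ⟨e, he, her, h2⟩ := h1
    unfold stage2OK at h2
    rw [List.all_eq_true] at h2
    intro k
    induction k with
    | zero => intro s hk hs; omega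
    | succ k ih =>
      intro s hk hs hsr hsn
      have h3 := h2 s (List.mem_range.mpr hs)
      simp only [Bool.or_eq_true, beq_iff_eq, List.contains_iff_mem] at h3
      rcases h3 with ((h3 | h3) | h3) | h3
      · exact absurd h3 hsr
      · exact absurd h3 hsn
      · have := hbase e he s h3
        rwa [her] at this
      · split at h3
        · rename_i i hi
          have hi' : i < D.rank := find_lt hi
          simp only [Bool.and_eq_true, decide_eq_true_eq] at h3
          obtain ⟨hfix, hlt⟩ := h3
          have hws := (hR i hi' s hs).1
          obtain ⟨hs1, hs2⟩ := hside i hi' r s hr hs hsr hsn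
          rw [hfix] at hs1 hs2
          have := ih (D.reflectRoot i s) (by omega) hws hs1 hs2
          apply htrans i hi' r s hr hs hsr hsn
          rwa [hfix]
        · exact absurd h3 (by simp)
  -- stage 1
  have stage1 : ∀ k r, D.nroots - r ≤ k → r < D.nroots → ∀ s, s < D.nroots → s ≠ r → s ≠ D.neg r → CF D F r s := by
    intro k
    induction k with
    | zero => intro r hk hr; omega
    | succ k ih =>
      intro r hk hr s hs hsr hsn
      unfold upOK at hup
      rw [List.all_eq_true] at hup
      have h1 := hup r (List.mem_range.mpr hr)
      rw [Bool.or_eq_true] at h1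
      rcases h1 with h1 | h1
      · exact stage2 r hr h1 _ s le_rfl hs hsr hsn
      · split at h1
        · rename_i i hi
          have hi' : i < D.rank := find_lt hi
          have hlt : r < D.reflectRoot i r := of_decide_eq_true h1
          obtain ⟨hs1, hs2⟩ := hside i hi' r s hr hs hsr hsn
          have := ih (D.reflectRoot i r) (by omega) (hR i hi' r hr).1 (D.reflectRoot i s) (hR i hi' s hs).1 hs1 hs2
          exact htrans i hi' r s hr hs hsr hsn this
        · exact absurd h1 (by simp)
  intro r s hr hs hsr hsn
  exact stage1 _ r le_rfl hr s hs hsr hsn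

end Cfsg.Agent.Helper40.Comm
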