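import Cfsg.Agent.Helper40.CommTerms

/-!
Helper40: the transport step of the commutator formula along a matrix `γ` acting on the Chevalley basis
by a signed involutive permutation of the roots (e.g. `n_p` for a fundamental root `p`).
-/

set_option autoImplicit false

namespace Cfsg.Agent.Helper40.CommT

open Cfsg Cfsg.Lie Cfsg.Agent.Helper18 Cfsg.Agent.Helper40.ChevAdd Cfsg.Agent.Helper40.SPC
  Cfsg.Agent.Helper40.Comm

theorem chainPart_nodup (D : ChevalleyDatum) (π : ℕ → ℕ) (ε : ℕ → ℤ) (r : ℕ)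
    (h : chainPartOK D π ε r = true) : ((D.chain.getD r #[]).toList.map (·.1)).Nodup := by
  unfold chainPartOK at h
  simp only [Bool.and_eq_true, decide_eq_true_eq, List.all_eq_true] at h
  exact nodup_of_sortedKeys _ h.1.1.1

theorem spcOK_chainPart {D : ChevalleyDatum} {π : ℕ → ℕ} {ε : ℕ → ℤ} {C : ℕ → ℕ → ℤ} {r : ℕ}
    (h : spcOK D π ε C r = true) : chainPartOK D π ε r = true := by
  unfold spcOK at h
  rw [Bool.and_eq_true] at h
  exact h.2

theorem mem_terms3 {o1 o2 o3 : Option (ℕ × ℤ)} {c : ℕ × ℤ × ℕ × ℕ} (hc : c ∈ terms3 o1 o2 o3) :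
    (∃ a, o1 = some a ∧ c.1 = a.1) ∨ (∃ a, o2 = some a ∧ c.1 = a.1) ∨ (∃ a, o3 = some a ∧ c.1 = a.1) := by
  unfold terms3 at hc
  rw [List.mem_append, List.mem_append] at hc
  rcases hc with (hc | hc) | hc
  · left
    cases o1 with
    | none => simp at hc
    | some a => simp at hc; exact ⟨a, rfl, by rw [hc]⟩
  · right; left
    cases o2 with
    | none => simp at hc
    | some a => simp at hc; exact ⟨a, rfl, by rw [hc]⟩
  · right; right
    cases o3 with
    | none => simp at hc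
    | some a => simp at hc; exact ⟨a, rfl, by rw [hc]⟩

theorem chainEntry_fst_lt (D : ChevalleyDatum) (r s : ℕ)
    (hnd : ((D.chain.getD r #[]).toList.map (·.1)).Nodup)
    (hrange : ∀ e ∈ colEntries D r s, e.1 < D.nroots) (k : ℕ) (a : ℕ × ℤ)
    (ha : (D.chainEntry r s)[k]? = some a) : a.1 < D.nroots := by
  have h1 := getElem?_colEntries D r s hnd k
  rw [ha] at h1
  simp only [Option.map_some] at h1
  exact hrange _ (List.mem_of_getElem? h1)

section Step
variable {F : Type*} [Field F]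

/-- transport of the word on the right of the commutator formula -/
theorem commWord_transport (D : ChevalleyDatum) (π : ℕ → ℕ) (ε : ℕ → ℤ) (r s : ℕ)
    (hεr : ε r = 1 ∨ ε r = -1) (hεs : ε s = 1 ∨ ε s = -1)
    (hT : D.commTerms (π r) (π s) = (D.commTerms r s).map
      (fun c => (π c.1, ε c.1 * ε r ^ c.2.2.1 * ε s ^ c.2.2.2 * c.2.1, c.2.2.1, c.2.2.2)))
    (t u : F) :
    (D.commWord F r s t u).map (fun e => (π e.1, ((ε e.1 : ℤ) : F) * e.2)) =
      D.commWord F (π r) (π s) (((ε r : ℤ) : F) * t) (((ε s : ℤ) : F) * u) := by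
  unfold ChevalleyDatum.commWord
  rw [hT, List.map_map, List.map_map]
  apply List.map_congr_left
  intro c _
  simp only [Function.comp]
  congr 1
  have h1 := int_pow_sq_one (F := F) hεr c.2.2.1
  have h2 := int_pow_sq_one (F := F) hεs c.2.2.2
  push_cast
  rw [neg_mul_eq_mul_neg, mul_pow, mul_pow]
  linear_combination (-(((ε c.1 : ℤ) : F) * (c.2.1 : F) * (-t) ^ c.2.2.1 * u ^ c.2.2.2) *
      (((ε s : ℤ) : F) ^ c.2.2.2 * ((ε s : ℤ) : F) ^ c.2.2.2)) * h1 -
    (((ε c.1 : ℤ) : F) * (c.2.1 : F) * (-t) ^ c.2.2.1 * u ^ c.2.2.2) * h2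

/-- the transport step for the reduction of the commutator formula -/
theorem cf_step (D : ChevalleyDatum) (hno3 : no3 D = true) (γ γ' : Matrix D.Idx D.Idx F) (hγ : γ * γ' = 1)
    (π : ℕ → ℕ) (ε : ℕ → ℤ) (C : ℕ → ℕ → ℤ)
    (hπ : ∀ s < D.nroots, π s < D.nroots)
    (hinv : ∀ s < D.nroots, π (π s) = s)
    (hε : ∀ s < D.nroots, ε s = 1 ∨ ε s = -1)
    (hγR : ∀ s (hs : s < D.nroots), γ.mulVec (bR D s hs) = ((ε s : ℤ) : F) • bR D (π s) (hπ s hs))
    (hγI : ∀ i : Fin D.rank, γ.mulVec (bI D i) = ∑ j : Fin D.rank, ((C j.val i.val : ℤ) : F) • bI D j)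
    (hall : ∀ r < D.nroots, spcOK D π ε C r = true)
    (r s : ℕ) (hr : r < D.nroots) (hs : s < D.nroots) (h : CF D F (π r) (π s)) : CF D F r s := by
  have hinj : ∀ s < D.nroots, ∀ s' < D.nroots, π s = π s' → s = s' := by
    intro a ha b hb e
    rw [← hinv a ha, e, hinv b hb]
  have hspc : ∀ k < D.nroots, ∀ c : F, γ * D.x F k c = D.x F (π k) (((ε k : ℤ) : F) * c) * γ :=
    fun k hk c => spc D γ π ε C hπ hinj hε hγR hγI k hk (hall k hk) c
  have hnd : ∀ k < D.nroots, ((D.chain.getD k #[]).toList.map (·.1)).Nodup :=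
    fun k hk => chainPart_nodup D π ε k (spcOK_chainPart (hall k hk))
  have hTall : ∀ a b, a < D.nroots → b < D.nroots → ColT D π ε a b :=
    fun a b ha hb => (chainPart_spec D π ε a hinj (spcOK_chainPart (hall a ha)) b hb).1
  have hrange : ∀ a b, a < D.nroots → b < D.nroots → ∀ e ∈ colEntries D a b, e.1 < D.nroots :=
    fun a b ha hb => (chainPart_spec D π ε a hinj (spcOK_chainPart (hall a ha)) b hb).2
  have hr' := hπ r hr
  have hs' := hπ s hs
  have hct := commTerms_transport D hno3 π ε hπ hnd hTall (π r) (π s) hr' hs'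
  rw [hinv r hr, hinv s hs] at hct
  have hεr := hε _ hr'
  have hεs := hε _ hs'
  have e1 := hspc (π r) hr'
  have e2 := hspc (π s) hs'
  rw [hinv r hr] at e1
  rw [hinv s hs] at e2
  refine cf_transport D γ γ' hγ (π r) (π s) r s _ _ (int_sq_one hεr) (int_sq_one hεs) e1 e2 ?_ h
  intro t u
  have hw := commWord_transport (F := F) D π ε (π r) (π s) hεr hεs (by rw [hinv r hr, hinv s hs]; exact hct) t u
  rw [hinv r hr, hinv s hs] at hw
  rw [← hw]
  apply wordMat_conj D γ π (fun k => ((ε k : ℤ) : F))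
  intro e he c
  apply hspc
  -- the roots of `commWord` are in range
  unfold ChevalleyDatum.commWord at he
  obtain ⟨c0, hc0, rfl⟩ := List.mem_map.mp he
  rw [commTerms_eq_terms3 D hno3 (π r) (π s) hr' hs'] at hc0
  rcases mem_terms3 hc0 with ⟨a, ha, e⟩ | ⟨a, ha, e⟩ | ⟨a, ha, e⟩
  · simp only [e]
    exact chainEntry_fst_lt D (π r) (π s) (hnd _ hr') (hrange _ _ hr' hs') 0 a ha
  · simp only [e]
    exact chainEntry_fst_lt D (π r) (π s) (hnd _ hr') (hrange _ _ hr' hs') 1 a ha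
  · simp only [e]
    exact chainEntry_fst_lt D (π s) (π r) (hnd _ hs') (hrange _ _ hs' hr') 1 a ha

end Step

end Cfsg.Agent.Helper40.CommT
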