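import Cfsg.Agent.Helper40.CommRed

/-!
Helper40: transport of the commutator formula along conjugation by an invertible matrix `n` that sends
root elements to root elements up to signs.
-/

set_option autoImplicit false

namespace Cfsg.Agent.Helper40.Comm

open Cfsg Cfsg.Lie

variable {F : Type*} [Field F]

/-- conjugating a word in root elements by `n`, factor by factor -/
theorem wordMat_conj (D : ChevalleyDatum) (n : Matrix D.Idx D.Idx F) (w : ℕ → ℕ) (η : ℕ → F)
    (l : List (ℕ × F)) (hl : ∀ e ∈ l, ∀ c : F, n * D.x F e.1 c = D.x F (w e.1) (η e.1 * c) * n) :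
    n * D.wordMat F l = D.wordMat F (l.map fun e => (w e.1, η e.1 * e.2)) * n := by
  induction l with
  | nil => simp [ChevalleyDatum.wordMat]
  | cons a l ih =>
    have h1 := hl a List.mem_cons_self a.2
    have h2 := ih (fun e he => hl e (List.mem_cons_of_mem _ he))
    have e1 : D.wordMat F (a :: l) = D.x F a.1 a.2 * D.wordMat F l := by
      simp [ChevalleyDatum.wordMat]
    have e2 : D.wordMat F ((a :: l).map fun e => (w e.1, η e.1 * e.2)) =
        D.x F (w a.1) (η a.1 * a.2) * D.wordMat F (l.map fun e => (w e.1, η e.1 * e.2)) := by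
      simp [ChevalleyDatum.wordMat]
    rw [e1, e2, ← mul_assoc, h1, mul_assoc, h2, mul_assoc]

/-- transport of the commutator formula -/
theorem cf_transport (D : ChevalleyDatum) (n n' : Matrix D.Idx D.Idx F) (hn : n * n' = 1)
    (r s r' s' : ℕ) (ηr ηs : F) (hηr : ηr * ηr = 1) (hηs : ηs * ηs = 1)
    (hr : ∀ t, n * D.x F r t = D.x F r' (ηr * t) * n) (hs : ∀ u, n * D.x F s u = D.x F s' (ηs * u) * n)
    (hW : ∀ t u, n * D.wordMat F (D.commWord F r s t u) =
      D.wordMat F (D.commWord F r' s' (ηr * t) (ηs * u)) * n)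
    (h : CF D F r s) : CF D F r' s' := by
  intro t' u'
  set t := ηr * t' with ht
  set u := ηs * u' with hu
  have ht' : ηr * t = t' := by rw [ht, ← mul_assoc, hηr, one_mul]
  have hu' : ηs * u = u' := by rw [hu, ← mul_assoc, hηs, one_mul]
  have key : D.x F s' u' * D.x F r' t' * n =
      D.x F r' t' * D.x F s' u' * D.wordMat F (D.commWord F r' s' t' u') * n := by
    calc D.x F s' u' * D.x F r' t' * n
        = D.x F s' (ηs * u) * (D.x F r' (ηr * t) * n) := by rw [ht', hu', mul_assoc]
      _ = D.x F s' (ηs * u) * (n * D.x F r t) := by rw [hr]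
      _ = (D.x F s' (ηs * u) * n) * D.x F r t := by rw [mul_assoc]
      _ = n * (D.x F s u * D.x F r t) := by rw [← hs, mul_assoc]
      _ = n * (D.x F r t * D.x F s u * D.wordMat F (D.commWord F r s t u)) := by rw [h t u]
      _ = (n * D.x F r t) * D.x F s u * D.wordMat F (D.commWord F r s t u) := by simp only [mul_assoc]
      _ = D.x F r' (ηr * t) * (n * D.x F s u) * D.wordMat F (D.commWord F r s t u) := by
          rw [hr]; simp only [mul_assoc]
      _ = D.x F r' (ηr * t) * D.x F s' (ηs * u) * (n * D.wordMat F (D.commWord F r s t u)) := by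
          rw [hs]; simp only [mul_assoc]
      _ = D.x F r' (ηr * t) * D.x F s' (ηs * u) *
            (D.wordMat F (D.commWord F r' s' (ηr * t) (ηs * u)) * n) := by rw [hW]
      _ = D.x F r' t' * D.x F s' u' * D.wordMat F (D.commWord F r' s' t' u') * n := by
          rw [ht', hu']; simp only [mul_assoc]
  have := congrArg (fun M => M * n') key
  simp only [mul_assoc, hn, mul_one] at this
  simpa only [mul_assoc] using this

end Cfsg.Agent.Helper40.Comm
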