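import Cfsg.Agent.Helper40.ChevSPC
import Cfsg.Agent.Helper40.CommTrans

/-!
Helper40: transport of `commTerms` (the right-hand side of the commutator formula) along a signed
permutation of the roots, deduced from the transport of the chain table.  For data without chains of
length three.
-/

set_option autoImplicit false

namespace Cfsg.Agent.Helper40.CommT

open Cfsg Cfsg.Lie Cfsg.Agent.Helper18 Cfsg.Agent.Helper40.ChevAdd Cfsg.Agent.Helper40.SPC
  Cfsg.Agent.Helper40.Comm

/-- `colEntries` in terms of `chainEntry`, when the keys of the row are distinct -/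
theorem colEntries_eq_chainEntry (D : ChevalleyDatum) (r s : ℕ)
    (hnd : ((D.chain.getD r #[]).toList.map (·.1)).Nodup) :
    colEntries D r s = (D.chainEntry r s).zipIdx.map (fun q => (q.1.1, q.2 + 1, q.1.2)) := by
  rw [colEntries_eq_ce]
  unfold ChevalleyDatum.chainEntry
  cases hf : (D.chain.getD r #[]).toList.find? (fun e => e.1 = s) with
  | none =>
    simp only
    rw [ce_eq_nil_of_not_mem]
    · rfl
    · intro hmem
      obtain ⟨e, he, hes⟩ := List.mem_map.mp hmem
      have := List.find?_eq_none.mp hf e he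
      simp [hes] at this
  | some e =>
    simp only
    have he : e ∈ (D.chain.getD r #[]).toList := List.mem_of_find?_eq_some hf
    have hes : e.1 = s := by
      have := List.find?_some hf
      simpa using this
    rw [← hes, ce_of_mem _ hnd e he]

theorem getElem?_colEntries (D : ChevalleyDatum) (r s : ℕ)
    (hnd : ((D.chain.getD r #[]).toList.map (·.1)).Nodup) (k : ℕ) :
    (colEntries D r s)[k]? = ((D.chainEntry r s)[k]?).map (fun a => (a.1, k + 1, a.2)) := by
  rw [colEntries_eq_chainEntry D r s hnd, List.getElem?_map, List.getElem?_zipIdx]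
  cases (D.chainEntry r s)[k]? with
  | none => rfl
  | some a => simp

/-- transport of the chain table (`colEntries` form) for the pair `(r, s)` -/
def ColT (D : ChevalleyDatum) (π : ℕ → ℕ) (ε : ℕ → ℤ) (r s : ℕ) : Prop :=
  colEntries D (π r) (π s) =
    (colEntries D r s).map (fun e => (π e.1, e.2.1, ε s * ε e.1 * ε r ^ e.2.1 * e.2.2))

theorem getElem?_chainEntry_transport (D : ChevalleyDatum) (π : ℕ → ℕ) (ε : ℕ → ℤ) (r s : ℕ)
    (hnd : ((D.chain.getD r #[]).toList.map (·.1)).Nodup)
    (hnd' : ((D.chain.getD (π r) #[]).toList.map (·.1)).Nodup)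
    (hT : ColT D π ε r s) (k : ℕ) :
    (D.chainEntry (π r) (π s))[k]? =
      ((D.chainEntry r s)[k]?).map (fun a => (π a.1, ε s * ε a.1 * ε r ^ (k + 1) * a.2)) := by
  have h1 := getElem?_colEntries D (π r) (π s) hnd' k
  rw [hT, List.getElem?_map, getElem?_colEntries D r s hnd k] at h1
  cases hA : (D.chainEntry r s)[k]? with
  | none =>
    rw [hA] at h1
    cases hB : (D.chainEntry (π r) (π s))[k]? with
    | none => rfl
    | some b => rw [hB] at h1; simp at h1
  | some a =>
    rw [hA] at h1
    cases hB : (D.chainEntry (π r) (π s))[k]? with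
    | none => rw [hB] at h1; simp at h1
    | some b =>
      rw [hB] at h1
      simp only [Option.map_some, Option.some.injEq, Prod.mk.injEq] at h1
      obtain ⟨e1, -, e3⟩ := h1
      simp only [Option.map_some, Option.some.injEq]
      ext
      · exact e1.symm
      · exact e3.symm

theorem chainRoot_transport (D : ChevalleyDatum) (π : ℕ → ℕ) (ε : ℕ → ℤ) (r s : ℕ)
    (hnd : ((D.chain.getD r #[]).toList.map (·.1)).Nodup)
    (hnd' : ((D.chain.getD (π r) #[]).toList.map (·.1)).Nodup)
    (hT : ColT D π ε r s) (i : ℕ) :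
    D.chainRoot (π r) (π s) i = (D.chainRoot r s i).map π := by
  unfold ChevalleyDatum.chainRoot
  rw [getElem?_chainEntry_transport D π ε r s hnd hnd' hT]
  cases (D.chainEntry r s)[i - 1]? with
  | none => rfl
  | some a => rfl

/-- no chains of length three -/
def no3 (D : ChevalleyDatum) : Bool :=
  (List.range D.nroots).all fun r => (D.chain.getD r #[]).toList.all fun e => decide (e.2.size ≤ 2)

theorem chainEntry_length_le (D : ChevalleyDatum) (h : no3 D = true) (r s : ℕ) (hr : r < D.nroots) :
    (D.chainEntry r s).length ≤ 2 := by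
  unfold no3 at h
  rw [List.all_eq_true] at h
  have h1 := h r (List.mem_range.mpr hr)
  rw [List.all_eq_true] at h1
  unfold ChevalleyDatum.chainEntry
  cases hf : (D.chain.getD r #[]).toList.find? (fun e => e.1 = s) with
  | none => simp
  | some e =>
    have he : e ∈ (D.chain.getD r #[]).toList := List.mem_of_find?_eq_some hf
    have := h1 e he
    simpa using this

/-- `commTerms` without chains of length three, in terms of three optional entries -/
def terms3 (o1 o2 o3 : Option (ℕ × ℤ)) : List (ℕ × ℤ × ℕ × ℕ) :=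
  (o1.map fun a => (a.1, a.2, 1, 1)).toList ++ (o2.map fun a => (a.1, a.2, 2, 1)).toList ++
    (o3.map fun a => (a.1, a.2, 1, 2)).toList

theorem commTerms_eq_terms3 (D : ChevalleyDatum) (h : no3 D = true) (r s : ℕ) (hr : r < D.nroots)
    (hs : s < D.nroots) :
    D.commTerms r s = terms3 ((D.chainEntry r s)[0]?) ((D.chainEntry r s)[1]?) ((D.chainEntry s r)[1]?) := by
  have h1 := chainEntry_length_le D h r s hr
  have h2 := chainEntry_length_le D h s r hs
  have e1 : (D.chainEntry r s)[2]? = none := List.getElem?_eq_none (by omega)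
  have e2 : (D.chainEntry s r)[2]? = none := List.getElem?_eq_none (by omega)
  unfold ChevalleyDatum.commTerms terms3
  simp only [ChevalleyDatum.chainRoot, ChevalleyDatum.chainM, e1, e2, Nat.sub_self, Nat.add_one_sub_one,
    Nat.reduceSub, Option.map_none, Option.bind_none, List.filterMap_cons, List.filterMap_nil]
  cases (D.chainEntry r s)[0]? <;> cases (D.chainEntry r s)[1]? <;> cases (D.chainEntry s r)[1]? <;> rfl

/-- transport of `commTerms` -/
theorem commTerms_transport (D : ChevalleyDatum) (h : no3 D = true) (π : ℕ → ℕ) (ε : ℕ → ℤ)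
    (hπ : ∀ s < D.nroots, π s < D.nroots)
    (hnd : ∀ r < D.nroots, ((D.chain.getD r #[]).toList.map (·.1)).Nodup)
    (hT : ∀ r s, r < D.nroots → s < D.nroots → ColT D π ε r s)
    (r s : ℕ) (hr : r < D.nroots) (hs : s < D.nroots) :
    D.commTerms (π r) (π s) = (D.commTerms r s).map
      (fun c => (π c.1, ε c.1 * ε r ^ c.2.2.1 * ε s ^ c.2.2.2 * c.2.1, c.2.2.1, c.2.2.2)) := by
  rw [commTerms_eq_terms3 D h (π r) (π s) (hπ r hr) (hπ s hs), commTerms_eq_terms3 D h r s hr hs]
  rw [getElem?_chainEntry_transport D π ε r s (hnd r hr) (hnd _ (hπ r hr)) (hT r s hr hs) 0,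
    getElem?_chainEntry_transport D π ε r s (hnd r hr) (hnd _ (hπ r hr)) (hT r s hr hs) 1,
    getElem?_chainEntry_transport D π ε s r (hnd s hs) (hnd _ (hπ s hs)) (hT s r hs hr) 1]
  unfold terms3
  cases (D.chainEntry r s)[0]? <;> cases (D.chainEntry r s)[1]? <;> cases (D.chainEntry s r)[1]? <;>
    simp <;> ring_nf <;> simp

end Cfsg.Agent.Helper40.CommT
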