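import Mathlib
import Cfsg.Agent.Helper40.CoxTC

/-!
# Coxeter elements and their powers, via the word criterion of `CoxTC` (helper40)
-/

set_option autoImplicit false

namespace Cfsg.Agent.Helper40.TC

variable {l : ℕ} (M : CoxeterMatrix (Fin l))

theorem gN_val (i : Fin l) : gN M i.val = M.simple i := by
  unfold gN
  rw [dif_pos i.isLt]

/-- the Coxeter element `s₀ s₁ ⋯ s_{l-1}` as a word product -/
theorem prod_finRange_simple : ((List.finRange l).map M.simple).prod = wpN M (List.range l) := by
  unfold wpN
  congr 1
  rw [← List.map_coe_finRange_eq_range, List.map_map]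
  apply List.map_congr_left
  intro i _
  exact (gN_val M i).symm

/-- the word of the `k`-th power of the Coxeter element -/
def cw (l k : ℕ) : List ℕ := (List.replicate k (List.range l)).flatten

theorem cw_letters (k : ℕ) : ∀ a ∈ cw l k, a < l := by
  intro a ha
  unfold cw at ha
  rw [List.mem_flatten] at ha
  obtain ⟨w, hw, ha⟩ := ha
  rw [List.mem_replicate] at hw
  rw [hw.2] at ha
  exact List.mem_range.1 ha

theorem wpN_cw (k : ℕ) : wpN M (cw l k) = (wpN M (List.range l)) ^ k := by
  unfold cw
  induction k with
  | zero => simp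
  | succ k ih =>
    rw [List.replicate_succ, List.flatten_cons, wpN_append, ih, pow_succ']

/-- a word fixes all unit vectors -/
def fixAll (AL : List (List ℤ)) (l : ℕ) (w : List ℕ) : Bool :=
  (List.range l).all (fun j => decide (actL AL w (eL l j) = eL l j))

theorem fixAll_spec {AL : List (List ℤ)} {w : List ℕ} (h : fixAll AL l w = true) :
    ∀ j < l, actL AL w (eL l j) = eL l j := by
  intro j hj
  unfold fixAll at h
  rw [List.all_eq_true] at h
  exact of_decide_eq_true (h j (List.mem_range.2 hj))

variable (AL : List (List ℤ)) (lev : ℕ → Level)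
variable (hA : cartanOK M AL = true) (hlev : ∀ k, k < l → LevOK M AL lev k)
include hA hlev

theorem wpN_eq_one_of_fixAll (w : List ℕ) (hw : ∀ a ∈ w, a < l) (h : fixAll AL l w = true) :
    wpN M w = 1 :=
  word_criterion M AL lev hA hlev w hw (fixAll_spec h)

theorem cox_pow_eq_one (k : ℕ) (h : fixAll AL l (cw l k) = true) :
    (((List.finRange l).map M.simple).prod) ^ k = 1 := by
  rw [prod_finRange_simple, ← wpN_cw]
  exact wpN_eq_one_of_fixAll M AL lev hA hlev _ (cw_letters k) h

omit hlev in
theorem cox_pow_ne_one (k : ℕ) (v : List ℤ) (hv : v.length = l) (h : actL AL (cw l k) v ≠ v) :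
    (((List.finRange l).map M.simple).prod) ^ k ≠ 1 := by
  rw [prod_finRange_simple, ← wpN_cw]
  exact ne_one_of_actL M AL hA _ (cw_letters k) v hv h

end Cfsg.Agent.Helper40.TC
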