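import Mathlib
import Cfsg.Agent.Helper40.CoxElt

/-!
# Centres of finite Coxeter groups via the faithful reflection action of `CoxTC` (helper40)

`central_diag` / `central_sign`: a central element acts on `ℤ^l` as `±1` (connected diagram);
`center_result_two`, `center_result_one`: the centre is `{1, c^k}` when the word `c^k` negates all
unit vectors, and trivial when some linear functional modulo `q` excludes `-1` (`no_neg_of_inv`).
-/

set_option autoImplicit false

namespace Cfsg.Agent.Helper40.TC

variable {l : ℕ} (M : CoxeterMatrix (Fin l)) (AL : List (List ℤ)) (hA : cartanOK M AL = true)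

omit hA in
theorem reflF_add (i : Fin l) (u v : Fin l → ℤ) :
    reflF AL i (u + v) = reflF AL i u + reflF AL i v := by
  funext k
  simp only [reflF_apply, Pi.add_apply]
  ring

include hA

theorem ract_simple (i : Fin l) (v : Fin l → ℤ) : ract M AL hA (M.simple i) v = reflF AL i v := by
  rw [← gN_val, ract_gN]
  unfold reflN
  rw [dif_pos i.isLt]

theorem ract_add (g : M.Group) : ∀ u v : Fin l → ℤ,
    ract M AL hA g (u + v) = ract M AL hA g u + ract M AL hA g v := by
  refine M.toCoxeterSystem.simple_induction (p := fun g => ∀ u v : Fin l → ℤ,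
    ract M AL hA g (u + v) = ract M AL hA g u + ract M AL hA g v) g ?_ ?_ ?_
  · intro i u v
    rw [CoxeterMatrix.toCoxeterSystem_simple, ract_simple, ract_simple, ract_simple, reflF_add]
  · intro u v
    simp [ract_one]
  · intro w w' hw hw' u v
    rw [ract_mul, ract_mul, ract_mul, hw, hw']

/-- the action of a group element as an additive map -/
noncomputable def ractHom (g : M.Group) : (Fin l → ℤ) →+ (Fin l → ℤ) where
  toFun := ract M AL hA g
  map_zero' := by
    have := ract_add M AL hA g 0 0
    rw [add_zero] at this
    exact left_eq_add.1 this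
  map_add' := ract_add M AL hA g

theorem ractHom_apply (g : M.Group) (v : Fin l → ℤ) : ractHom M AL hA g v = ract M AL hA g v := rfl

theorem ract_neg (g : M.Group) (v : Fin l → ℤ) : ract M AL hA g (-v) = - ract M AL hA g v := by
  rw [← ractHom_apply, map_neg, ractHom_apply]

/-- the `i`-th root in weight coordinates -/
def rootF (i : Fin l) : Fin l → ℤ := fun k => cA AL i k

omit hA in
theorem reflF_eq (i : Fin l) (v : Fin l → ℤ) : reflF AL i v = v - v i • rootF AL i := by
  funext k
  simp [reflF_apply, rootF]

/-- unit vectors as functions -/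
def uF (l j : ℕ) : Fin l → ℤ := ofL (eL l j)

omit hA in
theorem uF_apply (j : ℕ) (m : Fin l) : uF l j m = if m.val = j then 1 else 0 := ofL_eL j m

/-- a central element acts diagonally, with constant eigenvalue along edges -/
theorem central_diag (g : M.Group) (hg : g ∈ Subgroup.center M.Group) :
    ∃ lam : Fin l → ℤ, (∀ (v : Fin l → ℤ) (i : Fin l), ract M AL hA g v i = lam i * v i) ∧
      (∀ i k : Fin l, cA AL i k ≠ 0 → lam k = lam i) := by
  have hcomm : ∀ (i : Fin l) (v : Fin l → ℤ),
      reflF AL i (ract M AL hA g v) = ract M AL hA g (reflF AL i v) := by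
    intro i v
    have h1 : g * M.simple i = M.simple i * g := (Subgroup.mem_center_iff.1 hg (M.simple i)).symm
    have h2 : ract M AL hA (g * M.simple i) v = ract M AL hA (M.simple i * g) v := by rw [h1]
    rw [ract_mul, ract_mul, ract_simple, ract_simple] at h2
    exact h2
  have hstar : ∀ (i : Fin l) (v : Fin l → ℤ),
      (ract M AL hA g v i) • rootF AL i = v i • ract M AL hA g (rootF AL i) := by
    intro i v
    have h := hcomm i v
    rw [reflF_eq, reflF_eq] at h
    have h3 : ract M AL hA g (v - v i • rootF AL i) =
        ract M AL hA g v - v i • ract M AL hA g (rootF AL i) := by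
      rw [← ractHom_apply, map_sub, map_zsmul, ractHom_apply, ractHom_apply]
    rw [h3] at h
    exact sub_right_injective h
  let lam : Fin l → ℤ := fun i => ract M AL hA g (uF l i.val) i
  have hroot : ∀ i : Fin l, ract M AL hA g (rootF AL i) = lam i • rootF AL i := by
    intro i
    have := hstar i (uF l i.val)
    rw [uF_apply, if_pos rfl, one_smul] at this
    exact this.symm
  have hdiag : ∀ (v : Fin l → ℤ) (i : Fin l), ract M AL hA g v i = lam i * v i := by
    intro v i
    have h := congrFun (hstar i v) i
    rw [hroot] at h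
    simp only [Pi.smul_apply, smul_eq_mul, rootF, cA_diag M AL hA] at h
    linarith
  refine ⟨lam, hdiag, ?_⟩
  intro i k hne
  have h := congrFun (hroot i) k
  rw [hdiag] at h
  simp only [Pi.smul_apply, smul_eq_mul, rootF] at h
  have : (lam k - lam i) * cA AL i k = 0 := by linarith
  rcases mul_eq_zero.1 this with h' | h'
  · linarith
  · exact absurd h' hne


/-- connectivity of the diagram, in the form we use -/
def Conn (l : ℕ) (AL : List (List ℤ)) : Prop :=
  ∀ lam : Fin l → ℤ, (∀ i k : Fin l, cA AL i k ≠ 0 → lam k = lam i) → ∀ i k : Fin l, lam i = lam k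

/-- a central element acts as `1` or `-1` -/
theorem central_sign (hconn : Conn l AL) (g : M.Group) (hg : g ∈ Subgroup.center M.Group) :
    (∀ v : Fin l → ℤ, ract M AL hA g v = v) ∨ (∀ v : Fin l → ℤ, ract M AL hA g v = -v) := by
  obtain ⟨lam, hdiag, hedge⟩ := central_diag M AL hA g hg
  obtain ⟨mu, hdiag', _⟩ := central_diag M AL hA g⁻¹ (inv_mem hg)
  have hconst := hconn lam hedge
  rcases Nat.eq_zero_or_pos l with rfl | hl
  · left
    intro v
    funext i
    exact i.elim0
  · let i0 : Fin l := ⟨0, hl⟩
    have hunit : mu i0 * lam i0 = 1 := by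
      have h1 := ract_mul M AL hA g g⁻¹ (uF l 0)
      rw [mul_inv_cancel, ract_one] at h1
      have h2 := congrFun h1 i0
      rw [hdiag', hdiag, uF_apply, if_pos rfl, mul_one] at h2
      exact h2.symm
    rcases Int.eq_one_or_neg_one_of_mul_eq_one hunit with h | h
    · -- mu = 1 hence lam = 1
      have hl1 : lam i0 = 1 := by rw [h, one_mul] at hunit; exact hunit
      left
      intro v
      funext i
      rw [hdiag, hconst i i0, hl1, one_mul]
    · have hl1 : lam i0 = -1 := by rw [h] at hunit; linarith
      right
      intro v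
      funext i
      rw [hdiag, hconst i i0, hl1]
      simp

/-- a linear functional vanishing modulo `q` on the roots is invariant modulo `q` -/
theorem inv_mod (c : Fin l → ℤ) (q : ℤ) (hc : ∀ i : Fin l, q ∣ ∑ k, c k * cA AL i k) (g : M.Group) :
    ∀ v : Fin l → ℤ, q ∣ ∑ k, c k * (ract M AL hA g v k - v k) := by
  refine M.toCoxeterSystem.simple_induction (p := fun g => ∀ v : Fin l → ℤ,
    q ∣ ∑ k, c k * (ract M AL hA g v k - v k)) g ?_ ?_ ?_
  · intro i v
    rw [CoxeterMatrix.toCoxeterSystem_simple]
    have : ∑ k, c k * (ract M AL hA (M.simple i) v k - v k) = (- v i) * ∑ k, c k * cA AL i k := by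
      rw [Finset.mul_sum]
      apply Finset.sum_congr rfl
      intro k _
      rw [ract_simple, reflF_apply]
      ring
    rw [this]
    exact Dvd.dvd.mul_left (hc i) _
  · intro v
    simp [ract_one]
  · intro a b ha hb v
    have : ∑ k, c k * (ract M AL hA (a * b) v k - v k) =
        ∑ k, c k * (ract M AL hA b (ract M AL hA a v) k - ract M AL hA a v k) +
          ∑ k, c k * (ract M AL hA a v k - v k) := by
      rw [← Finset.sum_add_distrib]
      apply Finset.sum_congr rfl
      intro k _
      rw [ract_mul]
      ring
    rw [this]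
    exact dvd_add (hb _) (ha _)

theorem no_neg_of_inv (c : Fin l → ℤ) (q : ℤ) (hc : ∀ i : Fin l, q ∣ ∑ k, c k * cA AL i k)
    (j : Fin l) (hj : ¬ q ∣ 2 * c j) (g : M.Group) : ¬ (∀ v : Fin l → ℤ, ract M AL hA g v = -v) := by
  intro h
  have h1 := inv_mod M AL hA c q hc g (uF l j.val)
  rw [h] at h1
  have : ∑ k, c k * ((-uF l j.val) k - uF l j.val k) = -(2 * c j) := by
    rw [Finset.sum_eq_single j]
    · rw [Pi.neg_apply, uF_apply, if_pos rfl]; ring
    · intro b _ hb
      rw [Pi.neg_apply, uF_apply, if_neg (fun h => hb (Fin.ext h))]; ring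
    · intro h; exact absurd (Finset.mem_univ j) h
  rw [this, dvd_neg] at h1
  exact hj h1

variable (lev : ℕ → Level) (hlev : ∀ k, k < l → LevOK M AL lev k)
include hlev

/-- the centre when `-1` is not in the group -/
theorem center_eq_bot (hconn : Conn l AL)
    (hneg : ∀ g : M.Group, ¬ (∀ v : Fin l → ℤ, ract M AL hA g v = -v)) :
    Subgroup.center M.Group = ⊥ := by
  rw [eq_bot_iff]
  intro g hg
  rcases central_sign M AL hA hconn g hg with h | h
  · exact Subgroup.mem_bot.2 (eq_one_of_ract M AL lev hA hlev g (fun j _ => h _))
  · exact absurd h (hneg g)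

/-- all unit vectors are negated by the word -/
def negAll (AL : List (List ℤ)) (l : ℕ) (w : List ℕ) : Bool :=
  (List.range l).all (fun j => decide (actL AL w (eL l j) = (eL l j).map (fun x => -x)))

/-- the word commutes with all generators (checked via the word criterion) -/
def commAll (AL : List (List ℤ)) (l : ℕ) (w : List ℕ) : Bool :=
  (List.range l).all (fun i => fixAll AL l (w ++ [i] ++ w.reverse ++ [i]))

/-- the centre when `-1` is in the group, realised by the word `w` -/
theorem center_eq_pair (hconn : Conn l AL) (w : List ℕ) (hw : ∀ a ∈ w, a < l) (hl : 0 < l)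
    (hneg : negAll AL l w = true) (hcomm : commAll AL l w = true) :
    wpN M w ∈ Subgroup.center M.Group ∧ wpN M w ≠ 1 ∧
      ∀ g ∈ Subgroup.center M.Group, g = 1 ∨ g = wpN M w := by
  have hrows := rowsOK_of_cartanOK M AL hA
  -- action of z on unit vectors
  have hz : ∀ j < l, ract M AL hA (wpN M w) (uF l j) = - uF l j := by
    intro j hj
    unfold negAll at hneg
    rw [List.all_eq_true] at hneg
    have h1 := of_decide_eq_true (hneg j (List.mem_range.2 hj))
    rw [ract_wpN]
    unfold uF
    rw [← ofL_actL hrows w hw _ (eL_length j), h1]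
    funext m
    unfold ofL
    rw [Pi.neg_apply, List.getD_eq_getElem _ _ (by rw [List.length_map, eL_length]; exact m.isLt),
      List.getD_eq_getElem _ _ (by rw [eL_length]; exact m.isLt), List.getElem_map]
  -- z is central
  have hzc : wpN M w ∈ Subgroup.center M.Group := by
    rw [Subgroup.mem_center_iff]
    intro g
    refine M.toCoxeterSystem.simple_induction (p := fun g => g * wpN M w = wpN M w * g) g ?_ ?_ ?_
    · intro i
      rw [CoxeterMatrix.toCoxeterSystem_simple]
      unfold commAll at hcomm
      rw [List.all_eq_true] at hcomm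
      have h1 := hcomm i.val (List.mem_range.2 i.isLt)
      have h2 := wpN_eq_one_of_fixAll M AL lev hA hlev (w ++ [i.val] ++ w.reverse ++ [i.val]) (by
        intro a ha
        simp only [List.mem_append, List.mem_singleton, List.mem_reverse] at ha
        rcases ha with ((ha | ha) | ha) | ha
        · exact hw a ha
        · rw [ha]; exact i.isLt
        · exact hw a ha
        · rw [ha]; exact i.isLt) h1
      rw [wpN_append, wpN_append, wpN_append, wpN_singleton, wpN_reverse, gN_val] at h2
      -- z s z⁻¹ s = 1
      have h3 : wpN M w * M.simple i * (wpN M w)⁻¹ = (M.simple i)⁻¹ := eq_inv_of_mul_eq_one_left h2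
      have hinv : (M.simple i)⁻¹ = M.simple i := by
        rw [← gN_val, gN_inv]
      rw [hinv] at h3
      calc M.simple i * wpN M w = (wpN M w * M.simple i * (wpN M w)⁻¹) * wpN M w := by rw [h3]
        _ = wpN M w * M.simple i := by group
    · simp
    · intro a b ha hb
      rw [mul_assoc, hb, ← mul_assoc, ha, mul_assoc]
  -- z ≠ 1
  have hz1 : wpN M w ≠ 1 := by
    intro h1
    have h2 := hz 0 hl
    rw [h1, ract_one] at h2
    have h3 := congrFun h2 ⟨0, hl⟩
    rw [Pi.neg_apply, uF_apply, if_pos rfl] at h3
    norm_num at h3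
  refine ⟨hzc, hz1, ?_⟩
  -- every central element is 1 or z⁻¹
  have key : ∀ g ∈ Subgroup.center M.Group, g = 1 ∨ g * wpN M w = 1 := by
    intro g hg
    rcases central_sign M AL hA hconn g hg with h | h
    · left
      exact eq_one_of_ract M AL lev hA hlev g (fun j _ => h _)
    · right
      apply eq_one_of_ract M AL lev hA hlev
      intro j hj
      have hz' := hz j hj
      unfold uF at hz'
      rw [ract_mul, h, ract_neg, hz', neg_neg]
  -- z * z = 1
  have hzz : wpN M w * wpN M w = 1 := by
    rcases key _ hzc with h | h
    · exact absurd h hz1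
    · exact h
  intro g hg
  rcases key g hg with h | h
  · exact Or.inl h
  · right
    have : g = (wpN M w)⁻¹ := eq_inv_of_mul_eq_one_left h
    rw [this]
    exact inv_eq_of_mul_eq_one_left hzz


/-- final form: centre of order two generated by a power of the Coxeter element -/
theorem center_result_two (hconn : Conn l AL) (k : ℕ) (hl : 0 < l)
    (hneg : negAll AL l (cw l k) = true) (hcomm : commAll AL l (cw l k) = true) :
    Nat.card (Subgroup.center M.Group) = 2 ∧
      Subgroup.center M.Group ≤ Subgroup.zpowers (((List.finRange l).map M.simple).prod) := by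
  obtain ⟨hzc, hz1, hall⟩ := center_eq_pair M AL hA lev hlev hconn (cw l k) (cw_letters k) hl hneg hcomm
  constructor
  · rw [Nat.card_eq_two_iff]
    refine ⟨⟨1, one_mem _⟩, ⟨wpN M (cw l k), hzc⟩, ?_, ?_⟩
    · intro h
      exact hz1 (congrArg Subtype.val h).symm
    · ext ⟨g, hg⟩
      simp only [Set.mem_insert_iff, Set.mem_singleton_iff, Set.mem_univ, iff_true]
      rcases hall g hg with h | h
      · left; exact Subtype.ext h
      · right; exact Subtype.ext h
  · intro g hg
    rcases hall g hg with h | h
    · rw [h]; exact one_mem _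
    · rw [h, wpN_cw, ← prod_finRange_simple]
      exact Subgroup.pow_mem _ (Subgroup.mem_zpowers _) _

/-- final form: trivial centre -/
theorem center_result_one (hconn : Conn l AL)
    (hnoneg : ∀ g : M.Group, ¬ (∀ v : Fin l → ℤ, ract M AL hA g v = -v)) :
    Nat.card (Subgroup.center M.Group) = 1 ∧
      Subgroup.center M.Group ≤ Subgroup.zpowers (((List.finRange l).map M.simple).prod) := by
  rw [center_eq_bot M AL hA lev hlev hconn hnoneg]
  exact ⟨Subgroup.card_bot, bot_le⟩

end Cfsg.Agent.Helper40.TC
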