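import Mathlib

/-!
Certificate checking for word identities and subgroup generation in Coxeter groups
(`CoxeterMatrix.Group`), by braid moves and deletions of adjacent equal letters.
-/

set_option autoImplicit false

namespace Cfsg.Agent.Helper40

open CoxeterSystem

variable {n : ℕ} (M : CoxeterMatrix (Fin n))

/-- the product of a word in the simple reflections -/
noncomputable abbrev wp (w : List (Fin n)) : M.Group := M.toCoxeterSystem.wordProd w

/-- apply one move `(isDelete, position)` to a word -/
def applyMove (w : List (Fin n)) (mv : Bool × ℕ) : Option (List (Fin n)) :=
  match w.drop mv.2 with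
  | a :: b :: tl =>
    if mv.1 then (if a = b then some (w.take mv.2 ++ tl) else none)
    else
      if (a :: b :: tl).take (M.M a b) = braidWord M a b then
        some (w.take mv.2 ++ (braidWord M b a ++ (a :: b :: tl).drop (M.M a b)))
      else if (a :: b :: tl).take (M.M a b) = braidWord M b a then
        some (w.take mv.2 ++ (braidWord M a b ++ (a :: b :: tl).drop (M.M a b)))
      else none
  | _ => none

theorem applyMove_sound (w w' : List (Fin n)) (mv : Bool × ℕ) (h : applyMove M w mv = some w') :
    wp M w = wp M w' := by
  unfold applyMove at h
  have hsplit : w = w.take mv.2 ++ w.drop mv.2 := (List.take_append_drop _ _).symm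
  split at h
  · rename_i a b tl hdrop
    rw [hdrop] at hsplit
    split_ifs at h with h1 h2 h3 h4
    · -- delete
      subst h2
      have h' : w' = w.take mv.2 ++ tl := by simpa using h.symm
      rw [h']
      conv_lhs => rw [hsplit]
      simp only [wp, wordProd_append, wordProd_cons]
      rw [← mul_assoc (M.toCoxeterSystem.simple a), simple_mul_simple_self, one_mul]
    · -- braid, first orientation
      have h' : w' = w.take mv.2 ++ (braidWord M b a ++ (a :: b :: tl).drop (M.M a b)) := by
        simpa using h.symm
      have hrest : a :: b :: tl = braidWord M a b ++ (a :: b :: tl).drop (M.M a b) := by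
        conv_lhs => rw [← List.take_append_drop (M.M a b) (a :: b :: tl)]
        rw [h3]
      rw [h']
      conv_lhs => rw [hsplit, hrest]
      simp only [wp, wordProd_append]
      rw [wordProd_braidWord_eq]
    · -- braid, second orientation
      have h' : w' = w.take mv.2 ++ (braidWord M a b ++ (a :: b :: tl).drop (M.M a b)) := by
        simpa using h.symm
      have hrest : a :: b :: tl = braidWord M b a ++ (a :: b :: tl).drop (M.M a b) := by
        conv_lhs => rw [← List.take_append_drop (M.M a b) (a :: b :: tl)]
        rw [h4]
      rw [h']
      conv_lhs => rw [hsplit, hrest]
      simp only [wp, wordProd_append]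
      rw [wordProd_braidWord_eq]
  · exact absurd h (by simp)

/-- apply a list of moves -/
def applyMoves (w : List (Fin n)) : List (Bool × ℕ) → Option (List (Fin n))
  | [] => some w
  | mv :: rest =>
    match applyMove M w mv with
    | some w' => applyMoves w' rest
    | none => none

theorem applyMoves_sound (mvs : List (Bool × ℕ)) : ∀ (w w' : List (Fin n)),
    applyMoves M w mvs = some w' → wp M w = wp M w' := by
  induction mvs with
  | nil =>
    intro w w' h
    simp only [applyMoves, Option.some.injEq] at h
    rw [h]
  | cons mv rest ih =>
    intro w w' h
    simp only [applyMoves] at h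
    split at h
    · rename_i w'' h1
      rw [applyMove_sound M w w'' mv h1]
      exact ih w'' w' h
    · exact absurd h (by simp)

/-- a generation step: parts (reversed?, index into known words), target word, moves -/
abbrev Step (n : ℕ) := List (Bool × ℕ) × List (Fin n) × List (Bool × ℕ)

/-- concatenate known words (or their reverses) -/
def assemble (known : List (List (Fin n))) (parts : List (Bool × ℕ)) : List (Fin n) :=
  parts.flatMap fun p => if p.1 then (known.getD p.2 []).reverse else known.getD p.2 []

/-- check one step -/
def stepCheck (known : List (List (Fin n))) (st : Step n) : Bool :=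
  applyMoves M (assemble known st.1 ++ st.2.1.reverse) st.2.2 == some []

/-- run all steps -/
def runSteps : List (List (Fin n)) → List (Step n) → Option (List (List (Fin n)))
  | known, [] => some known
  | known, st :: rest => if stepCheck M known st then runSteps (known ++ [st.2.1]) rest else none

/-- the full generation check -/
def genCheck (init : List (List (Fin n))) (steps : List (Step n)) : Bool :=
  match runSteps M init steps with
  | some known => (List.finRange n).all fun i => known.contains [i]
  | none => false

variable (H : Subgroup M.Group)

theorem assemble_mem (known : List (List (Fin n))) (hk : ∀ x ∈ known, wp M x ∈ H)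
    (parts : List (Bool × ℕ)) : wp M (assemble known parts) ∈ H := by
  induction parts with
  | nil => simp [assemble, wp]
  | cons p rest ih =>
    have hget : wp M (known.getD p.2 []) ∈ H := by
      by_cases hlt : p.2 < known.length
      · have : known.getD p.2 [] = known[p.2] := by simp [List.getD, hlt]
        rw [this]
        exact hk _ (List.getElem_mem hlt)
      · have : known.getD p.2 [] = [] := by simp [List.getD, not_lt.1 hlt]
        rw [this]
        simp [wp]
    have hcons : assemble known (p :: rest) =
        (if p.1 then (known.getD p.2 []).reverse else known.getD p.2 []) ++ assemble known rest := by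
      simp [assemble]
    rw [hcons]
    simp only [wp, wordProd_append]
    refine H.mul_mem ?_ ih
    split_ifs
    · rw [wordProd_reverse]; exact H.inv_mem hget
    · exact hget

theorem stepCheck_sound (known : List (List (Fin n))) (hk : ∀ x ∈ known, wp M x ∈ H)
    (st : Step n) (h : stepCheck M known st = true) : wp M st.2.1 ∈ H := by
  unfold stepCheck at h
  have h1 : applyMoves M (assemble known st.1 ++ st.2.1.reverse) st.2.2 = some [] := by
    simpa using h
  have h2 := applyMoves_sound M _ _ _ h1
  simp only [wp, wordProd_append, wordProd_reverse, wordProd_nil] at h2
  have h3 : M.toCoxeterSystem.wordProd st.2.1 = M.toCoxeterSystem.wordProd (assemble known st.1) :=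
    (mul_inv_eq_one.1 h2).symm
  show M.toCoxeterSystem.wordProd st.2.1 ∈ H
  rw [h3]
  exact assemble_mem M H known hk st.1

theorem runSteps_sound (steps : List (Step n)) : ∀ (known known' : List (List (Fin n))),
    (∀ x ∈ known, wp M x ∈ H) → runSteps M known steps = some known' → ∀ x ∈ known', wp M x ∈ H := by
  induction steps with
  | nil =>
    intro known known' hk h
    simp only [runSteps, Option.some.injEq] at h
    subst h
    exact hk
  | cons st rest ih =>
    intro known known' hk h
    simp only [runSteps] at h
    split_ifs at h with hc
    refine ih (known ++ [st.2.1]) known' ?_ h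
    intro x hx
    rcases List.mem_append.1 hx with hx | hx
    · exact hk x hx
    · have : x = st.2.1 := by simpa using hx
      rw [this]
      exact stepCheck_sound M H known hk st hc

theorem genCheck_sound (init : List (List (Fin n))) (hinit : ∀ x ∈ init, wp M x ∈ H)
    (steps : List (Step n)) (h : genCheck M init steps = true) : H = ⊤ := by
  unfold genCheck at h
  split at h
  · rename_i known hrun
    have hk := runSteps_sound M H steps init known hinit hrun
    rw [List.all_eq_true] at h
    rw [eq_top_iff, ← M.toCoxeterSystem.subgroup_closure_range_simple, Subgroup.closure_le]
    rintro _ ⟨i, rfl⟩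
    have hi := h i (List.mem_finRange i)
    have hmem : [i] ∈ known := by simpa using hi
    have := hk [i] hmem
    simpa [wp] using this
  · exact absurd h (by simp)

end Cfsg.Agent.Helper40
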