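import Cfsg.Agent.Helper18.Weyl
import Cfsg.Agent.Helper36.ChevGenAll
import Cfsg.Agent.S1031
import Cfsg.Agent.Helper40.CommChk

/-!
Helper40: subgroups of `GL` containing the monomial subgroup `N` of a Chevalley group and some root subgroups:
closure under the Weyl group action on roots, under commutators with invertible constant, and a certificate
format (`certOK`) to conclude that the whole Chevalley group is contained in the subgroup.
-/

set_option autoImplicit false

namespace Cfsg.Agent.Helper40.GenNX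

open Cfsg Cfsg.Lie Cfsg.Agent.Helper18 Cfsg.Agent.Helper40.Comm

section
variable {F : Type*} [Field F] (D : ChevalleyDatum)

/-- all root elements of the root `s` lie in `M` -/
def RootIn (M : Subgroup (GL D.Idx F)) (s : ℕ) : Prop := ∀ t : F, xGL D F s t ∈ M

variable (hD : D ∈ [chevG2, chevB2, chevD4, chevF4, chevE6, chevE7, chevE8])
include hD

theorem rootIn_of_rootSubgroup_le (M : Subgroup (GL D.Idx F)) (s : ℕ) (h : D.rootSubgroup F s ≤ M) :
    RootIn D M s := by
  intro t
  apply h
  unfold ChevalleyDatum.rootSubgroup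
  apply Subgroup.subset_closure
  exact ⟨t, xGL_val D _ (triOK_of_mem D hD) s t⟩

theorem rootIn_rho (M : Subgroup (GL D.Idx F)) (hN : D.monomialSubgroup F ≤ M) (s : ℕ) (hs : s < D.nroots)
    (h : RootIn D M s) (w : List ℕ) (hw : ∀ i ∈ w, i < D.rank) : RootIn D M (rho D w s) := by
  have h31 : NConjHyp D F := fun i s hi hs => Cfsg.Agent.S1031.result D hD i s hi hs
  have hrefl : ∀ i s, i < D.rank → s < D.nroots → D.reflectRoot i s < D.nroots :=
    fun i s hi hs => (Cfsg.Agent.Helper36.reflectRoot_facts D hD i hi s hs).1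
  obtain ⟨-, η, hη, hconj⟩ := nWordsGL_conj_xGL D hD h31 hrefl w hw s hs
  intro t
  have hn : nWordsGL D F w ∈ M := hN (nWordsGL_mem D hD w hw)
  have e1 := hconj ((η : F) * t)
  have e2 : (η : F) * ((η : F) * t) = t := by
    rcases hη with rfl | rfl <;> simp
  rw [e2] at e1
  have e3 : xGL D F (rho D w s) t = nWordsGL D F w * xGL D F s ((η : F) * t) * (nWordsGL D F w)⁻¹ := by
    rw [e1, mul_assoc, mul_inv_cancel, mul_one]
  rw [e3]
  exact M.mul_mem (M.mul_mem hn (h _)) (M.inv_mem hn)

theorem rootIn_comm (M : Subgroup (GL D.Idx F)) (a b c : ℕ) (C : ℤ) (hcf : CF D F a b)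
    (hterms : D.commTerms a b = [(c, C, 1, 1)]) (hC : ((C : ℤ) : F) ≠ 0)
    (ha : RootIn D M a) (hb : RootIn D M b) : RootIn D M c := by
  have htri := triOK_of_mem D hD
  intro v
  have h1 := hcf (-1) (v / ((C : ℤ) : F))
  have hw : D.commWord F a b (-1) (v / ((C : ℤ) : F)) = [(c, v)] := by
    unfold ChevalleyDatum.commWord
    rw [hterms]
    simp only [List.map_cons, List.map_nil, pow_one, neg_neg, mul_one]
    rw [mul_div_cancel₀ _ hC]
  rw [hw] at h1
  have hwm : D.wordMat F [(c, v)] = D.x F c v := by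
    simp [ChevalleyDatum.wordMat]
  rw [hwm] at h1
  have e : xGL D F c v = (xGL D F a (-1) * xGL D F b (v / ((C : ℤ) : F)))⁻¹ *
      (xGL D F b (v / ((C : ℤ) : F)) * xGL D F a (-1)) := by
    rw [eq_inv_mul_iff_mul_eq]
    apply Units.ext
    simp only [Units.val_mul, xGL_val D _ htri]
    exact h1.symm
  rw [e]
  exact M.mul_mem (M.inv_mem (M.mul_mem (ha _) (hb _))) (M.mul_mem (hb _) (ha _))

/-- a subgroup containing all root elements of the fundamental roots and their negatives contains the group -/
theorem group_le_of_fund (M : Subgroup (GL D.Idx F))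
    (h : ∀ i < D.rank, RootIn D M (D.simple i) ∧ RootIn D M (D.neg (D.simple i))) : D.group F ≤ M := by
  have htri := triOK_of_mem D hD
  have key := Cfsg.Agent.Helper36.fund_generate D hD (M.subgroupOf (D.group F)) (by
    intro i hi t γ hγ
    rw [Subgroup.mem_subgroupOf]
    rcases hγ with hγ | hγ
    · have : (γ : GL D.Idx F) = xGL D F (D.simple i) t := Units.ext (by rw [hγ, xGL_val D _ htri])
      rw [this]
      exact (h i hi).1 t
    · have : (γ : GL D.Idx F) = xGL D F (D.neg (D.simple i)) t := Units.ext (by rw [hγ, xGL_val D _ htri])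
      rw [this]
      exact (h i hi).2 t)
  exact Subgroup.subgroupOf_eq_top.mp key

end

theorem intCast_ne_zero_of_ringChar_ne {K : Type*} [Field K] (p : ℕ) (C : ℤ) (hp : p.Prime)
    (hC : C.natAbs = p) (h : ringChar K ≠ p) : ((C : ℤ) : K) ≠ 0 := by
  intro h0
  rw [CharP.intCast_eq_zero_iff K (ringChar K) C, Int.natCast_dvd, hC] at h0
  rcases (Nat.dvd_prime hp).mp h0 with h1 | h1
  · exact CharP.ringChar_ne_one h1
  · exact h h1

/-- certificate: for every fundamental root `p_j` a source root and a word of simple reflections carrying the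
source to `p_j`, and the same for `-p_j` -/
def certOK (D : ChevalleyDatum) (srcs : List ℕ) (tab : List ((ℕ × List ℕ) × (ℕ × List ℕ))) : Bool :=
  (List.range D.rank).all fun j =>
    match tab[j]? with
    | none => false
    | some e =>
      srcs.contains e.1.1 && srcs.contains e.2.1 &&
      e.1.2.all (fun i => decide (i < D.rank)) && e.2.2.all (fun i => decide (i < D.rank)) &&
      (rho D e.1.2 e.1.1 == D.simple j) && (rho D e.2.2 e.2.1 == D.neg (D.simple j))

theorem group_le_of_cert {F : Type*} [Field F] (D : ChevalleyDatum)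
    (hD : D ∈ [chevG2, chevB2, chevD4, chevF4, chevE6, chevE7, chevE8])
    (M : Subgroup (GL D.Idx F)) (hN : D.monomialSubgroup F ≤ M) (srcs : List ℕ)
    (tab : List ((ℕ × List ℕ) × (ℕ × List ℕ))) (hcert : certOK D srcs tab = true)
    (hsrc : ∀ s ∈ srcs, s < D.nroots ∧ RootIn D M s) : D.group F ≤ M := by
  apply group_le_of_fund D hD M
  intro j hj
  unfold certOK at hcert
  rw [List.all_eq_true] at hcert
  have h1 := hcert j (List.mem_range.mpr hj)
  split at h1
  · exact absurd h1 (by simp)
  · rename_i e he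
    simp only [Bool.and_eq_true, List.contains_iff_mem, List.all_eq_true, decide_eq_true_eq, beq_iff_eq] at h1
    obtain ⟨⟨⟨⟨⟨a1, a2⟩, a3⟩, a4⟩, a5⟩, a6⟩ := h1
    constructor
    · rw [← a5]
      exact rootIn_rho D hD M hN _ (hsrc _ a1).1 (hsrc _ a1).2 _ a3
    · rw [← a6]
      exact rootIn_rho D hD M hN _ (hsrc _ a2).1 (hsrc _ a2).2 _ a4

end Cfsg.Agent.Helper40.GenNX
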