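import Cfsg.Agent.Helper40.GenNX
import Cfsg.Agent.Helper18.UpStruct
import Cfsg.Agent.S1025
import Cfsg.Agent.S1043

/-!
Helper40: tools for the generation of a Chevalley group (seven tabulated types) by two elements built from root
elements and a representative `n_w` of a Coxeter element: conjugation of root subgroups by words of `N` lying in the
subgroup, commuting root subgroups, single-term commutators, and a derivation checker (`derivOK`) for the closure of a
set of roots under the Coxeter element and under single-term commutators with constant `±1`.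
-/

set_option autoImplicit false

namespace Cfsg.Agent.Helper40.GenQ2

open Cfsg Cfsg.Lie Cfsg.Agent.Helper18 Cfsg.Agent.Helper40.Comm Cfsg.Agent.Helper40.GenNX

theorem eta_mul_eta {F : Type*} [Field F] (η : ℤ) (hη : η = 1 ∨ η = -1) (t : F) :
    (η : F) * ((η : F) * t) = t := by
  rcases hη with rfl | rfl <;> simp

section
variable {F : Type*} [Field F] (D : ChevalleyDatum)
variable (hD : D ∈ [chevG2, chevB2, chevD4, chevF4, chevE6, chevE7, chevE8])
include hD

theorem xGL_zero (s : ℕ) : xGL D F s (0 : F) = 1 := by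
  apply Units.ext
  rw [xGL_val D _ (triOK_of_mem D hD), x_zero, Units.val_one]

theorem xGL_mul (s : ℕ) (t u : F) : xGL D F s t * xGL D F s u = xGL D F s (t + u) := by
  have htri := triOK_of_mem D hD
  apply Units.ext
  rw [Units.val_mul, xGL_val D _ htri, xGL_val D _ htri, xGL_val D _ htri]
  by_cases hs : s < D.nroots
  · exact Cfsg.Agent.S1023.result D hD s hs t u
  · unfold ChevalleyDatum.x
    rw [dif_neg hs, dif_neg hs, dif_neg hs, mul_one]

/-- conjugation of a root element by a word in the `n_i` -/
theorem word_conj (w : List ℕ) (hw : ∀ i ∈ w, i < D.rank) (s : ℕ) (hs : s < D.nroots) :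
    rho D w s < D.nroots ∧ ∃ η : ℤ, (η = 1 ∨ η = -1) ∧ ∀ t : F,
      nWordsGL D F w * xGL D F s t * (nWordsGL D F w)⁻¹ = xGL D F (rho D w s) ((η : F) * t) := by
  have h31 : NConjHyp D F := fun i s hi hs => Cfsg.Agent.S1031.result D hD i s hi hs
  have hrefl : ∀ i s, i < D.rank → s < D.nroots → D.reflectRoot i s < D.nroots :=
    fun i s hi hs => (Cfsg.Agent.Helper36.reflectRoot_facts D hD i hi s hs).1
  obtain ⟨h1, η, hη, hconj⟩ := nWordsGL_conj_xGL D hD h31 hrefl w hw s hs
  refine ⟨h1, η, hη, fun t => ?_⟩
  rw [hconj t, mul_assoc, mul_inv_cancel, mul_one]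

/-- a word of `N` lying in `M` carries root subgroups in `M` to root subgroups in `M` -/
theorem rootIn_word (M : Subgroup (GL D.Idx F)) (w : List ℕ) (hw : ∀ i ∈ w, i < D.rank)
    (hn : nWordsGL D F w ∈ M) (s : ℕ) (hs : s < D.nroots) (h : RootIn D M s) : RootIn D M (rho D w s) := by
  obtain ⟨-, η, hη, hconj⟩ := word_conj D hD (F := F) w hw s hs
  intro t
  have e1 := hconj ((η : F) * t)
  rw [eta_mul_eta η hη] at e1
  rw [← e1]
  exact M.mul_mem (M.mul_mem hn (h _)) (M.inv_mem hn)

/-- the inverse direction -/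
theorem rootIn_word_inv (M : Subgroup (GL D.Idx F)) (w : List ℕ) (hw : ∀ i ∈ w, i < D.rank)
    (hn : nWordsGL D F w ∈ M) (s : ℕ) (hs : s < D.nroots) (h : RootIn D M (rho D w s)) : RootIn D M s := by
  obtain ⟨-, η, hη, hconj⟩ := word_conj D hD (F := F) w hw s hs
  intro t
  have e1 := hconj t
  have e2 : xGL D F s t = (nWordsGL D F w)⁻¹ * xGL D F (rho D w s) ((η : F) * t) * nWordsGL D F w := by
    rw [← e1]; group
  rw [e2]
  exact M.mul_mem (M.mul_mem (M.inv_mem hn) (h _)) hn

/-- root subgroups with empty commutator formula commute -/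
theorem xGL_commute (r s : ℕ) (hr : r < D.nroots) (hs : s < D.nroots) (hrs : s ≠ r) (hneg : s ≠ D.neg r)
    (h0 : D.commTerms r s = []) (t u : F) : Commute (xGL D F r t) (xGL D F s u) := by
  have htri := triOK_of_mem D hD
  have h1 := Cfsg.Agent.S1025.result D hD r s hr hs hrs hneg t u
  have hw : D.commWord F r s t u = [] := by
    unfold ChevalleyDatum.commWord
    rw [h0]; rfl
  rw [hw] at h1
  have hwm : D.wordMat F ([] : List (ℕ × F)) = 1 := by simp [ChevalleyDatum.wordMat]
  rw [hwm, mul_one] at h1
  unfold Commute SemiconjBy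
  apply Units.ext
  simp only [Units.val_mul, xGL_val D _ htri]
  exact h1.symm

/-- the commutator formula with a single term `(c, C, 1, 1)` -/
theorem xGL_comm_single (r s c : ℕ) (C : ℤ) (hr : r < D.nroots) (hs : s < D.nroots) (hrs : s ≠ r)
    (hneg : s ≠ D.neg r) (h1 : D.commTerms r s = [(c, C, 1, 1)]) (t u : F) :
    xGL D F s u * xGL D F r t = xGL D F r t * xGL D F s u * xGL D F c ((C : F) * (-t) * u) := by
  have htri := triOK_of_mem D hD
  have h := Cfsg.Agent.S1025.result D hD r s hr hs hrs hneg t u
  have hw : D.commWord F r s t u = [(c, (C : F) * (-t) * u)] := by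
    unfold ChevalleyDatum.commWord
    rw [h1]
    simp only [List.map_cons, List.map_nil, pow_one]
  rw [hw] at h
  have hwm : D.wordMat F [(c, (C : F) * (-t) * u)] = D.x F c ((C : F) * (-t) * u) := by
    simp [ChevalleyDatum.wordMat]
  rw [hwm] at h
  apply Units.ext
  simp only [Units.val_mul, xGL_val D _ htri]
  exact h

/-- `x_r(t₀) x_s(u) x_r(t₀)⁻¹ = x_s(u) x_c(C t₀ u)` for a single-term pair -/
theorem xGL_conj_single (r s c : ℕ) (C : ℤ) (hr : r < D.nroots) (hs : s < D.nroots) (hrs : s ≠ r)
    (hneg : s ≠ D.neg r) (h1 : D.commTerms r s = [(c, C, 1, 1)]) (t₀ u : F) :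
    xGL D F r t₀ * xGL D F s u * (xGL D F r t₀)⁻¹ = xGL D F s u * xGL D F c ((C : F) * t₀ * u) := by
  have e := xGL_comm_single D hD r s c C hr hs hrs hneg h1 (-t₀) u
  rw [neg_neg] at e
  rw [xGL_inv' D hD r t₀, mul_assoc, e, ← mul_assoc, ← mul_assoc, xGL_mul D hD, add_neg_cancel,
    xGL_zero D hD, one_mul]

end

/-! ### the derivation checker -/

/-- the root added by a step: `(0, s, _)` adds `w s`; `(1, s, _)` adds `s` provided `w s` is known;
`(2, r, s)` adds the root `c` of `commTerms r s = [(c, ±1, 1, 1)]` -/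
def stepRoot (D : ChevalleyDatum) (cw : List ℕ) (K : List ℕ) (st : ℕ × ℕ × ℕ) : Option ℕ :=
  if st.1 = 0 then (if K.contains st.2.1 then some (rho D cw st.2.1) else none)
  else if st.1 = 1 then
    (if decide (st.2.1 < D.nroots) && K.contains (rho D cw st.2.1) then some st.2.1 else none)
  else if K.contains st.2.1 && K.contains st.2.2 && decide (st.2.2 ≠ st.2.1) && decide (st.2.2 ≠ D.neg st.2.1) then
    match D.commTerms st.2.1 st.2.2 with
    | [(c, C, 1, 1)] => if C.natAbs = 1 ∧ c < D.nroots then some c else none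
    | _ => none
  else none

/-- run a derivation -/
def runSteps (D : ChevalleyDatum) (cw : List ℕ) : List (ℕ × ℕ × ℕ) → List ℕ → Option (List ℕ)
  | [], K => some K
  | st :: rest, K =>
    match stepRoot D cw K st with
    | some c => runSteps D cw rest (c :: K)
    | none => none

/-- the derivation is valid and reaches all fundamental roots and their negatives -/
def derivOK (D : ChevalleyDatum) (cw : List ℕ) (K0 : List ℕ) (steps : List (ℕ × ℕ × ℕ)) : Bool :=
  cw.all (fun i => decide (i < D.rank)) &&
  match runSteps D cw steps K0 with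
  | some K => (List.range D.rank).all fun j => K.contains (D.simple j) && K.contains (D.neg (D.simple j))
  | none => false

section
variable {F : Type*} [Field F] (D : ChevalleyDatum)
variable (hD : D ∈ [chevG2, chevB2, chevD4, chevF4, chevE6, chevE7, chevE8])
include hD

theorem stepRoot_sound (M : Subgroup (GL D.Idx F)) (cw : List ℕ) (hcw : ∀ i ∈ cw, i < D.rank)
    (hn : nWordsGL D F cw ∈ M) (K : List ℕ) (hK : ∀ s ∈ K, s < D.nroots ∧ RootIn D M s)
    (st : ℕ × ℕ × ℕ) (c : ℕ) (h : stepRoot D cw K st = some c) : c < D.nroots ∧ RootIn D M c := by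
  unfold stepRoot at h
  split_ifs at h with h0 h1 h2 h3 h4
  · -- forward Coxeter step
    simp only [Option.some.injEq] at h
    rw [List.contains_iff_mem] at h1
    obtain ⟨hs, hr⟩ := hK _ h1
    rw [← h]
    exact ⟨(word_conj D hD (F := F) cw hcw _ hs).1, rootIn_word D hD M cw hcw hn _ hs hr⟩
  · -- backward Coxeter step
    simp only [Option.some.injEq] at h
    simp only [Bool.and_eq_true, decide_eq_true_eq, List.contains_iff_mem] at h3
    obtain ⟨hs, hmem⟩ := h3
    rw [← h]
    exact ⟨hs, rootIn_word_inv D hD M cw hcw hn _ hs (hK _ hmem).2⟩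
  · -- commutator step
    simp only [Bool.and_eq_true, decide_eq_true_eq, List.contains_iff_mem] at h4
    obtain ⟨⟨⟨hr, hs⟩, hne⟩, hneg⟩ := h4
    obtain ⟨hrlt, hrin⟩ := hK _ hr
    obtain ⟨hslt, hsin⟩ := hK _ hs
    split at h
    · rename_i c' C heq
      split_ifs at h with hC
      simp only [Option.some.injEq] at h
      subst h
      have hcf : CF D F st.2.1 st.2.2 := Cfsg.Agent.S1025.result D hD _ _ hrlt hslt hne hneg
      have hCF : ((C : ℤ) : F) ≠ 0 := by
        rcases Int.natAbs_eq C with h' | h' <;> rw [h', hC.1] <;> simp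
      exact ⟨hC.2, rootIn_comm D hD M _ _ _ C hcf heq hCF hrin hsin⟩
    · exact absurd h (by simp)

theorem runSteps_sound (M : Subgroup (GL D.Idx F)) (cw : List ℕ) (hcw : ∀ i ∈ cw, i < D.rank)
    (hn : nWordsGL D F cw ∈ M) (steps : List (ℕ × ℕ × ℕ)) :
    ∀ (K K' : List ℕ), (∀ s ∈ K, s < D.nroots ∧ RootIn D M s) → runSteps D cw steps K = some K' →
      ∀ s ∈ K', s < D.nroots ∧ RootIn D M s := by
  induction steps with
  | nil =>
    intro K K' hK h
    simp only [runSteps, Option.some.injEq] at h
    subst h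
    exact hK
  | cons st rest ih =>
    intro K K' hK h
    rw [runSteps] at h
    split at h
    · rename_i c hc
      apply ih (c :: K) K' _ h
      intro s hs
      rcases List.mem_cons.mp hs with rfl | hs
      · exact stepRoot_sound D hD M cw hcw hn K hK st _ hc
      · exact hK s hs
    · exact absurd h (by simp)

/-- a subgroup containing `n_w` and the root subgroups of `K0` contains the Chevalley group, given a derivation -/
theorem group_le_of_deriv (M : Subgroup (GL D.Idx F)) (cw : List ℕ) (hn : nWordsGL D F cw ∈ M) (K0 : List ℕ)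
    (steps : List (ℕ × ℕ × ℕ)) (hd : derivOK D cw K0 steps = true)
    (hK0 : ∀ s ∈ K0, s < D.nroots ∧ RootIn D M s) : D.group F ≤ M := by
  unfold derivOK at hd
  rw [Bool.and_eq_true, List.all_eq_true] at hd
  obtain ⟨hcw, hd⟩ := hd
  have hcw' : ∀ i ∈ cw, i < D.rank := fun i hi => of_decide_eq_true (hcw i hi)
  split at hd
  · rename_i K hK
    have hall := runSteps_sound D hD M cw hcw' hn steps K0 K hK0 hK
    rw [List.all_eq_true] at hd
    apply group_le_of_fund D hD M
    intro j hj
    have := hd j (List.mem_range.mpr hj)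
    simp only [Bool.and_eq_true, List.contains_iff_mem] at this
    exact ⟨(hall _ this.1).2, (hall _ this.2).2⟩
  · exact absurd hd (by simp)

end

end Cfsg.Agent.Helper40.GenQ2
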