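import Cfsg.Agent.Helper40.GenQ2F4

/-!
Helper40: one-root certificates for `E₆`, `E₇`, `E₈` (a subgroup containing `n_w` and one suitable root subgroup
contains the group, in every characteristic), and generation of `E₆(2)`, `E₇(2)`, `E₈(2)` by `x_r(1)` and `n_w`.
-/

set_option autoImplicit false

namespace Cfsg.Agent.Helper40.GenQ2

open Cfsg Cfsg.Lie Cfsg.Agent.Helper18 Cfsg.Agent.Helper40.Comm Cfsg.Agent.Helper40.GenNX

theorem hE6 : chevE6 ∈ [chevG2, chevB2, chevD4, chevF4, chevE6, chevE7, chevE8] := by simp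

/-- the derivation for `E6` from the root `29` -/
def e6Steps : List (ℕ × ℕ × ℕ) :=
  [(0, 29, 0), (0, 24, 0), (0, 12, 0), (0, 19, 0), (1, 15, 0), (1, 60, 0), (1, 48, 0), (1, 43, 0), (2, 32, 43), (1, 56, 0), (2, 19, 42), (0, 22, 0), (2, 29, 15), (1, 45, 0), (2, 19, 45), (2, 12, 60), (1, 37, 0), (1, 39, 0), (0, 32, 0), (0, 34, 0)]

set_option maxRecDepth 100000 in
theorem e6_deriv : derivOK chevE6 [0, 1, 2, 3, 4, 5] [29] e6Steps = true := by decide +kernel

/-- a subgroup containing `n_w` and the root subgroup `X_29` contains `E6(F)` -/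
theorem e6_le_of_root {F : Type*} [Field F] (M : Subgroup (GL chevE6.Idx F))
    (hn : nWordsGL chevE6 F [0, 1, 2, 3, 4, 5] ∈ M) (h : RootIn chevE6 M 29) : chevE6.group F ≤ M := by
  apply group_le_of_deriv chevE6 hE6 M [0, 1, 2, 3, 4, 5] hn [29] e6Steps e6_deriv
  intro s hs
  simp only [List.mem_cons, List.not_mem_nil, or_false] at hs
  subst hs
  exact ⟨by decide, h⟩

/-- `E6(2)` is generated by two elements -/
theorem gen_E6_q2 {F : Type*} [Field F] (hF : ∀ x : F, x = 0 ∨ x = 1) :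
    ∃ a b : ↥(chevE6.group F), Subgroup.closure ({a, b} : Set ↥(chevE6.group F)) = ⊤ := by
  apply two_gen_of chevE6 (xGL chevE6 F 29 1) (nWordsGL chevE6 F [0, 1, 2, 3, 4, 5])
    (xGL_mem_group chevE6 hE6 29 1) (nWordsGL_mem_group chevE6 hE6 _ (by decide))
  intro M h1 h2
  exact e6_le_of_root M h2 (rootIn_of_one hF chevE6 hE6 M 29 h1)

theorem hE7 : chevE7 ∈ [chevG2, chevB2, chevD4, chevF4, chevE6, chevE7, chevE8] := by simp

/-- the derivation for `E7` from the root `39` -/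
def e7Steps : List (ℕ × ℕ × ℕ) :=
  [(1, 28, 0), (1, 45, 0), (0, 39, 0), (0, 56, 0), (0, 59, 0), (2, 45, 61), (0, 44, 0), (0, 27, 0), (0, 61, 0), (0, 62, 0), (0, 102, 0), (0, 74, 0), (1, 51, 0), (1, 23, 0), (2, 59, 51), (2, 23, 50), (1, 21, 0), (1, 41, 0), (2, 80, 41), (1, 32, 0), (2, 62, 44), (0, 43, 0), (1, 30, 0), (1, 47, 0), (0, 93, 0), (1, 63, 0), (1, 64, 0), (1, 66, 0), (1, 69, 0)]

set_option maxRecDepth 100000 in
theorem e7_deriv : derivOK chevE7 [0, 1, 2, 3, 4, 5, 6] [39] e7Steps = true := by decide +kernel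

/-- a subgroup containing `n_w` and the root subgroup `X_39` contains `E7(F)` -/
theorem e7_le_of_root {F : Type*} [Field F] (M : Subgroup (GL chevE7.Idx F))
    (hn : nWordsGL chevE7 F [0, 1, 2, 3, 4, 5, 6] ∈ M) (h : RootIn chevE7 M 39) : chevE7.group F ≤ M := by
  apply group_le_of_deriv chevE7 hE7 M [0, 1, 2, 3, 4, 5, 6] hn [39] e7Steps e7_deriv
  intro s hs
  simp only [List.mem_cons, List.not_mem_nil, or_false] at hs
  subst hs
  exact ⟨by decide, h⟩

/-- `E7(2)` is generated by two elements -/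
theorem gen_E7_q2 {F : Type*} [Field F] (hF : ∀ x : F, x = 0 ∨ x = 1) :
    ∃ a b : ↥(chevE7.group F), Subgroup.closure ({a, b} : Set ↥(chevE7.group F)) = ⊤ := by
  apply two_gen_of chevE7 (xGL chevE7 F 39 1) (nWordsGL chevE7 F [0, 1, 2, 3, 4, 5, 6])
    (xGL_mem_group chevE7 hE7 39 1) (nWordsGL_mem_group chevE7 hE7 _ (by decide))
  intro M h1 h2
  exact e7_le_of_root M h2 (rootIn_of_one hF chevE7 hE7 M 39 h1)

theorem hE8 : chevE8 ∈ [chevG2, chevB2, chevD4, chevF4, chevE6, chevE7, chevE8] := by simp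

/-- the derivation for `E8` from the root `8` -/
def e8Steps : List (ℕ × ℕ × ℕ) :=
  [(0, 8, 0), (0, 16, 0), (0, 22, 0), (0, 37, 0), (0, 79, 0), (0, 106, 0), (1, 14, 0), (1, 7, 0), (1, 6, 0), (1, 20, 0), (1, 12, 0), (1, 34, 0), (2, 110, 34), (0, 27, 0), (0, 41, 0), (0, 82, 0), (0, 110, 0), (0, 170, 0), (1, 54, 0), (1, 69, 0), (1, 129, 0), (2, 185, 129), (2, 57, 192), (1, 162, 0), (0, 185, 0), (0, 205, 0), (2, 54, 27), (1, 13, 0), (1, 35, 0), (2, 227, 35), (0, 168, 0), (2, 205, 129), (2, 37, 212), (1, 133, 0), (2, 227, 133), (2, 6, 231), (2, 7, 231), (2, 110, 54), (1, 60, 0), (2, 205, 60), (2, 129, 147), (0, 151, 0), (2, 170, 27), (0, 78, 0), (2, 129, 105), (2, 205, 35), (1, 123, 0), (1, 126, 0), (0, 109, 0), (0, 113, 0), (2, 105, 133), (1, 118, 0), (2, 13, 227)]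

set_option maxRecDepth 100000 in
theorem e8_deriv : derivOK chevE8 [0, 1, 2, 3, 4, 5, 6, 7] [8] e8Steps = true := by decide +kernel

/-- a subgroup containing `n_w` and the root subgroup `X_8` contains `E8(F)` -/
theorem e8_le_of_root {F : Type*} [Field F] (M : Subgroup (GL chevE8.Idx F))
    (hn : nWordsGL chevE8 F [0, 1, 2, 3, 4, 5, 6, 7] ∈ M) (h : RootIn chevE8 M 8) : chevE8.group F ≤ M := by
  apply group_le_of_deriv chevE8 hE8 M [0, 1, 2, 3, 4, 5, 6, 7] hn [8] e8Steps e8_deriv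
  intro s hs
  simp only [List.mem_cons, List.not_mem_nil, or_false] at hs
  subst hs
  exact ⟨by decide, h⟩

/-- `E8(2)` is generated by two elements -/
theorem gen_E8_q2 {F : Type*} [Field F] (hF : ∀ x : F, x = 0 ∨ x = 1) :
    ∃ a b : ↥(chevE8.group F), Subgroup.closure ({a, b} : Set ↥(chevE8.group F)) = ⊤ := by
  apply two_gen_of chevE8 (xGL chevE8 F 8 1) (nWordsGL chevE8 F [0, 1, 2, 3, 4, 5, 6, 7])
    (xGL_mem_group chevE8 hE8 8 1) (nWordsGL_mem_group chevE8 hE8 _ (by decide))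
  intro M h1 h2
  exact e8_le_of_root M h2 (rootIn_of_one hF chevE8 hE8 M 8 h1)

end Cfsg.Agent.Helper40.GenQ2
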