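import Cfsg.Agent.Helper40.GenQ2

/-!
Helper40: rules for a subgroup `M` containing `g₂ = x_b(1) n_w`: conjugation by `g₂` and `g₂⁻¹` moves root subgroups
in `M` along the Coxeter element, up to a commutator with `x_b(1)`. Also the facts on a field with two elements.
-/

set_option autoImplicit false

namespace Cfsg.Agent.Helper40.GenQ2

open Cfsg Cfsg.Lie Cfsg.Agent.Helper18 Cfsg.Agent.Helper40.Comm Cfsg.Agent.Helper40.GenNX

section Two
variable {F : Type*} [Field F] (hF : ∀ x : F, x = 0 ∨ x = 1)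
include hF

theorem neg_one_eq_one : (-1 : F) = 1 := by
  rcases hF (-1) with h | h
  · exact absurd h (neg_ne_zero.mpr one_ne_zero)
  · exact h

theorem intCast_eq_one (η : ℤ) (hη : η = 1 ∨ η = -1) : (η : F) = 1 := by
  rcases hη with rfl | rfl
  · simp
  · simp [neg_one_eq_one hF]

theorem rootIn_of_one (D : ChevalleyDatum) (hD : D ∈ [chevG2, chevB2, chevD4, chevF4, chevE6, chevE7, chevE8])
    (M : Subgroup (GL D.Idx F)) (s : ℕ) (h : xGL D F s 1 ∈ M) : RootIn D M s := by
  intro t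
  rcases hF t with rfl | rfl
  · rw [xGL_zero D hD]; exact M.one_mem
  · exact h

end Two

section Rules
variable {F : Type*} [Field F] (D : ChevalleyDatum)
variable (hD : D ∈ [chevG2, chevB2, chevD4, chevF4, chevE6, chevE7, chevE8])
variable (M : Subgroup (GL D.Idx F)) (cw : List ℕ) (hcw : ∀ i ∈ cw, i < D.rank) (b : ℕ) (hb : b < D.nroots)
  (h2 : xGL D F b 1 * nWordsGL D F cw ∈ M)
include hD hcw hb h2

/-- forward rule, `x_b` commutes with `X_{ws}` -/
theorem rule_fwd (s : ℕ) (hs : s < D.nroots) (hne : rho D cw s ≠ b) (hneg : rho D cw s ≠ D.neg b)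
    (h0 : D.commTerms b (rho D cw s) = []) (h : RootIn D M s) : RootIn D M (rho D cw s) := by
  obtain ⟨hlt, η, hη, hconj⟩ := word_conj D hD (F := F) cw hcw s hs
  intro t
  have e1 := hconj ((η : F) * t)
  rw [eta_mul_eta η hη] at e1
  have hc := xGL_commute D hD b (rho D cw s) hb hlt hne hneg h0 (1 : F) t
  have e2 : xGL D F (rho D cw s) t =
      (xGL D F b 1 * nWordsGL D F cw) * xGL D F s ((η : F) * t) * (xGL D F b 1 * nWordsGL D F cw)⁻¹ := by
    have : (xGL D F b 1 * nWordsGL D F cw) * xGL D F s ((η : F) * t) * (xGL D F b 1 * nWordsGL D F cw)⁻¹ =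
        xGL D F b 1 * (nWordsGL D F cw * xGL D F s ((η : F) * t) * (nWordsGL D F cw)⁻¹) * (xGL D F b 1)⁻¹ := by
      group
    rw [this, e1, hc.eq, mul_assoc, mul_inv_cancel, mul_one]
  rw [e2]
  exact M.mul_mem (M.mul_mem h2 (h _)) (M.inv_mem h2)

/-- backward rule, `x_b` commutes with `X_s` where `s = w s'` -/
theorem rule_bwd (s' : ℕ) (hs' : s' < D.nroots) (hne : rho D cw s' ≠ b) (hneg : rho D cw s' ≠ D.neg b)
    (h0 : D.commTerms b (rho D cw s') = []) (h : RootIn D M (rho D cw s')) : RootIn D M s' := by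
  obtain ⟨hlt, η, hη, hconj⟩ := word_conj D hD (F := F) cw hcw s' hs'
  intro t
  have e1 := hconj t
  have hc := xGL_commute D hD b (rho D cw s') hb hlt hne hneg h0 (1 : F) ((η : F) * t)
  have e2 : xGL D F s' t =
      (xGL D F b 1 * nWordsGL D F cw)⁻¹ * xGL D F (rho D cw s') ((η : F) * t) * (xGL D F b 1 * nWordsGL D F cw) := by
    have : (xGL D F b 1 * nWordsGL D F cw)⁻¹ * xGL D F (rho D cw s') ((η : F) * t) *
        (xGL D F b 1 * nWordsGL D F cw) =
        (nWordsGL D F cw)⁻¹ * ((xGL D F b 1)⁻¹ * (xGL D F (rho D cw s') ((η : F) * t) * xGL D F b 1)) *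
          nWordsGL D F cw := by
      group
    rw [this, ← hc.eq, inv_mul_cancel_left, ← e1]
    group
  rw [e2]
  exact M.mul_mem (M.mul_mem (M.inv_mem h2) (h _)) h2

/-- forward rule with a single-term commutator: `g₂ x_s g₂⁻¹ = x_{ws} x_c` -/
theorem rule_fwd_single (s c : ℕ) (C : ℤ) (hC : C.natAbs = 1) (hs : s < D.nroots) (hne : rho D cw s ≠ b)
    (hneg : rho D cw s ≠ D.neg b) (h1 : D.commTerms b (rho D cw s) = [(c, C, 1, 1)]) (h : RootIn D M s)
    (hws : RootIn D M (rho D cw s)) : RootIn D M c := by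
  obtain ⟨hlt, η, hη, hconj⟩ := word_conj D hD (F := F) cw hcw s hs
  have hCC : (C : F) * ((C : F) * 1) = 1 := by
    rcases Int.natAbs_eq C with h' | h' <;> rw [h', hC] <;> simp
  intro v
  set t : F := (C : F) * v with ht
  have e1 := hconj ((η : F) * t)
  rw [eta_mul_eta η hη] at e1
  have e3 := xGL_conj_single D hD b (rho D cw s) c C hb hlt hne hneg h1 (1 : F) t
  have hv : (C : F) * 1 * t = v := by
    rw [ht, ← mul_assoc, mul_one]
    have : (C : F) * (C : F) = 1 := by simpa using hCC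
    rw [this, one_mul]
  rw [hv] at e3
  have e2 : xGL D F c v = (xGL D F (rho D cw s) t)⁻¹ *
      ((xGL D F b 1 * nWordsGL D F cw) * xGL D F s ((η : F) * t) * (xGL D F b 1 * nWordsGL D F cw)⁻¹) := by
    have : (xGL D F b 1 * nWordsGL D F cw) * xGL D F s ((η : F) * t) * (xGL D F b 1 * nWordsGL D F cw)⁻¹ =
        xGL D F b 1 * (nWordsGL D F cw * xGL D F s ((η : F) * t) * (nWordsGL D F cw)⁻¹) * (xGL D F b 1)⁻¹ := by
      group
    rw [this, e1, e3, inv_mul_cancel_left]
  rw [e2]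
  exact M.mul_mem (M.inv_mem (hws _)) (M.mul_mem (M.mul_mem h2 (h _)) (M.inv_mem h2))

/-- once `X_b ≤ M`, the Coxeter representative lies in `M` -/
theorem cox_mem (h : RootIn D M b) : nWordsGL D F cw ∈ M := by
  have : nWordsGL D F cw = (xGL D F b 1)⁻¹ * (xGL D F b 1 * nWordsGL D F cw) := by group
  rw [this]
  exact M.mul_mem (M.inv_mem (h 1)) h2

end Rules

end Cfsg.Agent.Helper40.GenQ2
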