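import Cfsg.Agent.Helper40.HyRoots

/-! Helper40: the checks of `HyRoots` for `F₄` over the fields with three and with four elements. -/

set_option autoImplicit false

namespace Cfsg.Agent.Helper40.Hy

open Cfsg Cfsg.Lie Cfsg.Agent.Helper18

set_option maxRecDepth 100000 in
theorem hyF4_q3_0 : hyChunk 2 true chevF4 0 12 = true := by decide +kernel

set_option maxRecDepth 100000 in
theorem hyF4_q3_12 : hyChunk 2 true chevF4 12 12 = true := by decide +kernel

set_option maxRecDepth 100000 in
theorem hyF4_q3_24 : hyChunk 2 true chevF4 24 12 = true := by decide +kernel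

set_option maxRecDepth 100000 in
theorem hyF4_q3_36 : hyChunk 2 true chevF4 36 12 = true := by decide +kernel

theorem hyF4_q3 : hyChunk 2 true chevF4 0 48 = true :=
  (hyChunk_add 2 true chevF4 0 12 36 hyF4_q3_0 (hyChunk_add 2 true chevF4 12 12 24 hyF4_q3_12 (hyChunk_add 2 true chevF4 24 12 12 hyF4_q3_24 hyF4_q3_36)))

set_option maxRecDepth 100000 in
theorem hyF4_q4_0 : hyChunk 3 false chevF4 0 12 = true := by decide +kernel

set_option maxRecDepth 100000 in
theorem hyF4_q4_12 : hyChunk 3 false chevF4 12 12 = true := by decide +kernel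

set_option maxRecDepth 100000 in
theorem hyF4_q4_24 : hyChunk 3 false chevF4 24 12 = true := by decide +kernel

set_option maxRecDepth 100000 in
theorem hyF4_q4_36 : hyChunk 3 false chevF4 36 12 = true := by decide +kernel

theorem hyF4_q4 : hyChunk 3 false chevF4 0 48 = true :=
  (hyChunk_add 3 false chevF4 0 12 36 hyF4_q4_0 (hyChunk_add 3 false chevF4 12 12 24 hyF4_q4_12 (hyChunk_add 3 false chevF4 24 12 12 hyF4_q4_24 hyF4_q4_36)))

theorem hyData_F4_q3 : HyData 2 true chevF4 :=
  hyData_of 2 true chevF4 (addAllOK_of_mem chevF4 (by simp [allData])) hyF4_q3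

theorem hyData_F4_q4 : HyData 3 false chevF4 :=
  hyData_of 3 false chevF4 (addAllOK_of_mem chevF4 (by simp [allData])) hyF4_q4

end Cfsg.Agent.Helper40.Hy
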