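import Cfsg.Agent.Helper40.HyY
import Cfsg.Agent.Helper40.HyDataF4
import Cfsg.Agent.Helper40.LiftAux

/-!
Helper40: **the group presented by the relators (R1), (R2) of type `F₄` over a field with three or four elements is
centrally closed** (the cases left out by Steinberg's theorem for fields with more than four elements).
-/

set_option autoImplicit false

namespace Cfsg.Agent.Helper40.Hy

open Cfsg Cfsg.Lie Cfsg.Agent.Helper18 Cfsg.Agent.Helper40.ChevAdd Cfsg.Agent.Helper40.St Cfsg.Agent.Helper40.LC
  Cfsg.Agent.Helper40.Uc Cfsg.Agent.Helper40.Sl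

section
variable {K : Type*} [Field K] [Fintype K]

/-- the non-zero elements of a field with three elements are `± 1` -/
theorem pm_of_card_three (hK : Fintype.card K = 3) (w : K) (hw : w ≠ 0) : w = 1 ∨ w = -1 := by
  have h := FiniteField.pow_card_sub_one_eq_one w hw
  rw [hK] at h
  have h2 : (w - 1) * (w + 1) = 0 := by
    have : w ^ 2 = 1 := h
    linear_combination this
  rcases mul_eq_zero.mp h2 with h3 | h3
  · exact Or.inl (sub_eq_zero.mp h3)
  · exact Or.inr (eq_neg_of_add_eq_zero_left h3)

/-- `-1 ≠ 1` in a field with three elements -/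
theorem neg_one_ne_one_of_card_three (hK : Fintype.card K = 3) : (-1 : K) ≠ 1 := by
  classical
  intro h
  have hall : ∀ w : K, w ∈ ({0, 1} : Finset K) := by
    intro w
    by_cases hw : w = 0
    · simp [hw]
    · rcases pm_of_card_three hK w hw with h1 | h1
      · simp [h1]
      · simp [h1, h]
  have hle : Fintype.card K ≤ ({0, 1} : Finset K).card :=
    Finset.card_le_card_of_surjOn id (fun w _ => ⟨w, hall w, rfl⟩)
  have : ({0, 1} : Finset K).card ≤ 2 := Finset.card_le_two
  omega

theorem two_ne_zero_of_card_three (hK : Fintype.card K = 3) : (2 : K) ≠ 0 := by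
  intro h
  apply neg_one_ne_one_of_card_three hK
  linear_combination -h

/-- an element other than `0`, `1` in a field with four elements -/
theorem exists_of_card_four (hK : Fintype.card K = 4) : ∃ v : K, v ≠ 0 ∧ v ≠ 1 := by
  classical
  by_contra hne
  have hne' : ∀ w : K, w ≠ 0 → w = 1 := fun w hw => by
    by_contra h1
    exact hne ⟨w, hw, h1⟩
  have hall : ∀ w : K, w ∈ ({0, 1} : Finset K) := by
    intro w
    by_cases hw : w = 0
    · simp [hw]
    · simp [hne' w hw]
  have hle : Fintype.card K ≤ ({0, 1} : Finset K).card :=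
    Finset.card_le_card_of_surjOn id (fun w _ => ⟨w, hall w, rfl⟩)
  have : ({0, 1} : Finset K).card ≤ 2 := Finset.card_le_two
  omega

/-- powers of an element other than `0`, `1` in a field with four elements -/
theorem zpow_ne_one_of_card_four (hK : Fintype.card K = 4) (v : K) (hv0 : v ≠ 0) (hv1 : v ≠ 1) (d : ℤ)
    (hd : ¬ (3 : ℤ) ∣ d) : v ^ d ≠ 1 := by
  intro h
  apply hd
  have h3 : v ^ 3 = 1 := by
    have := FiniteField.pow_card_sub_one_eq_one v hv0
    rwa [hK] at this
  set u : Kˣ := Units.mk0 v hv0
  have hu3 : u ^ 3 = 1 := by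
    apply Units.ext
    rw [Units.val_pow_eq_pow_val]
    exact h3
  have hud : u ^ d = 1 := by
    apply Units.ext
    rw [Units.val_zpow_eq_zpow_val]
    exact h
  have ho : orderOf u = 3 := by
    have hdvd : orderOf u ∣ 3 := orderOf_dvd_of_pow_eq_one hu3
    rcases (Nat.dvd_prime Nat.prime_three).mp hdvd with h1 | h1
    · exfalso
      apply hv1
      have : u = 1 := orderOf_eq_one_iff.mp h1
      have := congrArg Units.val this
      simpa [u] using this
    · exact h1
  have := orderOf_dvd_iff_zpow_eq_one.mpr hud
  rwa [ho] at this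

/-- odd powers of `-1` in a field with three elements -/
theorem neg_one_zpow_ne_one (hK : Fintype.card K = 3) (d : ℤ) (hd : ¬ ((2 : ℕ) : ℤ) ∣ d) : (-1 : K) ^ d ≠ 1 := by
  have hodd : Odd d := by
    rw [← Int.not_even_iff_odd, even_iff_two_dvd]
    exact_mod_cast hd
  rw [hodd.neg_one_zpow]
  exact neg_one_ne_one_of_card_three hK

/-- **`F₄` over the fields with three and four elements**: the group presented by (R1), (R2) is centrally closed -/
theorem f4_cover_lift_small (hK : Fintype.card K = 3 ∨ Fintype.card K = 4)
    {G₁ E : Type*} [Group G₁] [Group E] (π₁ : E →* G₁) (hπ : Function.Surjective π₁)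
    (hc : π₁.ker ≤ Subgroup.center E) (σ : chevF4.SteinbergCover K →* G₁) :
    ∃ τ : chevF4.SteinbergCover K →* E, π₁.comp τ = σ := by
  have hD : chevF4 ∈ [chevG2, chevB2, chevD4, chevF4, chevE6, chevE7, chevE8] := by simp
  have hadd := ChevAdd.addOK_of_mem hD
  have hG := lift_rels (K := K) chevF4 hadd hD
  have hGAB : ∀ g ∈ chevF4.steinbergRelsAB K, FreeGroup.lift (fGL chevF4 hadd) g = 1 :=
    fun g hg => hG g (relsAB_subset chevF4 hg)
  have O := over_presented hadd (chevF4.steinbergRelsAB K) (fun _ h => h) hGAB
  have gen := gen_presented (K := K) (D := chevF4) (chevF4.steinbergRelsAB K)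
  -- a system of lifts satisfying the relations
  have key : ∃ Y : ℕ → K → E, (∀ r, r < chevF4.nroots → ∀ t : K, IsLift π₁ σ (Y r t)
      (PresentedGroup.mk (chevF4.steinbergRelsAB K) (chevF4.stX r t))) ∧ Rels chevF4 Y := by
    rcases hK with hK | hK
    · have B : BCtx 2 true chevF4 hadd (fun r t => PresentedGroup.mk (chevF4.steinbergRelsAB K) (chevF4.stX r t))
          (PresentedGroup.toGroup hGAB) π₁ σ :=
        { hD := hD
          O := O
          gen := gen
          S := ⟨hπ, hc⟩
          HD := hyData_F4_q3
          hv := ⟨-1, neg_ne_zero.mpr one_ne_zero, fun d hd => neg_one_zpow_ne_one hK d hd⟩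
          hU := by
            intro C hC
            have h2 := two_ne_zero_of_card_three (K := K) hK
            rcases hC with rfl | rfl | ⟨-, rfl | rfl⟩
            · simp
            · simp
            · simpa using h2
            · simpa using h2 }
      obtain ⟨f, hf⟩ := B.exists_hub
      have Y := B.yctx_comm (pm_of_card_three hK) f hf
      exact ⟨_, Y.isLift, Y.rels⟩
    · obtain ⟨v, hv0, hv1⟩ := exists_of_card_four (K := K) hK
      have B : BCtx 3 false chevF4 hadd (fun r t => PresentedGroup.mk (chevF4.steinbergRelsAB K) (chevF4.stX r t))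
          (PresentedGroup.toGroup hGAB) π₁ σ :=
        { hD := hD
          O := O
          gen := gen
          S := ⟨hπ, hc⟩
          HD := hyData_F4_q4
          hv := ⟨v, hv0, fun d hd => zpow_ne_one_of_card_four hK v hv0 hv1 d (by exact_mod_cast hd)⟩
          hU := by
            intro C hC
            rcases hC with rfl | rfl | ⟨h, -⟩
            · simp
            · simp
            · cases h }
      have hv2 : v * v ≠ 1 := by
        have := zpow_ne_one_of_card_four hK v hv0 hv1 2 (by norm_num)
        rwa [zpow_two] at this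
      have Y := B.yctx_tor v hv0 hv2
      exact ⟨_, Y.isLift, Y.rels⟩
  obtain ⟨Y, hlift, R⟩ := key
  have hY := lift_relsAB_of_rels' chevF4 hD Y R
  refine ⟨PresentedGroup.toGroup hY, ?_⟩
  apply PresentedGroup.ext
  intro p
  rw [MonoidHom.comp_apply, PresentedGroup.toGroup.of]
  have h1 := hlift p.1.val p.1.isLt p.2
  unfold IsLift at h1
  rw [h1]
  congr 1
  unfold ChevalleyDatum.stX
  rw [dif_pos p.1.isLt]
  rfl

end

end Cfsg.Agent.Helper40.Hy
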