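import Cfsg.Agent.Helper40.UcRoots

/-!
Helper40: root-system facts for the central closedness of the group presented by (R1), (R2) over a **small** field
(hybrid method: lifts of commuting root elements commute either by a torus element acting trivially on one and by a
non-trivial scalar on the other, or because one of them is a commutator of root elements commuting with the other;
the remaining relations by Steinberg's torus argument).  The checks are parametrised by the order `n` of the
multiplicative group of the field (a torus value `v ^ d` is a non-trivial scalar iff `n ∤ d`) and by whether `2` is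
invertible.
-/

set_option autoImplicit false

namespace Cfsg.Agent.Helper40.Hy

open Cfsg Cfsg.Lie Cfsg.Agent.Helper18 Cfsg.Agent.Helper40.Uc

/-- there is a cocharacter `m` with `⟨a, m⟩ = 0` and `n ∤ ⟨b, m⟩` -/
def TorN (n : ℕ) (D : ChevalleyDatum) (a b : ℕ) : Prop :=
  ∃ m : List ℤ, lvlF D m a = 0 ∧ ¬ (n : ℤ) ∣ lvlF D m b

/-- candidate cocharacters: the coroots and the unit cocharacters -/
def cands (D : ChevalleyDatum) : List (List ℤ) :=
  ((List.range D.nroots).map fun c => corL D c) ++ ((List.range D.rank).map fun i => unitM D i)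

def torNB (n : ℕ) (D : ChevalleyDatum) (a b : ℕ) : Bool :=
  decide (a < D.nroots) && decide (b < D.nroots) &&
    (cands D).any fun m => decide (lvlFast D m a = 0) && decide (¬ (n : ℤ) ∣ lvlFast D m b)

theorem torN_of (n : ℕ) (D : ChevalleyDatum) (hA : addAllOK D = true) (a b : ℕ) (h : torNB n D a b = true) :
    TorN n D a b := by
  unfold torNB at h
  rw [Bool.and_eq_true, Bool.and_eq_true, decide_eq_true_eq, decide_eq_true_eq, List.any_eq_true] at h
  obtain ⟨⟨ha, hb⟩, m, -, h⟩ := h
  rw [Bool.and_eq_true, decide_eq_true_eq, decide_eq_true_eq, lvlFast_eq D hA _ a ha, lvlFast_eq D hA _ b hb] at h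
  exact ⟨m, h.1, h.2⟩

/-- the integer `C` is invertible in the field: `± 1`, or `± 2` when `two` holds -/
def UnitC (two : Bool) (C : ℤ) : Prop := C = 1 ∨ C = -1 ∨ (two = true ∧ (C = 2 ∨ C = -2))

instance (two : Bool) (C : ℤ) : Decidable (UnitC two C) := by unfold UnitC; infer_instance

/-- `r` is a sum `p + q` (one-term commutator formula with invertible constant) of roots commuting with `s` -/
def DecU (two : Bool) (D : ChevalleyDatum) (r s : ℕ) : Prop :=
  ∃ p q C, EX1 D p q r C ∧ UnitC two C ∧ CP D p s ∧ CP D q s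

/-- candidates for the decompositions `r = p + q`, read off the chain table -/
def decomps (D : ChevalleyDatum) (r : ℕ) : List (ℕ × ℕ) :=
  (D.chain.getD r #[]).toList.filterMap fun e => (e.2.toList.head?).map fun km => (km.1, D.neg e.1)

def decUB (two : Bool) (D : ChevalleyDatum) (r s : ℕ) : Bool :=
  (decomps D r).any fun pq => cpB D pq.1 s && cpB D pq.2 s &&
    ex1B D pq.1 pq.2 r (single D pq.1 pq.2).2 && decide (UnitC two (single D pq.1 pq.2).2)

theorem decU_of (two : Bool) (D : ChevalleyDatum) (r s : ℕ) (h : decUB two D r s = true) : DecU two D r s := by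
  unfold decUB at h
  rw [List.any_eq_true] at h
  obtain ⟨pq, -, h⟩ := h
  simp only [Bool.and_eq_true, decide_eq_true_eq] at h
  exact ⟨pq.1, pq.2, _, ex1_of D _ _ _ _ h.1.2, h.2, cp_of D _ _ h.1.1.1, cp_of D _ _ h.1.1.2⟩

/-- the facts used for the pair `(r, s)`, by the shape of its commutator formula -/
inductive PairHy (n : ℕ) (two : Bool) (D : ChevalleyDatum) (r s : ℕ) : Prop
  | n0 (h : D.commTerms r s = [])
      (w : (TorN n D r s ∨ TorN n D s r) ∨ (DecU two D r s ∨ DecU two D s r)) : PairHy n two D r s
  | n1 (m1 : ℕ) (C1 : ℤ) (h : D.commTerms r s = [(m1, C1, 1, 1)]) (c1 : CP D r m1) (tor : TorN n D s r) :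
      PairHy n two D r s
  | n2a (m1 m2 : ℕ) (C1 C2 : ℤ) (h : D.commTerms r s = [(m1, C1, 1, 1), (m2, C2, 1, 2)])
      (c1 : CP D r m1) (c2 : CP D r m2) (c12 : CP D m1 m2) (tor : TorN n D s r) : PairHy n two D r s
  | n2b (m1 m2 : ℕ) (C1 C2 : ℤ) (h : D.commTerms r s = [(m1, C1, 1, 1), (m2, C2, 2, 1)])
      (c1 : CP D s m1) (c2 : CP D s m2) (c12 : CP D m1 m2) (tor : TorN n D r s) : PairHy n two D r s

def pairHyB (n : ℕ) (two : Bool) (D : ChevalleyDatum) (r s : ℕ) : Bool :=
  match D.commTerms r s with
  | [] => (torNB n D r s || torNB n D s r) || (decUB two D r s || decUB two D s r)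
  | [(m1, _, 1, 1)] => cpB D r m1 && torNB n D s r
  | [(m1, _, 1, 1), (m2, _, 1, 2)] => cpB D r m1 && cpB D r m2 && cpB D m1 m2 && torNB n D s r
  | [(m1, _, 1, 1), (m2, _, 2, 1)] => cpB D s m1 && cpB D s m2 && cpB D m1 m2 && torNB n D r s
  | _ => false

theorem pairHy_of (n : ℕ) (two : Bool) (D : ChevalleyDatum) (hA : addAllOK D = true) (r s : ℕ)
    (h : pairHyB n two D r s = true) : PairHy n two D r s := by
  unfold pairHyB at h
  split at h
  · rename_i hL
    rw [Bool.or_eq_true, Bool.or_eq_true, Bool.or_eq_true] at h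
    refine PairHy.n0 hL ?_
    rcases h with (h | h) | (h | h)
    · exact Or.inl (Or.inl (torN_of n D hA _ _ h))
    · exact Or.inl (Or.inr (torN_of n D hA _ _ h))
    · exact Or.inr (Or.inl (decU_of two D _ _ h))
    · exact Or.inr (Or.inr (decU_of two D _ _ h))
  · rename_i m1 C1 hL
    simp only [Bool.and_eq_true] at h
    exact PairHy.n1 m1 C1 hL (cp_of D _ _ h.1) (torN_of n D hA _ _ h.2)
  · rename_i m1 C1 m2 C2 hL
    simp only [Bool.and_eq_true] at h
    exact PairHy.n2a m1 m2 C1 C2 hL (cp_of D _ _ h.1.1.1) (cp_of D _ _ h.1.1.2) (cp_of D _ _ h.1.2)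
      (torN_of n D hA _ _ h.2)
  · rename_i m1 C1 m2 C2 hL
    simp only [Bool.and_eq_true] at h
    exact PairHy.n2b m1 m2 C1 C2 hL (cp_of D _ _ h.1.1.1) (cp_of D _ _ h.1.1.2) (cp_of D _ _ h.1.2)
      (torN_of n D hA _ _ h.2)
  · exact absurd h (by simp)

/-- the check for the root `r` -/
def hyRow (n : ℕ) (two : Bool) (D : ChevalleyDatum) (r : ℕ) : Bool :=
  decUB two D r r && (List.range D.nroots).all fun s => decide (s = r) || decide (s = D.neg r) || pairHyB n two D r s

/-- the check for the roots `lo, …, lo + len - 1` -/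
def hyChunk (n : ℕ) (two : Bool) (D : ChevalleyDatum) (lo len : ℕ) : Bool := (List.range' lo len).all (hyRow n two D)

structure HyData (n : ℕ) (two : Bool) (D : ChevalleyDatum) : Prop where
  pair : ∀ r s, r < D.nroots → s < D.nroots → s ≠ r → s ≠ D.neg r → PairHy n two D r s
  self : ∀ r, r < D.nroots → DecU two D r r

theorem hyData_of (n : ℕ) (two : Bool) (D : ChevalleyDatum) (hA : addAllOK D = true)
    (h : hyChunk n two D 0 D.nroots = true) : HyData n two D := by
  have hrow : ∀ r < D.nroots, hyRow n two D r = true := by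
    intro r hr
    unfold hyChunk at h
    rw [List.all_eq_true] at h
    apply h r
    rw [List.mem_range']
    exact ⟨r, hr, by omega⟩
  constructor
  · intro r s hr hs h1 h2
    have h3 := hrow r hr
    unfold hyRow at h3
    rw [Bool.and_eq_true, List.all_eq_true] at h3
    have h4 := h3.2 s (List.mem_range.mpr hs)
    simp only [Bool.or_eq_true, decide_eq_true_eq] at h4
    rcases h4 with (h4 | h4) | h4
    · exact absurd h4 h1
    · exact absurd h4 h2
    · exact pairHy_of n two D hA r s h4
  · intro r hr
    have h3 := hrow r hr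
    unfold hyRow at h3
    rw [Bool.and_eq_true] at h3
    exact decU_of two D r r h3.1

theorem hyChunk_add (n : ℕ) (two : Bool) (D : ChevalleyDatum) (lo a b : ℕ) (h1 : hyChunk n two D lo a = true)
    (h2 : hyChunk n two D (lo + a) b = true) : hyChunk n two D lo (a + b) = true := by
  unfold hyChunk at *
  have e : List.range' lo (a + b) = List.range' lo a ++ List.range' (lo + a) b := by
    rw [← List.range'_append]
    simp
  rw [e, List.all_append, h1, h2]
  rfl

end Cfsg.Agent.Helper40.Hy
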