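import Cfsg.Agent.Helper40.StCover

/-!
Helper40: the root-system facts behind Steinberg's theorem that the group presented by (R1), (R2) is centrally
closed, as decidable checks on the tables of a `ChevalleyDatum`.
-/

set_option autoImplicit false

namespace Cfsg.Agent.Helper40.Uc

open Cfsg Cfsg.Lie Cfsg.Agent.Helper18

/-- there is a cocharacter `m` with `⟨a, m⟩ = 0` and `⟨b, m⟩ ≠ 0` -/
def Tor (D : ChevalleyDatum) (a b : ℕ) : Prop :=
  ∃ m : List ℤ, lvlF D m a = 0 ∧ lvlF D m b ≠ 0 ∧ |lvlF D m b| ≤ 3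

/-- the coroot of `p` as a cocharacter -/
def corL (D : ChevalleyDatum) (p : ℕ) : List ℤ := (D.coroot.getD p #[]).toList

/-- the candidate cocharacter: the coroot of `b` if it kills `a`, else `⟨a, b^∨⟩ a^∨ - 2 b^∨` -/
def torM (D : ChevalleyDatum) (a b : ℕ) : List ℤ :=
  if lvlFast D (corL D b) a = 0 then corL D b
  else (List.range D.rank).map fun j => lvlFast D (corL D b) a * (corL D a).getD j 0 - 2 * (corL D b).getD j 0

/-- the root elements of `a`, `b` commute -/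
def CP (D : ChevalleyDatum) (a b : ℕ) : Prop :=
  a < D.nroots ∧ b < D.nroots ∧ b ≠ a ∧ b ≠ D.neg a ∧ D.commTerms a b = []

/-- the commutator formula of `a`, `b` has the single term `(m, C, 1, 1)` -/
def EX1 (D : ChevalleyDatum) (a b m : ℕ) (C : ℤ) : Prop :=
  a < D.nroots ∧ b < D.nroots ∧ b ≠ a ∧ b ≠ D.neg a ∧ D.commTerms a b = [(m, C, 1, 1)]

def torB (D : ChevalleyDatum) (a b : ℕ) : Bool :=
  decide (a < D.nroots) && decide (b < D.nroots) && decide (lvlFast D (torM D a b) a = 0) &&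
    decide (lvlFast D (torM D a b) b ≠ 0) && decide (|lvlFast D (torM D a b) b| ≤ 3)

def cpB (D : ChevalleyDatum) (a b : ℕ) : Bool :=
  decide (a < D.nroots) && decide (b < D.nroots) && decide (b ≠ a) && decide (b ≠ D.neg a) &&
    decide (D.commTerms a b = [])

def ex1B (D : ChevalleyDatum) (a b m : ℕ) (C : ℤ) : Bool :=
  decide (a < D.nroots) && decide (b < D.nroots) && decide (b ≠ a) && decide (b ≠ D.neg a) &&
    decide (D.commTerms a b = [(m, C, 1, 1)])

theorem tor_of (D : ChevalleyDatum) (hA : addAllOK D = true) (a b : ℕ) (h : torB D a b = true) : Tor D a b := by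
  unfold torB at h
  simp only [Bool.and_eq_true, decide_eq_true_eq] at h
  obtain ⟨⟨⟨⟨ha, hb⟩, h1⟩, h2⟩, h3⟩ := h
  rw [lvlFast_eq D hA _ a ha] at h1
  rw [lvlFast_eq D hA _ b hb] at h2 h3
  exact ⟨torM D a b, h1, h2, h3⟩

theorem cp_of (D : ChevalleyDatum) (a b : ℕ) (h : cpB D a b = true) : CP D a b := by
  unfold cpB at h
  simp only [Bool.and_eq_true, decide_eq_true_eq] at h
  exact ⟨h.1.1.1.1, h.1.1.1.2, h.1.1.2, h.1.2, h.2⟩

theorem ex1_of (D : ChevalleyDatum) (a b m : ℕ) (C : ℤ) (h : ex1B D a b m C = true) : EX1 D a b m C := by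
  unfold ex1B at h
  simp only [Bool.and_eq_true, decide_eq_true_eq] at h
  exact ⟨h.1.1.1.1, h.1.1.1.2, h.1.1.2, h.1.2, h.2⟩

/-- the facts used for the pair `(r, s)`, by the shape of its commutator formula -/
inductive PairSpec (D : ChevalleyDatum) (r s : ℕ) : Prop
  | n0 (h : D.commTerms r s = []) (tor : Tor D r s) : PairSpec D r s
  | n1 (m1 : ℕ) (C1 : ℤ) (h : D.commTerms r s = [(m1, C1, 1, 1)]) (c1 : CP D r m1) (tor : Tor D s r) : PairSpec D r s
  | n2a (m1 m2 : ℕ) (C1 C2 : ℤ) (h : D.commTerms r s = [(m1, C1, 1, 1), (m2, C2, 1, 2)])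
      (c1 : CP D r m1) (c2 : CP D r m2) (c12 : CP D m1 m2) (tor : Tor D s r) : PairSpec D r s
  | n2b (m1 m2 : ℕ) (C1 C2 : ℤ) (h : D.commTerms r s = [(m1, C1, 1, 1), (m2, C2, 2, 1)])
      (c1 : CP D s m1) (c2 : CP D s m2) (c12 : CP D m1 m2) (tor : Tor D r s) : PairSpec D r s
  | n3 (m1 m2 m3 : ℕ) (C1 C2 C3 C4 : ℤ) (h : D.commTerms r s = [(m1, C1, 1, 1), (m2, C2, 2, 1), (m3, C3, 1, 2)])
      (e1 : EX1 D r m1 m2 C4) (c2 : CP D r m2) (c3 : CP D r m3) (c12 : CP D m1 m2) (c13 : CP D m1 m3)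
      (c23 : CP D m2 m3) (num : 2 * C2 = C1 * C4) (tor : Tor D s r) : PairSpec D r s
  | n4l (m1 m2 m3 m4 : ℕ) (C1 C2 C3 C4 C5 C6 : ℤ)
      (h : D.commTerms r s = [(m1, C1, 1, 1), (m2, C2, 1, 2), (m3, C3, 1, 3), (m4, C4, 2, 3)])
      (e3 : EX1 D r m3 m4 C5) (e12 : EX1 D m1 m2 m4 C6) (c1 : CP D r m1) (c2 : CP D r m2) (c4 : CP D r m4)
      (c13 : CP D m1 m3) (c14 : CP D m1 m4) (c23 : CP D m2 m3) (c24 : CP D m2 m4) (c34 : CP D m3 m4)
      (num : 2 * C4 = C3 * C5 - C1 * C2 * C6) (tor : Tor D s r) : PairSpec D r s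
  | n4s (m1 m2 m3 m4 : ℕ) (C1 C2 C3 C4 C5 C6 : ℤ)
      (h : D.commTerms r s = [(m1, C1, 1, 1), (m2, C2, 2, 1), (m3, C3, 3, 1), (m4, C4, 3, 2)])
      (e3 : EX1 D s m3 m4 C5) (e12 : EX1 D m1 m2 m4 C6) (c1 : CP D s m1) (c2 : CP D s m2) (c4 : CP D s m4)
      (c13 : CP D m1 m3) (c14 : CP D m1 m4) (c23 : CP D m2 m3) (c24 : CP D m2 m4) (c34 : CP D m3 m4)
      (num : -(2 * C4) = C3 * C5 + C1 * C2 * C6) (tor : Tor D r s) : PairSpec D r s

/-- first single-term entry of a commutator formula, if it is of that shape -/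
def single (D : ChevalleyDatum) (a b : ℕ) : ℕ × ℤ :=
  match D.commTerms a b with
  | [(m, C, _, _)] => (m, C)
  | _ => (0, 0)

def pairB (D : ChevalleyDatum) (r s : ℕ) : Bool :=
  match D.commTerms r s with
  | [] => torB D r s
  | [(m1, _, 1, 1)] => cpB D r m1 && torB D s r
  | [(m1, _, 1, 1), (m2, _, 1, 2)] => cpB D r m1 && cpB D r m2 && cpB D m1 m2 && torB D s r
  | [(m1, _, 1, 1), (m2, _, 2, 1)] => cpB D s m1 && cpB D s m2 && cpB D m1 m2 && torB D r s
  | [(m1, C1, 1, 1), (m2, C2, 2, 1), (m3, _, 1, 2)] =>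
      ex1B D r m1 m2 (single D r m1).2 && cpB D r m2 && cpB D r m3 && cpB D m1 m2 && cpB D m1 m3 && cpB D m2 m3 &&
        decide (2 * C2 = C1 * (single D r m1).2) && torB D s r
  | [(m1, C1, 1, 1), (m2, C2, 1, 2), (m3, C3, 1, 3), (m4, C4, 2, 3)] =>
      ex1B D r m3 m4 (single D r m3).2 && ex1B D m1 m2 m4 (single D m1 m2).2 && cpB D r m1 && cpB D r m2 &&
        cpB D r m4 && cpB D m1 m3 && cpB D m1 m4 && cpB D m2 m3 && cpB D m2 m4 && cpB D m3 m4 &&
        decide (2 * C4 = C3 * (single D r m3).2 - C1 * C2 * (single D m1 m2).2) && torB D s r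
  | [(m1, C1, 1, 1), (m2, C2, 2, 1), (m3, C3, 3, 1), (m4, C4, 3, 2)] =>
      ex1B D s m3 m4 (single D s m3).2 && ex1B D m1 m2 m4 (single D m1 m2).2 && cpB D s m1 && cpB D s m2 &&
        cpB D s m4 && cpB D m1 m3 && cpB D m1 m4 && cpB D m2 m3 && cpB D m2 m4 && cpB D m3 m4 &&
        decide (-(2 * C4) = C3 * (single D s m3).2 + C1 * C2 * (single D m1 m2).2) && torB D r s
  | _ => false

theorem pairSpec_of (D : ChevalleyDatum) (hA : addAllOK D = true) (r s : ℕ) (h : pairB D r s = true) : PairSpec D r s := by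
  unfold pairB at h
  split at h
  · rename_i hL
    exact PairSpec.n0 hL (tor_of D hA _ _ h)
  · rename_i m1 C1 hL
    simp only [Bool.and_eq_true] at h
    exact PairSpec.n1 m1 C1 hL (cp_of D _ _ h.1) (tor_of D hA _ _ h.2)
  · rename_i m1 C1 m2 C2 hL
    simp only [Bool.and_eq_true] at h
    exact PairSpec.n2a m1 m2 C1 C2 hL (cp_of D _ _ h.1.1.1) (cp_of D _ _ h.1.1.2) (cp_of D _ _ h.1.2) (tor_of D hA _ _ h.2)
  · rename_i m1 C1 m2 C2 hL
    simp only [Bool.and_eq_true] at h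
    exact PairSpec.n2b m1 m2 C1 C2 hL (cp_of D _ _ h.1.1.1) (cp_of D _ _ h.1.1.2) (cp_of D _ _ h.1.2) (tor_of D hA _ _ h.2)
  · rename_i m1 C1 m2 C2 m3 C3 hL
    simp only [Bool.and_eq_true, decide_eq_true_eq] at h
    obtain ⟨⟨⟨⟨⟨⟨⟨h1, h2⟩, h3⟩, h4⟩, h5⟩, h6⟩, h7⟩, h8⟩ := h
    exact PairSpec.n3 m1 m2 m3 C1 C2 C3 _ hL (ex1_of D _ _ _ _ h1) (cp_of D _ _ h2) (cp_of D _ _ h3) (cp_of D _ _ h4)
      (cp_of D _ _ h5) (cp_of D _ _ h6) h7 (tor_of D hA _ _ h8)
  · rename_i m1 C1 m2 C2 m3 C3 m4 C4 hL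
    simp only [Bool.and_eq_true, decide_eq_true_eq] at h
    obtain ⟨⟨⟨⟨⟨⟨⟨⟨⟨⟨⟨h1, h2⟩, h3⟩, h4⟩, h5⟩, h6⟩, h7⟩, h8⟩, h9⟩, h10⟩, h11⟩, h12⟩ := h
    exact PairSpec.n4l m1 m2 m3 m4 C1 C2 C3 C4 _ _ hL (ex1_of D _ _ _ _ h1) (ex1_of D _ _ _ _ h2) (cp_of D _ _ h3)
      (cp_of D _ _ h4) (cp_of D _ _ h5) (cp_of D _ _ h6) (cp_of D _ _ h7) (cp_of D _ _ h8) (cp_of D _ _ h9)
      (cp_of D _ _ h10) h11 (tor_of D hA _ _ h12)
  · rename_i m1 C1 m2 C2 m3 C3 m4 C4 hL
    simp only [Bool.and_eq_true, decide_eq_true_eq] at h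
    obtain ⟨⟨⟨⟨⟨⟨⟨⟨⟨⟨⟨h1, h2⟩, h3⟩, h4⟩, h5⟩, h6⟩, h7⟩, h8⟩, h9⟩, h10⟩, h11⟩, h12⟩ := h
    exact PairSpec.n4s m1 m2 m3 m4 C1 C2 C3 C4 _ _ hL (ex1_of D _ _ _ _ h1) (ex1_of D _ _ _ _ h2) (cp_of D _ _ h3)
      (cp_of D _ _ h4) (cp_of D _ _ h5) (cp_of D _ _ h6) (cp_of D _ _ h7) (cp_of D _ _ h8) (cp_of D _ _ h9)
      (cp_of D _ _ h10) h11 (tor_of D hA _ _ h12)
  · exact absurd h (by simp)

/-- the facts used for the root `r` alone -/
inductive SelfSpec (D : ChevalleyDatum) (r : ℕ) : Prop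
  | gen (m : List ℤ) (h : lvlF D m r = 1 ∨ lvlF D m r = -1) : SelfSpec D r
  | alt (p' q' m' : ℕ) (C1 C2 : ℤ) (hp : p' < D.nroots) (hq : q' < D.nroots) (h1 : q' ≠ p') (h2 : q' ≠ D.neg p')
      (h : D.commTerms p' q' = [(m', C1, 1, 1), (r, C2, 1, 2)]) (hC : C2 = 1 ∨ C2 = -1)
      (c1 : CP D r p') (c2 : CP D r q') (c3 : CP D r m') : SelfSpec D r

def altB (D : ChevalleyDatum) (r p' q' : ℕ) : Bool :=
  decide (p' < D.nroots) && decide (q' < D.nroots) && decide (q' ≠ p') && decide (q' ≠ D.neg p') &&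
  match D.commTerms p' q' with
  | [(m', _, 1, 1), (r', C2, 1, 2)] =>
      decide (r' = r) && (decide (C2 = 1) || decide (C2 = -1)) && cpB D r p' && cpB D r q' && cpB D r m'
  | _ => false

/-- the `i`-th unit cocharacter -/
def unitM (D : ChevalleyDatum) (i : ℕ) : List ℤ := (List.range D.rank).map fun j => if j = i then 1 else 0

def selfB (D : ChevalleyDatum) (r : ℕ) : Bool :=
  (decide (r < D.nroots) &&
    ((List.range D.rank).any fun i => decide (lvlFast D (unitM D i) r = 1) || decide (lvlFast D (unitM D i) r = -1))) ||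
  (decide (r < D.nroots) &&
    ((List.range D.nroots).any fun p => decide (lvlFast D (corL D p) r = 1) || decide (lvlFast D (corL D p) r = -1))) ||
  ((List.range D.nroots).any fun p' => (List.range D.nroots).any fun q' => altB D r p' q')

theorem selfSpec_of (D : ChevalleyDatum) (hA : addAllOK D = true) (r : ℕ) (h : selfB D r = true) : SelfSpec D r := by
  unfold selfB at h
  rw [Bool.or_eq_true, Bool.or_eq_true] at h
  rcases h with (h | h) | h
  · rw [Bool.and_eq_true, decide_eq_true_eq, List.any_eq_true] at h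
    obtain ⟨hr, i, -, hp⟩ := h
    simp only [Bool.or_eq_true, decide_eq_true_eq] at hp
    rw [lvlFast_eq D hA _ r hr] at hp
    exact SelfSpec.gen _ hp
  · rw [Bool.and_eq_true, decide_eq_true_eq, List.any_eq_true] at h
    obtain ⟨hr, p, -, hp⟩ := h
    simp only [Bool.or_eq_true, decide_eq_true_eq] at hp
    rw [lvlFast_eq D hA _ r hr] at hp
    exact SelfSpec.gen _ hp
  · rw [List.any_eq_true] at h
    obtain ⟨p', -, h⟩ := h
    rw [List.any_eq_true] at h
    obtain ⟨q', -, h⟩ := h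
    unfold altB at h
    rw [Bool.and_eq_true] at h
    obtain ⟨h0, h⟩ := h
    simp only [Bool.and_eq_true, decide_eq_true_eq] at h0
    split at h
    · rename_i m' C1 r' C2 hL
      simp only [Bool.and_eq_true, Bool.or_eq_true, decide_eq_true_eq] at h
      obtain ⟨⟨⟨⟨h1, h2⟩, h3⟩, h4⟩, h5⟩ := h
      subst h1
      exact SelfSpec.alt p' q' m' C1 C2 h0.1.1.1 h0.1.1.2 h0.1.2 h0.2 hL h2 (cp_of D _ _ h3) (cp_of D _ _ h4)
        (cp_of D _ _ h5)
    · exact absurd h (by simp)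

/-- the check for the root `r` -/
def ucRow (D : ChevalleyDatum) (r : ℕ) : Bool :=
  selfB D r && (List.range D.nroots).all fun s => decide (s = r) || decide (s = D.neg r) || pairB D r s

/-- the check for the roots `lo, …, lo + len - 1` -/
def ucChunk (D : ChevalleyDatum) (lo len : ℕ) : Bool := (List.range' lo len).all (ucRow D)

/-- the complete check -/
def ucB (D : ChevalleyDatum) : Bool := ucChunk D 0 D.nroots

structure UcData (D : ChevalleyDatum) : Prop where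
  pair : ∀ r s, r < D.nroots → s < D.nroots → s ≠ r → s ≠ D.neg r → PairSpec D r s
  self : ∀ r, r < D.nroots → SelfSpec D r

theorem ucData_of_rows (D : ChevalleyDatum) (hA : addAllOK D = true) (h : ∀ r < D.nroots, ucRow D r = true) : UcData D := by
  constructor
  · intro r s hr hs h1 h2
    have h3 := h r hr
    unfold ucRow at h3
    rw [Bool.and_eq_true, List.all_eq_true] at h3
    have h4 := h3.2 s (List.mem_range.mpr hs)
    simp only [Bool.or_eq_true, decide_eq_true_eq] at h4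
    rcases h4 with (h4 | h4) | h4
    · exact absurd h4 h1
    · exact absurd h4 h2
    · exact pairSpec_of D hA r s h4
  · intro r hr
    have h3 := h r hr
    unfold ucRow at h3
    rw [Bool.and_eq_true] at h3
    exact selfSpec_of D hA r h3.1

theorem ucData_of (D : ChevalleyDatum) (hA : addAllOK D = true) (h : ucB D = true) : UcData D := by
  apply ucData_of_rows D hA
  intro r hr
  unfold ucB ucChunk at h
  rw [List.all_eq_true] at h
  apply h r
  rw [List.mem_range']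
  exact ⟨r, hr, by omega⟩

theorem ucChunk_add (D : ChevalleyDatum) (lo a b : ℕ) (h1 : ucChunk D lo a = true)
    (h2 : ucChunk D (lo + a) b = true) : ucChunk D lo (a + b) = true := by
  unfold ucChunk at *
  have e : List.range' lo (a + b) = List.range' lo a ++ List.range' (lo + a) b := by
    rw [← List.range'_append]
    simp
  rw [e, List.all_append, h1, h2]
  rfl

/-- the check in chunks of `len` roots -/
theorem ucData_of_chunks (D : ChevalleyDatum) (hA : addAllOK D = true) (len n : ℕ) (hlen : 0 < len) (hn : D.nroots ≤ len * n)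
    (h : ∀ k < n, ucChunk D (len * k) len = true) : UcData D := by
  apply ucData_of_rows D hA
  intro r hr
  have hk : r / len < n := by
    rw [Nat.div_lt_iff_lt_mul hlen]
    rw [mul_comm] at hn
    omega
  have h1 := h (r / len) hk
  unfold ucChunk at h1
  rw [List.all_eq_true] at h1
  apply h1 r
  rw [List.mem_range']
  refine ⟨r % len, Nat.mod_lt _ hlen, ?_⟩
  rw [one_mul]
  exact (Nat.div_add_mod r len).symm

set_option maxRecDepth 100000 in
theorem ucB_G2 : ucB chevG2 = true := by decide +kernel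

set_option maxRecDepth 100000 in
theorem ucB_B2 : ucB chevB2 = true := by decide +kernel

end Cfsg.Agent.Helper40.Uc
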