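import Cfsg.Agent.Helper40.StCover

/-!
Helper40: torus elements of a group generated by root elements satisfying (R1), (R2) over the Chevalley group:
their action on the root elements, centrality of their commutators, and perfectness of the group.
-/

set_option autoImplicit false
set_option linter.unusedSectionVars false

namespace Cfsg.Agent.Helper40.Uc

open Cfsg Cfsg.Lie Cfsg.Agent.Helper18 Cfsg.Agent.Helper40.ChevAdd Cfsg.Agent.Helper40.St

section
variable {K : Type*} [Field K] {D : ChevalleyDatum} {Γ : Type*} [Group Γ] {X : ℕ → K → Γ}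
  {hadd : ChevAdd.addOK D = true} {π : Γ →* GL D.Idx K}

/-- the torus element `∏_j h̄_{p_j}(v ^ m_j)` of the cocharacter `m` -/
def tor (D : ChevalleyDatum) (X : ℕ → K → Γ) (m : List ℤ) (v : K) : Γ :=
  ((List.range D.rank).map fun j => hbar D X (D.simple j) (v ^ m.getD j 0)).prod

/-- the action of the torus elements on the root elements -/
theorem tor_act (hD : D ∈ [chevG2, chevB2, chevD4, chevF4, chevE6, chevE7, chevE8]) (O : Over D hadd X π)
    (m : List ℤ) (v : K) (hv : v ≠ 0) (s : ℕ) (hs : s < D.nroots) (u : K) :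
    tor D X m v * X s u * (tor D X m v)⁻¹ = X s (v ^ lvlF D m s * u) := by
  obtain ⟨φ, S⟩ := exists_std D hD
  have hsim := simpleOK_of_mem D hD
  have hgen : ∀ l : List ℕ, (∀ j ∈ l, j < D.rank) → ∀ u : K,
      (l.map fun j => hbar D X (D.simple j) (v ^ m.getD j 0)).prod * X s u *
        ((l.map fun j => hbar D X (D.simple j) (v ^ m.getD j 0)).prod)⁻¹ =
      X s (v ^ (l.map fun j => m.getD j 0 * D.cartan j s).sum * u) := by
    intro l
    induction l with
    | nil => intro _ u; simp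
    | cons j l ih =>
      intro hl u
      have hj := hl j List.mem_cons_self
      have ih' := ih (fun k hk => hl k (List.mem_cons_of_mem _ hk)) u
      rw [List.map_cons, List.prod_cons, List.map_cons, List.sum_cons]
      set P := (l.map fun j => hbar D X (D.simple j) (v ^ m.getD j 0)).prod
      set h := hbar D X (D.simple j) (v ^ m.getD j 0)
      calc h * P * X s u * (h * P)⁻¹ = h * (P * X s u * P⁻¹) * h⁻¹ := by group
        _ = X s ((v ^ m.getD j 0) ^ pairing' D (D.simple j) s *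
              (v ^ (l.map fun j => m.getD j 0 * D.cartan j s).sum * u)) := by
            rw [ih', hbar_act hD O S j hj _ (zpow_ne_zero _ hv) s hs]
        _ = _ := by
            rw [pairing'_simple D hsim j hj, ← zpow_mul, ← mul_assoc, ← zpow_add₀ hv]
  have := hgen (List.range D.rank) (fun j hj => List.mem_range.mp hj) u
  exact this

theorem lvlF_coroot (p s : ℕ) : lvlF D (D.coroot.getD p #[]).toList s = pairing' D p s := by
  unfold lvlF pairing' ChevalleyDatum.cartan
  congr 1
  apply List.map_congr_left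
  intro j _
  congr 1
  simp [List.getD_eq_getElem?_getD, Array.getD_eq_getD_getElem?]

/-- the torus element of the coroot of `p` -/
def torC (D : ChevalleyDatum) (X : ℕ → K → Γ) (p : ℕ) (v : K) : Γ := tor D X (D.coroot.getD p #[]).toList v

theorem torC_act (hD : D ∈ [chevG2, chevB2, chevD4, chevF4, chevE6, chevE7, chevE8]) (O : Over D hadd X π)
    (p : ℕ) (v : K) (hv : v ≠ 0) (s : ℕ) (hs : s < D.nroots) (u : K) :
    torC D X p v * X s u * (torC D X p v)⁻¹ = X s (v ^ pairing' D p s * u) := by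
  unfold torC
  rw [tor_act hD O _ v hv s hs u, lvlF_coroot]

/-- an element commuting with all root elements is central -/
theorem mem_center_of_commute (gen : Subgroup.closure {g | ∃ r < D.nroots, ∃ t : K, g = X r t} = ⊤) (z : Γ)
    (h : ∀ r < D.nroots, ∀ t : K, z * X r t = X r t * z) : z ∈ Subgroup.center Γ := by
  rw [Subgroup.mem_center_iff]
  intro g
  have hg : g ∈ Subgroup.closure {g | ∃ r < D.nroots, ∃ t : K, g = X r t} := by rw [gen]; exact Subgroup.mem_top g
  induction hg using Subgroup.closure_induction with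
  | mem x hx =>
    obtain ⟨r, hr, t, rfl⟩ := hx
    exact (h r hr t).symm
  | one => simp
  | mul x y _ _ hx hy => rw [mul_assoc, hy, ← mul_assoc, hx, mul_assoc]
  | inv x _ hx =>
    calc x⁻¹ * z = x⁻¹ * (z * x) * x⁻¹ := by group
      _ = x⁻¹ * (x * z) * x⁻¹ := by rw [hx]
      _ = z * x⁻¹ := by group

/-- commutators of torus elements are central -/
theorem comm_tor_mem_center (hD : D ∈ [chevG2, chevB2, chevD4, chevF4, chevE6, chevE7, chevE8])
    (O : Over D hadd X π) (gen : Subgroup.closure {g | ∃ r < D.nroots, ∃ t : K, g = X r t} = ⊤)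
    (m₁ m₂ : List ℤ) (v₁ v₂ : K) (h₁ : v₁ ≠ 0) (h₂ : v₂ ≠ 0) :
    tor D X m₁ v₁ * tor D X m₂ v₂ * (tor D X m₁ v₁)⁻¹ * (tor D X m₂ v₂)⁻¹ ∈ Subgroup.center Γ := by
  apply mem_center_of_commute gen
  intro r hr t
  set a := tor D X m₁ v₁
  set b := tor D X m₂ v₂
  have ha : ∀ u : K, a * X r u * a⁻¹ = X r (v₁ ^ lvlF D m₁ r * u) := fun u => tor_act hD O m₁ v₁ h₁ r hr u
  have hb : ∀ u : K, b * X r u * b⁻¹ = X r (v₂ ^ lvlF D m₂ r * u) := fun u => tor_act hD O m₂ v₂ h₂ r hr u
  have ha' : ∀ u : K, a⁻¹ * X r u * a = X r ((v₁ ^ lvlF D m₁ r)⁻¹ * u) := by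
    intro u
    have := ha ((v₁ ^ lvlF D m₁ r)⁻¹ * u)
    rw [mul_inv_cancel_left₀ (zpow_ne_zero _ h₁)] at this
    rw [← this]
    group
  have hb' : ∀ u : K, b⁻¹ * X r u * b = X r ((v₂ ^ lvlF D m₂ r)⁻¹ * u) := by
    intro u
    have := hb ((v₂ ^ lvlF D m₂ r)⁻¹ * u)
    rw [mul_inv_cancel_left₀ (zpow_ne_zero _ h₂)] at this
    rw [← this]
    group
  have key : (a * b * a⁻¹ * b⁻¹) * X r t * (a * b * a⁻¹ * b⁻¹)⁻¹ = X r t := by
    calc (a * b * a⁻¹ * b⁻¹) * X r t * (a * b * a⁻¹ * b⁻¹)⁻¹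
        = a * (b * (a⁻¹ * (b⁻¹ * X r t * b) * a) * b⁻¹) * a⁻¹ := by group
      _ = X r t := by
          rw [hb', ha', hb, ha]
          congr 1
          have e1 := zpow_ne_zero (lvlF D m₁ r) h₁
          have e2 := zpow_ne_zero (lvlF D m₂ r) h₂
          field_simp
  calc a * b * a⁻¹ * b⁻¹ * X r t = ((a * b * a⁻¹ * b⁻¹) * X r t * (a * b * a⁻¹ * b⁻¹)⁻¹) * (a * b * a⁻¹ * b⁻¹) := by
        group
    _ = X r t * (a * b * a⁻¹ * b⁻¹) := by rw [key]

/-- `x_r(t)` is the commutator of the torus element of `r^∨` and `x_r(t / (a² - 1))` -/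
theorem torC_comm_eq (hD : D ∈ [chevG2, chevB2, chevD4, chevF4, chevE6, chevE7, chevE8])
    (O : Over D hadd X π) (a : K) (ha : a ≠ 0) (ha2 : a * a ≠ 1) (r : ℕ) (hr : r < D.nroots) (t : K) :
    torC D X r a * X r (t / (a * a - 1)) * (torC D X r a)⁻¹ * (X r (t / (a * a - 1)))⁻¹ = X r t := by
  have hc : a * a - 1 ≠ 0 := sub_ne_zero.mpr ha2
  have h1 := torC_act hD O r a ha r hr (t / (a * a - 1))
  rw [pairing'_self D (colsOK_of_mem D hD) r hr] at h1
  rw [h1, ← O.toRels.X_neg r hr, ← O.add r hr]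
  congr 1
  have e2 : a ^ (2 : ℤ) = a * a := zpow_two a
  rw [e2]
  have e3 : a * a * (t / (a * a - 1)) + -(t / (a * a - 1)) = (a * a - 1) * (t / (a * a - 1)) := by ring
  rw [e3, mul_div_cancel₀ _ hc]

/-- the group is perfect (more than three elements in the field) -/
theorem perfect (hD : D ∈ [chevG2, chevB2, chevD4, chevF4, chevE6, chevE7, chevE8])
    (O : Over D hadd X π) (gen : Subgroup.closure {g | ∃ r < D.nroots, ∃ t : K, g = X r t} = ⊤)
    (a : K) (ha : a ≠ 0) (ha2 : a * a ≠ 1) : commutator Γ = ⊤ := by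
  rw [eq_top_iff, ← gen, Subgroup.closure_le]
  rintro g ⟨r, hr, t, rfl⟩
  have h2 := torC_comm_eq hD O a ha ha2 r hr t
  have h3 := Subgroup.commutator_mem_commutator (H₁ := (⊤ : Subgroup Γ)) (H₂ := (⊤ : Subgroup Γ))
    (Subgroup.mem_top (torC D X r a)) (Subgroup.mem_top (X r (t / (a * a - 1))))
  rw [commutatorElement_def] at h3
  rw [← h2, commutator_def]
  exact h3

end

end Cfsg.Agent.Helper40.Uc
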