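import Cfsg.Agent.Helper40.LC
import Cfsg.Agent.Helper40.UcTorus
import Cfsg.Agent.Helper40.UcRoots
import Cfsg.Agent.Helper10.UcColl

/-!
Helper40: Steinberg's theorem that the group presented by (R1), (R2) is centrally closed (field of more than four
elements): the lifts `Y r t` of the root elements to a central extension, defined as lifted commutators with torus
elements, satisfy (R1) and (R2).
-/

set_option autoImplicit false
set_option linter.unusedSectionVars false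

namespace Cfsg.Agent.Helper40.Uc

open Cfsg Cfsg.Lie Cfsg.Agent.Helper18 Cfsg.Agent.Helper40.ChevAdd Cfsg.Agent.Helper40.St Cfsg.Agent.Helper40.LC

/-- an additive map invariant under scaling by some `b ≠ 1` is trivial -/
theorem add_trick' {K : Type*} [Field K] {E : Type*} [Group E] (f : K → E) (hadd : ∀ u u', f (u + u') = f u * f u')
    (b : K) (hb : b ≠ 1) (hinv : ∀ u, f (b * u) = f u) : ∀ u, f u = 1 := by
  have h0 : f 0 = 1 := by
    have := hadd 0 0
    rw [add_zero] at this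
    exact (mul_eq_left.mp this.symm)
  have hneg : ∀ u, f (-u) = (f u)⁻¹ := by
    intro u
    apply eq_inv_of_mul_eq_one_left
    rw [← hadd, neg_add_cancel, h0]
  have hb' : b - 1 ≠ 0 := sub_ne_zero.mpr hb
  have h1 : ∀ u, f ((b - 1) * u) = 1 := by
    intro u
    have : (b - 1) * u = b * u + -u := by ring
    rw [this, hadd, hinv, hneg, mul_inv_cancel]
  intro u
  have := h1 ((b - 1)⁻¹ * u)
  rwa [mul_inv_cancel_left₀ hb'] at this

section
variable {K : Type*} [Field K] {D : ChevalleyDatum} {Γ : Type*} [Group Γ] {X : ℕ → K → Γ}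
  {hadd : ChevAdd.addOK D = true} {π : Γ →* GL D.Idx K}
  {G₁ E : Type*} [Group G₁] [Group E] {π₁ : E →* G₁} {σ : Γ →* G₁}

/-- the context of the lifting problem -/
structure Ctx (D : ChevalleyDatum) (hadd : ChevAdd.addOK D = true) (X : ℕ → K → Γ) (π : Γ →* GL D.Idx K)
    (π₁ : E →* G₁) (σ : Γ →* G₁) : Prop where
  hD : D ∈ [chevG2, chevB2, chevD4, chevF4, chevE6, chevE7, chevE8]
  O : Over D hadd X π
  gen : Subgroup.closure {g | ∃ r < D.nroots, ∃ t : K, g = X r t} = ⊤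
  S : Setup π₁ σ
  UD : UcData D
  perf : commutator Γ = ⊤
  hv : ∀ d : ℤ, d ≠ 0 → |d| ≤ 3 → ∃ v : K, v ≠ 0 ∧ v ^ d ≠ 1
  hbi : ∀ f : K → K → E, (∀ t t' u, f (t + t') u = f t u * f t' u) → (∀ t u u', f t (u + u') = f t u * f t u') →
    (∀ a t u, a ≠ 0 → f (a * t) (a * u) = f t u) → ∀ t u, f t u = 1

namespace Ctx

variable (C : Ctx D hadd X π π₁ σ)
include C

theorem commute_X {a b : ℕ} (h : CP D a b) (t u : K) : Commute (X a t) (X b u) := by
  have := C.O.comm a b h.1 h.2.1 h.2.2.1 h.2.2.2.1 t u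
  unfold ChevalleyDatum.commWord at this
  rw [h.2.2.2.2] at this
  simp only [List.map_nil, wordG, List.prod_nil, mul_one] at this
  exact this.symm

theorem commute_X_self {r : ℕ} (hr : r < D.nroots) (t u : K) : Commute (X r t) (X r u) := by
  show X r t * X r u = X r u * X r t
  rw [← C.O.add r hr, ← C.O.add r hr, add_comm]

theorem tor_of_cp {a b : ℕ} (h : CP D a b) : Tor D a b := by
  have h5 := h.2.2.2.2
  rcases C.UD.pair a b h.1 h.2.1 h.2.2.1 h.2.2.2.1 with ⟨-, tor⟩ | ⟨_, _, h', -, -⟩ | ⟨_, _, _, _, h', -, -, -, -⟩ |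
    ⟨_, _, _, _, h', -, -, -, -⟩ | ⟨_, _, _, _, _, _, _, h', -, -, -, -, -, -, -, -⟩ |
    ⟨_, _, _, _, _, _, _, _, _, _, h', -, -, -, -, -, -, -, -, -, -, -, -⟩ |
    ⟨_, _, _, _, _, _, _, _, _, _, h', -, -, -, -, -, -, -, -, -, -, -, -⟩
  · exact tor
  all_goals (rw [h5] at h'; cases h')

/-- conjugation by a lift of a torus element -/
theorem conj_lc_tor (m : List ℤ) (v : K) (hv : v ≠ 0) {e : E} (he : IsLift π₁ σ e (tor D X m v))
    {a b : ℕ} (ha : a < D.nroots) (hb : b < D.nroots) (t u : K) :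
    e * C.S.lc (X a t) (X b u) * e⁻¹ = C.S.lc (X a (v ^ lvlF D m a * t)) (X b (v ^ lvlF D m b * u)) := by
  rw [C.S.conj_lc he, tor_act C.hD C.O m v hv a ha, tor_act C.hD C.O m v hv b hb]

/-- lifts of commuting root elements of different roots commute -/
theorem lc_X_eq_one {a b : ℕ} (h : CP D a b) (t u : K) : C.S.lc (X a t) (X b u) = 1 := by
  obtain ⟨m, h1, h2, h3⟩ := C.tor_of_cp h
  obtain ⟨v, hv0, hvd⟩ := C.hv _ h2 h3
  have hinv : ∀ u : K, C.S.lc (X a t) (X b (v ^ lvlF D m b * u)) = C.S.lc (X a t) (X b u) := by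
    intro u
    have h4 := C.conj_lc_tor m v hv0 (C.S.lift_spec _) h.1 h.2.1 t u
    rw [Setup.conj_of_mem_center (C.S.lc_mem_center (C.commute_X h t u)), h1, zpow_zero, one_mul] at h4
    exact h4.symm
  have hadd' : ∀ u u' : K, C.S.lc (X a t) (X b (u + u')) = C.S.lc (X a t) (X b u) * C.S.lc (X a t) (X b u') := by
    intro u u'
    rw [C.O.add b h.2.1, C.S.lc_mul_right (C.commute_X h t u')]
  exact add_trick' (fun u => C.S.lc (X a t) (X b u)) hadd' _ hvd hinv u

theorem lc_mul_left_comm {g g' h : Γ} (hc : Commute g h) (hc' : Commute g' h) :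
    C.S.lc (g * g') h = C.S.lc g h * C.S.lc g' h := by
  rw [C.S.lc_mul_left hc']
  exact (Subgroup.mem_center_iff.mp (C.S.lc_mem_center hc) _)

/-- lifts of root elements of the same root commute -/
theorem lc_X_self_eq_one {r : ℕ} (hr : r < D.nroots) (t u : K) : C.S.lc (X r t) (X r u) = 1 := by
  rcases C.UD.self r hr with ⟨m, hm⟩ | ⟨p', q', m', C1, C2, hp, hq, h1, h2, hL, hC, c1, c2, c3⟩
  · -- torus trick with a cocharacter of value `± 1`
    apply C.hbi (fun t u => C.S.lc (X r t) (X r u))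
    · intro t t' u
      show C.S.lc (X r (t + t')) (X r u) = _
      rw [C.O.add r hr, C.lc_mul_left_comm (C.commute_X_self hr t u) (C.commute_X_self hr t' u)]
    · intro t u u'
      show C.S.lc (X r t) (X r (u + u')) = _
      rw [C.O.add r hr, C.S.lc_mul_right (C.commute_X_self hr t u')]
    · intro a t u ha
      show C.S.lc (X r (a * t)) (X r (a * u)) = C.S.lc (X r t) (X r u)
      rcases hm with hm | hm
      · have h4 := C.conj_lc_tor m a ha (C.S.lift_spec _) hr hr t u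
        rw [Setup.conj_of_mem_center (C.S.lc_mem_center (C.commute_X_self hr t u)), hm, zpow_one] at h4
        exact h4.symm
      · have h4 := C.conj_lc_tor m a⁻¹ (inv_ne_zero ha) (C.S.lift_spec _) hr hr t u
        rw [Setup.conj_of_mem_center (C.S.lc_mem_center (C.commute_X_self hr t u)), hm, zpow_neg, zpow_one,
          inv_inv] at h4
        exact h4.symm
  · -- `x_r(t)` is a commutator of elements commuting with `x_r(u)`, up to an element of another root
    have hC2 : (C2 : K) ≠ 0 := by rcases hC with rfl | rfl <;> simp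
    set t₀ : K := -t / (C2 : K) with ht₀
    have hrel := C.O.comm p' q' hp hq h1 h2 t₀ 1
    unfold ChevalleyDatum.commWord at hrel
    rw [hL] at hrel
    simp only [List.map_cons, List.map_nil, wordG, List.prod_cons, List.prod_nil, mul_one, pow_one, one_pow] at hrel
    have e1 : (C2 : K) * -t₀ = t := by
      rw [ht₀]
      field_simp
    rw [e1] at hrel
    have hm' := c3.2.1
    have e2 : X r t = X m' (-((C1 : K) * -t₀)) * ((X q' 1)⁻¹ * (X p' t₀)⁻¹ * ((X q' 1)⁻¹)⁻¹ * ((X p' t₀)⁻¹)⁻¹) := by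
      rw [C.O.toRels.X_neg m' hm', inv_inv, inv_inv]
      have : X m' ((C1 : K) * -t₀) * X r t = (X q' 1)⁻¹ * (X p' t₀)⁻¹ * X q' 1 * X p' t₀ := by
        rw [mul_assoc, mul_assoc, hrel]
        group
      rw [← this]
      group
    rw [e2, C.S.lc_mul_left
      (Commute.mul_left (Commute.mul_left (Commute.mul_left (C.commute_X c2 u 1).symm.inv_left
        (C.commute_X c1 u t₀).symm.inv_left) (C.commute_X c2 u 1).symm.inv_left.inv_left)
        (C.commute_X c1 u t₀).symm.inv_left.inv_left),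
      C.S.lc_comm_trick (C.commute_X c2 u 1).symm.inv_left (C.commute_X c1 u t₀).symm.inv_left, one_mul,
      C.S.lc_swap, C.lc_X_eq_one c3, inv_one]

end Ctx


/-- the lift of the root element `x_r(t)`: the lifted commutator of the torus element of `r^∨` and `x_r(t / (a² - 1))` -/
noncomputable def Y (S : Setup π₁ σ) (D : ChevalleyDatum) (X : ℕ → K → Γ) (a : K) (r : ℕ) (t : K) : E :=
  S.lc (torC D X r a) (X r (t / (a * a - 1)))

namespace Ctx

variable (C : Ctx D hadd X π π₁ σ) (a : K) (ha : a ≠ 0) (ha2 : a * a ≠ 1)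
include C ha ha2

theorem isLift_Y {r : ℕ} (hr : r < D.nroots) (t : K) : IsLift π₁ σ (Y C.S D X a r t) (X r t) := by
  have := C.S.isLift_lc (torC D X r a) (X r (t / (a * a - 1)))
  rwa [torC_comm_eq C.hD C.O a ha ha2 r hr t] at this

theorem commute_Y_self {r : ℕ} (hr : r < D.nroots) (t u : K) : Commute (Y C.S D X a r t) (Y C.S D X a r u) :=
  C.S.commute_of_lc_eq_one (C.lc_X_self_eq_one hr t u) (C.isLift_Y a ha ha2 hr t) (C.isLift_Y a ha ha2 hr u)

theorem commute_Y {p q : ℕ} (h : CP D p q) (t u : K) : Commute (Y C.S D X a p t) (Y C.S D X a q u) :=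
  C.S.commute_of_lc_eq_one (C.lc_X_eq_one h t u) (C.isLift_Y a ha ha2 h.1 t) (C.isLift_Y a ha ha2 h.2.1 u)

theorem Y_add {r : ℕ} (hr : r < D.nroots) (t u : K) :
    Y C.S D X a r (t + u) = Y C.S D X a r t * Y C.S D X a r u := by
  have h1 : Y C.S D X a r (t + u) = Y C.S D X a r t *
      (Y C.S D X a r (t / (a * a - 1)) * Y C.S D X a r u * (Y C.S D X a r (t / (a * a - 1)))⁻¹) := by
    conv_lhs => unfold Y
    rw [add_div, C.O.add r hr, C.S.lc_mul_right' (C.isLift_Y a ha ha2 hr (t / (a * a - 1)))]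
    rfl
  rw [h1, (C.commute_Y_self a ha ha2 hr (t / (a * a - 1)) u).eq, mul_inv_cancel_right]

theorem Y_zero {r : ℕ} (hr : r < D.nroots) : Y C.S D X a r 0 = 1 := by
  have := C.Y_add a ha ha2 hr 0 0
  rw [add_zero] at this
  exact (mul_eq_left.mp this.symm)

/-- conjugation of `Y r t` by a lift of a torus element -/
theorem conj_Y (m : List ℤ) (v : K) (hv : v ≠ 0) {e : E} (he : IsLift π₁ σ e (tor D X m v))
    {r : ℕ} (hr : r < D.nroots) (t : K) :
    e * Y C.S D X a r t * e⁻¹ = Y C.S D X a r (v ^ lvlF D m r * t) := by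
  unfold Y
  rw [C.S.conj_lc he, tor_act C.hD C.O m v hv r hr]
  have hζ : tor D X m v * torC D X r a * (tor D X m v)⁻¹ * (torC D X r a)⁻¹ ∈ Subgroup.center Γ :=
    comm_tor_mem_center C.hD C.O C.gen m _ v a hv ha
  have e1 : tor D X m v * torC D X r a * (tor D X m v)⁻¹ =
      (tor D X m v * torC D X r a * (tor D X m v)⁻¹ * (torC D X r a)⁻¹) * torC D X r a := by group
  rw [e1, C.S.lc_center_mul C.perf hζ, mul_div_assoc]

theorem isLift_wordG (w : List (ℕ × K)) (hw : ∀ e ∈ w, e.1 < D.nroots) :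
    IsLift π₁ σ (wordG (Y C.S D X a) w) (wordG X w) := by
  induction w with
  | nil => simp only [wordG, List.map_nil, List.prod_nil]; exact IsLift.one
  | cons e w ih =>
    rw [wordG_cons, wordG_cons]
    exact (C.isLift_Y a ha ha2 (hw e List.mem_cons_self) e.2).mul (ih (fun e' he' => hw e' (List.mem_cons_of_mem _ he')))

/-- conjugation of the right-hand side of the commutator formula by a lift of a torus element -/
theorem conj_wordG (m : List ℤ) (v : K) (hv : v ≠ 0) {e : E} (he : IsLift π₁ σ e (tor D X m v)) (r s : ℕ) (t u : K)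
    (L : List (ℕ × ℤ × ℕ × ℕ))
    (hL : ∀ c ∈ L, c.1 < D.nroots ∧ lvlF D m c.1 = (c.2.2.1 : ℤ) * lvlF D m r + (c.2.2.2 : ℤ) * lvlF D m s) :
    e * wordG (Y C.S D X a) (L.map fun c => (c.1, (c.2.1 : K) * (-t) ^ c.2.2.1 * u ^ c.2.2.2)) * e⁻¹ =
      wordG (Y C.S D X a) (L.map fun c => (c.1, (c.2.1 : K) * (-(v ^ lvlF D m r * t)) ^ c.2.2.1 *
        (v ^ lvlF D m s * u) ^ c.2.2.2)) := by
  induction L with
  | nil => simp [wordG]
  | cons c L ih =>
    rw [List.map_cons, List.map_cons, wordG_cons, wordG_cons]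
    have h1 := hL c List.mem_cons_self
    have ih' := ih (fun c' hc' => hL c' (List.mem_cons_of_mem _ hc'))
    have e1 : ∀ x y : E, e * (x * y) * e⁻¹ = (e * x * e⁻¹) * (e * y * e⁻¹) := fun x y => by group
    rw [e1, ih', C.conj_Y a ha ha2 m v hv he h1.1]
    congr 2
    show v ^ lvlF D m c.1 * ((c.2.1 : K) * (-t) ^ c.2.2.1 * u ^ c.2.2.2) = _
    rw [h1.2, zpow_add₀ hv, mul_comm (c.2.2.1 : ℤ), mul_comm (c.2.2.2 : ℤ), zpow_mul, zpow_mul, zpow_natCast,
      zpow_natCast, neg_mul_eq_mul_neg, mul_pow, mul_pow]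
    ring

end Ctx

/-- the central defect of the commutator relation of the pair `(r, s)` among the lifts -/
noncomputable def Zd (S : Setup π₁ σ) (D : ChevalleyDatum) (X : ℕ → K → Γ) (a : K) (r s : ℕ) (t u : K) : E :=
  (Y S D X a r t * Y S D X a s u * wordG (Y S D X a) (D.commWord K r s t u))⁻¹ * (Y S D X a s u * Y S D X a r t)

theorem zd_rel (S : Setup π₁ σ) (a : K) (r s : ℕ) (t u : K) :
    Y S D X a s u * Y S D X a r t =
      Y S D X a r t * Y S D X a s u * wordG (Y S D X a) (D.commWord K r s t u) * Zd S D X a r s t u := by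
  unfold Zd
  group

namespace Ctx

variable (C : Ctx D hadd X π π₁ σ) (a : K) (ha : a ≠ 0) (ha2 : a * a ≠ 1)
include C ha ha2

theorem commWord_lt {r s : ℕ} (hr : r < D.nroots) (hs : s < D.nroots) (t u : K) :
    ∀ e ∈ D.commWord K r s t u, e.1 < D.nroots := by
  intro e he
  unfold ChevalleyDatum.commWord at he
  obtain ⟨c, hc, rfl⟩ := List.mem_map.mp he
  exact (commTerms_lvl D C.hD (lvlF D []) (fun v hv => isAdditiveAt_lvlF_of_mem D C.hD [] v hv) r s hr hs c hc).1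

theorem zd_mem_center {r s : ℕ} (hr : r < D.nroots) (hs : s < D.nroots) (h1 : s ≠ r) (h2 : s ≠ D.neg r) (t u : K) :
    Zd C.S D X a r s t u ∈ Subgroup.center E := by
  apply C.S.central
  have hA : IsLift π₁ σ (Y C.S D X a r t * Y C.S D X a s u * wordG (Y C.S D X a) (D.commWord K r s t u))
      (X r t * X s u * wordG X (D.commWord K r s t u)) :=
    ((C.isLift_Y a ha ha2 hr t).mul (C.isLift_Y a ha ha2 hs u)).mul
      (C.isLift_wordG a ha ha2 _ (C.commWord_lt a ha ha2 hr hs t u))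
  have hB : IsLift π₁ σ (Y C.S D X a s u * Y C.S D X a r t) (X s u * X r t) :=
    (C.isLift_Y a ha ha2 hs u).mul (C.isLift_Y a ha ha2 hr t)
  unfold Zd
  rw [MonoidHom.mem_ker, map_mul, map_inv, hA, hB, C.O.comm r s hr hs h1 h2 t u, inv_mul_cancel]

/-- the defect is invariant under the torus -/
theorem zd_inv {r s : ℕ} (hr : r < D.nroots) (hs : s < D.nroots) (h1 : s ≠ r) (h2 : s ≠ D.neg r)
    (m : List ℤ) (v : K) (hv : v ≠ 0) (t u : K) :
    Zd C.S D X a r s (v ^ lvlF D m r * t) (v ^ lvlF D m s * u) = Zd C.S D X a r s t u := by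
  have he := C.S.lift_spec (tor D X m v)
  set e := C.S.lift (tor D X m v)
  have h3 := Setup.conj_of_mem_center (C.zd_mem_center a ha ha2 hr hs h1 h2 t u) e
  rw [← h3]
  unfold Zd
  have e1 : ∀ x y z p q : E, e * ((x * y * z)⁻¹ * (p * q)) * e⁻¹ =
      ((e * x * e⁻¹) * (e * y * e⁻¹) * (e * z * e⁻¹))⁻¹ * ((e * p * e⁻¹) * (e * q * e⁻¹)) := fun x y z p q => by group
  rw [e1, C.conj_Y a ha ha2 m v hv he hr, C.conj_Y a ha ha2 m v hv he hs]
  have h4 := C.conj_wordG a ha ha2 m v hv he r s t u (D.commTerms r s) (fun c hc => by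
    have := commTerms_lvl D C.hD (lvlF D m) (fun v hv => isAdditiveAt_lvlF_of_mem D C.hD m v hv) r s hr hs c hc
    exact ⟨this.1, this.2.1⟩)
  unfold ChevalleyDatum.commWord
  rw [h4]

/-- additivity in the first variable kills the defect -/
theorem zd_eq_one_of_add_left {r s : ℕ} (hr : r < D.nroots) (hs : s < D.nroots) (h1 : s ≠ r) (h2 : s ≠ D.neg r)
    (tor : Tor D s r)
    (hadd' : ∀ t t' u : K, Zd C.S D X a r s (t + t') u = Zd C.S D X a r s t u * Zd C.S D X a r s t' u)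
    (t u : K) : Zd C.S D X a r s t u = 1 := by
  obtain ⟨m, m1, m2, m3⟩ := tor
  obtain ⟨v, hv0, hvd⟩ := C.hv _ m2 m3
  apply add_trick' (fun t => Zd C.S D X a r s t u) (fun t t' => hadd' t t' u) _ hvd
  intro t
  have := C.zd_inv a ha ha2 hr hs h1 h2 m v hv0 t u
  rw [m1, zpow_zero, one_mul] at this
  exact this

/-- additivity in the second variable kills the defect -/
theorem zd_eq_one_of_add_right {r s : ℕ} (hr : r < D.nroots) (hs : s < D.nroots) (h1 : s ≠ r) (h2 : s ≠ D.neg r)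
    (tor : Tor D r s)
    (hadd' : ∀ t u u' : K, Zd C.S D X a r s t (u + u') = Zd C.S D X a r s t u * Zd C.S D X a r s t u')
    (t u : K) : Zd C.S D X a r s t u = 1 := by
  obtain ⟨m, m1, m2, m3⟩ := tor
  obtain ⟨v, hv0, hvd⟩ := C.hv _ m2 m3
  apply add_trick' (fun u => Zd C.S D X a r s t u) (fun u u' => hadd' t u u') _ hvd
  intro u
  have := C.zd_inv a ha ha2 hr hs h1 h2 m v hv0 t u
  rw [m1, zpow_zero, one_mul] at this
  exact this

/-- the relation from the vanishing of the defect -/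
theorem rel_of_zd {r s : ℕ} (t u : K) (h : Zd C.S D X a r s t u = 1) :
    Y C.S D X a s u * Y C.S D X a r t =
      Y C.S D X a r t * Y C.S D X a s u * wordG (Y C.S D X a) (D.commWord K r s t u) := by
  have := zd_rel (D := D) (X := X) C.S a r s t u
  rw [h, mul_one] at this
  exact this

/-- one-term commutator formulas -/
theorem zd_n1 {r s : ℕ} (hr : r < D.nroots) (hs : s < D.nroots) (h1 : s ≠ r) (h2 : s ≠ D.neg r)
    (m1 : ℕ) (C1 : ℤ) (h : D.commTerms r s = [(m1, C1, 1, 1)]) (c1 : CP D r m1) (tor : Tor D s r) (t u : K) :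
    Zd C.S D X a r s t u = 1 := by
  have hW : ∀ t u : K, wordG (Y C.S D X a) (D.commWord K r s t u) = Y C.S D X a m1 ((C1 : K) * -t * u) := by
    intro t u
    unfold ChevalleyDatum.commWord
    rw [h]
    simp only [List.map_cons, List.map_nil, wordG, List.prod_cons, List.prod_nil, mul_one, pow_one]
  apply C.zd_eq_one_of_add_left a ha ha2 hr hs h1 h2 tor
  intro t t' u
  apply Cfsg.Agent.Helper10.UcColl.z_add_left (Y C.S D X a r) (Y C.S D X a s)
    (fun t u => wordG (Y C.S D X a) (D.commWord K r s t u)) (Zd C.S D X a r s)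
    (fun t t' => C.Y_add a ha ha2 hr t t') (fun t u => zd_rel C.S a r s t u)
    (fun t u => C.zd_mem_center a ha ha2 hr hs h1 h2 t u)
  intro t t' u
  simp only [hW]
  rw [Cfsg.Agent.Helper10.UcColl.ci_n1 (Y C.S D X a m1) (Y C.S D X a r) (fun x y => C.Y_add a ha ha2 c1.2.1 x y)
    (fun x y => (C.commute_Y a ha ha2 c1 y x).symm)]
  congr 1
  ring

/-- the exact one-term relation -/
theorem rel_n1 {p q m : ℕ} {c : ℤ} (e : EX1 D p q m c) (t u : K) :
    Y C.S D X a q u * Y C.S D X a p t = Y C.S D X a p t * Y C.S D X a q u * Y C.S D X a m ((c : K) * -t * u) := by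
  obtain ⟨hp, hq, h1, h2, hL⟩ := e
  have hz : Zd C.S D X a p q t u = 1 := by
    rcases C.UD.pair p q hp hq h1 h2 with ⟨h', -⟩ | ⟨m1, C1, h', c1, tor⟩ | ⟨_, _, _, _, h', -, -, -, -⟩ |
      ⟨_, _, _, _, h', -, -, -, -⟩ | ⟨_, _, _, _, _, _, _, h', -, -, -, -, -, -, -, -⟩ |
      ⟨_, _, _, _, _, _, _, _, _, _, h', -, -, -, -, -, -, -, -, -, -, -, -⟩ |
      ⟨_, _, _, _, _, _, _, _, _, _, h', -, -, -, -, -, -, -, -, -, -, -, -⟩
    · rw [hL] at h'; cases h'
    · exact C.zd_n1 a ha ha2 hp hq h1 h2 m1 C1 h' c1 tor t u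
    all_goals (rw [hL] at h'; cases h')
  have := C.rel_of_zd a ha ha2 t u hz
  rw [this]
  congr 1
  unfold ChevalleyDatum.commWord
  rw [hL]
  simp only [List.map_cons, List.map_nil, wordG, List.prod_cons, List.prod_nil, mul_one, pow_one]

end Ctx

namespace Ctx

variable (C : Ctx D hadd X π π₁ σ) (a : K) (ha : a ≠ 0) (ha2 : a * a ≠ 1)
include C ha ha2

open Cfsg.Agent.Helper10.UcColl in
theorem zd_n2a {r s : ℕ} (hr : r < D.nroots) (hs : s < D.nroots) (h1 : s ≠ r) (h2 : s ≠ D.neg r)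
    (m1 m2 : ℕ) (C1 C2 : ℤ) (h : D.commTerms r s = [(m1, C1, 1, 1), (m2, C2, 1, 2)])
    (c1 : CP D r m1) (c2 : CP D r m2) (c12 : CP D m1 m2) (tor : Tor D s r) (t u : K) :
    Zd C.S D X a r s t u = 1 := by
  have hW : ∀ t u : K, wordG (Y C.S D X a) (D.commWord K r s t u) =
      Y C.S D X a m1 ((C1 : K) * -t * u) * Y C.S D X a m2 ((C2 : K) * -t * u ^ 2) := by
    intro t u
    unfold ChevalleyDatum.commWord
    rw [h]
    simp only [List.map_cons, List.map_nil, wordG, List.prod_cons, List.prod_nil, mul_one, pow_one]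
  apply C.zd_eq_one_of_add_left a ha ha2 hr hs h1 h2 tor
  intro t t' u
  apply z_add_left (Y C.S D X a r) (Y C.S D X a s)
    (fun t u => wordG (Y C.S D X a) (D.commWord K r s t u)) (Zd C.S D X a r s)
    (fun t t' => C.Y_add a ha ha2 hr t t') (fun t u => zd_rel C.S a r s t u)
    (fun t u => C.zd_mem_center a ha ha2 hr hs h1 h2 t u)
  intro t t' u
  simp only [hW]
  rw [ci_n2a (Y C.S D X a m1) (Y C.S D X a m2) (Y C.S D X a r) (fun x y => C.Y_add a ha ha2 c1.2.1 x y)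
    (fun x y => C.Y_add a ha ha2 c2.2.1 x y)
    (fun x y => (C.commute_Y a ha ha2 c1 y x).symm) (fun x y => (C.commute_Y a ha ha2 c2 y x).symm)
    (fun x y => C.commute_Y a ha ha2 c12 x y)]
  have e1 : (C1 : K) * -t' * u + (C1 : K) * -t * u = (C1 : K) * -(t + t') * u := by ring
  have e2 : (C2 : K) * -t' * u ^ 2 + (C2 : K) * -t * u ^ 2 = (C2 : K) * -(t + t') * u ^ 2 := by ring
  rw [e1, e2]

open Cfsg.Agent.Helper10.UcColl in
theorem zd_n2b {r s : ℕ} (hr : r < D.nroots) (hs : s < D.nroots) (h1 : s ≠ r) (h2 : s ≠ D.neg r)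
    (m1 m2 : ℕ) (C1 C2 : ℤ) (h : D.commTerms r s = [(m1, C1, 1, 1), (m2, C2, 2, 1)])
    (c1 : CP D s m1) (c2 : CP D s m2) (c12 : CP D m1 m2) (tor : Tor D r s) (t u : K) :
    Zd C.S D X a r s t u = 1 := by
  have hW : ∀ t u : K, wordG (Y C.S D X a) (D.commWord K r s t u) =
      Y C.S D X a m1 ((C1 : K) * -t * u) * Y C.S D X a m2 ((C2 : K) * (-t) ^ 2 * u) := by
    intro t u
    unfold ChevalleyDatum.commWord
    rw [h]
    simp only [List.map_cons, List.map_nil, wordG, List.prod_cons, List.prod_nil, mul_one, pow_one]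
  apply C.zd_eq_one_of_add_right a ha ha2 hr hs h1 h2 tor
  intro t u u'
  apply z_add_right (Y C.S D X a r) (Y C.S D X a s)
    (fun t u => wordG (Y C.S D X a) (D.commWord K r s t u)) (Zd C.S D X a r s)
    (fun u u' => C.Y_add a ha ha2 hs u u') (fun t u => zd_rel C.S a r s t u)
    (fun t u => C.zd_mem_center a ha ha2 hr hs h1 h2 t u)
  intro t u u'
  simp only [hW]
  rw [ci_n2b (Y C.S D X a m1) (Y C.S D X a m2) (Y C.S D X a s) (fun x y => C.Y_add a ha ha2 c1.2.1 x y)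
    (fun x y => C.Y_add a ha ha2 c2.2.1 x y)
    (fun x y => (C.commute_Y a ha ha2 c1 y x).symm) (fun x y => (C.commute_Y a ha ha2 c2 y x).symm)
    (fun x y => C.commute_Y a ha ha2 c12 x y)]
  have e1 : (C1 : K) * -t * u + (C1 : K) * -t * u' = (C1 : K) * -t * (u + u') := by ring
  have e2 : (C2 : K) * (-t) ^ 2 * u + (C2 : K) * (-t) ^ 2 * u' = (C2 : K) * (-t) ^ 2 * (u + u') := by ring
  rw [e1, e2]

open Cfsg.Agent.Helper10.UcColl in
theorem zd_n3 {r s : ℕ} (hr : r < D.nroots) (hs : s < D.nroots) (h1 : s ≠ r) (h2 : s ≠ D.neg r)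
    (m1 m2 m3 : ℕ) (C1 C2 C3 C4 : ℤ) (h : D.commTerms r s = [(m1, C1, 1, 1), (m2, C2, 2, 1), (m3, C3, 1, 2)])
    (e1 : EX1 D r m1 m2 C4) (c2 : CP D r m2) (c3 : CP D r m3) (c12 : CP D m1 m2) (c13 : CP D m1 m3)
    (c23 : CP D m2 m3) (num : 2 * C2 = C1 * C4) (tor : Tor D s r) (t u : K) :
    Zd C.S D X a r s t u = 1 := by
  have hW : ∀ t u : K, wordG (Y C.S D X a) (D.commWord K r s t u) =
      Y C.S D X a m1 ((C1 : K) * -t * u) * (Y C.S D X a m2 ((C2 : K) * (-t) ^ 2 * u) *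
        Y C.S D X a m3 ((C3 : K) * -t * u ^ 2)) := by
    intro t u
    unfold ChevalleyDatum.commWord
    rw [h]
    simp only [List.map_cons, List.map_nil, wordG, List.prod_cons, List.prod_nil, mul_one, pow_one]
  have hnum : (2 : K) * (C2 : K) = (C1 : K) * (C4 : K) := by exact_mod_cast congrArg (Int.cast : ℤ → K) num
  apply C.zd_eq_one_of_add_left a ha ha2 hr hs h1 h2 tor
  intro t t' u
  apply z_add_left (Y C.S D X a r) (Y C.S D X a s)
    (fun t u => wordG (Y C.S D X a) (D.commWord K r s t u)) (Zd C.S D X a r s)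
    (fun t t' => C.Y_add a ha ha2 hr t t') (fun t u => zd_rel C.S a r s t u)
    (fun t u => C.zd_mem_center a ha ha2 hr hs h1 h2 t u)
  intro t t' u
  simp only [hW]
  rw [ci_n3 (Y C.S D X a m1) (Y C.S D X a m2) (Y C.S D X a m3) (Y C.S D X a r)
    (fun x y => C.Y_add a ha ha2 e1.2.1 x y) (fun x y => C.Y_add a ha ha2 c2.2.1 x y)
    (fun x y => C.Y_add a ha ha2 c3.2.1 x y) (C4 : K)
    (fun x y => C.rel_n1 a ha ha2 e1 y x)
    (fun x y => (C.commute_Y a ha ha2 c2 y x).symm) (fun x y => (C.commute_Y a ha ha2 c3 y x).symm)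
    (fun x y => C.commute_Y a ha ha2 c12 x y) (fun x y => C.commute_Y a ha ha2 c13 x y)
    (fun x y => C.commute_Y a ha ha2 c23 x y)]
  have e1' : (C1 : K) * -t' * u + (C1 : K) * -t * u = (C1 : K) * -(t + t') * u := by ring
  have e2' : (C2 : K) * (-t') ^ 2 * u + (C2 : K) * (-t) ^ 2 * u + -((C4 : K) * t' * ((C1 : K) * -t * u)) =
      (C2 : K) * (-(t + t')) ^ 2 * u := by linear_combination (-(t * t' * u)) * hnum
  have e3' : (C3 : K) * -t' * u ^ 2 + (C3 : K) * -t * u ^ 2 = (C3 : K) * -(t + t') * u ^ 2 := by ring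
  rw [e1', e2', e3']

open Cfsg.Agent.Helper10.UcColl in
theorem zd_n4l {r s : ℕ} (hr : r < D.nroots) (hs : s < D.nroots) (h1 : s ≠ r) (h2 : s ≠ D.neg r)
    (m1 m2 m3 m4 : ℕ) (C1 C2 C3 C4 C5 C6 : ℤ)
    (h : D.commTerms r s = [(m1, C1, 1, 1), (m2, C2, 1, 2), (m3, C3, 1, 3), (m4, C4, 2, 3)])
    (e3 : EX1 D r m3 m4 C5) (e12 : EX1 D m1 m2 m4 C6) (c1 : CP D r m1) (c2 : CP D r m2) (c4 : CP D r m4)
    (c13 : CP D m1 m3) (c14 : CP D m1 m4) (c23 : CP D m2 m3) (c24 : CP D m2 m4) (c34 : CP D m3 m4)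
    (num : 2 * C4 = C3 * C5 - C1 * C2 * C6) (tor : Tor D s r) (t u : K) :
    Zd C.S D X a r s t u = 1 := by
  have hW : ∀ t u : K, wordG (Y C.S D X a) (D.commWord K r s t u) =
      Y C.S D X a m1 ((C1 : K) * -t * u) * (Y C.S D X a m2 ((C2 : K) * -t * u ^ 2) *
        (Y C.S D X a m3 ((C3 : K) * -t * u ^ 3) * Y C.S D X a m4 ((C4 : K) * (-t) ^ 2 * u ^ 3))) := by
    intro t u
    unfold ChevalleyDatum.commWord
    rw [h]
    simp only [List.map_cons, List.map_nil, wordG, List.prod_cons, List.prod_nil, mul_one, pow_one]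
  have hnum : (2 : K) * (C4 : K) = (C3 : K) * (C5 : K) - (C1 : K) * (C2 : K) * (C6 : K) := by
    exact_mod_cast congrArg (Int.cast : ℤ → K) num
  apply C.zd_eq_one_of_add_left a ha ha2 hr hs h1 h2 tor
  intro t t' u
  apply z_add_left (Y C.S D X a r) (Y C.S D X a s)
    (fun t u => wordG (Y C.S D X a) (D.commWord K r s t u)) (Zd C.S D X a r s)
    (fun t t' => C.Y_add a ha ha2 hr t t') (fun t u => zd_rel C.S a r s t u)
    (fun t u => C.zd_mem_center a ha ha2 hr hs h1 h2 t u)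
  intro t t' u
  simp only [hW]
  rw [ci_n4l (Y C.S D X a m1) (Y C.S D X a m2) (Y C.S D X a m3) (Y C.S D X a m4) (Y C.S D X a r)
    (fun x y => C.Y_add a ha ha2 c1.2.1 x y) (fun x y => C.Y_add a ha ha2 c2.2.1 x y)
    (fun x y => C.Y_add a ha ha2 e3.2.1 x y) (fun x y => C.Y_add a ha ha2 c4.2.1 x y) (C5 : K) (C6 : K)
    (fun x y => C.rel_n1 a ha ha2 e3 y x) (fun x y => C.rel_n1 a ha ha2 e12 x y)
    (fun x y => (C.commute_Y a ha ha2 c1 y x).symm) (fun x y => (C.commute_Y a ha ha2 c2 y x).symm)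
    (fun x y => (C.commute_Y a ha ha2 c4 y x).symm)
    (fun x y => C.commute_Y a ha ha2 c13 x y) (fun x y => C.commute_Y a ha ha2 c14 x y)
    (fun x y => C.commute_Y a ha ha2 c23 x y) (fun x y => C.commute_Y a ha ha2 c24 x y)
    (fun x y => C.commute_Y a ha ha2 c34 x y)]
  have e1' : (C1 : K) * -t' * u + (C1 : K) * -t * u = (C1 : K) * -(t + t') * u := by ring
  have e2' : (C2 : K) * -t' * u ^ 2 + (C2 : K) * -t * u ^ 2 = (C2 : K) * -(t + t') * u ^ 2 := by ring
  have e3' : (C3 : K) * -t' * u ^ 3 + (C3 : K) * -t * u ^ 3 = (C3 : K) * -(t + t') * u ^ 3 := by ring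
  have e4' : (C4 : K) * (-t') ^ 2 * u ^ 3 + (C4 : K) * (-t) ^ 2 * u ^ 3 + -((C5 : K) * t' * ((C3 : K) * -t * u ^ 3)) +
      -((C6 : K) * ((C1 : K) * -t * u) * ((C2 : K) * -t' * u ^ 2)) = (C4 : K) * (-(t + t')) ^ 2 * u ^ 3 := by
    linear_combination (-(t * t' * u ^ 3)) * hnum
  rw [e1', e2', e3', e4']

open Cfsg.Agent.Helper10.UcColl in
theorem zd_n4s {r s : ℕ} (hr : r < D.nroots) (hs : s < D.nroots) (h1 : s ≠ r) (h2 : s ≠ D.neg r)
    (m1 m2 m3 m4 : ℕ) (C1 C2 C3 C4 C5 C6 : ℤ)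
    (h : D.commTerms r s = [(m1, C1, 1, 1), (m2, C2, 2, 1), (m3, C3, 3, 1), (m4, C4, 3, 2)])
    (e3 : EX1 D s m3 m4 C5) (e12 : EX1 D m1 m2 m4 C6) (c1 : CP D s m1) (c2 : CP D s m2) (c4 : CP D s m4)
    (c13 : CP D m1 m3) (c14 : CP D m1 m4) (c23 : CP D m2 m3) (c24 : CP D m2 m4) (c34 : CP D m3 m4)
    (num : -(2 * C4) = C3 * C5 + C1 * C2 * C6) (tor : Tor D r s) (t u : K) :
    Zd C.S D X a r s t u = 1 := by
  have hW : ∀ t u : K, wordG (Y C.S D X a) (D.commWord K r s t u) =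
      Y C.S D X a m1 ((C1 : K) * -t * u) * (Y C.S D X a m2 ((C2 : K) * (-t) ^ 2 * u) *
        (Y C.S D X a m3 ((C3 : K) * (-t) ^ 3 * u) * Y C.S D X a m4 ((C4 : K) * (-t) ^ 3 * u ^ 2))) := by
    intro t u
    unfold ChevalleyDatum.commWord
    rw [h]
    simp only [List.map_cons, List.map_nil, wordG, List.prod_cons, List.prod_nil, mul_one, pow_one]
  have hnum : -((2 : K) * (C4 : K)) = (C3 : K) * (C5 : K) + (C1 : K) * (C2 : K) * (C6 : K) := by
    exact_mod_cast congrArg (Int.cast : ℤ → K) num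
  apply C.zd_eq_one_of_add_right a ha ha2 hr hs h1 h2 tor
  intro t u u'
  apply z_add_right (Y C.S D X a r) (Y C.S D X a s)
    (fun t u => wordG (Y C.S D X a) (D.commWord K r s t u)) (Zd C.S D X a r s)
    (fun u u' => C.Y_add a ha ha2 hs u u') (fun t u => zd_rel C.S a r s t u)
    (fun t u => C.zd_mem_center a ha ha2 hr hs h1 h2 t u)
  intro t u u'
  simp only [hW]
  rw [ci_n4s (Y C.S D X a m1) (Y C.S D X a m2) (Y C.S D X a m3) (Y C.S D X a m4) (Y C.S D X a s)
    (fun x y => C.Y_add a ha ha2 c1.2.1 x y) (fun x y => C.Y_add a ha ha2 c2.2.1 x y)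
    (fun x y => C.Y_add a ha ha2 e3.2.1 x y) (fun x y => C.Y_add a ha ha2 c4.2.1 x y) (C5 : K) (C6 : K)
    (fun x y => C.rel_n1 a ha ha2 e3 y x) (fun x y => C.rel_n1 a ha ha2 e12 x y)
    (fun x y => (C.commute_Y a ha ha2 c1 y x).symm) (fun x y => (C.commute_Y a ha ha2 c2 y x).symm)
    (fun x y => (C.commute_Y a ha ha2 c4 y x).symm)
    (fun x y => C.commute_Y a ha ha2 c13 x y) (fun x y => C.commute_Y a ha ha2 c14 x y)
    (fun x y => C.commute_Y a ha ha2 c23 x y) (fun x y => C.commute_Y a ha ha2 c24 x y)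
    (fun x y => C.commute_Y a ha ha2 c34 x y)]
  have e1' : (C1 : K) * -t * u + (C1 : K) * -t * u' = (C1 : K) * -t * (u + u') := by ring
  have e2' : (C2 : K) * (-t) ^ 2 * u + (C2 : K) * (-t) ^ 2 * u' = (C2 : K) * (-t) ^ 2 * (u + u') := by ring
  have e3' : (C3 : K) * (-t) ^ 3 * u + (C3 : K) * (-t) ^ 3 * u' = (C3 : K) * (-t) ^ 3 * (u + u') := by ring
  have e4' : (C4 : K) * (-t) ^ 3 * u ^ 2 + (C4 : K) * (-t) ^ 3 * u' ^ 2 + -((C5 : K) * u' * ((C3 : K) * (-t) ^ 3 * u)) +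
      -((C6 : K) * ((C1 : K) * -t * u') * ((C2 : K) * (-t) ^ 2 * u)) = (C4 : K) * (-t) ^ 3 * (u + u') ^ 2 := by
    linear_combination (-(t ^ 3 * u * u')) * hnum
  rw [e1', e2', e3', e4']

/-- **the lifts satisfy Steinberg's relations (R1), (R2)** -/
theorem rels : Rels D (Y C.S D X a) where
  add := fun r hr t u => C.Y_add a ha ha2 hr t u
  comm := by
    intro r s hr hs h1 h2 t u
    apply C.rel_of_zd a ha ha2 t u
    rcases C.UD.pair r s hr hs h1 h2 with ⟨h', tor⟩ | ⟨m1, C1, h', c1, tor⟩ |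
      ⟨m1, m2, C1, C2, h', c1, c2, c12, tor⟩ | ⟨m1, m2, C1, C2, h', c1, c2, c12, tor⟩ |
      ⟨m1, m2, m3, C1, C2, C3, C4, h', e1, c2, c3, c12, c13, c23, num, tor⟩ |
      ⟨m1, m2, m3, m4, C1, C2, C3, C4, C5, C6, h', e3, e12, c1, c2, c4, c13, c14, c23, c24, c34, num, tor⟩ |
      ⟨m1, m2, m3, m4, C1, C2, C3, C4, C5, C6, h', e3, e12, c1, c2, c4, c13, c14, c23, c24, c34, num, tor⟩
    · -- commuting pair
      unfold Zd ChevalleyDatum.commWord
      rw [h']
      simp only [List.map_nil, wordG, List.prod_nil, mul_one]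
      rw [(C.commute_Y a ha ha2 ⟨hr, hs, h1, h2, h'⟩ t u).eq, inv_mul_cancel]
    · exact C.zd_n1 a ha ha2 hr hs h1 h2 m1 C1 h' c1 tor t u
    · exact C.zd_n2a a ha ha2 hr hs h1 h2 m1 m2 C1 C2 h' c1 c2 c12 tor t u
    · exact C.zd_n2b a ha ha2 hr hs h1 h2 m1 m2 C1 C2 h' c1 c2 c12 tor t u
    · exact C.zd_n3 a ha ha2 hr hs h1 h2 m1 m2 m3 C1 C2 C3 C4 h' e1 c2 c3 c12 c13 c23 num tor t u
    · exact C.zd_n4l a ha ha2 hr hs h1 h2 m1 m2 m3 m4 C1 C2 C3 C4 C5 C6 h' e3 e12 c1 c2 c4 c13 c14 c23 c24 c34 num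
        tor t u
    · exact C.zd_n4s a ha ha2 hr hs h1 h2 m1 m2 m3 m4 C1 C2 C3 C4 C5 C6 h' e3 e12 c1 c2 c4 c13 c14 c23 c24 c34 num
        tor t u

end Ctx

end

end Cfsg.Agent.Helper40.Uc
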