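import Cfsg.Agent.Helper40.LC
import Cfsg.Agent.Helper40.UcMain
import Cfsg.Agent.Helper40.HyRoots
import Cfsg.Agent.Helper10.UcColl

/-!
Helper40: Steinberg's relations (R1), (R2) for a system of lifts `Y r t` of the root elements to a central
extension, from: additivity, equivariance under lifts of the torus elements, commutation of the lifts of commuting
root elements, and the root-system facts `PairHy` (small fields: the torus argument only with cocharacters whose
values are not divisible by the order `n` of the multiplicative group).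
-/

set_option autoImplicit false
set_option linter.unusedSectionVars false

namespace Cfsg.Agent.Helper40.Hy

open Cfsg Cfsg.Lie Cfsg.Agent.Helper18 Cfsg.Agent.Helper40.ChevAdd Cfsg.Agent.Helper40.St Cfsg.Agent.Helper40.LC
  Cfsg.Agent.Helper40.Uc

section
variable {K : Type*} [Field K] {D : ChevalleyDatum} {Γ : Type*} [Group Γ] {X : ℕ → K → Γ}
  {hadd : ChevAdd.addOK D = true} {π : Γ →* GL D.Idx K}
  {G₁ E : Type*} [Group G₁] [Group E] {π₁ : E →* G₁} {σ : Γ →* G₁}

/-- the context: a system of lifts `Y` of the root elements with the properties used by Steinberg's argument -/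
structure YCtx (n : ℕ) (two : Bool) (D : ChevalleyDatum) (hadd : ChevAdd.addOK D = true) (X : ℕ → K → Γ)
    (π : Γ →* GL D.Idx K) (π₁ : E →* G₁) (σ : Γ →* G₁) (Y : ℕ → K → E) : Prop where
  hD : D ∈ [chevG2, chevB2, chevD4, chevF4, chevE6, chevE7, chevE8]
  O : Over D hadd X π
  S : Setup π₁ σ
  HD : HyData n two D
  hv : ∃ v : K, v ≠ 0 ∧ ∀ d : ℤ, ¬ (n : ℤ) ∣ d → v ^ d ≠ 1
  isLift : ∀ r, r < D.nroots → ∀ t : K, IsLift π₁ σ (Y r t) (X r t)
  add : ∀ r, r < D.nroots → ∀ t u : K, Y r (t + u) = Y r t * Y r u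
  conj : ∀ (m : List ℤ) (v : K), v ≠ 0 → ∀ e : E, IsLift π₁ σ e (tor D X m v) → ∀ r, r < D.nroots → ∀ t : K,
    e * Y r t * e⁻¹ = Y r (v ^ lvlF D m r * t)
  comm : ∀ a b, CP D a b → ∀ t u : K, Commute (Y a t) (Y b u)

/-- the central defect of the commutator relation of the pair `(r, s)` among the lifts -/
def Zd (D : ChevalleyDatum) (Y : ℕ → K → E) (r s : ℕ) (t u : K) : E :=
  (Y r t * Y s u * wordG Y (D.commWord K r s t u))⁻¹ * (Y s u * Y r t)

theorem zd_rel (Y : ℕ → K → E) (r s : ℕ) (t u : K) :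
    Y s u * Y r t = Y r t * Y s u * wordG Y (D.commWord K r s t u) * Zd D Y r s t u := by
  unfold Zd
  group

namespace YCtx

variable {n : ℕ} {two : Bool} {Y : ℕ → K → E} (C : YCtx n two D hadd X π π₁ σ Y)
include C

theorem isLift_wordG (w : List (ℕ × K)) (hw : ∀ e ∈ w, e.1 < D.nroots) :
    IsLift π₁ σ (wordG Y w) (wordG X w) := by
  induction w with
  | nil => simp only [wordG, List.map_nil, List.prod_nil]; exact IsLift.one
  | cons e w ih =>
    rw [wordG_cons, wordG_cons]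
    exact (C.isLift _ (hw e List.mem_cons_self) e.2).mul (ih (fun e' he' => hw e' (List.mem_cons_of_mem _ he')))

/-- conjugation of the right-hand side of the commutator formula by a lift of a torus element -/
theorem conj_wordG (m : List ℤ) (v : K) (hv : v ≠ 0) {e : E} (he : IsLift π₁ σ e (tor D X m v)) (r s : ℕ) (t u : K)
    (L : List (ℕ × ℤ × ℕ × ℕ))
    (hL : ∀ c ∈ L, c.1 < D.nroots ∧ lvlF D m c.1 = (c.2.2.1 : ℤ) * lvlF D m r + (c.2.2.2 : ℤ) * lvlF D m s) :
    e * wordG Y (L.map fun c => (c.1, (c.2.1 : K) * (-t) ^ c.2.2.1 * u ^ c.2.2.2)) * e⁻¹ =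
      wordG Y (L.map fun c => (c.1, (c.2.1 : K) * (-(v ^ lvlF D m r * t)) ^ c.2.2.1 *
        (v ^ lvlF D m s * u) ^ c.2.2.2)) := by
  induction L with
  | nil => simp [wordG]
  | cons c L ih =>
    rw [List.map_cons, List.map_cons, wordG_cons, wordG_cons]
    have h1 := hL c List.mem_cons_self
    have ih' := ih (fun c' hc' => hL c' (List.mem_cons_of_mem _ hc'))
    have e1 : ∀ x y : E, e * (x * y) * e⁻¹ = (e * x * e⁻¹) * (e * y * e⁻¹) := fun x y => by group
    rw [e1, ih', C.conj m v hv e he _ h1.1]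
    congr 2
    show v ^ lvlF D m c.1 * ((c.2.1 : K) * (-t) ^ c.2.2.1 * u ^ c.2.2.2) = _
    rw [h1.2, zpow_add₀ hv, mul_comm (c.2.2.1 : ℤ), mul_comm (c.2.2.2 : ℤ), zpow_mul, zpow_mul, zpow_natCast,
      zpow_natCast, neg_mul_eq_mul_neg, mul_pow, mul_pow]
    ring

theorem commWord_lt {r s : ℕ} (hr : r < D.nroots) (hs : s < D.nroots) (t u : K) :
    ∀ e ∈ D.commWord K r s t u, e.1 < D.nroots := by
  intro e he
  unfold ChevalleyDatum.commWord at he
  obtain ⟨c, hc, rfl⟩ := List.mem_map.mp he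
  exact (commTerms_lvl D C.hD (lvlF D []) (fun v hv => isAdditiveAt_lvlF_of_mem D C.hD [] v hv) r s hr hs c hc).1

theorem zd_mem_center {r s : ℕ} (hr : r < D.nroots) (hs : s < D.nroots) (h1 : s ≠ r) (h2 : s ≠ D.neg r) (t u : K) :
    Zd D Y r s t u ∈ Subgroup.center E := by
  apply C.S.central
  have hA : IsLift π₁ σ (Y r t * Y s u * wordG Y (D.commWord K r s t u))
      (X r t * X s u * wordG X (D.commWord K r s t u)) :=
    ((C.isLift r hr t).mul (C.isLift s hs u)).mul (C.isLift_wordG _ (C.commWord_lt hr hs t u))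
  have hB : IsLift π₁ σ (Y s u * Y r t) (X s u * X r t) := (C.isLift s hs u).mul (C.isLift r hr t)
  unfold Zd
  rw [MonoidHom.mem_ker, map_mul, map_inv, hA, hB, C.O.comm r s hr hs h1 h2 t u, inv_mul_cancel]

/-- the defect is invariant under the torus -/
theorem zd_inv {r s : ℕ} (hr : r < D.nroots) (hs : s < D.nroots) (h1 : s ≠ r) (h2 : s ≠ D.neg r)
    (m : List ℤ) (v : K) (hv : v ≠ 0) (t u : K) :
    Zd D Y r s (v ^ lvlF D m r * t) (v ^ lvlF D m s * u) = Zd D Y r s t u := by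
  have he := C.S.lift_spec (tor D X m v)
  set e := C.S.lift (tor D X m v)
  have h3 := Setup.conj_of_mem_center (C.zd_mem_center hr hs h1 h2 t u) e
  rw [← h3]
  unfold Zd
  have e1 : ∀ x y z p q : E, e * ((x * y * z)⁻¹ * (p * q)) * e⁻¹ =
      ((e * x * e⁻¹) * (e * y * e⁻¹) * (e * z * e⁻¹))⁻¹ * ((e * p * e⁻¹) * (e * q * e⁻¹)) := fun x y z p q => by group
  rw [e1, C.conj m v hv e he r hr, C.conj m v hv e he s hs]
  have h4 := C.conj_wordG m v hv he r s t u (D.commTerms r s) (fun c hc => by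
    have := commTerms_lvl D C.hD (lvlF D m) (fun v hv => isAdditiveAt_lvlF_of_mem D C.hD m v hv) r s hr hs c hc
    exact ⟨this.1, this.2.1⟩)
  unfold ChevalleyDatum.commWord
  rw [h4]

/-- additivity in the first variable kills the defect -/
theorem zd_eq_one_of_add_left {r s : ℕ} (hr : r < D.nroots) (hs : s < D.nroots) (h1 : s ≠ r) (h2 : s ≠ D.neg r)
    (tor : TorN n D s r)
    (hadd' : ∀ t t' u : K, Zd D Y r s (t + t') u = Zd D Y r s t u * Zd D Y r s t' u)
    (t u : K) : Zd D Y r s t u = 1 := by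
  obtain ⟨m, m1, m2⟩ := tor
  obtain ⟨v, hv0, hvd⟩ := C.hv
  apply add_trick' (fun t => Zd D Y r s t u) (fun t t' => hadd' t t' u) _ (hvd _ m2)
  intro t
  have := C.zd_inv hr hs h1 h2 m v hv0 t u
  rw [m1, zpow_zero, one_mul] at this
  exact this

/-- additivity in the second variable kills the defect -/
theorem zd_eq_one_of_add_right {r s : ℕ} (hr : r < D.nroots) (hs : s < D.nroots) (h1 : s ≠ r) (h2 : s ≠ D.neg r)
    (tor : TorN n D r s)
    (hadd' : ∀ t u u' : K, Zd D Y r s t (u + u') = Zd D Y r s t u * Zd D Y r s t u')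
    (t u : K) : Zd D Y r s t u = 1 := by
  obtain ⟨m, m1, m2⟩ := tor
  obtain ⟨v, hv0, hvd⟩ := C.hv
  apply add_trick' (fun u => Zd D Y r s t u) (fun u u' => hadd' t u u') _ (hvd _ m2)
  intro u
  have := C.zd_inv hr hs h1 h2 m v hv0 t u
  rw [m1, zpow_zero, one_mul] at this
  exact this

/-- the relation from the vanishing of the defect -/
theorem rel_of_zd {r s : ℕ} (t u : K) (h : Zd D Y r s t u = 1) :
    Y s u * Y r t = Y r t * Y s u * wordG Y (D.commWord K r s t u) := by
  have := zd_rel (D := D) Y r s t u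
  rw [h, mul_one] at this
  exact this

open Cfsg.Agent.Helper10.UcColl in
/-- one-term commutator formulas -/
theorem zd_n1 {r s : ℕ} (hr : r < D.nroots) (hs : s < D.nroots) (h1 : s ≠ r) (h2 : s ≠ D.neg r)
    (m1 : ℕ) (C1 : ℤ) (h : D.commTerms r s = [(m1, C1, 1, 1)]) (c1 : CP D r m1) (tor : TorN n D s r) (t u : K) :
    Zd D Y r s t u = 1 := by
  have hW : ∀ t u : K, wordG Y (D.commWord K r s t u) = Y m1 ((C1 : K) * -t * u) := by
    intro t u
    unfold ChevalleyDatum.commWord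
    rw [h]
    simp only [List.map_cons, List.map_nil, wordG, List.prod_cons, List.prod_nil, mul_one, pow_one]
  apply C.zd_eq_one_of_add_left hr hs h1 h2 tor
  intro t t' u
  apply z_add_left (Y r) (Y s) (fun t u => wordG Y (D.commWord K r s t u)) (Zd D Y r s)
    (fun t t' => C.add r hr t t') (fun t u => zd_rel Y r s t u)
    (fun t u => C.zd_mem_center hr hs h1 h2 t u)
  intro t t' u
  simp only [hW]
  rw [ci_n1 (Y m1) (Y r) (fun x y => C.add m1 c1.2.1 x y) (fun x y => (C.comm _ _ c1 y x).symm)]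
  congr 1
  ring

open Cfsg.Agent.Helper10.UcColl in
theorem zd_n2a {r s : ℕ} (hr : r < D.nroots) (hs : s < D.nroots) (h1 : s ≠ r) (h2 : s ≠ D.neg r)
    (m1 m2 : ℕ) (C1 C2 : ℤ) (h : D.commTerms r s = [(m1, C1, 1, 1), (m2, C2, 1, 2)])
    (c1 : CP D r m1) (c2 : CP D r m2) (c12 : CP D m1 m2) (tor : TorN n D s r) (t u : K) :
    Zd D Y r s t u = 1 := by
  have hW : ∀ t u : K, wordG Y (D.commWord K r s t u) =
      Y m1 ((C1 : K) * -t * u) * Y m2 ((C2 : K) * -t * u ^ 2) := by
    intro t u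
    unfold ChevalleyDatum.commWord
    rw [h]
    simp only [List.map_cons, List.map_nil, wordG, List.prod_cons, List.prod_nil, mul_one, pow_one]
  apply C.zd_eq_one_of_add_left hr hs h1 h2 tor
  intro t t' u
  apply z_add_left (Y r) (Y s) (fun t u => wordG Y (D.commWord K r s t u)) (Zd D Y r s)
    (fun t t' => C.add r hr t t') (fun t u => zd_rel Y r s t u)
    (fun t u => C.zd_mem_center hr hs h1 h2 t u)
  intro t t' u
  simp only [hW]
  rw [ci_n2a (Y m1) (Y m2) (Y r) (fun x y => C.add m1 c1.2.1 x y) (fun x y => C.add m2 c2.2.1 x y)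
    (fun x y => (C.comm _ _ c1 y x).symm) (fun x y => (C.comm _ _ c2 y x).symm)
    (fun x y => C.comm _ _ c12 x y)]
  have e1 : (C1 : K) * -t' * u + (C1 : K) * -t * u = (C1 : K) * -(t + t') * u := by ring
  have e2 : (C2 : K) * -t' * u ^ 2 + (C2 : K) * -t * u ^ 2 = (C2 : K) * -(t + t') * u ^ 2 := by ring
  rw [e1, e2]

open Cfsg.Agent.Helper10.UcColl in
theorem zd_n2b {r s : ℕ} (hr : r < D.nroots) (hs : s < D.nroots) (h1 : s ≠ r) (h2 : s ≠ D.neg r)
    (m1 m2 : ℕ) (C1 C2 : ℤ) (h : D.commTerms r s = [(m1, C1, 1, 1), (m2, C2, 2, 1)])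
    (c1 : CP D s m1) (c2 : CP D s m2) (c12 : CP D m1 m2) (tor : TorN n D r s) (t u : K) :
    Zd D Y r s t u = 1 := by
  have hW : ∀ t u : K, wordG Y (D.commWord K r s t u) =
      Y m1 ((C1 : K) * -t * u) * Y m2 ((C2 : K) * (-t) ^ 2 * u) := by
    intro t u
    unfold ChevalleyDatum.commWord
    rw [h]
    simp only [List.map_cons, List.map_nil, wordG, List.prod_cons, List.prod_nil, mul_one, pow_one]
  apply C.zd_eq_one_of_add_right hr hs h1 h2 tor
  intro t u u'
  apply z_add_right (Y r) (Y s) (fun t u => wordG Y (D.commWord K r s t u)) (Zd D Y r s)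
    (fun u u' => C.add s hs u u') (fun t u => zd_rel Y r s t u)
    (fun t u => C.zd_mem_center hr hs h1 h2 t u)
  intro t u u'
  simp only [hW]
  rw [ci_n2b (Y m1) (Y m2) (Y s) (fun x y => C.add m1 c1.2.1 x y) (fun x y => C.add m2 c2.2.1 x y)
    (fun x y => (C.comm _ _ c1 y x).symm) (fun x y => (C.comm _ _ c2 y x).symm)
    (fun x y => C.comm _ _ c12 x y)]
  have e1 : (C1 : K) * -t * u + (C1 : K) * -t * u' = (C1 : K) * -t * (u + u') := by ring
  have e2 : (C2 : K) * (-t) ^ 2 * u + (C2 : K) * (-t) ^ 2 * u' = (C2 : K) * (-t) ^ 2 * (u + u') := by ring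
  rw [e1, e2]

/-- **the lifts satisfy Steinberg's relations (R1), (R2)** -/
theorem rels : Rels D Y where
  add := fun r hr t u => C.add r hr t u
  comm := by
    intro r s hr hs h1 h2 t u
    apply C.rel_of_zd t u
    rcases C.HD.pair r s hr hs h1 h2 with ⟨h', -⟩ | ⟨m1, C1, h', c1, tor⟩ |
      ⟨m1, m2, C1, C2, h', c1, c2, c12, tor⟩ | ⟨m1, m2, C1, C2, h', c1, c2, c12, tor⟩
    · unfold Zd ChevalleyDatum.commWord
      rw [h']
      simp only [List.map_nil, wordG, List.prod_nil, mul_one]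
      rw [(C.comm _ _ ⟨hr, hs, h1, h2, h'⟩ t u).eq, inv_mul_cancel]
    · exact C.zd_n1 hr hs h1 h2 m1 C1 h' c1 tor t u
    · exact C.zd_n2a hr hs h1 h2 m1 m2 C1 C2 h' c1 c2 c12 tor t u
    · exact C.zd_n2b hr hs h1 h2 m1 m2 C1 C2 h' c1 c2 c12 tor t u

end YCtx

end

end Cfsg.Agent.Helper40.Hy
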