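import Cfsg.Agent.Helper40.HyMain

/-!
Helper40: small fields, step A: lifts of commuting root elements commute (torus argument or commutator argument),
and the two constructions of the system of lifts: lifted commutators with torus elements (fields with an element
`a ≠ 0`, `a² ≠ 1`) and lifted commutators of root elements (fields with three elements).
-/

set_option autoImplicit false
set_option linter.unusedSectionVars false

namespace Cfsg.Agent.Helper40.Hy

open Cfsg Cfsg.Lie Cfsg.Agent.Helper18 Cfsg.Agent.Helper40.ChevAdd Cfsg.Agent.Helper40.St Cfsg.Agent.Helper40.LC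
  Cfsg.Agent.Helper40.Uc

section
variable {Δ G₁ E : Type*} [Group Δ] [Group G₁] [Group E] {π₁ : E →* G₁} {σ : Δ →* G₁}

theorem lc_inv_left_of_comm (S : Setup π₁ σ) {g h : Δ} (hc : Commute (S.lift g) (S.lc g h)) :
    S.lc g⁻¹ h = (S.lc g h)⁻¹ := by
  rw [S.lc_eq (S.lift_spec g).inv (S.lift_spec h), inv_inv]
  have e : (S.lift g)⁻¹ * S.lift h * S.lift g * (S.lift h)⁻¹ = (S.lift g)⁻¹ * (S.lc g h)⁻¹ * S.lift g := by
    unfold Setup.lc
    group
  rw [e, mul_assoc, ← hc.inv_right.eq, inv_mul_cancel_left]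

theorem lc_inv_right_of_comm (S : Setup π₁ σ) {g h : Δ} (hc : Commute (S.lift h) (S.lc g h)) :
    S.lc g h⁻¹ = (S.lc g h)⁻¹ := by
  rw [S.lc_eq (S.lift_spec g) (S.lift_spec h).inv, inv_inv]
  have e : S.lift g * (S.lift h)⁻¹ * (S.lift g)⁻¹ * S.lift h = (S.lift h)⁻¹ * (S.lc g h)⁻¹ * S.lift h := by
    unfold Setup.lc
    group
  rw [e, mul_assoc, ← hc.inv_right.eq, inv_mul_cancel_left]

end

section
variable {K : Type*} [Field K] {D : ChevalleyDatum} {Γ : Type*} [Group Γ] {X : ℕ → K → Γ}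
  {hadd : ChevAdd.addOK D = true} {π : Γ →* GL D.Idx K}
  {G₁ E : Type*} [Group G₁] [Group E] {π₁ : E →* G₁} {σ : Γ →* G₁}

/-- the context of the lifting problem over a small field -/
structure BCtx (n : ℕ) (two : Bool) (D : ChevalleyDatum) (hadd : ChevAdd.addOK D = true) (X : ℕ → K → Γ)
    (π : Γ →* GL D.Idx K) (π₁ : E →* G₁) (σ : Γ →* G₁) : Prop where
  hD : D ∈ [chevG2, chevB2, chevD4, chevF4, chevE6, chevE7, chevE8]
  O : Over D hadd X π
  gen : Subgroup.closure {g | ∃ r < D.nroots, ∃ t : K, g = X r t} = ⊤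
  S : Setup π₁ σ
  HD : HyData n two D
  hv : ∃ v : K, v ≠ 0 ∧ ∀ d : ℤ, ¬ (n : ℤ) ∣ d → v ^ d ≠ 1
  hU : ∀ C : ℤ, UnitC two C → (C : K) ≠ 0

namespace BCtx

variable {n : ℕ} {two : Bool} (C : BCtx n two D hadd X π π₁ σ)
include C

theorem commute_X {a b : ℕ} (h : CP D a b) (t u : K) : Commute (X a t) (X b u) := by
  have := C.O.comm a b h.1 h.2.1 h.2.2.1 h.2.2.2.1 t u
  unfold ChevalleyDatum.commWord at this
  rw [h.2.2.2.2] at this
  simp only [List.map_nil, wordG, List.prod_nil, mul_one] at this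
  exact this.symm

/-- the commutator of two root elements whose roots add up to a root (one-term formula) -/
theorem comm_ex1 {a b m : ℕ} {C' : ℤ} (h : EX1 D a b m C') (t u : K) :
    X b u * X a t * (X b u)⁻¹ * (X a t)⁻¹ = X m (-((C' : K) * t * u)) := by
  have h1 := C.O.comm a b h.1 h.2.1 h.2.2.1 h.2.2.2.1 (-t) (-u)
  unfold ChevalleyDatum.commWord at h1
  rw [h.2.2.2.2] at h1
  simp only [List.map_cons, List.map_nil, wordG, List.prod_cons, List.prod_nil, mul_one, pow_one] at h1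
  rw [C.O.toRels.X_neg a h.1, C.O.toRels.X_neg b h.2.1] at h1
  have e : (C' : K) * - -t * -u = -((C' : K) * t * u) := by ring
  rw [e] at h1
  calc X b u * X a t * (X b u)⁻¹ * (X a t)⁻¹ = X b u * X a t * ((X b u)⁻¹ * (X a t)⁻¹) := by group
    _ = X b u * X a t * ((X a t)⁻¹ * (X b u)⁻¹ * X m (-((C' : K) * t * u))) := by rw [h1]
    _ = _ := by group

/-- `x_m(y)` as a commutator of root elements -/
theorem comm_ex1' {a b m : ℕ} {C' : ℤ} (h : EX1 D a b m C') (hC : UnitC two C') (y : K) :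
    X b 1 * X a (-(C' : K)⁻¹ * y) * (X b 1)⁻¹ * (X a (-(C' : K)⁻¹ * y))⁻¹ = X m y := by
  rw [C.comm_ex1 h]
  congr 1
  have := C.hU C' hC
  field_simp

/-- lifts of `x_r(t)` and `x_s(u)` commute when `r = p + q` with `p`, `q` commuting with `s` -/
theorem lc_of_decU {r s : ℕ} (h : DecU two D r s) (t u : K) : C.S.lc (X r t) (X s u) = 1 := by
  obtain ⟨p, q, C', hex, hC, cp, cq⟩ := h
  rw [← C.comm_ex1' hex hC t]
  exact C.S.lc_comm_trick (C.commute_X cq 1 u) (C.commute_X cp _ u)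

/-- conjugation by a lift of a torus element -/
theorem conj_lc_tor (m : List ℤ) (v : K) (hv : v ≠ 0) {e : E} (he : IsLift π₁ σ e (tor D X m v))
    {a b : ℕ} (ha : a < D.nroots) (hb : b < D.nroots) (t u : K) :
    e * C.S.lc (X a t) (X b u) * e⁻¹ = C.S.lc (X a (v ^ lvlF D m a * t)) (X b (v ^ lvlF D m b * u)) := by
  rw [C.S.conj_lc he, tor_act C.hD C.O m v hv a ha, tor_act C.hD C.O m v hv b hb]

/-- lifts of commuting root elements commute when a torus element separates the roots -/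
theorem lc_of_torN {a b : ℕ} (ha : a < D.nroots) (hb : b < D.nroots) (h : TorN n D a b)
    (hc : ∀ t u : K, Commute (X a t) (X b u)) (t u : K) : C.S.lc (X a t) (X b u) = 1 := by
  obtain ⟨m, h1, h2⟩ := h
  obtain ⟨v, hv0, hvd⟩ := C.hv
  have hinv : ∀ u : K, C.S.lc (X a t) (X b (v ^ lvlF D m b * u)) = C.S.lc (X a t) (X b u) := by
    intro u
    have h4 := C.conj_lc_tor m v hv0 (C.S.lift_spec _) ha hb t u
    rw [Setup.conj_of_mem_center (C.S.lc_mem_center (hc t u)), h1, zpow_zero, one_mul] at h4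
    exact h4.symm
  have hadd' : ∀ u u' : K, C.S.lc (X a t) (X b (u + u')) = C.S.lc (X a t) (X b u) * C.S.lc (X a t) (X b u') := by
    intro u u'
    rw [C.O.add b hb, C.S.lc_mul_right (hc t u')]
  exact add_trick' (fun u => C.S.lc (X a t) (X b u)) hadd' _ (hvd _ h2) hinv u

/-- lifts of commuting root elements of different roots commute -/
theorem lc_cp {a b : ℕ} (h : CP D a b) (t u : K) : C.S.lc (X a t) (X b u) = 1 := by
  rcases C.HD.pair a b h.1 h.2.1 h.2.2.1 h.2.2.2.1 with ⟨-, w⟩ | ⟨_, _, hL, -, -⟩ | ⟨_, _, _, _, hL, -, -, -, -⟩ |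
    ⟨_, _, _, _, hL, -, -, -, -⟩
  · rcases w with (w | w) | (w | w)
    · exact C.lc_of_torN h.1 h.2.1 w (fun t u => C.commute_X h t u) t u
    · rw [C.S.lc_swap, C.lc_of_torN h.2.1 h.1 w (fun u t => (C.commute_X h t u).symm) u t, inv_one]
    · exact C.lc_of_decU w t u
    · rw [C.S.lc_swap, C.lc_of_decU w u t, inv_one]
  all_goals (rw [h.2.2.2.2] at hL; cases hL)

/-- lifts of root elements of the same root commute -/
theorem lc_self {r : ℕ} (hr : r < D.nroots) (t u : K) : C.S.lc (X r t) (X r u) = 1 :=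
  C.lc_of_decU (C.HD.self r hr) t u

/-- the group is perfect -/
theorem perf : commutator Γ = ⊤ := by
  rw [eq_top_iff, ← C.gen, Subgroup.closure_le]
  rintro g ⟨r, hr, t, rfl⟩
  obtain ⟨p, q, C', hex, hC, -, -⟩ := C.HD.self r hr
  have h3 := Subgroup.commutator_mem_commutator (H₁ := (⊤ : Subgroup Γ)) (H₂ := (⊤ : Subgroup Γ))
    (Subgroup.mem_top (X q 1)) (Subgroup.mem_top (X p (-(C' : K)⁻¹ * t)))
  rw [commutatorElement_def] at h3
  rw [← C.comm_ex1' hex hC t, commutator_def]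
  exact h3

end BCtx

end

end Cfsg.Agent.Helper40.Hy
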