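import Cfsg.Agent.Helper40.HyStepA

/-!
Helper40: small fields: the two constructions of the system of lifts of the root elements, and the resulting
relations (R1), (R2) among the lifts.
-/

set_option autoImplicit false
set_option linter.unusedSectionVars false

namespace Cfsg.Agent.Helper40.Hy

open Cfsg Cfsg.Lie Cfsg.Agent.Helper18 Cfsg.Agent.Helper40.ChevAdd Cfsg.Agent.Helper40.St Cfsg.Agent.Helper40.LC
  Cfsg.Agent.Helper40.Uc

section
variable {K : Type*} [Field K] {D : ChevalleyDatum} {Γ : Type*} [Group Γ] {X : ℕ → K → Γ}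
  {hadd : ChevAdd.addOK D = true} {π : Γ →* GL D.Idx K}
  {G₁ E : Type*} [Group G₁] [Group E] {π₁ : E →* G₁} {σ : Γ →* G₁}

namespace BCtx

variable {n : ℕ} {two : Bool} (C : BCtx n two D hadd X π π₁ σ)
include C

/-- **construction by torus elements**: the lifts `Y r t = [h̃_r(a), x̃_r(t / (a² - 1))]` -/
theorem yctx_tor (a : K) (ha : a ≠ 0) (ha2 : a * a ≠ 1) : YCtx n two D hadd X π π₁ σ (Uc.Y C.S D X a) := by
  have hlift : ∀ r, r < D.nroots → ∀ t : K, IsLift π₁ σ (Uc.Y C.S D X a r t) (X r t) := by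
    intro r hr t
    have := C.S.isLift_lc (torC D X r a) (X r (t / (a * a - 1)))
    rwa [torC_comm_eq C.hD C.O a ha ha2 r hr t] at this
  have hself : ∀ r, r < D.nroots → ∀ t u : K, Commute (Uc.Y C.S D X a r t) (Uc.Y C.S D X a r u) :=
    fun r hr t u => C.S.commute_of_lc_eq_one (C.lc_self hr t u) (hlift r hr t) (hlift r hr u)
  refine ⟨C.hD, C.O, C.S, C.HD, C.hv, hlift, ?_, ?_, ?_⟩
  · intro r hr t u
    have h1 : Uc.Y C.S D X a r (t + u) = Uc.Y C.S D X a r t *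
        (Uc.Y C.S D X a r (t / (a * a - 1)) * Uc.Y C.S D X a r u * (Uc.Y C.S D X a r (t / (a * a - 1)))⁻¹) := by
      conv_lhs => unfold Uc.Y
      rw [add_div, C.O.add r hr, C.S.lc_mul_right' (hlift r hr (t / (a * a - 1)))]
      rfl
    rw [h1, (hself r hr (t / (a * a - 1)) u).eq, mul_inv_cancel_right]
  · intro m v hv e he r hr t
    unfold Uc.Y
    rw [C.S.conj_lc he, tor_act C.hD C.O m v hv r hr]
    have hζ : tor D X m v * torC D X r a * (tor D X m v)⁻¹ * (torC D X r a)⁻¹ ∈ Subgroup.center Γ :=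
      comm_tor_mem_center C.hD C.O C.gen m _ v a hv ha
    have e1 : tor D X m v * torC D X r a * (tor D X m v)⁻¹ =
        (tor D X m v * torC D X r a * (tor D X m v)⁻¹ * (torC D X r a)⁻¹) * torC D X r a := by group
    rw [e1, C.S.lc_center_mul C.perf hζ, mul_div_assoc]
  · intro p q h t u
    exact C.S.commute_of_lc_eq_one (C.lc_cp h t u) (hlift p h.1 t) (hlift q h.2.1 u)

/-- a choice of a decomposition `r = p + q` for every root -/
theorem exists_hub : ∃ f : ℕ → ℕ × ℕ × ℤ, ∀ r, r < D.nroots →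
    EX1 D (f r).1 (f r).2.1 r (f r).2.2 ∧ UnitC two (f r).2.2 ∧ CP D (f r).1 r ∧ CP D (f r).2.1 r := by
  have h : ∀ r, ∃ x : ℕ × ℕ × ℤ, r < D.nroots →
      EX1 D x.1 x.2.1 r x.2.2 ∧ UnitC two x.2.2 ∧ CP D x.1 r ∧ CP D x.2.1 r := by
    intro r
    by_cases hr : r < D.nroots
    · obtain ⟨p, q, C', h1, h2, h3, h4⟩ := C.HD.self r hr
      exact ⟨(p, q, C'), fun _ => ⟨h1, h2, h3, h4⟩⟩
    · exact ⟨(0, 0, 0), fun h' => absurd h' hr⟩
  choose f hf using h
  exact ⟨f, hf⟩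

/-- **construction by commutators of root elements** (fields whose non-zero elements are `± 1`) -/
theorem yctx_comm (hpm : ∀ w : K, w ≠ 0 → w = 1 ∨ w = -1) (f : ℕ → ℕ × ℕ × ℤ)
    (hf : ∀ r, r < D.nroots →
      EX1 D (f r).1 (f r).2.1 r (f r).2.2 ∧ UnitC two (f r).2.2 ∧ CP D (f r).1 r ∧ CP D (f r).2.1 r) :
    YCtx n two D hadd X π π₁ σ
      (fun r t => C.S.lc (X (f r).2.1 1) (X (f r).1 (-(((f r).2.2 : ℤ) : K)⁻¹ * t))) := by
  -- the lifted commutators of the chosen decomposition are lifts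
  have hF : ∀ r, r < D.nroots → ∀ x : K, IsLift π₁ σ (C.S.lc (X (f r).2.1 1) (X (f r).1 x))
      (X r (-((((f r).2.2 : ℤ) : K) * x * 1))) := by
    intro r hr x
    have := C.S.isLift_lc (X (f r).2.1 1) (X (f r).1 x)
    rwa [C.comm_ex1 (hf r hr).1] at this
  have hlift : ∀ r, r < D.nroots → ∀ t : K,
      IsLift π₁ σ (C.S.lc (X (f r).2.1 1) (X (f r).1 (-(((f r).2.2 : ℤ) : K)⁻¹ * t))) (X r t) := by
    intro r hr t
    have := C.S.isLift_lc (X (f r).2.1 1) (X (f r).1 (-(((f r).2.2 : ℤ) : K)⁻¹ * t))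
    rwa [C.comm_ex1' (hf r hr).1 (hf r hr).2.1 t] at this
  -- lifts of `x_p`, `x_q` commute with them
  have hcp : ∀ r, r < D.nroots → ∀ x y : K,
      Commute (C.S.lift (X (f r).1 y)) (C.S.lc (X (f r).2.1 1) (X (f r).1 x)) := fun r hr x y =>
    C.S.commute_of_lc_eq_one (C.lc_cp (hf r hr).2.2.1 y _) (C.S.lift_spec _) (hF r hr x)
  have hcq : ∀ r, r < D.nroots → ∀ x y : K,
      Commute (C.S.lift (X (f r).2.1 y)) (C.S.lc (X (f r).2.1 1) (X (f r).1 x)) := fun r hr x y =>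
    C.S.commute_of_lc_eq_one (C.lc_cp (hf r hr).2.2.2 y _) (C.S.lift_spec _) (hF r hr x)
  refine ⟨C.hD, C.O, C.S, C.HD, C.hv, hlift, ?_, ?_, ?_⟩
  · intro r hr t u
    show C.S.lc _ (X (f r).1 (-(((f r).2.2 : ℤ) : K)⁻¹ * (t + u))) = _
    rw [mul_add, C.O.add _ (hf r hr).1.1, C.S.lc_mul_right' (C.S.lift_spec _), (hcp r hr _ _).eq,
      mul_inv_cancel_right]
  · intro m v hv e he r hr t
    obtain ⟨hex, hC, cp, cq⟩ := hf r hr
    have hp := hex.1
    have hq := hex.2.1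
    show e * C.S.lc (X (f r).2.1 1) (X (f r).1 (-(((f r).2.2 : ℤ) : K)⁻¹ * t)) * e⁻¹ =
      C.S.lc (X (f r).2.1 1) (X (f r).1 (-(((f r).2.2 : ℤ) : K)⁻¹ * (v ^ lvlF D m r * t)))
    rw [C.conj_lc_tor m v hv he hq hp]
    have hl := (commTerms_lvl D C.hD (lvlF D m) (fun v hv => isAdditiveAt_lvlF_of_mem D C.hD m v hv) _ _ hp hq
      (r, (f r).2.2, 1, 1) (by rw [hex.2.2.2.2]; exact List.mem_singleton.mpr rfl)).2.1
    simp only [Nat.cast_one, one_mul] at hl
    rw [hl, zpow_add₀ hv]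
    rcases hpm (v ^ lvlF D m (f r).2.1) (zpow_ne_zero _ hv) with hw | hw
    · rw [hw, mul_one, mul_one]
      congr 2
      ring
    · rw [hw]
      have e1 : (-1 : K) * 1 = -1 := by ring
      rw [e1, C.O.toRels.X_neg _ hq, lc_inv_left_of_comm C.S (hcq r hr _ 1),
        ← lc_inv_right_of_comm C.S (hcp r hr _ _), ← C.O.toRels.X_neg _ hp]
      congr 2
      ring
  · intro p q h t u
    exact C.S.commute_of_lc_eq_one (C.lc_cp h t u) (hlift p h.1 t) (hlift q h.2.1 u)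

end BCtx

end

end Cfsg.Agent.Helper40.Hy
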