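import Cfsg.Agent.Helper40.LC
import Cfsg.Agent.Helper40.StCover
import Cfsg.Agent.S1077
import Cfsg.Prelude.Def_KGroupFacts

/-!
Helper40: from central closedness of the presented group to the Schur multiplier of the finite Chevalley group:
the presented (universal) group is a finite perfect centrally closed group mapping onto the Chevalley group with
kernel its centre, so the multiplier is that centre.
-/

set_option autoImplicit false

namespace Cfsg.Agent.Helper40.Sl

open Cfsg Cfsg.Lie Cfsg.Agent.Helper40.St Cfsg.Agent.Helper40.LC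

universe u v

/-- a finite perfect central extension `Δ` of `G` through which every central extension of `G` factors computes the
Schur multiplier of `G` -/
theorem hasSchurMultiplier_of_universal {G : Type u} [Group G] {Δ : Type u} [Group Δ] [Finite Δ] (θ : Δ →* G)
    (hθ : Function.Surjective θ) (hker : θ.ker ≤ Subgroup.center Δ) (hperf : commutator Δ = ⊤)
    (huniv : ∀ (E : Type u) [Group E] (π₁ : E →* G), Function.Surjective π₁ → π₁.ker ≤ Subgroup.center E →
      ∃ τ : Δ →* E, π₁.comp τ = θ)
    {A : Type v} [CommGroup A] (e : θ.ker ≃* A) : Cfsg.HasSchurMultiplier G A := by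
  refine ⟨⟨Δ, inferInstance, inferInstance, θ, ⟨hθ, hker, by rw [hperf]; exact le_top⟩, ⟨e⟩⟩, ?_⟩
  intro Γ _ _ σ hσ
  obtain ⟨hσs, hσc, hσd⟩ := hσ
  obtain ⟨τ, hτ⟩ := huniv Γ σ hσs hσc
  have hτ' : ∀ d : Δ, σ (τ d) = θ d := fun d => DFunLike.congr_fun hτ d
  -- every element is a central element times an element of the range of `τ`
  have hdec : ∀ x : Γ, ∃ z ∈ σ.ker, ∃ d : Δ, x = τ d * z := by
    intro x
    obtain ⟨d, hd⟩ := hθ (σ x)
    refine ⟨(τ d)⁻¹ * x, ?_, d, by group⟩
    rw [MonoidHom.mem_ker, map_mul, map_inv, hτ', hd, inv_mul_cancel]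
  -- the commutator subgroup lies in the range of `τ`
  have hcomm : commutator Γ ≤ τ.range := by
    rw [commutator_def, Subgroup.commutator_le]
    intro x _ y _
    obtain ⟨z, hz, d, rfl⟩ := hdec x
    obtain ⟨w, hw, d', rfl⟩ := hdec y
    rw [commutatorElement_def, comm_central (τ d) (τ d') z w (hσc hz) (hσc hw)]
    exact ⟨d * d' * d⁻¹ * d'⁻¹, by simp only [map_mul, map_inv]⟩
  have hsurj : ∀ z ∈ σ.ker, ∃ d ∈ θ.ker, τ d = z := by
    intro z hz
    obtain ⟨d, hd⟩ := hcomm (hσd hz)
    refine ⟨d, ?_, hd⟩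
    rw [MonoidHom.mem_ker, ← hτ', hd]
    exact hz
  have hmem : ∀ d : θ.ker, (τ.comp θ.ker.subtype) d ∈ σ.ker := by
    intro d
    rw [MonoidHom.mem_ker, MonoidHom.comp_apply, hτ']
    exact d.2
  refine ⟨((τ.comp θ.ker.subtype).codRestrict σ.ker hmem).comp e.symm.toMonoidHom, ?_⟩
  intro z
  obtain ⟨d, hd, hdz⟩ := hsurj z.1 z.2
  refine ⟨e ⟨d, hd⟩, ?_⟩
  apply Subtype.ext
  simp only [MonoidHom.comp_apply, MulEquiv.coe_toMonoidHom, MulEquiv.symm_apply_apply, MonoidHom.codRestrict_apply,
    Subgroup.coe_subtype]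
  exact hdz

/-- a group whose order divides a prime is cyclic -/
theorem isCyclic_of_card_dvd_prime {G : Type*} [Group G] {p : ℕ} (hp : p.Prime) (h : Nat.card G ∣ p) : IsCyclic G := by
  rcases (Nat.dvd_prime hp).mp h with h1 | h1
  · have := (Nat.card_eq_one_iff_unique.mp h1).1
    exact isCyclic_of_subsingleton
  · have : Fact p.Prime := ⟨hp⟩
    exact isCyclic_of_prime_card h1

/-- the multiplier of a finite Chevalley group is the centre of the presented group, when the group presented by
(R1), (R2) is perfect and centrally closed and that centre has order dividing a prime -/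
theorem hasCyclicSchurMultiplier_of_lift {F : Type u} [Field F] [Fintype F] (D : ChevalleyDatum)
    (hD7 : D ∈ [chevG2, chevB2, chevD4, chevF4, chevE6, chevE7, chevE8])
    (hperfC : commutator (D.SteinbergCover F) = ⊤)
    (hlift : ∀ (E : Type u) [Group E] (π₁ : E →* ↥(D.group F)), Function.Surjective π₁ →
      π₁.ker ≤ Subgroup.center E → ∀ σ : D.SteinbergCover F →* ↥(D.group F),
      ∃ τ : D.SteinbergCover F →* E, π₁.comp τ = σ)
    (n p : ℕ) (hp : p.Prime) (hn : n ∣ p)
    (hcard : Nat.card (Subgroup.center (D.SteinbergGroup F)) = n) :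
    Cfsg.HasCyclicSchurMultiplier ↥(D.group F) n := by
  obtain ⟨θ, hθ, hker, -⟩ := Cfsg.Agent.S1077.result (K := F) D hD7
  obtain ⟨ε, -⟩ := cover_equiv (K := F) D hD7
  -- the presented group is perfect
  have hperf : commutator (D.SteinbergGroup F) = ⊤ := by
    have h1 := Subgroup.map_commutator (⊤ : Subgroup (D.SteinbergCover F)) ⊤ ε.toMonoidHom
    rw [← commutator_def, hperfC, ← MonoidHom.range_eq_map,
      MonoidHom.range_eq_top.mpr ε.surjective, ← commutator_def] at h1
    exact h1.symm
  -- and finite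
  have hn0 : n ≠ 0 := fun h0 => hp.ne_zero (Nat.eq_zero_of_zero_dvd (h0 ▸ hn))
  have : Finite (D.SteinbergGroup F) := by
    apply Nat.finite_of_card_ne_zero
    rw [← Subgroup.card_mul_index θ.ker, hker, hcard, ← hker, Subgroup.index_ker]
    have : Nat.card θ.range ≠ 0 := Nat.card_pos.ne'
    exact mul_ne_zero hn0 this
  -- the centre is cyclic of order `n`
  have hcyc : IsCyclic θ.ker := by
    apply isCyclic_of_card_dvd_prime hp
    rw [hker, hcard]
    exact hn
  have hcard' : Nat.card θ.ker = n := by rw [hker, hcard]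
  have e : θ.ker ≃* Multiplicative (ZMod n) := by
    have e0 := (zmodCyclicMulEquiv hcyc).symm
    rwa [hcard'] at e0
  apply hasSchurMultiplier_of_universal θ hθ (hker ▸ le_rfl) hperf _ e
  intro E _ π₁ hπ hc
  obtain ⟨τ, hτ⟩ := hlift E π₁ hπ hc (θ.comp ε.toMonoidHom)
  refine ⟨τ.comp ε.symm.toMonoidHom, ?_⟩
  refine MonoidHom.ext fun x => ?_
  have := DFunLike.congr_fun hτ (ε.symm x)
  simp only [MonoidHom.comp_apply, MulEquiv.coe_toMonoidHom, MulEquiv.apply_symm_apply] at this ⊢
  exact this

end Cfsg.Agent.Helper40.Sl
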