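import Cfsg.Agent.Helper40.SlRoots

/-! Helper40: the checks of `SlRoots` for `E7`, roots 0 to 41. -/

set_option autoImplicit false

namespace Cfsg.Agent.Helper40.Sl

open Cfsg Cfsg.Lie

set_option maxRecDepth 100000 in
theorem slqE7_0 : slChunk chevE7 0 6 = true := by decide +kernel

set_option maxRecDepth 100000 in
theorem slqE7_6 : slChunk chevE7 6 6 = true := by decide +kernel

set_option maxRecDepth 100000 in
theorem slqE7_12 : slChunk chevE7 12 6 = true := by decide +kernel

set_option maxRecDepth 100000 in
theorem slqE7_18 : slChunk chevE7 18 6 = true := by decide +kernel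

set_option maxRecDepth 100000 in
theorem slqE7_24 : slChunk chevE7 24 6 = true := by decide +kernel

set_option maxRecDepth 100000 in
theorem slqE7_30 : slChunk chevE7 30 6 = true := by decide +kernel

set_option maxRecDepth 100000 in
theorem slqE7_36 : slChunk chevE7 36 6 = true := by decide +kernel

theorem slqE7_all_0 : slChunk chevE7 0 42 = true :=
  (slChunk_add chevE7 0 6 36 slqE7_0 (slChunk_add chevE7 6 6 30 slqE7_6 (slChunk_add chevE7 12 6 24 slqE7_12 (slChunk_add chevE7 18 6 18 slqE7_18 (slChunk_add chevE7 24 6 12 slqE7_24 (slChunk_add chevE7 30 6 6 slqE7_30 slqE7_36))))))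

end Cfsg.Agent.Helper40.Sl
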