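import Cfsg.Agent.Helper40.SlRoots

/-! Helper40: the checks of `SlRoots` for `E7`, roots 42 to 83. -/

set_option autoImplicit false

namespace Cfsg.Agent.Helper40.Sl

open Cfsg Cfsg.Lie

set_option maxRecDepth 100000 in
theorem slqE7_42 : slChunk chevE7 42 6 = true := by decide +kernel

set_option maxRecDepth 100000 in
theorem slqE7_48 : slChunk chevE7 48 6 = true := by decide +kernel

set_option maxRecDepth 100000 in
theorem slqE7_54 : slChunk chevE7 54 6 = true := by decide +kernel

set_option maxRecDepth 100000 in
theorem slqE7_60 : slChunk chevE7 60 6 = true := by decide +kernel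

set_option maxRecDepth 100000 in
theorem slqE7_66 : slChunk chevE7 66 6 = true := by decide +kernel

set_option maxRecDepth 100000 in
theorem slqE7_72 : slChunk chevE7 72 6 = true := by decide +kernel

set_option maxRecDepth 100000 in
theorem slqE7_78 : slChunk chevE7 78 6 = true := by decide +kernel

theorem slqE7_all_42 : slChunk chevE7 42 42 = true :=
  (slChunk_add chevE7 42 6 36 slqE7_42 (slChunk_add chevE7 48 6 30 slqE7_48 (slChunk_add chevE7 54 6 24 slqE7_54 (slChunk_add chevE7 60 6 18 slqE7_60 (slChunk_add chevE7 66 6 12 slqE7_66 (slChunk_add chevE7 72 6 6 slqE7_72 slqE7_78))))))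

end Cfsg.Agent.Helper40.Sl
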