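import Cfsg.Agent.Helper40.SlRoots

/-! Helper40: the checks of `SlRoots` for `E7`, roots 84 to 125. -/

set_option autoImplicit false

namespace Cfsg.Agent.Helper40.Sl

open Cfsg Cfsg.Lie

set_option maxRecDepth 100000 in
theorem slqE7_84 : slChunk chevE7 84 6 = true := by decide +kernel

set_option maxRecDepth 100000 in
theorem slqE7_90 : slChunk chevE7 90 6 = true := by decide +kernel

set_option maxRecDepth 100000 in
theorem slqE7_96 : slChunk chevE7 96 6 = true := by decide +kernel

set_option maxRecDepth 100000 in
theorem slqE7_102 : slChunk chevE7 102 6 = true := by decide +kernel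

set_option maxRecDepth 100000 in
theorem slqE7_108 : slChunk chevE7 108 6 = true := by decide +kernel

set_option maxRecDepth 100000 in
theorem slqE7_114 : slChunk chevE7 114 6 = true := by decide +kernel

set_option maxRecDepth 100000 in
theorem slqE7_120 : slChunk chevE7 120 6 = true := by decide +kernel

theorem slqE7_all_84 : slChunk chevE7 84 42 = true :=
  (slChunk_add chevE7 84 6 36 slqE7_84 (slChunk_add chevE7 90 6 30 slqE7_90 (slChunk_add chevE7 96 6 24 slqE7_96 (slChunk_add chevE7 102 6 18 slqE7_102 (slChunk_add chevE7 108 6 12 slqE7_108 (slChunk_add chevE7 114 6 6 slqE7_114 slqE7_120))))))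

end Cfsg.Agent.Helper40.Sl
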