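import Cfsg.Agent.Helper40.SlRoots

/-! Helper40: the checks of `SlRoots` for `E8`, roots 0 to 19. -/

set_option autoImplicit false

namespace Cfsg.Agent.Helper40.Sl

open Cfsg Cfsg.Lie

set_option maxRecDepth 100000 in
theorem slqE8_0 : slChunk chevE8 0 4 = true := by decide +kernel

set_option maxRecDepth 100000 in
theorem slqE8_4 : slChunk chevE8 4 4 = true := by decide +kernel

set_option maxRecDepth 100000 in
theorem slqE8_8 : slChunk chevE8 8 4 = true := by decide +kernel

set_option maxRecDepth 100000 in
theorem slqE8_12 : slChunk chevE8 12 4 = true := by decide +kernel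

set_option maxRecDepth 100000 in
theorem slqE8_16 : slChunk chevE8 16 4 = true := by decide +kernel

theorem slqE8_all_0 : slChunk chevE8 0 20 = true :=
  (slChunk_add chevE8 0 4 16 slqE8_0 (slChunk_add chevE8 4 4 12 slqE8_4 (slChunk_add chevE8 8 4 8 slqE8_8 (slChunk_add chevE8 12 4 4 slqE8_12 slqE8_16))))

end Cfsg.Agent.Helper40.Sl
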