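import Cfsg.Agent.Helper40.SlRoots

/-! Helper40: the checks of `SlRoots` for `E8`, roots 20 to 39. -/

set_option autoImplicit false

namespace Cfsg.Agent.Helper40.Sl

open Cfsg Cfsg.Lie

set_option maxRecDepth 100000 in
theorem slqE8_20 : slChunk chevE8 20 4 = true := by decide +kernel

set_option maxRecDepth 100000 in
theorem slqE8_24 : slChunk chevE8 24 4 = true := by decide +kernel

set_option maxRecDepth 100000 in
theorem slqE8_28 : slChunk chevE8 28 4 = true := by decide +kernel

set_option maxRecDepth 100000 in
theorem slqE8_32 : slChunk chevE8 32 4 = true := by decide +kernel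

set_option maxRecDepth 100000 in
theorem slqE8_36 : slChunk chevE8 36 4 = true := by decide +kernel

theorem slqE8_all_20 : slChunk chevE8 20 20 = true :=
  (slChunk_add chevE8 20 4 16 slqE8_20 (slChunk_add chevE8 24 4 12 slqE8_24 (slChunk_add chevE8 28 4 8 slqE8_28 (slChunk_add chevE8 32 4 4 slqE8_32 slqE8_36))))

end Cfsg.Agent.Helper40.Sl
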