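import Cfsg.Agent.Helper40.SlRoots

/-! Helper40: the checks of `SlRoots` for `E8`, roots 220 to 239. -/

set_option autoImplicit false

namespace Cfsg.Agent.Helper40.Sl

open Cfsg Cfsg.Lie

set_option maxRecDepth 100000 in
theorem slqE8_220 : slChunk chevE8 220 4 = true := by decide +kernel

set_option maxRecDepth 100000 in
theorem slqE8_224 : slChunk chevE8 224 4 = true := by decide +kernel

set_option maxRecDepth 100000 in
theorem slqE8_228 : slChunk chevE8 228 4 = true := by decide +kernel

set_option maxRecDepth 100000 in
theorem slqE8_232 : slChunk chevE8 232 4 = true := by decide +kernel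

set_option maxRecDepth 100000 in
theorem slqE8_236 : slChunk chevE8 236 4 = true := by decide +kernel

theorem slqE8_all_220 : slChunk chevE8 220 20 = true :=
  (slChunk_add chevE8 220 4 16 slqE8_220 (slChunk_add chevE8 224 4 12 slqE8_224 (slChunk_add chevE8 228 4 8 slqE8_228 (slChunk_add chevE8 232 4 4 slqE8_232 slqE8_236))))

end Cfsg.Agent.Helper40.Sl
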