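import Cfsg.Agent.Helper40.SlRoots

/-! Helper40: the checks of `SlRoots` for `E8`, roots 40 to 59. -/

set_option autoImplicit false

namespace Cfsg.Agent.Helper40.Sl

open Cfsg Cfsg.Lie

set_option maxRecDepth 100000 in
theorem slqE8_40 : slChunk chevE8 40 4 = true := by decide +kernel

set_option maxRecDepth 100000 in
theorem slqE8_44 : slChunk chevE8 44 4 = true := by decide +kernel

set_option maxRecDepth 100000 in
theorem slqE8_48 : slChunk chevE8 48 4 = true := by decide +kernel

set_option maxRecDepth 100000 in
theorem slqE8_52 : slChunk chevE8 52 4 = true := by decide +kernel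

set_option maxRecDepth 100000 in
theorem slqE8_56 : slChunk chevE8 56 4 = true := by decide +kernel

theorem slqE8_all_40 : slChunk chevE8 40 20 = true :=
  (slChunk_add chevE8 40 4 16 slqE8_40 (slChunk_add chevE8 44 4 12 slqE8_44 (slChunk_add chevE8 48 4 8 slqE8_48 (slChunk_add chevE8 52 4 4 slqE8_52 slqE8_56))))

end Cfsg.Agent.Helper40.Sl
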