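import Cfsg.Agent.Helper40.SlRoots

/-! Helper40: the checks of `SlRoots` for `E8`, roots 60 to 79. -/

set_option autoImplicit false

namespace Cfsg.Agent.Helper40.Sl

open Cfsg Cfsg.Lie

set_option maxRecDepth 100000 in
theorem slqE8_60 : slChunk chevE8 60 4 = true := by decide +kernel

set_option maxRecDepth 100000 in
theorem slqE8_64 : slChunk chevE8 64 4 = true := by decide +kernel

set_option maxRecDepth 100000 in
theorem slqE8_68 : slChunk chevE8 68 4 = true := by decide +kernel

set_option maxRecDepth 100000 in
theorem slqE8_72 : slChunk chevE8 72 4 = true := by decide +kernel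

set_option maxRecDepth 100000 in
theorem slqE8_76 : slChunk chevE8 76 4 = true := by decide +kernel

theorem slqE8_all_60 : slChunk chevE8 60 20 = true :=
  (slChunk_add chevE8 60 4 16 slqE8_60 (slChunk_add chevE8 64 4 12 slqE8_64 (slChunk_add chevE8 68 4 8 slqE8_68 (slChunk_add chevE8 72 4 4 slqE8_72 slqE8_76))))

end Cfsg.Agent.Helper40.Sl
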