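import Cfsg.Agent.Helper40.SlRoots

/-! Helper40: the checks of `SlRoots` for `E8`, roots 80 to 99. -/

set_option autoImplicit false

namespace Cfsg.Agent.Helper40.Sl

open Cfsg Cfsg.Lie

set_option maxRecDepth 100000 in
theorem slqE8_80 : slChunk chevE8 80 4 = true := by decide +kernel

set_option maxRecDepth 100000 in
theorem slqE8_84 : slChunk chevE8 84 4 = true := by decide +kernel

set_option maxRecDepth 100000 in
theorem slqE8_88 : slChunk chevE8 88 4 = true := by decide +kernel

set_option maxRecDepth 100000 in
theorem slqE8_92 : slChunk chevE8 92 4 = true := by decide +kernel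

set_option maxRecDepth 100000 in
theorem slqE8_96 : slChunk chevE8 96 4 = true := by decide +kernel

theorem slqE8_all_80 : slChunk chevE8 80 20 = true :=
  (slChunk_add chevE8 80 4 16 slqE8_80 (slChunk_add chevE8 84 4 12 slqE8_84 (slChunk_add chevE8 88 4 8 slqE8_88 (slChunk_add chevE8 92 4 4 slqE8_92 slqE8_96))))

end Cfsg.Agent.Helper40.Sl
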