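import Cfsg.Agent.Helper40.SlRoots

/-! Helper40: the checks of `SlRoots` for `E8`, roots 100 to 119. -/

set_option autoImplicit false

namespace Cfsg.Agent.Helper40.Sl

open Cfsg Cfsg.Lie

set_option maxRecDepth 100000 in
theorem slqE8_100 : slChunk chevE8 100 4 = true := by decide +kernel

set_option maxRecDepth 100000 in
theorem slqE8_104 : slChunk chevE8 104 4 = true := by decide +kernel

set_option maxRecDepth 100000 in
theorem slqE8_108 : slChunk chevE8 108 4 = true := by decide +kernel

set_option maxRecDepth 100000 in
theorem slqE8_112 : slChunk chevE8 112 4 = true := by decide +kernel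

set_option maxRecDepth 100000 in
theorem slqE8_116 : slChunk chevE8 116 4 = true := by decide +kernel

theorem slqE8_all_100 : slChunk chevE8 100 20 = true :=
  (slChunk_add chevE8 100 4 16 slqE8_100 (slChunk_add chevE8 104 4 12 slqE8_104 (slChunk_add chevE8 108 4 8 slqE8_108 (slChunk_add chevE8 112 4 4 slqE8_112 slqE8_116))))

end Cfsg.Agent.Helper40.Sl
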