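import Cfsg.Agent.Helper40.SlRoots

/-! Helper40: the checks of `SlRoots` for `E8`, roots 120 to 139. -/

set_option autoImplicit false

namespace Cfsg.Agent.Helper40.Sl

open Cfsg Cfsg.Lie

set_option maxRecDepth 100000 in
theorem slqE8_120 : slChunk chevE8 120 4 = true := by decide +kernel

set_option maxRecDepth 100000 in
theorem slqE8_124 : slChunk chevE8 124 4 = true := by decide +kernel

set_option maxRecDepth 100000 in
theorem slqE8_128 : slChunk chevE8 128 4 = true := by decide +kernel

set_option maxRecDepth 100000 in
theorem slqE8_132 : slChunk chevE8 132 4 = true := by decide +kernel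

set_option maxRecDepth 100000 in
theorem slqE8_136 : slChunk chevE8 136 4 = true := by decide +kernel

theorem slqE8_all_120 : slChunk chevE8 120 20 = true :=
  (slChunk_add chevE8 120 4 16 slqE8_120 (slChunk_add chevE8 124 4 12 slqE8_124 (slChunk_add chevE8 128 4 8 slqE8_128 (slChunk_add chevE8 132 4 4 slqE8_132 slqE8_136))))

end Cfsg.Agent.Helper40.Sl
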