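import Cfsg.Agent.Helper40.SlRoots

/-! Helper40: the checks of `SlRoots` for `E8`, roots 140 to 159. -/

set_option autoImplicit false

namespace Cfsg.Agent.Helper40.Sl

open Cfsg Cfsg.Lie

set_option maxRecDepth 100000 in
theorem slqE8_140 : slChunk chevE8 140 4 = true := by decide +kernel

set_option maxRecDepth 100000 in
theorem slqE8_144 : slChunk chevE8 144 4 = true := by decide +kernel

set_option maxRecDepth 100000 in
theorem slqE8_148 : slChunk chevE8 148 4 = true := by decide +kernel

set_option maxRecDepth 100000 in
theorem slqE8_152 : slChunk chevE8 152 4 = true := by decide +kernel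

set_option maxRecDepth 100000 in
theorem slqE8_156 : slChunk chevE8 156 4 = true := by decide +kernel

theorem slqE8_all_140 : slChunk chevE8 140 20 = true :=
  (slChunk_add chevE8 140 4 16 slqE8_140 (slChunk_add chevE8 144 4 12 slqE8_144 (slChunk_add chevE8 148 4 8 slqE8_148 (slChunk_add chevE8 152 4 4 slqE8_152 slqE8_156))))

end Cfsg.Agent.Helper40.Sl
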