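import Cfsg.Agent.Helper40.SlRoots

/-! Helper40: the checks of `SlRoots` for `E8`, roots 160 to 179. -/

set_option autoImplicit false

namespace Cfsg.Agent.Helper40.Sl

open Cfsg Cfsg.Lie

set_option maxRecDepth 100000 in
theorem slqE8_160 : slChunk chevE8 160 4 = true := by decide +kernel

set_option maxRecDepth 100000 in
theorem slqE8_164 : slChunk chevE8 164 4 = true := by decide +kernel

set_option maxRecDepth 100000 in
theorem slqE8_168 : slChunk chevE8 168 4 = true := by decide +kernel

set_option maxRecDepth 100000 in
theorem slqE8_172 : slChunk chevE8 172 4 = true := by decide +kernel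

set_option maxRecDepth 100000 in
theorem slqE8_176 : slChunk chevE8 176 4 = true := by decide +kernel

theorem slqE8_all_160 : slChunk chevE8 160 20 = true :=
  (slChunk_add chevE8 160 4 16 slqE8_160 (slChunk_add chevE8 164 4 12 slqE8_164 (slChunk_add chevE8 168 4 8 slqE8_168 (slChunk_add chevE8 172 4 4 slqE8_172 slqE8_176))))

end Cfsg.Agent.Helper40.Sl
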