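import Cfsg.Agent.Helper40.SlRoots

/-! Helper40: the checks of `SlRoots` for `E8`, roots 180 to 199. -/

set_option autoImplicit false

namespace Cfsg.Agent.Helper40.Sl

open Cfsg Cfsg.Lie

set_option maxRecDepth 100000 in
theorem slqE8_180 : slChunk chevE8 180 4 = true := by decide +kernel

set_option maxRecDepth 100000 in
theorem slqE8_184 : slChunk chevE8 184 4 = true := by decide +kernel

set_option maxRecDepth 100000 in
theorem slqE8_188 : slChunk chevE8 188 4 = true := by decide +kernel

set_option maxRecDepth 100000 in
theorem slqE8_192 : slChunk chevE8 192 4 = true := by decide +kernel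

set_option maxRecDepth 100000 in
theorem slqE8_196 : slChunk chevE8 196 4 = true := by decide +kernel

theorem slqE8_all_180 : slChunk chevE8 180 20 = true :=
  (slChunk_add chevE8 180 4 16 slqE8_180 (slChunk_add chevE8 184 4 12 slqE8_184 (slChunk_add chevE8 188 4 8 slqE8_188 (slChunk_add chevE8 192 4 4 slqE8_192 slqE8_196))))

end Cfsg.Agent.Helper40.Sl
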