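import Cfsg.Agent.Helper40.SlE6p0
import Cfsg.Agent.Helper40.SlE7p0
import Cfsg.Agent.Helper40.SlE7p1
import Cfsg.Agent.Helper40.SlE7p2
import Cfsg.Agent.Helper40.SlE8p0
import Cfsg.Agent.Helper40.SlE8p1
import Cfsg.Agent.Helper40.SlE8p2
import Cfsg.Agent.Helper40.SlE8p3
import Cfsg.Agent.Helper40.SlE8p4
import Cfsg.Agent.Helper40.SlE8p5
import Cfsg.Agent.Helper40.SlE8p6
import Cfsg.Agent.Helper40.SlE8p7
import Cfsg.Agent.Helper40.SlE8p8
import Cfsg.Agent.Helper40.SlE8p9
import Cfsg.Agent.Helper40.SlE8p10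
import Cfsg.Agent.Helper40.SlE8p11

/-! Helper40: the root-system facts of `SlRoots` hold for `E₆`, `E₇`, `E₈`. -/

set_option autoImplicit false

namespace Cfsg.Agent.Helper40.Sl

open Cfsg Cfsg.Lie

theorem slB_E6 : slChunk chevE6 0 72 = true :=
  slqE6_all_0

theorem slB_E7 : slChunk chevE7 0 126 = true :=
  (slChunk_add chevE7 0 42 84 slqE7_all_0 (slChunk_add chevE7 42 42 42 slqE7_all_42 slqE7_all_84))

theorem slB_E8 : slChunk chevE8 0 240 = true :=
  (slChunk_add chevE8 0 20 220 slqE8_all_0 (slChunk_add chevE8 20 20 200 slqE8_all_20 (slChunk_add chevE8 40 20 180 slqE8_all_40 (slChunk_add chevE8 60 20 160 slqE8_all_60 (slChunk_add chevE8 80 20 140 slqE8_all_80 (slChunk_add chevE8 100 20 120 slqE8_all_100 (slChunk_add chevE8 120 20 100 slqE8_all_120 (slChunk_add chevE8 140 20 80 slqE8_all_140 (slChunk_add chevE8 160 20 60 slqE8_all_160 (slChunk_add chevE8 180 20 40 slqE8_all_180 (slChunk_add chevE8 200 20 20 slqE8_all_200 slqE8_all_220)))))))))))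

theorem slData_of_mem (D : ChevalleyDatum) (hD : D ∈ [chevE6, chevE7, chevE8]) : SlData D := by
  simp only [List.mem_cons, List.not_mem_nil, or_false] at hD
  rcases hD with rfl | rfl | rfl
  · exact slData_of _ slB_E6
  · exact slData_of _ slB_E7
  · exact slData_of _ slB_E8

end Cfsg.Agent.Helper40.Sl
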