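import Cfsg.Agent.Helper40.SlMain
import Cfsg.Agent.Helper40.SlData
import Cfsg.Agent.Helper40.LiftAux

/-!
Helper40: **for the types `E₆`, `E₇`, `E₈` the group presented by the relators (R1), (R2) is centrally closed over
every field** (no restriction on the size of the field): homomorphisms out of it lift uniquely through surjections
with central kernel.
-/

set_option autoImplicit false

namespace Cfsg.Agent.Helper40.Sl

open Cfsg Cfsg.Lie Cfsg.Agent.Helper18 Cfsg.Agent.Helper40.ChevAdd Cfsg.Agent.Helper40.St Cfsg.Agent.Helper40.LC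

section
variable {K : Type*} [Field K] (D : ChevalleyDatum)

theorem mem7_of_mem3 (hD : D ∈ [chevE6, chevE7, chevE8]) :
    D ∈ [chevG2, chevB2, chevD4, chevF4, chevE6, chevE7, chevE8] := by
  simp only [List.mem_cons, List.not_mem_nil, or_false] at hD ⊢
  rcases hD with h | h | h <;> simp [h]

/-- the group presented by (R1), (R2) is perfect (types `E₆`, `E₇`, `E₈`, any field) -/
theorem cover_perfect (hD : D ∈ [chevE6, chevE7, chevE8]) : commutator (D.SteinbergCover K) = ⊤ := by
  have hD7 := mem7_of_mem3 D hD
  have hadd := ChevAdd.addOK_of_mem hD7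
  have hG := lift_rels (K := K) D hadd hD7
  have hGAB : ∀ g ∈ D.steinbergRelsAB K, FreeGroup.lift (fGL D hadd) g = 1 :=
    fun g hg => hG g (relsAB_subset D hg)
  have O := over_presented hadd (D.steinbergRelsAB K) (fun _ h => h) hGAB
  have gen := gen_presented (K := K) (D := D) (D.steinbergRelsAB K)
  exact perfect O.toRels (slData_of_mem D hD) gen

/-- **Steinberg, Stein**: for `E₆`, `E₇`, `E₈` the group presented by (R1), (R2) is centrally closed over every field -/
theorem sl_cover_lift_unique (hD : D ∈ [chevE6, chevE7, chevE8])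
    {G₁ E : Type*} [Group G₁] [Group E] (π₁ : E →* G₁) (hπ : Function.Surjective π₁)
    (hc : π₁.ker ≤ Subgroup.center E) (σ : D.SteinbergCover K →* G₁) :
    ∃! τ : D.SteinbergCover K →* E, π₁.comp τ = σ := by
  have hD7 := mem7_of_mem3 D hD
  have hadd := ChevAdd.addOK_of_mem hD7
  have hG := lift_rels (K := K) D hadd hD7
  have hGAB : ∀ g ∈ D.steinbergRelsAB K, FreeGroup.lift (fGL D hadd) g = 1 :=
    fun g hg => hG g (relsAB_subset D hg)
  have O := over_presented hadd (D.steinbergRelsAB K) (fun _ h => h) hGAB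
  have hperf := cover_perfect (K := K) D hD
  have C : Ctx D (fun r t => PresentedGroup.mk (D.steinbergRelsAB K) (D.stX r t)) π₁ σ :=
    ⟨O.toRels, ⟨hπ, hc⟩, slData_of_mem D hD⟩
  have R := C.rels
  have hY := lift_relsAB_of_rels' D hD7 _ R
  refine ⟨PresentedGroup.toGroup hY, ?_, ?_⟩
  · apply PresentedGroup.ext
    intro p
    rw [MonoidHom.comp_apply, PresentedGroup.toGroup.of]
    have h1 := C.isLift_Y p.1.isLt p.2
    unfold IsLift at h1
    rw [h1]
    congr 1
    unfold ChevalleyDatum.stX
    rw [dif_pos p.1.isLt]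
    rfl
  · intro τ' hτ'
    apply lift_unique' π₁ hc hperf
    rw [hτ']
    symm
    apply PresentedGroup.ext
    intro p
    rw [MonoidHom.comp_apply, PresentedGroup.toGroup.of]
    have h1 := C.isLift_Y p.1.isLt p.2
    unfold IsLift at h1
    rw [h1]
    congr 1
    unfold ChevalleyDatum.stX
    rw [dif_pos p.1.isLt]
    rfl

end

end Cfsg.Agent.Helper40.Sl
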