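import Cfsg.Agent.Helper40.UcRoots

/-! Helper40: the checks of `UcRoots` for `E7`, roots 0 to 62. -/

set_option autoImplicit false

namespace Cfsg.Agent.Helper40.Uc

open Cfsg Cfsg.Lie

set_option maxRecDepth 100000 in
theorem ucqE7_0 : ucChunk chevE7 0 7 = true := by decide +kernel

set_option maxRecDepth 100000 in
theorem ucqE7_7 : ucChunk chevE7 7 7 = true := by decide +kernel

set_option maxRecDepth 100000 in
theorem ucqE7_14 : ucChunk chevE7 14 7 = true := by decide +kernel

set_option maxRecDepth 100000 in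
theorem ucqE7_21 : ucChunk chevE7 21 7 = true := by decide +kernel

set_option maxRecDepth 100000 in
theorem ucqE7_28 : ucChunk chevE7 28 7 = true := by decide +kernel

set_option maxRecDepth 100000 in
theorem ucqE7_35 : ucChunk chevE7 35 7 = true := by decide +kernel

set_option maxRecDepth 100000 in
theorem ucqE7_42 : ucChunk chevE7 42 7 = true := by decide +kernel

set_option maxRecDepth 100000 in
theorem ucqE7_49 : ucChunk chevE7 49 7 = true := by decide +kernel

set_option maxRecDepth 100000 in
theorem ucqE7_56 : ucChunk chevE7 56 7 = true := by decide +kernel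

theorem ucqE7_all_0 : ucChunk chevE7 0 63 = true :=
  (ucChunk_add chevE7 0 7 56 ucqE7_0 (ucChunk_add chevE7 7 7 49 ucqE7_7 (ucChunk_add chevE7 14 7 42 ucqE7_14 (ucChunk_add chevE7 21 7 35 ucqE7_21 (ucChunk_add chevE7 28 7 28 ucqE7_28 (ucChunk_add chevE7 35 7 21 ucqE7_35 (ucChunk_add chevE7 42 7 14 ucqE7_42 (ucChunk_add chevE7 49 7 7 ucqE7_49 ucqE7_56))))))))

end Cfsg.Agent.Helper40.Uc
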