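import Cfsg.Agent.Helper40.UcRoots

/-! Helper40: the checks of `UcRoots` for `E7`, roots 63 to 125. -/

set_option autoImplicit false

namespace Cfsg.Agent.Helper40.Uc

open Cfsg Cfsg.Lie

set_option maxRecDepth 100000 in
theorem ucqE7_63 : ucChunk chevE7 63 7 = true := by decide +kernel

set_option maxRecDepth 100000 in
theorem ucqE7_70 : ucChunk chevE7 70 7 = true := by decide +kernel

set_option maxRecDepth 100000 in
theorem ucqE7_77 : ucChunk chevE7 77 7 = true := by decide +kernel

set_option maxRecDepth 100000 in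
theorem ucqE7_84 : ucChunk chevE7 84 7 = true := by decide +kernel

set_option maxRecDepth 100000 in
theorem ucqE7_91 : ucChunk chevE7 91 7 = true := by decide +kernel

set_option maxRecDepth 100000 in
theorem ucqE7_98 : ucChunk chevE7 98 7 = true := by decide +kernel

set_option maxRecDepth 100000 in
theorem ucqE7_105 : ucChunk chevE7 105 7 = true := by decide +kernel

set_option maxRecDepth 100000 in
theorem ucqE7_112 : ucChunk chevE7 112 7 = true := by decide +kernel

set_option maxRecDepth 100000 in
theorem ucqE7_119 : ucChunk chevE7 119 7 = true := by decide +kernel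

theorem ucqE7_all_63 : ucChunk chevE7 63 63 = true :=
  (ucChunk_add chevE7 63 7 56 ucqE7_63 (ucChunk_add chevE7 70 7 49 ucqE7_70 (ucChunk_add chevE7 77 7 42 ucqE7_77 (ucChunk_add chevE7 84 7 35 ucqE7_84 (ucChunk_add chevE7 91 7 28 ucqE7_91 (ucChunk_add chevE7 98 7 21 ucqE7_98 (ucChunk_add chevE7 105 7 14 ucqE7_105 (ucChunk_add chevE7 112 7 7 ucqE7_112 ucqE7_119))))))))

end Cfsg.Agent.Helper40.Uc
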