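import Cfsg.Agent.Helper40.UcRoots

/-! Helper40: the checks of `UcRoots` for `E8`, roots 0 to 29. -/

set_option autoImplicit false

namespace Cfsg.Agent.Helper40.Uc

open Cfsg Cfsg.Lie

set_option maxRecDepth 100000 in
theorem ucqE8_0 : ucChunk chevE8 0 2 = true := by decide +kernel

set_option maxRecDepth 100000 in
theorem ucqE8_2 : ucChunk chevE8 2 2 = true := by decide +kernel

set_option maxRecDepth 100000 in
theorem ucqE8_4 : ucChunk chevE8 4 2 = true := by decide +kernel

set_option maxRecDepth 100000 in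
theorem ucqE8_6 : ucChunk chevE8 6 2 = true := by decide +kernel

set_option maxRecDepth 100000 in
theorem ucqE8_8 : ucChunk chevE8 8 2 = true := by decide +kernel

set_option maxRecDepth 100000 in
theorem ucqE8_10 : ucChunk chevE8 10 2 = true := by decide +kernel

set_option maxRecDepth 100000 in
theorem ucqE8_12 : ucChunk chevE8 12 2 = true := by decide +kernel

set_option maxRecDepth 100000 in
theorem ucqE8_14 : ucChunk chevE8 14 2 = true := by decide +kernel

set_option maxRecDepth 100000 in
theorem ucqE8_16 : ucChunk chevE8 16 2 = true := by decide +kernel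

set_option maxRecDepth 100000 in
theorem ucqE8_18 : ucChunk chevE8 18 2 = true := by decide +kernel

set_option maxRecDepth 100000 in
theorem ucqE8_20 : ucChunk chevE8 20 2 = true := by decide +kernel

set_option maxRecDepth 100000 in
theorem ucqE8_22 : ucChunk chevE8 22 2 = true := by decide +kernel

set_option maxRecDepth 100000 in
theorem ucqE8_24 : ucChunk chevE8 24 2 = true := by decide +kernel

set_option maxRecDepth 100000 in
theorem ucqE8_26 : ucChunk chevE8 26 2 = true := by decide +kernel

set_option maxRecDepth 100000 in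
theorem ucqE8_28 : ucChunk chevE8 28 2 = true := by decide +kernel

theorem ucqE8_all_0 : ucChunk chevE8 0 30 = true :=
  (ucChunk_add chevE8 0 2 28 ucqE8_0 (ucChunk_add chevE8 2 2 26 ucqE8_2 (ucChunk_add chevE8 4 2 24 ucqE8_4 (ucChunk_add chevE8 6 2 22 ucqE8_6 (ucChunk_add chevE8 8 2 20 ucqE8_8 (ucChunk_add chevE8 10 2 18 ucqE8_10 (ucChunk_add chevE8 12 2 16 ucqE8_12 (ucChunk_add chevE8 14 2 14 ucqE8_14 (ucChunk_add chevE8 16 2 12 ucqE8_16 (ucChunk_add chevE8 18 2 10 ucqE8_18 (ucChunk_add chevE8 20 2 8 ucqE8_20 (ucChunk_add chevE8 22 2 6 ucqE8_22 (ucChunk_add chevE8 24 2 4 ucqE8_24 (ucChunk_add chevE8 26 2 2 ucqE8_26 ucqE8_28))))))))))))))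

end Cfsg.Agent.Helper40.Uc
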