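import Cfsg.Agent.Helper40.UcRoots

/-! Helper40: the checks of `UcRoots` for `E8`, roots 30 to 59. -/

set_option autoImplicit false

namespace Cfsg.Agent.Helper40.Uc

open Cfsg Cfsg.Lie

set_option maxRecDepth 100000 in
theorem ucqE8_30 : ucChunk chevE8 30 2 = true := by decide +kernel

set_option maxRecDepth 100000 in
theorem ucqE8_32 : ucChunk chevE8 32 2 = true := by decide +kernel

set_option maxRecDepth 100000 in
theorem ucqE8_34 : ucChunk chevE8 34 2 = true := by decide +kernel

set_option maxRecDepth 100000 in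
theorem ucqE8_36 : ucChunk chevE8 36 2 = true := by decide +kernel

set_option maxRecDepth 100000 in
theorem ucqE8_38 : ucChunk chevE8 38 2 = true := by decide +kernel

set_option maxRecDepth 100000 in
theorem ucqE8_40 : ucChunk chevE8 40 2 = true := by decide +kernel

set_option maxRecDepth 100000 in
theorem ucqE8_42 : ucChunk chevE8 42 2 = true := by decide +kernel

set_option maxRecDepth 100000 in
theorem ucqE8_44 : ucChunk chevE8 44 2 = true := by decide +kernel

set_option maxRecDepth 100000 in
theorem ucqE8_46 : ucChunk chevE8 46 2 = true := by decide +kernel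

set_option maxRecDepth 100000 in
theorem ucqE8_48 : ucChunk chevE8 48 2 = true := by decide +kernel

set_option maxRecDepth 100000 in
theorem ucqE8_50 : ucChunk chevE8 50 2 = true := by decide +kernel

set_option maxRecDepth 100000 in
theorem ucqE8_52 : ucChunk chevE8 52 2 = true := by decide +kernel

set_option maxRecDepth 100000 in
theorem ucqE8_54 : ucChunk chevE8 54 2 = true := by decide +kernel

set_option maxRecDepth 100000 in
theorem ucqE8_56 : ucChunk chevE8 56 2 = true := by decide +kernel

set_option maxRecDepth 100000 in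
theorem ucqE8_58 : ucChunk chevE8 58 2 = true := by decide +kernel

theorem ucqE8_all_30 : ucChunk chevE8 30 30 = true :=
  (ucChunk_add chevE8 30 2 28 ucqE8_30 (ucChunk_add chevE8 32 2 26 ucqE8_32 (ucChunk_add chevE8 34 2 24 ucqE8_34 (ucChunk_add chevE8 36 2 22 ucqE8_36 (ucChunk_add chevE8 38 2 20 ucqE8_38 (ucChunk_add chevE8 40 2 18 ucqE8_40 (ucChunk_add chevE8 42 2 16 ucqE8_42 (ucChunk_add chevE8 44 2 14 ucqE8_44 (ucChunk_add chevE8 46 2 12 ucqE8_46 (ucChunk_add chevE8 48 2 10 ucqE8_48 (ucChunk_add chevE8 50 2 8 ucqE8_50 (ucChunk_add chevE8 52 2 6 ucqE8_52 (ucChunk_add chevE8 54 2 4 ucqE8_54 (ucChunk_add chevE8 56 2 2 ucqE8_56 ucqE8_58))))))))))))))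

end Cfsg.Agent.Helper40.Uc
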