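import Cfsg.Agent.Helper40.UcRoots

/-! Helper40: the checks of `UcRoots` for `E8`, roots 60 to 89. -/

set_option autoImplicit false

namespace Cfsg.Agent.Helper40.Uc

open Cfsg Cfsg.Lie

set_option maxRecDepth 100000 in
theorem ucqE8_60 : ucChunk chevE8 60 2 = true := by decide +kernel

set_option maxRecDepth 100000 in
theorem ucqE8_62 : ucChunk chevE8 62 2 = true := by decide +kernel

set_option maxRecDepth 100000 in
theorem ucqE8_64 : ucChunk chevE8 64 2 = true := by decide +kernel

set_option maxRecDepth 100000 in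
theorem ucqE8_66 : ucChunk chevE8 66 2 = true := by decide +kernel

set_option maxRecDepth 100000 in
theorem ucqE8_68 : ucChunk chevE8 68 2 = true := by decide +kernel

set_option maxRecDepth 100000 in
theorem ucqE8_70 : ucChunk chevE8 70 2 = true := by decide +kernel

set_option maxRecDepth 100000 in
theorem ucqE8_72 : ucChunk chevE8 72 2 = true := by decide +kernel

set_option maxRecDepth 100000 in
theorem ucqE8_74 : ucChunk chevE8 74 2 = true := by decide +kernel

set_option maxRecDepth 100000 in
theorem ucqE8_76 : ucChunk chevE8 76 2 = true := by decide +kernel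

set_option maxRecDepth 100000 in
theorem ucqE8_78 : ucChunk chevE8 78 2 = true := by decide +kernel

set_option maxRecDepth 100000 in
theorem ucqE8_80 : ucChunk chevE8 80 2 = true := by decide +kernel

set_option maxRecDepth 100000 in
theorem ucqE8_82 : ucChunk chevE8 82 2 = true := by decide +kernel

set_option maxRecDepth 100000 in
theorem ucqE8_84 : ucChunk chevE8 84 2 = true := by decide +kernel

set_option maxRecDepth 100000 in
theorem ucqE8_86 : ucChunk chevE8 86 2 = true := by decide +kernel

set_option maxRecDepth 100000 in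
theorem ucqE8_88 : ucChunk chevE8 88 2 = true := by decide +kernel

theorem ucqE8_all_60 : ucChunk chevE8 60 30 = true :=
  (ucChunk_add chevE8 60 2 28 ucqE8_60 (ucChunk_add chevE8 62 2 26 ucqE8_62 (ucChunk_add chevE8 64 2 24 ucqE8_64 (ucChunk_add chevE8 66 2 22 ucqE8_66 (ucChunk_add chevE8 68 2 20 ucqE8_68 (ucChunk_add chevE8 70 2 18 ucqE8_70 (ucChunk_add chevE8 72 2 16 ucqE8_72 (ucChunk_add chevE8 74 2 14 ucqE8_74 (ucChunk_add chevE8 76 2 12 ucqE8_76 (ucChunk_add chevE8 78 2 10 ucqE8_78 (ucChunk_add chevE8 80 2 8 ucqE8_80 (ucChunk_add chevE8 82 2 6 ucqE8_82 (ucChunk_add chevE8 84 2 4 ucqE8_84 (ucChunk_add chevE8 86 2 2 ucqE8_86 ucqE8_88))))))))))))))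

end Cfsg.Agent.Helper40.Uc
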