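import Cfsg.Agent.Helper40.UcRoots

/-! Helper40: the checks of `UcRoots` for `E8`, roots 90 to 119. -/

set_option autoImplicit false

namespace Cfsg.Agent.Helper40.Uc

open Cfsg Cfsg.Lie

set_option maxRecDepth 100000 in
theorem ucqE8_90 : ucChunk chevE8 90 2 = true := by decide +kernel

set_option maxRecDepth 100000 in
theorem ucqE8_92 : ucChunk chevE8 92 2 = true := by decide +kernel

set_option maxRecDepth 100000 in
theorem ucqE8_94 : ucChunk chevE8 94 2 = true := by decide +kernel

set_option maxRecDepth 100000 in
theorem ucqE8_96 : ucChunk chevE8 96 2 = true := by decide +kernel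

set_option maxRecDepth 100000 in
theorem ucqE8_98 : ucChunk chevE8 98 2 = true := by decide +kernel

set_option maxRecDepth 100000 in
theorem ucqE8_100 : ucChunk chevE8 100 2 = true := by decide +kernel

set_option maxRecDepth 100000 in
theorem ucqE8_102 : ucChunk chevE8 102 2 = true := by decide +kernel

set_option maxRecDepth 100000 in
theorem ucqE8_104 : ucChunk chevE8 104 2 = true := by decide +kernel

set_option maxRecDepth 100000 in
theorem ucqE8_106 : ucChunk chevE8 106 2 = true := by decide +kernel

set_option maxRecDepth 100000 in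
theorem ucqE8_108 : ucChunk chevE8 108 2 = true := by decide +kernel

set_option maxRecDepth 100000 in
theorem ucqE8_110 : ucChunk chevE8 110 2 = true := by decide +kernel

set_option maxRecDepth 100000 in
theorem ucqE8_112 : ucChunk chevE8 112 2 = true := by decide +kernel

set_option maxRecDepth 100000 in
theorem ucqE8_114 : ucChunk chevE8 114 2 = true := by decide +kernel

set_option maxRecDepth 100000 in
theorem ucqE8_116 : ucChunk chevE8 116 2 = true := by decide +kernel

set_option maxRecDepth 100000 in
theorem ucqE8_118 : ucChunk chevE8 118 2 = true := by decide +kernel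

theorem ucqE8_all_90 : ucChunk chevE8 90 30 = true :=
  (ucChunk_add chevE8 90 2 28 ucqE8_90 (ucChunk_add chevE8 92 2 26 ucqE8_92 (ucChunk_add chevE8 94 2 24 ucqE8_94 (ucChunk_add chevE8 96 2 22 ucqE8_96 (ucChunk_add chevE8 98 2 20 ucqE8_98 (ucChunk_add chevE8 100 2 18 ucqE8_100 (ucChunk_add chevE8 102 2 16 ucqE8_102 (ucChunk_add chevE8 104 2 14 ucqE8_104 (ucChunk_add chevE8 106 2 12 ucqE8_106 (ucChunk_add chevE8 108 2 10 ucqE8_108 (ucChunk_add chevE8 110 2 8 ucqE8_110 (ucChunk_add chevE8 112 2 6 ucqE8_112 (ucChunk_add chevE8 114 2 4 ucqE8_114 (ucChunk_add chevE8 116 2 2 ucqE8_116 ucqE8_118))))))))))))))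

end Cfsg.Agent.Helper40.Uc
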