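import Cfsg.Agent.Helper40.UcRoots

/-! Helper40: the checks of `UcRoots` for `E8`, roots 120 to 149. -/

set_option autoImplicit false

namespace Cfsg.Agent.Helper40.Uc

open Cfsg Cfsg.Lie

set_option maxRecDepth 100000 in
theorem ucqE8_120 : ucChunk chevE8 120 2 = true := by decide +kernel

set_option maxRecDepth 100000 in
theorem ucqE8_122 : ucChunk chevE8 122 2 = true := by decide +kernel

set_option maxRecDepth 100000 in
theorem ucqE8_124 : ucChunk chevE8 124 2 = true := by decide +kernel

set_option maxRecDepth 100000 in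
theorem ucqE8_126 : ucChunk chevE8 126 2 = true := by decide +kernel

set_option maxRecDepth 100000 in
theorem ucqE8_128 : ucChunk chevE8 128 2 = true := by decide +kernel

set_option maxRecDepth 100000 in
theorem ucqE8_130 : ucChunk chevE8 130 2 = true := by decide +kernel

set_option maxRecDepth 100000 in
theorem ucqE8_132 : ucChunk chevE8 132 2 = true := by decide +kernel

set_option maxRecDepth 100000 in
theorem ucqE8_134 : ucChunk chevE8 134 2 = true := by decide +kernel

set_option maxRecDepth 100000 in
theorem ucqE8_136 : ucChunk chevE8 136 2 = true := by decide +kernel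

set_option maxRecDepth 100000 in
theorem ucqE8_138 : ucChunk chevE8 138 2 = true := by decide +kernel

set_option maxRecDepth 100000 in
theorem ucqE8_140 : ucChunk chevE8 140 2 = true := by decide +kernel

set_option maxRecDepth 100000 in
theorem ucqE8_142 : ucChunk chevE8 142 2 = true := by decide +kernel

set_option maxRecDepth 100000 in
theorem ucqE8_144 : ucChunk chevE8 144 2 = true := by decide +kernel

set_option maxRecDepth 100000 in
theorem ucqE8_146 : ucChunk chevE8 146 2 = true := by decide +kernel

set_option maxRecDepth 100000 in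
theorem ucqE8_148 : ucChunk chevE8 148 2 = true := by decide +kernel

theorem ucqE8_all_120 : ucChunk chevE8 120 30 = true :=
  (ucChunk_add chevE8 120 2 28 ucqE8_120 (ucChunk_add chevE8 122 2 26 ucqE8_122 (ucChunk_add chevE8 124 2 24 ucqE8_124 (ucChunk_add chevE8 126 2 22 ucqE8_126 (ucChunk_add chevE8 128 2 20 ucqE8_128 (ucChunk_add chevE8 130 2 18 ucqE8_130 (ucChunk_add chevE8 132 2 16 ucqE8_132 (ucChunk_add chevE8 134 2 14 ucqE8_134 (ucChunk_add chevE8 136 2 12 ucqE8_136 (ucChunk_add chevE8 138 2 10 ucqE8_138 (ucChunk_add chevE8 140 2 8 ucqE8_140 (ucChunk_add chevE8 142 2 6 ucqE8_142 (ucChunk_add chevE8 144 2 4 ucqE8_144 (ucChunk_add chevE8 146 2 2 ucqE8_146 ucqE8_148))))))))))))))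

end Cfsg.Agent.Helper40.Uc
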