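import Cfsg.Agent.Helper40.UcRoots

/-! Helper40: the checks of `UcRoots` for `E8`, roots 150 to 179. -/

set_option autoImplicit false

namespace Cfsg.Agent.Helper40.Uc

open Cfsg Cfsg.Lie

set_option maxRecDepth 100000 in
theorem ucqE8_150 : ucChunk chevE8 150 2 = true := by decide +kernel

set_option maxRecDepth 100000 in
theorem ucqE8_152 : ucChunk chevE8 152 2 = true := by decide +kernel

set_option maxRecDepth 100000 in
theorem ucqE8_154 : ucChunk chevE8 154 2 = true := by decide +kernel

set_option maxRecDepth 100000 in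
theorem ucqE8_156 : ucChunk chevE8 156 2 = true := by decide +kernel

set_option maxRecDepth 100000 in
theorem ucqE8_158 : ucChunk chevE8 158 2 = true := by decide +kernel

set_option maxRecDepth 100000 in
theorem ucqE8_160 : ucChunk chevE8 160 2 = true := by decide +kernel

set_option maxRecDepth 100000 in
theorem ucqE8_162 : ucChunk chevE8 162 2 = true := by decide +kernel

set_option maxRecDepth 100000 in
theorem ucqE8_164 : ucChunk chevE8 164 2 = true := by decide +kernel

set_option maxRecDepth 100000 in
theorem ucqE8_166 : ucChunk chevE8 166 2 = true := by decide +kernel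

set_option maxRecDepth 100000 in
theorem ucqE8_168 : ucChunk chevE8 168 2 = true := by decide +kernel

set_option maxRecDepth 100000 in
theorem ucqE8_170 : ucChunk chevE8 170 2 = true := by decide +kernel

set_option maxRecDepth 100000 in
theorem ucqE8_172 : ucChunk chevE8 172 2 = true := by decide +kernel

set_option maxRecDepth 100000 in
theorem ucqE8_174 : ucChunk chevE8 174 2 = true := by decide +kernel

set_option maxRecDepth 100000 in
theorem ucqE8_176 : ucChunk chevE8 176 2 = true := by decide +kernel

set_option maxRecDepth 100000 in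
theorem ucqE8_178 : ucChunk chevE8 178 2 = true := by decide +kernel

theorem ucqE8_all_150 : ucChunk chevE8 150 30 = true :=
  (ucChunk_add chevE8 150 2 28 ucqE8_150 (ucChunk_add chevE8 152 2 26 ucqE8_152 (ucChunk_add chevE8 154 2 24 ucqE8_154 (ucChunk_add chevE8 156 2 22 ucqE8_156 (ucChunk_add chevE8 158 2 20 ucqE8_158 (ucChunk_add chevE8 160 2 18 ucqE8_160 (ucChunk_add chevE8 162 2 16 ucqE8_162 (ucChunk_add chevE8 164 2 14 ucqE8_164 (ucChunk_add chevE8 166 2 12 ucqE8_166 (ucChunk_add chevE8 168 2 10 ucqE8_168 (ucChunk_add chevE8 170 2 8 ucqE8_170 (ucChunk_add chevE8 172 2 6 ucqE8_172 (ucChunk_add chevE8 174 2 4 ucqE8_174 (ucChunk_add chevE8 176 2 2 ucqE8_176 ucqE8_178))))))))))))))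

end Cfsg.Agent.Helper40.Uc
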