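import Cfsg.Agent.Helper40.UcRoots

/-! Helper40: the checks of `UcRoots` for `E8`, roots 180 to 209. -/

set_option autoImplicit false

namespace Cfsg.Agent.Helper40.Uc

open Cfsg Cfsg.Lie

set_option maxRecDepth 100000 in
theorem ucqE8_180 : ucChunk chevE8 180 2 = true := by decide +kernel

set_option maxRecDepth 100000 in
theorem ucqE8_182 : ucChunk chevE8 182 2 = true := by decide +kernel

set_option maxRecDepth 100000 in
theorem ucqE8_184 : ucChunk chevE8 184 2 = true := by decide +kernel

set_option maxRecDepth 100000 in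
theorem ucqE8_186 : ucChunk chevE8 186 2 = true := by decide +kernel

set_option maxRecDepth 100000 in
theorem ucqE8_188 : ucChunk chevE8 188 2 = true := by decide +kernel

set_option maxRecDepth 100000 in
theorem ucqE8_190 : ucChunk chevE8 190 2 = true := by decide +kernel

set_option maxRecDepth 100000 in
theorem ucqE8_192 : ucChunk chevE8 192 2 = true := by decide +kernel

set_option maxRecDepth 100000 in
theorem ucqE8_194 : ucChunk chevE8 194 2 = true := by decide +kernel

set_option maxRecDepth 100000 in
theorem ucqE8_196 : ucChunk chevE8 196 2 = true := by decide +kernel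

set_option maxRecDepth 100000 in
theorem ucqE8_198 : ucChunk chevE8 198 2 = true := by decide +kernel

set_option maxRecDepth 100000 in
theorem ucqE8_200 : ucChunk chevE8 200 2 = true := by decide +kernel

set_option maxRecDepth 100000 in
theorem ucqE8_202 : ucChunk chevE8 202 2 = true := by decide +kernel

set_option maxRecDepth 100000 in
theorem ucqE8_204 : ucChunk chevE8 204 2 = true := by decide +kernel

set_option maxRecDepth 100000 in
theorem ucqE8_206 : ucChunk chevE8 206 2 = true := by decide +kernel

set_option maxRecDepth 100000 in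
theorem ucqE8_208 : ucChunk chevE8 208 2 = true := by decide +kernel

theorem ucqE8_all_180 : ucChunk chevE8 180 30 = true :=
  (ucChunk_add chevE8 180 2 28 ucqE8_180 (ucChunk_add chevE8 182 2 26 ucqE8_182 (ucChunk_add chevE8 184 2 24 ucqE8_184 (ucChunk_add chevE8 186 2 22 ucqE8_186 (ucChunk_add chevE8 188 2 20 ucqE8_188 (ucChunk_add chevE8 190 2 18 ucqE8_190 (ucChunk_add chevE8 192 2 16 ucqE8_192 (ucChunk_add chevE8 194 2 14 ucqE8_194 (ucChunk_add chevE8 196 2 12 ucqE8_196 (ucChunk_add chevE8 198 2 10 ucqE8_198 (ucChunk_add chevE8 200 2 8 ucqE8_200 (ucChunk_add chevE8 202 2 6 ucqE8_202 (ucChunk_add chevE8 204 2 4 ucqE8_204 (ucChunk_add chevE8 206 2 2 ucqE8_206 ucqE8_208))))))))))))))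

end Cfsg.Agent.Helper40.Uc
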