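import Cfsg.Agent.Helper40.UcRoots

/-! Helper40: the checks of `UcRoots` for `E8`, roots 210 to 239. -/

set_option autoImplicit false

namespace Cfsg.Agent.Helper40.Uc

open Cfsg Cfsg.Lie

set_option maxRecDepth 100000 in
theorem ucqE8_210 : ucChunk chevE8 210 2 = true := by decide +kernel

set_option maxRecDepth 100000 in
theorem ucqE8_212 : ucChunk chevE8 212 2 = true := by decide +kernel

set_option maxRecDepth 100000 in
theorem ucqE8_214 : ucChunk chevE8 214 2 = true := by decide +kernel

set_option maxRecDepth 100000 in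
theorem ucqE8_216 : ucChunk chevE8 216 2 = true := by decide +kernel

set_option maxRecDepth 100000 in
theorem ucqE8_218 : ucChunk chevE8 218 2 = true := by decide +kernel

set_option maxRecDepth 100000 in
theorem ucqE8_220 : ucChunk chevE8 220 2 = true := by decide +kernel

set_option maxRecDepth 100000 in
theorem ucqE8_222 : ucChunk chevE8 222 2 = true := by decide +kernel

set_option maxRecDepth 100000 in
theorem ucqE8_224 : ucChunk chevE8 224 2 = true := by decide +kernel

set_option maxRecDepth 100000 in
theorem ucqE8_226 : ucChunk chevE8 226 2 = true := by decide +kernel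

set_option maxRecDepth 100000 in
theorem ucqE8_228 : ucChunk chevE8 228 2 = true := by decide +kernel

set_option maxRecDepth 100000 in
theorem ucqE8_230 : ucChunk chevE8 230 2 = true := by decide +kernel

set_option maxRecDepth 100000 in
theorem ucqE8_232 : ucChunk chevE8 232 2 = true := by decide +kernel

set_option maxRecDepth 100000 in
theorem ucqE8_234 : ucChunk chevE8 234 2 = true := by decide +kernel

set_option maxRecDepth 100000 in
theorem ucqE8_236 : ucChunk chevE8 236 2 = true := by decide +kernel

set_option maxRecDepth 100000 in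
theorem ucqE8_238 : ucChunk chevE8 238 2 = true := by decide +kernel

theorem ucqE8_all_210 : ucChunk chevE8 210 30 = true :=
  (ucChunk_add chevE8 210 2 28 ucqE8_210 (ucChunk_add chevE8 212 2 26 ucqE8_212 (ucChunk_add chevE8 214 2 24 ucqE8_214 (ucChunk_add chevE8 216 2 22 ucqE8_216 (ucChunk_add chevE8 218 2 20 ucqE8_218 (ucChunk_add chevE8 220 2 18 ucqE8_220 (ucChunk_add chevE8 222 2 16 ucqE8_222 (ucChunk_add chevE8 224 2 14 ucqE8_224 (ucChunk_add chevE8 226 2 12 ucqE8_226 (ucChunk_add chevE8 228 2 10 ucqE8_228 (ucChunk_add chevE8 230 2 8 ucqE8_230 (ucChunk_add chevE8 232 2 6 ucqE8_232 (ucChunk_add chevE8 234 2 4 ucqE8_234 (ucChunk_add chevE8 236 2 2 ucqE8_236 ucqE8_238))))))))))))))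

end Cfsg.Agent.Helper40.Uc
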