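import Cfsg.Agent.Helper40.UcDataA
import Cfsg.Agent.Helper40.UcE7p0
import Cfsg.Agent.Helper40.UcE7p1
import Cfsg.Agent.Helper40.UcE8p0
import Cfsg.Agent.Helper40.UcE8p1
import Cfsg.Agent.Helper40.UcE8p2
import Cfsg.Agent.Helper40.UcE8p3
import Cfsg.Agent.Helper40.UcE8p4
import Cfsg.Agent.Helper40.UcE8p5
import Cfsg.Agent.Helper40.UcE8p6
import Cfsg.Agent.Helper40.UcE8p7

/-! Helper40: the root-system facts of `UcRoots` hold for the seven tabulated types.
(The checks for `E₇`, `E₈` are split over the files `UcE7p*`, `UcE8p*` to keep each file's kernel time small;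
the earlier files `UcDataE7`, `UcDataE8a`–`UcDataE8d` hold the same checks in bigger files and are no longer imported.) -/

set_option autoImplicit false

namespace Cfsg.Agent.Helper40.Uc

open Cfsg Cfsg.Lie Cfsg.Agent.Helper18

theorem ucB_E7 : ucB chevE7 = true := ucChunk_add chevE7 0 63 63 ucqE7_all_0 ucqE7_all_63

theorem ucB_E8 : ucB chevE8 = true :=
  ucChunk_add chevE8 0 30 210 ucqE8_all_0 (ucChunk_add chevE8 30 30 180 ucqE8_all_30
    (ucChunk_add chevE8 60 30 150 ucqE8_all_60 (ucChunk_add chevE8 90 30 120 ucqE8_all_90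
      (ucChunk_add chevE8 120 30 90 ucqE8_all_120 (ucChunk_add chevE8 150 30 60 ucqE8_all_150
        (ucChunk_add chevE8 180 30 30 ucqE8_all_180 ucqE8_all_210))))))

theorem ucData_of_mem (D : ChevalleyDatum) (hD : D ∈ [chevG2, chevB2, chevD4, chevF4, chevE6, chevE7, chevE8]) :
    UcData D := by
  have hA := addAllOK_of_mem D hD
  simp only [List.mem_cons, List.not_mem_nil, or_false] at hD
  rcases hD with rfl | rfl | rfl | rfl | rfl | rfl | rfl
  · exact ucData_of _ hA ucB_G2
  · exact ucData_of _ hA ucB_B2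
  · exact ucData_of _ hA ucB_D4
  · exact ucData_of _ hA ucB_F4
  · exact ucData_of _ hA ucB_E6
  · exact ucData_of _ hA ucB_E7
  · exact ucData_of _ hA ucB_E8

end Cfsg.Agent.Helper40.Uc
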