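import Cfsg.Agent.Helper40.UcMain
import Cfsg.Agent.Helper40.UcData
import Cfsg.Agent.Helper38.UcTricks

/-!
Helper40: **Steinberg's theorem**: over a field with more than four elements the group presented by the relators
(R1), (R2) (types `G₂`, `B₂`, `D₄`, `F₄`, `E₆`, `E₇`, `E₈`) is centrally closed: homomorphisms out of it lift
uniquely through surjections with central kernel.
-/

set_option autoImplicit false

namespace Cfsg.Agent.Helper40.Uc

open Cfsg Cfsg.Lie Cfsg.Agent.Helper18 Cfsg.Agent.Helper40.ChevAdd Cfsg.Agent.Helper40.St Cfsg.Agent.Helper40.LC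

/-- two lifts of a homomorphism out of a perfect group through a central extension agree -/
theorem lift_unique {Δ G₁ E : Type*} [Group Δ] [Group G₁] [Group E] (π₁ : E →* G₁)
    (hc : π₁.ker ≤ Subgroup.center E) (hperf : commutator Δ = ⊤) (τ τ' : Δ →* E)
    (h : π₁.comp τ = π₁.comp τ') : τ = τ' := by
  have hz : ∀ g : Δ, (τ g)⁻¹ * τ' g ∈ Subgroup.center E := by
    intro g
    apply hc
    have := DFunLike.congr_fun h g
    simp only [MonoidHom.comp_apply] at this
    rw [MonoidHom.mem_ker, map_mul, map_inv, this, inv_mul_cancel]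
  have hle : commutator Δ ≤ MonoidHom.eqLocus τ τ' := by
    rw [commutator_def, Subgroup.commutator_le]
    intro a _ b _
    show τ (commutatorElement.bracket a b) = τ' (commutatorElement.bracket a b)
    rw [show commutatorElement.bracket a b = a * b * a⁻¹ * b⁻¹ from rfl]
    simp only [map_mul, map_inv]
    have := comm_central (τ a) (τ b) _ _ (hz a) (hz b)
    rw [mul_inv_cancel_left, mul_inv_cancel_left] at this
    exact this.symm
  rw [hperf] at hle
  ext g
  exact hle (Subgroup.mem_top g)

section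
variable {K : Type*} [Field K] (D : ChevalleyDatum)

/-- root elements satisfying (R1), (R2) kill the relators -/
theorem lift_relsAB_of_rels (hD : D ∈ [chevG2, chevB2, chevD4, chevF4, chevE6, chevE7, chevE8])
    {Γ' : Type*} [Group Γ'] (Y : ℕ → K → Γ') (R : Rels D Y) :
    ∀ g ∈ D.steinbergRelsAB K, FreeGroup.lift (fun p : Fin D.nroots × K => Y p.1.val p.2) g = 1 := by
  have hX : ∀ (r : ℕ) (t : K), r < D.nroots →
      FreeGroup.lift (fun p : Fin D.nroots × K => Y p.1.val p.2) (D.stX r t) = Y r t := by
    intro r t hr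
    unfold ChevalleyDatum.stX
    rw [dif_pos hr, FreeGroup.lift_apply_of]
  have hW : ∀ wd : List (ℕ × K), (∀ e ∈ wd, e.1 < D.nroots) →
      FreeGroup.lift (fun p : Fin D.nroots × K => Y p.1.val p.2) (D.stWord wd) = wordG Y wd := by
    intro wd hwd
    unfold ChevalleyDatum.stWord wordG
    rw [map_list_prod, List.map_map]
    congr 1
    apply List.map_congr_left
    intro e he
    exact hX e.1 e.2 (hwd e he)
  intro g hg
  rcases hg with ⟨r, t₁, t₂, hr, rfl⟩ | ⟨r, s, t, u, hr, hs, h1, h2, rfl⟩
  · rw [map_mul, map_mul, map_inv, hX _ _ hr, hX _ _ hr, hX _ _ hr, R.add r hr, mul_inv_cancel]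
  · have hlt : ∀ e ∈ D.commWord K r s t u, e.1 < D.nroots := by
      intro e he
      unfold ChevalleyDatum.commWord at he
      obtain ⟨c, hc, rfl⟩ := List.mem_map.mp he
      exact (commTerms_lvl D hD (lvlF D []) (fun v hv => isAdditiveAt_lvlF_of_mem D hD [] v hv) r s hr hs c hc).1
    rw [map_mul, map_mul, map_mul, map_mul, map_inv, map_inv, map_inv, hX _ _ hr, hX _ _ hs, hW _ hlt,
      mul_assoc _ (Y s u), R.comm r s hr hs h1 h2 t u]
    group

/-- **Steinberg**: the group presented by (R1), (R2) is centrally closed -/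
theorem steinberg_cover_lift_unique (hK5 : ∃ s : Finset K, 4 < s.card)
    (hD : D ∈ [chevG2, chevB2, chevD4, chevF4, chevE6, chevE7, chevE8])
    {G₁ E : Type*} [Group G₁] [Group E] (π₁ : E →* G₁) (hπ : Function.Surjective π₁)
    (hc : π₁.ker ≤ Subgroup.center E) (σ : D.SteinbergCover K →* G₁) :
    ∃! τ : D.SteinbergCover K →* E, π₁.comp τ = σ := by
  have hadd := ChevAdd.addOK_of_mem hD
  have hG := lift_rels (K := K) D hadd hD
  have hGAB : ∀ g ∈ D.steinbergRelsAB K, FreeGroup.lift (fGL D hadd) g = 1 :=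
    fun g hg => hG g (relsAB_subset D hg)
  have O := over_presented hadd (D.steinbergRelsAB K) (fun _ h => h) hGAB
  have gen := gen_presented (K := K) (D := D) (D.steinbergRelsAB K)
  obtain ⟨a, ha, ha2⟩ := Cfsg.Agent.Helper38.UcTricks.exists_ne_zero_sq_ne_one hK5
  have hperf := perfect hD O gen a ha ha2
  have C : Ctx D hadd (fun r t => PresentedGroup.mk (D.steinbergRelsAB K) (D.stX r t))
      (PresentedGroup.toGroup hGAB) π₁ σ :=
    { hD := hD
      O := O
      gen := gen
      S := ⟨hπ, hc⟩
      UD := ucData_of_mem D hD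
      perf := hperf
      hv := fun d hd hd3 => Cfsg.Agent.Helper38.UcTricks.exists_zpow_ne_one hK5 d hd hd3
      hbi := fun f hl hr hinv => Cfsg.Agent.Helper38.UcTricks.biadd_trick hK5 f hl hr hinv }
  have R := C.rels a ha ha2
  have hY := lift_relsAB_of_rels D hD _ R
  refine ⟨PresentedGroup.toGroup hY, ?_, ?_⟩
  · -- it is a lift
    apply PresentedGroup.ext
    intro p
    rw [MonoidHom.comp_apply, PresentedGroup.toGroup.of]
    have h1 := C.isLift_Y a ha ha2 p.1.isLt p.2
    unfold IsLift at h1
    rw [h1]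
    congr 1
    unfold ChevalleyDatum.stX
    rw [dif_pos p.1.isLt]
    rfl
  · intro τ' hτ'
    apply lift_unique π₁ hc hperf
    rw [hτ']
    symm
    apply PresentedGroup.ext
    intro p
    rw [MonoidHom.comp_apply, PresentedGroup.toGroup.of]
    have h1 := C.isLift_Y a ha ha2 p.1.isLt p.2
    unfold IsLift at h1
    rw [h1]
    congr 1
    unfold ChevalleyDatum.stX
    rw [dif_pos p.1.isLt]
    rfl

end

end Cfsg.Agent.Helper40.Uc
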