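import Cfsg.Agent.Helper40.NcFinal
import Cfsg.Agent.Helper40.UcFinal
import Cfsg.Agent.Helper40.SlFinal
import Cfsg.Agent.Helper40.HyFinal
import Cfsg.Agent.S2395

/-!
Helper40: **Steinberg's theorem on lifting in the natural characteristic**: for each of the seven tabulated types
over any field `K` (more than two elements for `B₂`, `G₂`), homomorphisms out of the group presented by (R1), (R2)
lift uniquely through every surjection with central kernel, provided the kernel has no `p`-torsion when `K` has
characteristic `p > 0`.  (Over fields with more than four elements, and for `E₆`, `E₇`, `E₈`, the condition on the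
kernel is not needed.)
-/

set_option autoImplicit false
set_option linter.unusedSectionVars false

namespace Cfsg.Agent.Helper40.Nc

open Cfsg Cfsg.Lie Cfsg.Agent.Helper18 Cfsg.Agent.Helper40.ChevAdd Cfsg.Agent.Helper40.St Cfsg.Agent.Helper40.LC
  Cfsg.Agent.Helper40.Uc Cfsg.Agent.Helper40.Hy Cfsg.Agent.Helper40.Sl

section
variable {K : Type*} [Field K]

/-- a field without five distinct elements is finite -/
theorem finite_of_not_five (h : ¬ ∃ s : Finset K, 4 < s.card) : Finite K := by
  by_contra hinf
  rw [not_finite_iff_infinite] at hinf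
  obtain ⟨s, hs⟩ := Infinite.exists_subset_card_eq K 5
  exact h ⟨s, by omega⟩

theorem card_le_four [Fintype K] (h : ¬ ∃ s : Finset K, 4 < s.card) : Fintype.card K ≤ 4 := by
  by_contra h5
  exact h ⟨Finset.univ, by rw [Finset.card_univ]; omega⟩

theorem three_le_card [Fintype K] (h : ∃ x : K, x ≠ 0 ∧ x ≠ 1) : 3 ≤ Fintype.card K := by
  classical
  obtain ⟨x, h0, h1⟩ := h
  have h3 : ({0, 1, x} : Finset K).card = 3 := by
    rw [Finset.card_insert_of_notMem, Finset.card_insert_of_notMem, Finset.card_singleton]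
    · simpa using h1.symm
    · simp only [Finset.mem_insert, Finset.mem_singleton, not_or]
      exact ⟨zero_ne_one, h0.symm⟩
  have := Finset.card_le_univ ({0, 1, x} : Finset K)
  omega

/-- the four small types -/
theorem mem4_of_not_mem3 (D : ChevalleyDatum) (hD : D ∈ [chevG2, chevB2, chevD4, chevF4, chevE6, chevE7, chevE8])
    (h3 : D ∉ [chevE6, chevE7, chevE8]) : D ∈ [chevG2, chevB2, chevD4, chevF4] := by
  simp only [List.mem_cons, List.not_mem_nil, or_false, not_or] at hD h3 ⊢
  rcases hD with h | h | h | h | h | h | h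
  · exact Or.inl h
  · exact Or.inr (Or.inl h)
  · exact Or.inr (Or.inr (Or.inl h))
  · exact Or.inr (Or.inr (Or.inr h))
  · exact absurd h h3.1
  · exact absurd h h3.2.1
  · exact absurd h h3.2.2

/-- the small cases: fields with at most four elements, types `G₂`, `B₂`, `D₄`, `F₄` -/
theorem small_cover_lift [Fintype K] (D : ChevalleyDatum) (hD4 : D ∈ [chevG2, chevB2, chevD4, chevF4])
    (hK : D ∈ [chevB2, chevG2] → ∃ x : K, x ≠ 0 ∧ x ≠ 1) (h4 : Fintype.card K ≤ 4)
    {G₁ E : Type*} [Group G₁] [Group E] (π₁ : E →* G₁) (hπ : Function.Surjective π₁)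
    (hc : π₁.ker ≤ Subgroup.center E)
    (tf : ∀ p : ℕ, p.Prime → (p : K) = 0 → ∀ z ∈ π₁.ker, z ^ p = 1 → z = 1)
    (σ : D.SteinbergCover K →* G₁) :
    ∃ τ : D.SteinbergCover K →* E, π₁.comp τ = σ := by
  have hD : D ∈ [chevG2, chevB2, chevD4, chevF4, chevE6, chevE7, chevE8] := by
    simp only [List.mem_cons, List.not_mem_nil, or_false] at hD4 ⊢
    rcases hD4 with h | h | h | h <;> simp [h]
  have hA : addAllOK D = true := addAllOK_of_mem D (by simpa [allData] using hD)
  have UD := ucData_small D hD4
  have h1 : 1 < Fintype.card K := Fintype.one_lt_card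
  have hcard0 := FiniteField.cast_card_eq_zero K
  have hcases : Fintype.card K = 2 ∨ Fintype.card K = 3 ∨ Fintype.card K = 4 := by omega
  rcases hcases with h2 | h3 | h4'
  · -- two elements: `D₄`, `F₄`
    have hp : ((2 : ℕ) : K) = 0 := by rw [← h2]; exact hcard0
    have hD2 : D = chevD4 ∨ D = chevF4 := by
      simp only [List.mem_cons, List.not_mem_nil, or_false] at hD4
      rcases hD4 with h | h | h | h
      · have := three_le_card (hK (by simp [h])); omega
      · have := three_le_card (hK (by simp [h])); omega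
      · exact Or.inl h
      · exact Or.inr h
    have GD : GenData 1 false D := by
      rcases hD2 with rfl | rfl
      · exact genData_of _ _ _ hA genB_D4_1
      · exact genData_of _ _ _ hA genB_F4_1
    refine nc_cover_lift D hD UD GD ⟨1, one_ne_zero, fun d hd => absurd (one_dvd d) (by simpa using hd)⟩ ?_ 2 hp
      π₁ hπ hc (tf 2 Nat.prime_two hp) σ
    intro C hC
    rcases hC with rfl | rfl | ⟨h, -⟩
    · simp
    · simp
    · cases h
  · -- three elements
    have hp : ((3 : ℕ) : K) = 0 := by rw [← h3]; exact hcard0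
    have GD : GenData 2 true D := by
      simp only [List.mem_cons, List.not_mem_nil, or_false] at hD4
      rcases hD4 with rfl | rfl | rfl | rfl
      · exact genData_of _ _ _ hA genB_G2_2
      · exact genData_of _ _ _ hA genB_B2_2
      · exact genData_of _ _ _ hA genB_D4_2
      · exact genData_of _ _ _ hA genB_F4_2
    refine nc_cover_lift D hD UD GD
      ⟨-1, neg_ne_zero.mpr one_ne_zero, fun d hd => neg_one_zpow_ne_one h3 d hd⟩ ?_ 3 hp
      π₁ hπ hc (tf 3 Nat.prime_three hp) σ
    intro C hC
    have h2 := two_ne_zero_of_card_three (K := K) h3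
    rcases hC with rfl | rfl | ⟨-, rfl | rfl⟩
    · simp
    · simp
    · simpa using h2
    · simpa using h2
  · -- four elements
    have hp : ((2 : ℕ) : K) = 0 := by
      have h44 : ((4 : ℕ) : K) = 0 := by rw [← h4']; exact hcard0
      have : ((2 : ℕ) : K) * ((2 : ℕ) : K) = 0 := by
        rw [← h44]; push_cast; norm_num
      exact mul_self_eq_zero.mp this
    obtain ⟨v, hv0, hv1⟩ := exists_of_card_four (K := K) h4'
    have GD : GenData 3 false D := by
      simp only [List.mem_cons, List.not_mem_nil, or_false] at hD4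
      rcases hD4 with rfl | rfl | rfl | rfl
      · exact genData_of _ _ _ hA genB_G2_3
      · exact genData_of _ _ _ hA genB_B2_3
      · exact genData_of _ _ _ hA genB_D4_3
      · exact genData_of _ _ _ hA genB_F4_3
    refine nc_cover_lift D hD UD GD
      ⟨v, hv0, fun d hd => zpow_ne_one_of_card_four h4' v hv0 hv1 d (by exact_mod_cast hd)⟩ ?_ 2 hp
      π₁ hπ hc (tf 2 Nat.prime_two hp) σ
    intro C hC
    rcases hC with rfl | rfl | ⟨h, -⟩
    · simp
    · simp
    · cases h

/-- **Steinberg**: lifting through central extensions whose kernel has no `p`-torsion, `p` the characteristic -/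
theorem cover_lift_unique_natchar (D : ChevalleyDatum)
    (hD : D ∈ [chevG2, chevB2, chevD4, chevF4, chevE6, chevE7, chevE8])
    (hK : D ∈ [chevB2, chevG2] → ∃ x : K, x ≠ 0 ∧ x ≠ 1)
    {G₁ E : Type*} [Group G₁] [Group E] (π₁ : E →* G₁) (hπ : Function.Surjective π₁)
    (hc : π₁.ker ≤ Subgroup.center E)
    (tf : ∀ p : ℕ, p.Prime → (p : K) = 0 → ∀ z ∈ π₁.ker, z ^ p = 1 → z = 1)
    (σ : D.SteinbergCover K →* G₁) :
    ∃! τ : D.SteinbergCover K →* E, π₁.comp τ = σ := by
  by_cases h5 : ∃ s : Finset K, 4 < s.card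
  · exact Uc.steinberg_cover_lift_unique (K := K) D h5 hD π₁ hπ hc σ
  by_cases h3 : D ∈ [chevE6, chevE7, chevE8]
  · exact Sl.sl_cover_lift_unique (K := K) D h3 π₁ hπ hc σ
  have hfin := finite_of_not_five h5
  let _ : Fintype K := Fintype.ofFinite K
  obtain ⟨τ, hτ⟩ := small_cover_lift D (mem4_of_not_mem3 D hD h3) hK (card_le_four h5) π₁ hπ hc tf σ
  refine ⟨τ, hτ, ?_⟩
  intro τ' hτ'
  have hperf := Cfsg.Agent.S2395.result (K := K) D hD hK
  exact Sl.lift_unique' π₁ hc hperf τ' τ (by rw [hτ, hτ'])

end

end Cfsg.Agent.Helper40.Nc
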