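import Cfsg.Agent.Helper40.StCover
import Cfsg.Agent.Helper40.StEmbData
import Cfsg.Agent.Helper18.TorusCert

/-!
Helper40: the centre of Steinberg's presented group over a finite field, for a type embedded as a subsystem (with the
fundamental roots going to fundamental roots with the same number) into a type with unimodular Cartan matrix:
it is isomorphic to the kernel of the torus characters.
-/

set_option autoImplicit false
set_option linter.unusedSectionVars false

namespace Cfsg.Agent.Helper40.St

open Cfsg Cfsg.Lie Cfsg.Agent.Helper18 Cfsg.Agent.Helper40.ChevAdd Cfsg.Agent.Helper40.SL2Chev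
  Cfsg.Agent.Helper40.SL2Hom

section
variable {K : Type*} [Field K]

/-- the torus of `Helper18` on a coordinate subgroup -/
theorem torusHom18_mulSingle (D : ChevalleyDatum) (hadd : ChevAdd.addOK D = true)
    (hD : D ∈ [chevG2, chevB2, chevD4, chevF4, chevE6, chevE7, chevE8]) (i : Fin D.rank) (x : Kˣ) :
    Cfsg.Agent.Helper18.torusHom D K (Pi.mulSingle i x) = hG D hadd (D.simple i) (x : K) := by
  apply Units.ext
  rw [torusHom_val, coe_hG, hMat_simple D hD i i.isLt _ x.ne_zero]
  congr 1
  funext j
  rcases j with a | s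
  · rfl
  · simp only [torusChar, MonoidHom.coe_mk, OneHom.coe_mk, Sum.elim_inr]
    rw [Finset.prod_eq_single i]
    · rw [Pi.mulSingle_eq_same, Units.val_zpow_eq_zpow_val]
    · intro b _ hb
      rw [Pi.mulSingle_eq_of_ne hb, one_zpow]
    · intro h
      exact absurd (Finset.mem_univ i) h

end

section
variable {K : Type*} [Field K] {D : ChevalleyDatum} {Γ : Type*} [Group Γ] {X : ℕ → K → Γ}
  {hadd : ChevAdd.addOK D = true} {π : Γ →* GL D.Idx K}
variable (hD : D ∈ [chevG2, chevB2, chevD4, chevF4, chevE6, chevE7, chevE8]) (O : Over D hadd X π)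
  {φ : ℕ → ℤ} (S : Std D φ)
  (hmul : ∀ i < D.rank, ∀ t u : K, t ≠ 0 → u ≠ 0 →
    hbar D X (D.simple i) (t * u) = hbar D X (D.simple i) t * hbar D X (D.simple i) u)

include hD O S hmul in
/-- the projection of the torus `(Kˣ)^rank → H̄` is the torus of the Chevalley group -/
theorem π_torusHom (c : Fin D.rank → Kˣ) :
    π (torusHom hD O S hmul c) = Cfsg.Agent.Helper18.torusHom D K c := by
  induction c using Pi.mulSingle_induction with
  | one => rw [map_one, map_one, map_one]
  | mul f g hf hg => rw [map_mul, map_mul, map_mul, hf, hg]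
  | mulSingle i x =>
    rw [torusHom18_mulSingle D hadd hD i x]
    unfold torusHom
    rw [MonoidHom.noncommPiCoprod_mulSingle]
    exact π_hbar O _ (S.simple_lt i i.isLt) (S.neg_lt _ (S.simple_lt i i.isLt)) _

include hD O S hmul in
/-- the kernel of the projection is the image of the kernel of the torus characters -/
theorem ker_eq_map_torus (gen : Subgroup.closure {g | ∃ r < D.nroots, ∃ t : K, g = X r t} = ⊤) :
    π.ker = (Cfsg.Agent.Helper18.torusChar D K).ker.map (torusHom hD O S hmul) := by
  ext g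
  rw [Subgroup.mem_map]
  constructor
  · intro hg
    obtain ⟨c, rfl⟩ := HB_le_range hD O S hmul (ker_le_HB hD O gen hg)
    refine ⟨c, ?_, rfl⟩
    rw [← torusHom_ker, MonoidHom.mem_ker, ← π_torusHom hD O S hmul c]
    exact MonoidHom.mem_ker.mp hg
  · rintro ⟨c, hc, rfl⟩
    rw [← torusHom_ker, MonoidHom.mem_ker] at hc
    rw [MonoidHom.mem_ker, π_torusHom hD O S hmul c, hc]

end

section
variable {K : Type*} [Field K]

/-- extension of a tuple of units by ones -/
def extTuple (K : Type*) [Field K] (m n : ℕ) : (Fin m → Kˣ) →* (Fin n → Kˣ) where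
  toFun c := fun k => if h : k.val < m then c ⟨k.val, h⟩ else 1
  map_one' := by
    funext k
    simp
  map_mul' := by
    intro c c'
    funext k
    by_cases h : k.val < m <;> simp [h]

theorem extTuple_mulSingle (m n : ℕ) (hmn : m ≤ n) (i : Fin m) (x : Kˣ) :
    extTuple K m n (Pi.mulSingle i x) = Pi.mulSingle ⟨i.val, lt_of_lt_of_le i.isLt hmn⟩ x := by
  funext k
  by_cases hk : k = ⟨i.val, lt_of_lt_of_le i.isLt hmn⟩
  · subst hk
    simp [extTuple]
  · rw [Pi.mulSingle_eq_of_ne hk]
    simp only [extTuple, MonoidHom.coe_mk, OneHom.coe_mk]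
    by_cases h : k.val < m
    · rw [dif_pos h, Pi.mulSingle_eq_of_ne]
      intro e
      apply hk
      apply Fin.ext
      rw [← e]
    · rw [dif_neg h]

theorem extTuple_injective (m n : ℕ) (hmn : m ≤ n) : Function.Injective (extTuple K m n) := by
  intro c c' h
  funext i
  have := congrFun h ⟨i.val, lt_of_lt_of_le i.isLt hmn⟩
  simpa [extTuple] using this

/-- **The centre of Steinberg's presented group** over a finite field, for a type `D₁` embedded into a type `D₂`
with unimodular Cartan matrix: it has as many elements as the kernel of the torus characters. -/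
theorem card_center_of_emb [Finite K] (D₁ D₂ : ChevalleyDatum)
    (hD₁ : D₁ ∈ [chevG2, chevB2, chevD4, chevF4, chevE6, chevE7, chevE8])
    (hD₂ : D₂ ∈ [chevG2, chevB2, chevD4, chevF4, chevE6, chevE7, chevE8]) (ι : ℕ → ℕ)
    (hOK : Cfsg.Agent.Helper40.StE.embOK D₁ D₂ ι = true) (hr : D₁.rank ≤ D₂.rank)
    (hs : ∀ i < D₁.rank, ι (D₁.simple i) = D₂.simple i)
    (hker₂ : (Cfsg.Agent.Helper18.torusChar D₂ K).ker = ⊥) :
    Nat.card (Subgroup.center (D₁.SteinbergGroup K)) = Nat.card (Cfsg.Agent.Helper18.torusChar D₁ K).ker := by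
  have hadd := ChevAdd.addOK_of_mem hD₁
  have hadd₂ := ChevAdd.addOK_of_mem hD₂
  obtain ⟨φ, S⟩ := exists_std D₁ hD₁
  have hGr := lift_rels (K := K) D₁ hadd hD₁
  have O := over_presented hadd (D₁.steinbergRels K) (relsAB_subset D₁) hGr
  have gen := gen_presented (D := D₁) (D₁.steinbergRels K)
  obtain ⟨θ, h1, -, h3, -⟩ := presented_central (K := K) hadd hD₁ (D₁.steinbergRels K) (relsAB_subset D₁) hGr
  have hmul : ∀ i < D₁.rank, ∀ t u : K, t ≠ 0 → u ≠ 0 →
      hbar D₁ (fun r t => PresentedGroup.mk (D₁.steinbergRels K) (D₁.stX r t)) (D₁.simple i) (t * u) =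
        hbar D₁ (fun r t => PresentedGroup.mk (D₁.steinbergRels K) (D₁.stX r t)) (D₁.simple i) t *
          hbar D₁ (fun r t => PresentedGroup.mk (D₁.steinbergRels K) (D₁.stX r t)) (D₁.simple i) u := by
    intro i hi t u ht hu
    have hp := S.simple_lt i hi
    have hrel : D₁.stH (D₁.simple i) t * D₁.stH (D₁.simple i) u * (D₁.stH (D₁.simple i) (t * u))⁻¹ ∈
        D₁.steinbergRels K := Or.inr ⟨D₁.simple i, t, u, hp, ht, hu, rfl⟩
    have h4 := PresentedGroup.mk_eq_mk_of_mul_inv_mem hrel
    rw [map_mul, mk_stH, mk_stH, mk_stH, ← nbar_inv O.toRels _ hp (S.neg_lt _ hp)] at h4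
    exact h4.symm
  -- the centre is the kernel of the projection
  have hcen : Subgroup.center (D₁.SteinbergGroup K) = (PresentedGroup.toGroup hGr).ker := by
    apply le_antisymm
    · intro z hz
      have hc : θ z ∈ Subgroup.center ↥(D₁.group K) := by
        rw [Subgroup.mem_center_iff]
        intro y
        obtain ⟨x, rfl⟩ := h1 y
        rw [Subgroup.mem_center_iff] at hz
        rw [← map_mul, ← map_mul, hz x]
      rw [center_group_eq_bot D₁ hD₁, Subgroup.mem_bot] at hc
      rw [MonoidHom.mem_ker, ← h3 z, hc]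
      rfl
    · exact ker_le_center hD₁ O gen
  rw [hcen, ker_eq_map_torus hD₁ O S hmul gen]
  -- the torus is injective
  have hinj : Function.Injective (torusHom hD₁ O S hmul) := by
    rw [injective_iff_map_eq_one]
    intro c hc
    obtain ⟨e, he⟩ := cover_equiv (K := K) D₁ hD₁
    let Φ : D₁.SteinbergCover K →* GL D₂.Idx K :=
      PresentedGroup.toGroup (Cfsg.Agent.Helper40.StE.emb_lift_relsAB (K := K) D₁ D₂ hadd₂ ι hD₁ hD₂ hOK)
    let Ψ : D₁.SteinbergGroup K →* GL D₂.Idx K := Φ.comp e.symm.toMonoidHom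
    have hΨX : ∀ r < D₁.nroots, ∀ t : K,
        Ψ (PresentedGroup.mk (D₁.steinbergRels K) (D₁.stX r t)) = xGL D₂ hadd₂ K (ι r) t := by
      intro r hr t
      have e1 : PresentedGroup.mk (D₁.steinbergRels K) (D₁.stX r t) = e (D₁.scGen K r t) := (he r t).symm
      show Φ (e.symm _) = _
      rw [e1, MulEquiv.symm_apply_apply]
      unfold ChevalleyDatum.scGen ChevalleyDatum.stX
      rw [dif_pos hr]
      exact PresentedGroup.toGroup.of _
    have hΨh : ∀ i < D₁.rank, ∀ t : K,
        Ψ (hbar D₁ (fun r t => PresentedGroup.mk (D₁.steinbergRels K) (D₁.stX r t)) (D₁.simple i) t) =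
          hG D₂ hadd₂ (D₂.simple i) t := by
      intro i hi t
      have hp := S.simple_lt i hi
      have hn := S.neg_lt _ hp
      obtain ⟨-, e2, -⟩ := Cfsg.Agent.Helper40.StE.embOK_spec hOK _ hp
      unfold hbar nbar hG SL2Hom.h SL2Hom.w
      simp only [map_mul, map_inv, hΨX _ hp, hΨX _ hn, e2, hs i hi]
    have hΨT : ∀ c : Fin D₁.rank → Kˣ,
        Ψ (torusHom hD₁ O S hmul c) = Cfsg.Agent.Helper18.torusHom D₂ K (extTuple K D₁.rank D₂.rank c) := by
      intro c
      induction c using Pi.mulSingle_induction with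
      | one => rw [map_one, map_one, map_one, map_one]
      | mul f g hf hg => rw [map_mul, map_mul, map_mul, map_mul, hf, hg]
      | mulSingle i x =>
        rw [extTuple_mulSingle _ _ hr, torusHom18_mulSingle D₂ hadd₂ hD₂]
        unfold torusHom
        rw [MonoidHom.noncommPiCoprod_mulSingle]
        exact hΨh i i.isLt _
    have h5 := hΨT c
    rw [hc, map_one] at h5
    have h6 : extTuple K D₁.rank D₂.rank c ∈ (Cfsg.Agent.Helper18.torusChar D₂ K).ker := by
      rw [← torusHom_ker, MonoidHom.mem_ker, ← h5]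
    rw [hker₂, Subgroup.mem_bot] at h6
    apply extTuple_injective _ _ hr
    rw [h6, map_one]
  exact Nat.card_congr ((Cfsg.Agent.Helper18.torusChar D₁ K).ker.equivMapOfInjective _ hinj).symm.toEquiv

end

end Cfsg.Agent.Helper40.St
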