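import Cfsg.Agent.Helper40.HzQ4Data
import Cfsg.Agent.Helper40.NcSmall
import Cfsg.Agent.Helper40.StCenter
import Cfsg.Agent.Helper40.MultAux

/-!
Helper40: **the groups presented by (R1), (R2) of types `B₂` and `D₄` over fields with more than two elements are
centrally closed**, the finiteness of Steinberg's presented group over a finite field, and the triviality of the
Schur multiplier of a finite perfect centrally closed group.
-/

set_option autoImplicit false
set_option linter.unusedSectionVars false

namespace Cfsg.Agent.Helper40.Hz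

open Cfsg Cfsg.Lie Cfsg.Agent.Helper18 Cfsg.Agent.Helper40.ChevAdd Cfsg.Agent.Helper40.St Cfsg.Agent.Helper40.LC
  Cfsg.Agent.Helper40.Uc Cfsg.Agent.Helper40.Hy Cfsg.Agent.Helper40.Sl

section
variable {K : Type*} [Field K]

/-- a system of lifts of the root elements satisfying (R1), (R2) gives a lift of the homomorphism -/
theorem lift_of_system (D : ChevalleyDatum) (hD : D ∈ [chevG2, chevB2, chevD4, chevF4, chevE6, chevE7, chevE8])
    {G₁ E : Type*} [Group G₁] [Group E] (π₁ : E →* G₁) (σ : D.SteinbergCover K →* G₁)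
    (Y : ℕ → K → E) (hlift : ∀ r, r < D.nroots → ∀ t : K, IsLift π₁ σ (Y r t)
      (PresentedGroup.mk (D.steinbergRelsAB K) (D.stX r t))) (R : Rels D Y) :
    ∃ τ : D.SteinbergCover K →* E, π₁.comp τ = σ := by
  have hY := lift_relsAB_of_rels' D hD Y R
  refine ⟨PresentedGroup.toGroup hY, ?_⟩
  apply PresentedGroup.ext
  intro p
  rw [MonoidHom.comp_apply, PresentedGroup.toGroup.of]
  have h1 := hlift p.1.val p.1.isLt p.2
  unfold IsLift at h1
  rw [h1]
  congr 1
  unfold ChevalleyDatum.stX
  rw [dif_pos p.1.isLt]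
  rfl

variable [Fintype K]

/-- `B₂` and `D₄` over the field with three elements -/
theorem cover_lift_q3 (D : ChevalleyDatum) (hD2 : D = chevB2 ∨ D = chevD4) (hK : Fintype.card K = 3)
    {G₁ E : Type*} [Group G₁] [Group E] (π₁ : E →* G₁) (hπ : Function.Surjective π₁)
    (hc : π₁.ker ≤ Subgroup.center E) (σ : D.SteinbergCover K →* G₁) :
    ∃ τ : D.SteinbergCover K →* E, π₁.comp τ = σ := by
  have hD : D ∈ [chevG2, chevB2, chevD4, chevF4, chevE6, chevE7, chevE8] := by
    rcases hD2 with rfl | rfl <;> simp
  have hadd := ChevAdd.addOK_of_mem hD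
  have hG := lift_rels (K := K) D hadd hD
  have hGAB : ∀ g ∈ D.steinbergRelsAB K, FreeGroup.lift (fGL D hadd) g = 1 :=
    fun g hg => hG g (relsAB_subset D hg)
  have O := over_presented hadd (D.steinbergRelsAB K) (fun _ h => h) hGAB
  have gen := gen_presented (K := K) (D := D) (D.steinbergRelsAB K)
  have hx : ∃ x : K, x ≠ 0 ∧ x ≠ 1 :=
    ⟨-1, neg_ne_zero.mpr one_ne_zero, neg_one_ne_one_of_card_three hK⟩
  have perf : commutator (D.SteinbergCover K) = ⊤ := Cfsg.Agent.S2395.result (K := K) D hD (fun _ => hx)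
  have h3 : (3 : K) = 0 := by
    have := FiniteField.cast_card_eq_zero K
    rw [hK] at this
    exact_mod_cast this
  have L : LCtx 2 true D hadd (fun r t => PresentedGroup.mk (D.steinbergRelsAB K) (D.stX r t))
      (PresentedGroup.toGroup hGAB) π₁ σ :=
    { hD := hD
      O := O
      S := ⟨hπ, hc⟩
      hv := ⟨-1, neg_ne_zero.mpr one_ne_zero, fun d hd => neg_one_zpow_ne_one hK d hd⟩
      hU := by
        intro C hC
        have h2 := two_ne_zero_of_card_three (K := K) hK
        rcases hC with rfl | rfl | ⟨-, rfl | rfl⟩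
        · simp
        · simp
        · simpa using h2
        · simpa using h2 }
  have key : ∃ Y : ℕ → K → E, (∀ r, r < D.nroots → ∀ t : K, IsLift π₁ σ (Y r t)
      (PresentedGroup.mk (D.steinbergRelsAB K) (D.stX r t))) ∧ Rels D Y := by
    rcases hD2 with rfl | rfl
    · exact q3_lift L gen perf (pm_of_card_three hK) h3 piB2 etaB2 q3Data_B2
    · exact q3_lift L gen perf (pm_of_card_three hK) h3 piD4 etaD4 q3Data_D4
  obtain ⟨Y, hlift, R⟩ := key
  exact lift_of_system D hD π₁ σ Y hlift R

/-- `B₂` over the field with four elements -/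
theorem cover_lift_b2_q4 (hK : Fintype.card K = 4)
    {G₁ E : Type*} [Group G₁] [Group E] (π₁ : E →* G₁) (hπ : Function.Surjective π₁)
    (hc : π₁.ker ≤ Subgroup.center E) (σ : chevB2.SteinbergCover K →* G₁) :
    ∃ τ : chevB2.SteinbergCover K →* E, π₁.comp τ = σ := by
  have hD : chevB2 ∈ [chevG2, chevB2, chevD4, chevF4, chevE6, chevE7, chevE8] := by simp
  have hadd := ChevAdd.addOK_of_mem hD
  have hG := lift_rels (K := K) chevB2 hadd hD
  have hGAB : ∀ g ∈ chevB2.steinbergRelsAB K, FreeGroup.lift (fGL chevB2 hadd) g = 1 :=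
    fun g hg => hG g (relsAB_subset chevB2 hg)
  have O := over_presented hadd (chevB2.steinbergRelsAB K) (fun _ h => h) hGAB
  have gen := gen_presented (K := K) (D := chevB2) (chevB2.steinbergRelsAB K)
  obtain ⟨v, hv0, hv1⟩ := exists_of_card_four (K := K) hK
  have perf : commutator (chevB2.SteinbergCover K) = ⊤ :=
    Cfsg.Agent.S2395.result (K := K) chevB2 hD (fun _ => ⟨v, hv0, hv1⟩)
  have h2 : (2 : K) = 0 := by
    have h44 : ((4 : ℕ) : K) = 0 := by rw [← hK]; exact FiniteField.cast_card_eq_zero K
    have : (2 : K) * (2 : K) = 0 := by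
      rw [← h44]; push_cast; norm_num
    exact mul_self_eq_zero.mp this
  have L : LCtx 3 false chevB2 hadd (fun r t => PresentedGroup.mk (chevB2.steinbergRelsAB K) (chevB2.stX r t))
      (PresentedGroup.toGroup hGAB) π₁ σ :=
    { hD := hD
      O := O
      S := ⟨hπ, hc⟩
      hv := ⟨v, hv0, fun d hd => zpow_ne_one_of_card_four hK v hv0 hv1 d (by exact_mod_cast hd)⟩
      hU := by
        intro C hC
        rcases hC with rfl | rfl | ⟨h, -⟩
        · simp
        · simp
        · cases h }
  obtain ⟨Y, hlift, R⟩ := q4_lift L gen perf h2 q4Data_B2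
  exact lift_of_system chevB2 hD π₁ σ Y hlift R

/-- `D₄` over the field with four elements -/
theorem cover_lift_d4_q4 (hK : Fintype.card K = 4)
    {G₁ E : Type*} [Group G₁] [Group E] (π₁ : E →* G₁) (hπ : Function.Surjective π₁)
    (hc : π₁.ker ≤ Subgroup.center E) (σ : chevD4.SteinbergCover K →* G₁) :
    ∃ τ : chevD4.SteinbergCover K →* E, π₁.comp τ = σ := by
  have hD : chevD4 ∈ [chevG2, chevB2, chevD4, chevF4, chevE6, chevE7, chevE8] := by simp
  have hadd := ChevAdd.addOK_of_mem hD
  have hG := lift_rels (K := K) chevD4 hadd hD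
  have hGAB : ∀ g ∈ chevD4.steinbergRelsAB K, FreeGroup.lift (fGL chevD4 hadd) g = 1 :=
    fun g hg => hG g (relsAB_subset chevD4 hg)
  have O := over_presented hadd (chevD4.steinbergRelsAB K) (fun _ h => h) hGAB
  have gen := gen_presented (K := K) (D := chevD4) (chevD4.steinbergRelsAB K)
  obtain ⟨v, hv0, hv1⟩ := exists_of_card_four (K := K) hK
  have B : BCtx 3 false chevD4 hadd (fun r t => PresentedGroup.mk (chevD4.steinbergRelsAB K) (chevD4.stX r t))
      (PresentedGroup.toGroup hGAB) π₁ σ :=
    { hD := hD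
      O := O
      gen := gen
      S := ⟨hπ, hc⟩
      HD := hyData_D4_q4
      hv := ⟨v, hv0, fun d hd => zpow_ne_one_of_card_four hK v hv0 hv1 d (by exact_mod_cast hd)⟩
      hU := by
        intro C hC
        rcases hC with rfl | rfl | ⟨h, -⟩
        · simp
        · simp
        · cases h }
  have hv2 : v * v ≠ 1 := by
    have := zpow_ne_one_of_card_four hK v hv0 hv1 2 (by norm_num)
    rwa [zpow_two] at this
  have Y := B.yctx_tor v hv0 hv2
  exact lift_of_system chevD4 hD π₁ σ _ Y.isLift Y.rels

/-- **`B₂`, `D₄` over finite fields with more than two elements**: the group presented by (R1), (R2) is centrally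
closed -/
theorem cover_lift_b2_d4 (D : ChevalleyDatum) (hD2 : D = chevB2 ∨ D = chevD4) (hK : Fintype.card K ≠ 2)
    {G₁ E : Type*} [Group G₁] [Group E] (π₁ : E →* G₁) (hπ : Function.Surjective π₁)
    (hc : π₁.ker ≤ Subgroup.center E) (σ : D.SteinbergCover K →* G₁) :
    ∃ τ : D.SteinbergCover K →* E, π₁.comp τ = σ := by
  have hD : D ∈ [chevG2, chevB2, chevD4, chevF4, chevE6, chevE7, chevE8] := by
    rcases hD2 with rfl | rfl <;> simp
  by_cases h5 : ∃ s : Finset K, 4 < s.card
  · exact (Uc.steinberg_cover_lift_unique (K := K) D h5 hD π₁ hπ hc σ).exists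
  have h4 := Nc.card_le_four h5
  have h1 : 1 < Fintype.card K := Fintype.one_lt_card
  have hcases : Fintype.card K = 3 ∨ Fintype.card K = 4 := by omega
  rcases hcases with h3 | h4'
  · exact cover_lift_q3 D hD2 h3 π₁ hπ hc σ
  · rcases hD2 with rfl | rfl
    · exact cover_lift_b2_q4 h4' π₁ hπ hc σ
    · exact cover_lift_d4_q4 h4' π₁ hπ hc σ

end

section
variable {K : Type*} [Field K] [Finite K]

/-- Steinberg's presented group over a finite field is finite -/
theorem finite_steinbergGroup (D : ChevalleyDatum)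
    (hD : D ∈ [chevG2, chevB2, chevD4, chevF4, chevE6, chevE7, chevE8]) : Finite (D.SteinbergGroup K) := by
  have hadd := ChevAdd.addOK_of_mem hD
  obtain ⟨φ, S⟩ := exists_std D hD
  have hGr := lift_rels (K := K) D hadd hD
  have O := over_presented hadd (D.steinbergRels K) (relsAB_subset D) hGr
  have gen := gen_presented (D := D) (D.steinbergRels K)
  have hmul : ∀ i < D.rank, ∀ t u : K, t ≠ 0 → u ≠ 0 →
      hbar D (fun r t => PresentedGroup.mk (D.steinbergRels K) (D.stX r t)) (D.simple i) (t * u) =
        hbar D (fun r t => PresentedGroup.mk (D.steinbergRels K) (D.stX r t)) (D.simple i) t *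
          hbar D (fun r t => PresentedGroup.mk (D.steinbergRels K) (D.stX r t)) (D.simple i) u := by
    intro i hi t u ht hu
    have hp := S.simple_lt i hi
    have hrel : D.stH (D.simple i) t * D.stH (D.simple i) u * (D.stH (D.simple i) (t * u))⁻¹ ∈
        D.steinbergRels K := Or.inr ⟨D.simple i, t, u, hp, ht, hu, rfl⟩
    have h4 := PresentedGroup.mk_eq_mk_of_mul_inv_mem hrel
    rw [map_mul, mk_stH, mk_stH, mk_stH, ← nbar_inv O.toRels _ hp (S.neg_lt _ hp)] at h4
    exact h4.symm
  have hker := ker_eq_map_torus hD O S hmul gen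
  have hfk : Finite (PresentedGroup.toGroup hGr).ker := by
    rw [hker]
    exact Set.Finite.image _ (Set.toFinite _)
  have hfr : Finite (PresentedGroup.toGroup hGr).range := inferInstance
  apply Nat.finite_of_card_ne_zero
  rw [← Subgroup.card_mul_index (PresentedGroup.toGroup hGr).ker, Subgroup.index_ker]
  exact mul_ne_zero Nat.card_pos.ne' Nat.card_pos.ne'

end

section
universe u

/-- **a finite perfect centrally closed group has trivial Schur multiplier** -/
theorem hasCyclicSchurMultiplier_one_of_lift {G : Type u} [Group G] [Finite G] (hperf : commutator G = ⊤)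
    (hlift : ∀ (E : Type u) [Group E] (π₁ : E →* G), Function.Surjective π₁ → π₁.ker ≤ Subgroup.center E →
      ∃ τ : G →* E, π₁.comp τ = MonoidHom.id G) :
    Cfsg.HasCyclicSchurMultiplier G 1 := by
  have hker : (MonoidHom.id G).ker = ⊥ := by
    ext x
    simp
  have e : (MonoidHom.id G).ker ≃* Multiplicative (ZMod 1) := by
    rw [hker]
    exact
      { toFun := fun _ => 1
        invFun := fun _ => 1
        left_inv := fun x => Subsingleton.elim _ _
        right_inv := fun x => Subsingleton.elim _ _
        map_mul' := fun _ _ => Subsingleton.elim _ _ }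
  exact hasSchurMultiplier_of_universal (MonoidHom.id G) Function.surjective_id (by rw [hker]; exact bot_le) hperf
    hlift e

/-- the multiplier of Steinberg's presented group over a finite field is trivial when the group presented by
(R1), (R2) is perfect and centrally closed -/
theorem steinbergGroup_multiplier_trivial {F : Type u} [Field F] [Fintype F] (D : ChevalleyDatum)
    (hD7 : D ∈ [chevG2, chevB2, chevD4, chevF4, chevE6, chevE7, chevE8])
    (hperfC : commutator (D.SteinbergCover F) = ⊤)
    (hlift : ∀ (E : Type u) [Group E] (π₁ : E →* D.SteinbergCover F), Function.Surjective π₁ →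
      π₁.ker ≤ Subgroup.center E → ∃ τ : D.SteinbergCover F →* E, π₁.comp τ = MonoidHom.id _) :
    Cfsg.HasCyclicSchurMultiplier (D.SteinbergGroup F) 1 := by
  obtain ⟨ε, -⟩ := cover_equiv (K := F) D hD7
  have hperf : commutator (D.SteinbergGroup F) = ⊤ := by
    have h1 := Subgroup.map_commutator (⊤ : Subgroup (D.SteinbergCover F)) ⊤ ε.toMonoidHom
    rw [← commutator_def, hperfC, ← MonoidHom.range_eq_map,
      MonoidHom.range_eq_top.mpr ε.surjective, ← commutator_def] at h1
    exact h1.symm
  have := finite_steinbergGroup (K := F) D hD7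
  apply hasCyclicSchurMultiplier_one_of_lift hperf
  intro E _ π₁ hπ hc
  -- transport the extension to the group presented by (R1), (R2)
  have hπ' : Function.Surjective (ε.symm.toMonoidHom.comp π₁) := ε.symm.surjective.comp hπ
  have hc' : (ε.symm.toMonoidHom.comp π₁).ker ≤ Subgroup.center E := by
    intro x hx
    apply hc
    rw [MonoidHom.mem_ker] at hx ⊢
    have : ε.symm (π₁ x) = 1 := hx
    rwa [MulEquiv.map_eq_one_iff] at this
  obtain ⟨τ, hτ⟩ := hlift E (ε.symm.toMonoidHom.comp π₁) hπ' hc'
  refine ⟨τ.comp ε.symm.toMonoidHom, ?_⟩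
  refine MonoidHom.ext fun x => ?_
  have := DFunLike.congr_fun hτ (ε.symm x)
  simp only [MonoidHom.comp_apply, MulEquiv.coe_toMonoidHom, MonoidHom.id_apply] at this ⊢
  exact ε.symm.injective this

end

end Cfsg.Agent.Helper40.Hz
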