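import Cfsg.Agent.Helper40.NcMain

/-!
Helper40: lifting in the natural characteristic: lifts of commuting root elements commute (their lifted commutator
is bi-additive, hence of order dividing `p`, hence trivial), and the construction of an additive system of lifts
from an expression of every root element as a commutator `x_r(t) = [g, x_q(c t)]` with `x_r`, `x_q` commuting
(`g` a root element, or a torus element and `q = r`).
-/

set_option autoImplicit false
set_option linter.unusedSectionVars false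

namespace Cfsg.Agent.Helper40.Nc

open Cfsg Cfsg.Lie Cfsg.Agent.Helper18 Cfsg.Agent.Helper40.ChevAdd Cfsg.Agent.Helper40.St Cfsg.Agent.Helper40.LC
  Cfsg.Agent.Helper40.Uc Cfsg.Agent.Helper40.Hy

section
variable {K : Type*} [Field K] {D : ChevalleyDatum} {Γ : Type*} [Group Γ] {X : ℕ → K → Γ}
  {hadd : ChevAdd.addOK D = true} {π : Γ →* GL D.Idx K}
  {G₁ E : Type*} [Group G₁] [Group E] {π₁ : E →* G₁} {σ : Γ →* G₁}

/-- the context of the lifting problem in the natural characteristic -/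
structure PCtx (p : ℕ) (D : ChevalleyDatum) (hadd : ChevAdd.addOK D = true) (X : ℕ → K → Γ)
    (π : Γ →* GL D.Idx K) (π₁ : E →* G₁) (σ : Γ →* G₁) : Prop where
  hD : D ∈ [chevG2, chevB2, chevD4, chevF4, chevE6, chevE7, chevE8]
  O : Over D hadd X π
  S : Setup π₁ σ
  UD : UcData D
  hp : (p : K) = 0
  tf : ∀ z ∈ π₁.ker, z ^ p = 1 → z = 1

theorem commute_X_of_cp (O : Over D hadd X π) {a b : ℕ} (h : CP D a b) (t u : K) : Commute (X a t) (X b u) := by
  have := O.comm a b h.1 h.2.1 h.2.2.1 h.2.2.2.1 t u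
  unfold ChevalleyDatum.commWord at this
  rw [h.2.2.2.2] at this
  simp only [List.map_nil, wordG, List.prod_nil, mul_one] at this
  exact this.symm

theorem commute_X_self (O : Over D hadd X π) {r : ℕ} (hr : r < D.nroots) (t u : K) : Commute (X r t) (X r u) := by
  show X r t * X r u = X r u * X r t
  rw [← O.add r hr, ← O.add r hr, add_comm]

/-- the commutator of two root elements whose roots add up to a root (one-term formula) -/
theorem comm_ex1 (O : Over D hadd X π) {a b m : ℕ} {C' : ℤ} (h : EX1 D a b m C') (t u : K) :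
    X b u * X a t * (X b u)⁻¹ * (X a t)⁻¹ = X m (-((C' : K) * t * u)) := by
  have h1 := O.comm a b h.1 h.2.1 h.2.2.1 h.2.2.2.1 (-t) (-u)
  unfold ChevalleyDatum.commWord at h1
  rw [h.2.2.2.2] at h1
  simp only [List.map_cons, List.map_nil, wordG, List.prod_cons, List.prod_nil, mul_one, pow_one] at h1
  rw [O.toRels.X_neg a h.1, O.toRels.X_neg b h.2.1] at h1
  have e : (C' : K) * - -t * -u = -((C' : K) * t * u) := by ring
  rw [e] at h1
  calc X b u * X a t * (X b u)⁻¹ * (X a t)⁻¹ = X b u * X a t * ((X b u)⁻¹ * (X a t)⁻¹) := by group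
    _ = X b u * X a t * ((X a t)⁻¹ * (X b u)⁻¹ * X m (-((C' : K) * t * u))) := by rw [h1]
    _ = _ := by group

namespace PCtx

variable {p : ℕ} (C : PCtx p D hadd X π π₁ σ)
include C

/-- **lifts of commuting root elements commute** -/
theorem lc_of_commute {a b : ℕ} (ha : a < D.nroots) (hc : ∀ t u : K, Commute (X a t) (X b u)) (t u : K) :
    C.S.lc (X a t) (X b u) = 1 := by
  apply pow_trick p C.hp (fun t => C.S.lc (X a t) (X b u))
  · intro t t'
    show C.S.lc (X a (t + t')) (X b u) = _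
    rw [C.O.add a ha, C.S.lc_mul_left (hc t' u)]
    exact (Subgroup.mem_center_iff.mp (C.S.lc_mem_center (hc t' u)) _).symm
  · intro t h
    exact C.tf _ (C.S.lc_mem_ker (hc t u)) h

/-- **the system of lifts** built from expressions of the root elements as commutators -/
theorem nctx_of_gen (f : ℕ → Γ × ℕ × K)
    (hf : ∀ r, r < D.nroots → (f r).2.1 < D.nroots ∧ (∀ t u : K, Commute (X r t) (X (f r).2.1 u)) ∧
      ∀ t : K, (f r).1 * X (f r).2.1 ((f r).2.2 * t) * (f r).1⁻¹ * (X (f r).2.1 ((f r).2.2 * t))⁻¹ = X r t) :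
    NCtx p D hadd X π π₁ σ (fun r t => C.S.lc (f r).1 (X (f r).2.1 ((f r).2.2 * t))) := by
  have hlift : ∀ r, r < D.nroots → ∀ t : K,
      IsLift π₁ σ (C.S.lc (f r).1 (X (f r).2.1 ((f r).2.2 * t))) (X r t) := by
    intro r hr t
    have := C.S.isLift_lc (f r).1 (X (f r).2.1 ((f r).2.2 * t))
    rwa [(hf r hr).2.2 t] at this
  refine ⟨C.hD, C.O, C.S, C.UD, C.hp, C.tf, hlift, ?_, ?_⟩
  · intro r hr t u
    obtain ⟨hq, hc, -⟩ := hf r hr
    show C.S.lc _ (X (f r).2.1 ((f r).2.2 * (t + u))) = _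
    rw [mul_add, C.O.add _ hq, C.S.lc_mul_right' (C.S.lift_spec _)]
    have hcm : Commute (C.S.lift (X (f r).2.1 ((f r).2.2 * t))) (C.S.lc (f r).1 (X (f r).2.1 ((f r).2.2 * u))) :=
      (C.S.commute_of_lc_eq_one (C.lc_of_commute hr hc u _) (hlift r hr u) (C.S.lift_spec _)).symm
    rw [hcm.eq, mul_inv_cancel_right]
  · intro a b h t u
    exact C.S.commute_of_lc_eq_one (C.lc_of_commute h.1 (fun t u => commute_X_of_cp C.O h t u) t u)
      (hlift a h.1 t) (hlift b h.2.1 u)

end PCtx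

/-- `x_r(t) = [g, x_q(c t)]` for all `t`, with `x_r`, `x_q` commuting -/
def GenExp (D : ChevalleyDatum) (X : ℕ → K → Γ) (r : ℕ) : Prop :=
  ∃ (g : Γ) (q : ℕ) (c : K), q < D.nroots ∧ (∀ t u : K, Commute (X r t) (X q u)) ∧
    ∀ t : K, g * X q (c * t) * g⁻¹ * (X q (c * t))⁻¹ = X r t

/-- a root which is the sum of two roots, with invertible constant -/
theorem genExp_of_decU (O : Over D hadd X π) {two : Bool} (hU : ∀ C : ℤ, UnitC two C → (C : K) ≠ 0) {r : ℕ}
    (h : DecU two D r r) : GenExp D X r := by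
  obtain ⟨p', q', C', hex, hC, cp, -⟩ := h
  refine ⟨X q' 1, p', -(C' : K)⁻¹, hex.1, fun t u => (commute_X_of_cp O cp u t).symm, ?_⟩
  intro t
  rw [comm_ex1 O hex]
  congr 1
  have := hU C' hC
  field_simp

/-- a root on which a torus element acts by a scalar other than `1` -/
theorem genExp_of_tor (hD : D ∈ [chevG2, chevB2, chevD4, chevF4, chevE6, chevE7, chevE8]) (O : Over D hadd X π)
    {r : ℕ} (hr : r < D.nroots) (m : List ℤ) (v : K) (hv : v ≠ 0) (hne : v ^ lvlF D m r ≠ 1) : GenExp D X r := by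
  have hc : v ^ lvlF D m r - 1 ≠ 0 := sub_ne_zero.mpr hne
  refine ⟨tor D X m v, r, (v ^ lvlF D m r - 1)⁻¹, hr, fun t u => commute_X_self O hr t u, ?_⟩
  intro t
  rw [tor_act hD O m v hv r hr, ← O.toRels.X_neg r hr, ← O.add r hr]
  congr 1
  field_simp
  ring

/-- every root is a sum of two roots with invertible constant, or is moved by the torus (fields with `n + 1`
elements) -/
def GenData (n : ℕ) (two : Bool) (D : ChevalleyDatum) : Prop :=
  ∀ r, r < D.nroots → DecU two D r r ∨ ∃ m : List ℤ, ¬ (n : ℤ) ∣ lvlF D m r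

def genRowB (n : ℕ) (two : Bool) (D : ChevalleyDatum) (r : ℕ) : Bool :=
  decUB two D r r || (cands D).any fun m => decide (¬ (n : ℤ) ∣ lvlFast D m r)

def genB (n : ℕ) (two : Bool) (D : ChevalleyDatum) : Bool := (List.range D.nroots).all (genRowB n two D)

theorem genData_of (n : ℕ) (two : Bool) (D : ChevalleyDatum) (hA : addAllOK D = true) (h : genB n two D = true) :
    GenData n two D := by
  intro r hr
  unfold genB at h
  rw [List.all_eq_true] at h
  have h1 := h r (List.mem_range.mpr hr)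
  unfold genRowB at h1
  rw [Bool.or_eq_true, List.any_eq_true] at h1
  rcases h1 with h1 | ⟨m, -, h1⟩
  · exact Or.inl (decU_of two D r r h1)
  · rw [decide_eq_true_eq, lvlFast_eq D hA _ r hr] at h1
    exact Or.inr ⟨m, h1⟩

/-- expressions of all root elements as commutators, from `GenData` -/
theorem exists_gen (hD : D ∈ [chevG2, chevB2, chevD4, chevF4, chevE6, chevE7, chevE8]) (O : Over D hadd X π)
    {n : ℕ} {two : Bool} (GD : GenData n two D)
    (hv : ∃ v : K, v ≠ 0 ∧ ∀ d : ℤ, ¬ (n : ℤ) ∣ d → v ^ d ≠ 1) (hU : ∀ C : ℤ, UnitC two C → (C : K) ≠ 0) :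
    ∃ f : ℕ → Γ × ℕ × K, ∀ r, r < D.nroots → (f r).2.1 < D.nroots ∧
      (∀ t u : K, Commute (X r t) (X (f r).2.1 u)) ∧
      ∀ t : K, (f r).1 * X (f r).2.1 ((f r).2.2 * t) * (f r).1⁻¹ * (X (f r).2.1 ((f r).2.2 * t))⁻¹ = X r t := by
  have h : ∀ r, ∃ x : Γ × ℕ × K, r < D.nroots → x.2.1 < D.nroots ∧
      (∀ t u : K, Commute (X r t) (X x.2.1 u)) ∧
      ∀ t : K, x.1 * X x.2.1 (x.2.2 * t) * x.1⁻¹ * (X x.2.1 (x.2.2 * t))⁻¹ = X r t := by
    intro r
    by_cases hr : r < D.nroots
    · have hg : GenExp D X r := by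
        rcases GD r hr with h1 | ⟨m, hm⟩
        · exact genExp_of_decU O hU h1
        · obtain ⟨v, hv0, hvd⟩ := hv
          exact genExp_of_tor hD O hr m v hv0 (hvd _ hm)
      obtain ⟨g, q, c, h1, h2, h3⟩ := hg
      exact ⟨(g, q, c), fun _ => ⟨h1, h2, h3⟩⟩
    · exact ⟨(1, 0, 0), fun h' => absurd h' hr⟩
  choose f hf using h
  exact ⟨f, hf⟩

end

end Cfsg.Agent.Helper40.Nc
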