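import Cfsg.Agent.Helper40.HzWeyl
import Cfsg.Agent.Helper40.NcY

/-!
Helper40: small fields, second version: **the field with three elements**.  Root-system facts (as decidable checks)
under which the group presented by (R1), (R2) over the field with three elements is centrally closed, covering `D₄`
(orthogonal roots are interchanged by an element of `N̄` with signs of product `1`) and `B₂` (in addition: the long
root elements are lifted as commutators of short root elements, which gives the one-term formulas by definition, and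
the defects of the two-term formulas are additive in both variables).
-/

set_option autoImplicit false
set_option linter.unusedSectionVars false

namespace Cfsg.Agent.Helper40.Hz

open Cfsg Cfsg.Lie Cfsg.Agent.Helper18 Cfsg.Agent.Helper40.ChevAdd Cfsg.Agent.Helper40.St Cfsg.Agent.Helper40.LC
  Cfsg.Agent.Helper40.Uc Cfsg.Agent.Helper40.Hy Cfsg.Agent.Helper40.NMono

/-- the roots `r`, `s` are interchanged by a word of fundamental reflections, with signs of product `1` -/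
def Swap (D : ChevalleyDatum) (pi : ℕ → ℕ → ℕ) (eta : ℕ → ℕ → ℤ) (r s : ℕ) : Prop :=
  ∃ w : List ℕ, (∀ i ∈ w, i < D.rank) ∧ (actW pi eta w r).1 = s ∧ (actW pi eta w s).1 = r ∧
    (((actW pi eta w r).2 = 1 ∧ (actW pi eta w s).2 = 1) ∨ ((actW pi eta w r).2 = -1 ∧ (actW pi eta w s).2 = -1))

def swapB (D : ChevalleyDatum) (pi : ℕ → ℕ → ℕ) (eta : ℕ → ℕ → ℤ) (w : List ℕ) (r s : ℕ) : Bool :=
  w.all (fun i => decide (i < D.rank)) && decide ((actW pi eta w r).1 = s) && decide ((actW pi eta w s).1 = r) &&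
    ((decide ((actW pi eta w r).2 = 1) && decide ((actW pi eta w s).2 = 1)) ||
      (decide ((actW pi eta w r).2 = -1) && decide ((actW pi eta w s).2 = -1)))

theorem swap_of (D : ChevalleyDatum) (pi : ℕ → ℕ → ℕ) (eta : ℕ → ℕ → ℤ) (w : List ℕ) (r s : ℕ)
    (h : swapB D pi eta w r s = true) : Swap D pi eta r s := by
  unfold swapB at h
  simp only [Bool.and_eq_true, Bool.or_eq_true, decide_eq_true_eq, List.all_eq_true] at h
  exact ⟨w, h.1.1.1, h.1.1.2, h.1.2, h.2⟩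

/-- the word of the certificate table for the pair `(r, s)` -/
def certOf (cert : List (ℕ × ℕ × List ℕ)) (r s : ℕ) : List ℕ :=
  ((cert.find? fun e => e.1 == r && e.2.1 == s).map fun e => e.2.2).getD []

/-- every decomposition of `m1` as a sum of two roots with a one-term formula is `r + s` or `s + r` -/
def uniqB (D : ChevalleyDatum) (m1 r s : ℕ) : Bool :=
  (List.range D.nroots).all fun p => (List.range D.nroots).all fun q =>
    match D.commTerms p q with
    | [(m, _, 1, 1)] => (m != m1) || (p == r && q == s) || (p == s && q == r)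
    | _ => true

theorem uniq_of (D : ChevalleyDatum) (m1 r s : ℕ) (h : uniqB D m1 r s = true) (p q : ℕ) (C : ℤ)
    (hex : EX1 D p q m1 C) : (p = r ∧ q = s) ∨ (p = s ∧ q = r) := by
  unfold uniqB at h
  rw [List.all_eq_true] at h
  have h1 := h p (List.mem_range.mpr hex.1)
  rw [List.all_eq_true] at h1
  have h2 := h1 q (List.mem_range.mpr hex.2.1)
  rw [hex.2.2.2.2] at h2
  simp only [bne_self_eq_false, Bool.false_or, Bool.or_eq_true, Bool.and_eq_true, beq_iff_eq] at h2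
  exact h2

/-- the facts used for the pair `(r, s)` over the field with three elements -/
inductive PairQ3 (D : ChevalleyDatum) (pi : ℕ → ℕ → ℕ) (eta : ℕ → ℕ → ℤ) (r s : ℕ) : Prop
  | hy (h : PairHy 2 true D r s) : PairQ3 D pi eta r s
  | sw (h : D.commTerms r s = []) (w : Swap D pi eta r s) : PairQ3 D pi eta r s
  | n1h (m1 : ℕ) (C1 : ℤ) (h : D.commTerms r s = [(m1, C1, 1, 1)]) (h' : D.commTerms s r = [(m1, -C1, 1, 1)])
      (cr : CP D r m1) (cs : CP D s m1) (hdec : DecU true D m1 m1)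
      (uniq : ∀ p q C, EX1 D p q m1 C → (p = r ∧ q = s) ∨ (p = s ∧ q = r)) : PairQ3 D pi eta r s
  | n2a' (m1 m2 : ℕ) (C1 C2 C4 : ℤ) (h : D.commTerms r s = [(m1, C1, 1, 1), (m2, C2, 1, 2)])
      (e1 : EX1 D s m1 m2 C4) (c2 : CP D s m2) (c12 : CP D m1 m2) (num : -(2 * C2) = C1 * C4)
      (tor : TorN 2 D r s) : PairQ3 D pi eta r s
  | n2b' (m1 m2 : ℕ) (C1 C2 C4 : ℤ) (h : D.commTerms r s = [(m1, C1, 1, 1), (m2, C2, 2, 1)])
      (e1 : EX1 D r m1 m2 C4) (c2 : CP D r m2) (c12 : CP D m1 m2) (num : 2 * C2 = C1 * C4)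
      (tor : TorN 2 D s r) : PairQ3 D pi eta r s

def pairQ3B (D : ChevalleyDatum) (pi : ℕ → ℕ → ℕ) (eta : ℕ → ℕ → ℤ) (cert : List (ℕ × ℕ × List ℕ)) (r s : ℕ) :
    Bool :=
  pairHyB 2 true D r s ||
  match D.commTerms r s with
  | [] => swapB D pi eta (certOf cert r s) r s
  | [(m1, C1, 1, 1)] =>
      decide (D.commTerms s r = [(m1, -C1, 1, 1)]) && cpB D r m1 && cpB D s m1 && decUB true D m1 m1 &&
        uniqB D m1 r s
  | [(m1, C1, 1, 1), (m2, C2, 1, 2)] =>
      ex1B D s m1 m2 (single D s m1).2 && cpB D s m2 && cpB D m1 m2 &&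
        decide (-(2 * C2) = C1 * (single D s m1).2) && torNB 2 D r s
  | [(m1, C1, 1, 1), (m2, C2, 2, 1)] =>
      ex1B D r m1 m2 (single D r m1).2 && cpB D r m2 && cpB D m1 m2 &&
        decide (2 * C2 = C1 * (single D r m1).2) && torNB 2 D s r
  | _ => false

theorem pairQ3_of (D : ChevalleyDatum) (hA : addAllOK D = true) (pi : ℕ → ℕ → ℕ) (eta : ℕ → ℕ → ℤ)
    (cert : List (ℕ × ℕ × List ℕ)) (r s : ℕ) (h : pairQ3B D pi eta cert r s = true) : PairQ3 D pi eta r s := by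
  unfold pairQ3B at h
  rw [Bool.or_eq_true] at h
  rcases h with h | h
  · exact PairQ3.hy (pairHy_of 2 true D hA r s h)
  split at h
  · rename_i hL
    exact PairQ3.sw hL (swap_of D pi eta _ r s h)
  · rename_i m1 C1 hL
    simp only [Bool.and_eq_true, decide_eq_true_eq] at h
    obtain ⟨⟨⟨⟨h1, h2⟩, h3⟩, h4⟩, h5⟩ := h
    exact PairQ3.n1h m1 C1 hL h1 (cp_of D _ _ h2) (cp_of D _ _ h3) (decU_of true D _ _ h4) (uniq_of D m1 r s h5)
  · rename_i m1 C1 m2 C2 hL
    simp only [Bool.and_eq_true, decide_eq_true_eq] at h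
    obtain ⟨⟨⟨⟨h1, h2⟩, h3⟩, h4⟩, h5⟩ := h
    exact PairQ3.n2a' m1 m2 C1 C2 _ hL (ex1_of D _ _ _ _ h1) (cp_of D _ _ h2) (cp_of D _ _ h3) h4
      (torN_of 2 D hA _ _ h5)
  · rename_i m1 C1 m2 C2 hL
    simp only [Bool.and_eq_true, decide_eq_true_eq] at h
    obtain ⟨⟨⟨⟨h1, h2⟩, h3⟩, h4⟩, h5⟩ := h
    exact PairQ3.n2b' m1 m2 C1 C2 _ hL (ex1_of D _ _ _ _ h1) (cp_of D _ _ h2) (cp_of D _ _ h3) h4
      (torN_of 2 D hA _ _ h5)
  · exact absurd h (by simp)

/-- the check for the root `r` -/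
def q3Row (D : ChevalleyDatum) (pi : ℕ → ℕ → ℕ) (eta : ℕ → ℕ → ℤ) (cert : List (ℕ × ℕ × List ℕ)) (r : ℕ) : Bool :=
  (List.range D.nroots).all fun s => decide (s = r) || decide (s = D.neg r) || pairQ3B D pi eta cert r s

def q3Chunk (D : ChevalleyDatum) (pi : ℕ → ℕ → ℕ) (eta : ℕ → ℕ → ℤ) (cert : List (ℕ × ℕ × List ℕ)) (lo len : ℕ) :
    Bool := (List.range' lo len).all (q3Row D pi eta cert)

/-- the root-system facts for the field with three elements -/
structure Q3Data (D : ChevalleyDatum) (pi : ℕ → ℕ → ℕ) (eta : ℕ → ℕ → ℤ) : Prop where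
  tab : ∀ i, i < D.rank → nOK D i (pi i) (eta i) = true ∧ piOK D i (pi i) = true
  pair : ∀ r s, r < D.nroots → s < D.nroots → s ≠ r → s ≠ D.neg r → PairQ3 D pi eta r s
  gen : Nc.GenData 2 true D

theorem q3_pair_of (D : ChevalleyDatum) (hA : addAllOK D = true) (pi : ℕ → ℕ → ℕ) (eta : ℕ → ℕ → ℤ)
    (cert : List (ℕ × ℕ × List ℕ)) (h : q3Chunk D pi eta cert 0 D.nroots = true) :
    ∀ r s, r < D.nroots → s < D.nroots → s ≠ r → s ≠ D.neg r → PairQ3 D pi eta r s := by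
  intro r s hr hs h1 h2
  unfold q3Chunk at h
  rw [List.all_eq_true] at h
  have h3 := h r (by rw [List.mem_range']; exact ⟨r, hr, by omega⟩)
  unfold q3Row at h3
  rw [List.all_eq_true] at h3
  have h4 := h3 s (List.mem_range.mpr hs)
  simp only [Bool.or_eq_true, decide_eq_true_eq] at h4
  rcases h4 with (h4 | h4) | h4
  · exact absurd h4 h1
  · exact absurd h4 h2
  · exact pairQ3_of D hA pi eta cert r s h4

theorem q3Chunk_add (D : ChevalleyDatum) (pi : ℕ → ℕ → ℕ) (eta : ℕ → ℕ → ℤ) (cert : List (ℕ × ℕ × List ℕ))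
    (lo a b : ℕ) (h1 : q3Chunk D pi eta cert lo a = true) (h2 : q3Chunk D pi eta cert (lo + a) b = true) :
    q3Chunk D pi eta cert lo (a + b) = true := by
  unfold q3Chunk at *
  have e : List.range' lo (a + b) = List.range' lo a ++ List.range' (lo + a) b := by
    rw [← List.range'_append]
    simp
  rw [e, List.all_append, h1, h2]
  rfl

section
variable {K : Type*} [Field K] {D : ChevalleyDatum} {Γ : Type*} [Group Γ] {X : ℕ → K → Γ}
  {hadd : ChevAdd.addOK D = true} {π : Γ →* GL D.Idx K}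
  {G₁ E : Type*} [Group G₁] [Group E] {π₁ : E →* G₁} {σ : Γ →* G₁}

namespace ZCtx

variable {n : ℕ} {Y : ℕ → K → E} (Z : ZCtx n D hadd X π π₁ σ Y)
include Z

/-- the defect at `u = 1` of the decomposition defining the lift of `x_m` vanishes -/
theorem zd_hub {p q m : ℕ} {C : ℤ} (hex : EX1 D p q m C) (cp : CP D p m) (cq : CP D q m) (hC : (C : K) ≠ 0)
    (hY : ∀ t : K, Y m t = Z.S.lc (X q 1) (X p (-(C : K)⁻¹ * t))) (x : K) : Hy.Zd D Y p q x 1 = 1 := by
  have hp := hex.1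
  have hq := hex.2.1
  have hm := cp.2.1
  have e0 : -(C : K)⁻¹ * ((C : K) * -x * 1) = x := by field_simp
  have h1 : Y m ((C : K) * -x * 1) = Y q 1 * Y p x * (Y q 1)⁻¹ * (Y p x)⁻¹ := by
    rw [hY, e0, Z.S.lc_eq (Z.isLift q hq 1) (Z.isLift p hp x)]
  have c1 : Commute (Y p x) (Y m ((C : K) * -x * 1)) := Z.comm _ _ cp _ _
  have c2 : Commute (Y q 1) (Y m ((C : K) * -x * 1)) := Z.comm _ _ cq _ _
  unfold Hy.Zd
  rw [Z.hW1 m C hex.2.2.2.2]
  have e1 : Y p x * Y q 1 * Y m ((C : K) * -x * 1) = Y q 1 * Y p x := by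
    rw [mul_assoc, c2.eq, ← mul_assoc, c1.eq, h1]
    group
  rw [e1, inv_mul_cancel]

/-- over the field with three elements a defect vanishing at `u = 1` and additive in `u` vanishes -/
theorem zd_of_one (hpm : ∀ w : K, w ≠ 0 → w = 1 ∨ w = -1) (f : K → E) (hadd' : ∀ u u', f (u + u') = f u * f u')
    (h1 : f 1 = 1) (u : K) : f u = 1 := by
  have h0 : f 0 = 1 := by
    have := hadd' 0 0
    rw [add_zero] at this
    exact (mul_eq_left.mp this.symm)
  by_cases hu : u = 0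
  · rw [hu, h0]
  rcases hpm u hu with rfl | rfl
  · exact h1
  · have := hadd' 1 (-1)
    rw [add_neg_cancel, h0, h1, one_mul] at this
    exact this.symm

/-- the defect of the reversed pair -/
theorem zd_rev {p q m : ℕ} {C : ℤ} (hex : EX1 D p q m C) (hex' : EX1 D q p m (-C))
    (hz : ∀ t u : K, Hy.Zd D Y p q t u = 1) (t u : K) : Hy.Zd D Y q p u t = 1 := by
  have hm : m < D.nroots :=
    (commTerms_lvl D Z.hD (lvlF D []) (fun v hv => isAdditiveAt_lvlF_of_mem D Z.hD [] v hv) p q hex.1 hex.2.1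
      (m, C, 1, 1) (by rw [hex.2.2.2.2]; exact List.mem_singleton.mpr rfl)).1
  have h1 := Z.rel_n1_of_zd hex t u (hz t u)
  unfold Hy.Zd
  rw [Z.hW1 m (-C) hex'.2.2.2.2]
  have e : ((-C : ℤ) : K) * -u * t = -((C : K) * -t * u) := by push_cast; ring
  rw [e, Z.Y_neg hm, h1]
  group

end ZCtx

/-- **the field with three elements**: a system of lifts of the root elements satisfying (R1), (R2) -/
theorem q3_lift (L : LCtx 2 true D hadd X π π₁ σ)
    (gen : Subgroup.closure {g | ∃ r < D.nroots, ∃ t : K, g = X r t} = ⊤) (perf : commutator Γ = ⊤)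
    (hpm : ∀ w : K, w ≠ 0 → w = 1 ∨ w = -1) (h3 : (3 : K) = 0)
    (pi : ℕ → ℕ → ℕ) (eta : ℕ → ℕ → ℤ) (Q : Q3Data D pi eta) :
    ∃ Y : ℕ → K → E, (∀ r, r < D.nroots → ∀ t : K, IsLift π₁ σ (Y r t) (X r t)) ∧ Rels D Y := by
  -- step A
  have lc_cp : ∀ a b, CP D a b → ∀ t u : K, L.S.lc (X a t) (X b u) = 1 := by
    intro a b h t u
    have hc : ∀ t u : K, Commute (X a t) (X b u) := fun t u => Nc.commute_X_of_cp L.O h t u
    rcases Q.pair a b h.1 h.2.1 h.2.2.1 h.2.2.2.1 with hy | ⟨-, w, hw, hrs, hsr, hsign⟩ | ⟨_, _, hL, -, -, -, -, -⟩ |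
      ⟨_, _, _, _, _, hL, -, -, -, -, -⟩ | ⟨_, _, _, _, _, hL, -, -, -, -, -⟩
    · rcases hy with ⟨-, w⟩ | ⟨_, _, hL, -, -⟩ | ⟨_, _, _, _, hL, -, -, -, -⟩ | ⟨_, _, _, _, hL, -, -, -, -⟩
      · rcases w with (w | w) | (w | w)
        · exact L.lc_of_torN h.1 h.2.1 w hc t u
        · rw [L.S.lc_swap, L.lc_of_torN h.2.1 h.1 w (fun u t => (hc t u).symm) u t, inv_one]
        · exact L.lc_of_decU w t u
        · rw [L.S.lc_swap, L.lc_of_decU w u t, inv_one]
      all_goals (rw [h.2.2.2.2] at hL; cases hL)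
    · exact L.lc_of_swap hpm h3 pi eta w (fun i hi => ⟨hw i hi, Q.tab i (hw i hi)⟩) h.1 h.2.1 hrs hsr hsign hc t u
    all_goals (rw [h.2.2.2.2] at hL; cases hL)
  have W : WCtx 2 D hadd X π π₁ σ :=
    ⟨L.hD, L.O, gen, L.S, perf, L.hv, fun r hr t u => L.lc_self_cyc hpm hr t u, lc_cp⟩
  -- the lifts, root by root
  have hex : ∀ r, ∃ y : K → E, r < D.nroots → LiftOK D X π₁ σ r y ∧ (DecU true D r r →
      ∃ p q C, EX1 D p q r C ∧ (C : K) ≠ 0 ∧ CP D p r ∧ CP D q r ∧
        ∀ t : K, y t = L.S.lc (X q 1) (X p (-(C : K)⁻¹ * t))) := by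
    intro r
    by_cases hr : r < D.nroots
    · by_cases hdec : DecU true D r r
      · obtain ⟨p, q, C, hex, hC, cp, cq⟩ := hdec
        refine ⟨fun t => L.S.lc (X q 1) (X p (-(C : K)⁻¹ * t)), fun _ => ⟨?_, fun _ => ?_⟩⟩
        · exact W.liftOK_comm hpm p q C hex (L.hU C hC) cp cq
        · exact ⟨p, q, C, hex, L.hU C hC, cp, cq, fun t => rfl⟩
      · rcases Q.gen r hr with h1 | ⟨m, hm⟩
        · exact absurd h1 hdec
        · obtain ⟨v, hv0, hvd⟩ := L.hv
          exact ⟨_, fun _ => ⟨W.liftOK_tor hr m v hv0 (hvd _ hm), fun h => absurd h hdec⟩⟩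
    · exact ⟨fun _ => 1, fun h => absurd h hr⟩
  choose Y hY using hex
  have Z : ZCtx 2 D hadd X π π₁ σ Y := W.zctx_of_liftOK Y (fun r hr => (hY r hr).1)
  refine ⟨Y, Z.isLift, ?_⟩
  -- the one-term formulas
  have hn1 : ∀ p q m (c : ℤ), EX1 D p q m c → ∀ t u : K, Hy.Zd D Y p q t u = 1 := by
    intro p q m c hex t u
    obtain ⟨hp, hq, h1, h2, hL⟩ := hex
    rcases Q.pair p q hp hq h1 h2 with hy | ⟨h', -⟩ | ⟨m1, C1, h', h'', cr, cs, hdec, uniq⟩ |
      ⟨_, _, _, _, _, h', -, -, -, -, -⟩ | ⟨_, _, _, _, _, h', -, -, -, -, -⟩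
    · rcases hy with ⟨h', -⟩ | ⟨m1, C1, h', c1, tor⟩ | ⟨_, _, _, _, h', -, -, -, -⟩ | ⟨_, _, _, _, h', -, -, -, -⟩
      · rw [hL] at h'; cases h'
      · exact Z.zd_n1 hp hq h1 h2 m1 C1 h' c1 tor t u
      all_goals (rw [hL] at h'; cases h')
    · rw [hL] at h'; cases h'
    · -- the lift of `x_{m1}` is a lifted commutator of `x_p`, `x_q` or of `x_q`, `x_p`
      obtain ⟨p₀, q₀, C₀, hex₀, hC₀, cp₀, cq₀, hdef⟩ := (hY m1 cr.2.1).2 hdec
      have exPQ : EX1 D p q m1 C1 := ⟨hp, hq, h1, h2, h'⟩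
      have exQP : EX1 D q p m1 (-C1) := ⟨hq, hp, fun e => h1 e.symm, by
        intro e
        apply h2
        obtain ⟨φ, S⟩ := exists_std D Z.hD
        rw [e, S.neg_neg q hq], h''⟩
      rcases uniq p₀ q₀ C₀ hex₀ with ⟨hp0, hq0⟩ | ⟨hp0, hq0⟩
      · -- the defining decomposition is `(p, q)`
        subst p₀
        subst q₀
        have hC : C₀ = C1 := by
          have := hex₀.2.2.2.2
          rw [h'] at this
          simp only [List.cons.injEq, Prod.mk.injEq, and_true, true_and] at this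
          exact this.symm
        subst hC
        apply Z.zd_of_one hpm (fun u => Hy.Zd D Y p q t u)
          (fun u u' => Z.zd_add_n1_right hp hq h1 h2 m1 C₀ h' cs t u u')
        exact Z.zd_hub hex₀ cp₀ cq₀ hC₀ hdef t
      · -- the defining decomposition is `(q, p)`
        subst p₀
        subst q₀
        have hC : C₀ = -C1 := by
          have := hex₀.2.2.2.2
          rw [h''] at this
          simp only [List.cons.injEq, Prod.mk.injEq, and_true, true_and] at this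
          exact this.symm
        subst hC
        have hz : ∀ u t : K, Hy.Zd D Y q p u t = 1 := by
          intro u t
          apply Z.zd_of_one hpm (fun t => Hy.Zd D Y q p u t)
            (fun t t' => Z.zd_add_n1_right hq hp (fun e => h1 e.symm) exQP.2.2.2.1 m1 (-C1) h'' cr u t t')
          exact Z.zd_hub hex₀ cp₀ cq₀ hC₀ hdef u
        have exPQ' : EX1 D p q m1 (- -C1) := by rw [neg_neg]; exact exPQ
        exact Z.zd_rev exQP exPQ' hz u t
    all_goals (rw [hL] at h'; cases h')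
  apply Z.rels_of_zd
  intro r s hr hs h1 h2 t u
  rcases Q.pair r s hr hs h1 h2 with hy | ⟨h', -⟩ | ⟨m1, C1, h', -, -, -, -, -⟩ |
    ⟨m1, m2, C1, C2, C4, h', e1, c2, c12, num, tor⟩ | ⟨m1, m2, C1, C2, C4, h', e1, c2, c12, num, tor⟩
  · rcases hy with ⟨h', -⟩ | ⟨m1, C1, h', c1, tor⟩ | ⟨m1, m2, C1, C2, h', c1, c2, c12, tor⟩ |
      ⟨m1, m2, C1, C2, h', c1, c2, c12, tor⟩
    · exact Z.zd_n0 ⟨hr, hs, h1, h2, h'⟩ t u
    · exact Z.zd_n1 hr hs h1 h2 m1 C1 h' c1 tor t u
    · exact Z.zd_n2a hr hs h1 h2 m1 m2 C1 C2 h' c1 c2 c12 tor t u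
    · exact Z.zd_n2b hr hs h1 h2 m1 m2 C1 C2 h' c1 c2 c12 tor t u
  · exact Z.zd_n0 ⟨hr, hs, h1, h2, h'⟩ t u
  · exact hn1 r s m1 C1 ⟨hr, hs, h1, h2, h'⟩ t u
  · apply Z.zd_eq_one_of_add_right hr hs h1 h2 tor
    intro t u u'
    exact Z.zd_add_n2a_right hr hs h1 h2 m1 m2 C1 C2 C4 h' e1
      (fun x u => Z.rel_n1_of_zd e1 u x (hn1 _ _ _ _ e1 u x)) c2 c12 num t u u'
  · apply Z.zd_eq_one_of_add_left hr hs h1 h2 tor
    intro t t' u
    exact Z.zd_add_n2b_left hr hs h1 h2 m1 m2 C1 C2 C4 h' e1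
      (fun x t => Z.rel_n1_of_zd e1 t x (hn1 _ _ _ _ e1 t x)) c2 c12 num t t' u

end

end Cfsg.Agent.Helper40.Hz
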