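import Cfsg.Agent.Helper40.UcRoots

/-! Helper40: the checks of `UcRoots` for `D₄`, `F₄`, `E₆`. -/

set_option autoImplicit false

namespace Cfsg.Agent.Helper40.Uc

open Cfsg Cfsg.Lie

set_option maxRecDepth 100000 in
theorem ucB_D4 : ucB chevD4 = true := by decide +kernel

set_option maxRecDepth 100000 in
theorem ucB_F4 : ucB chevF4 = true := by decide +kernel

set_option maxRecDepth 100000 in
theorem ucE6_0 : ucChunk chevE6 0 36 = true := by decide +kernel

set_option maxRecDepth 100000 in
theorem ucE6_36 : ucChunk chevE6 36 36 = true := by decide +kernel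

theorem ucB_E6 : ucB chevE6 = true := ucChunk_add chevE6 0 36 36 ucE6_0 ucE6_36

end Cfsg.Agent.Helper40.Uc
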