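import Cfsg.Agent.Helper40.NcY
import Cfsg.Agent.Helper40.UcDataA
import Cfsg.Agent.Helper40.LiftAux

/-!
Helper40: **lifting in the natural characteristic for the types `G₂`, `B₂`, `D₄`, `F₄` over the fields with two,
three and four elements**: homomorphisms out of the group presented by (R1), (R2) lift through every surjection
with central kernel without `p`-torsion (`p` the characteristic).
-/

set_option autoImplicit false

namespace Cfsg.Agent.Helper40.Nc

open Cfsg Cfsg.Lie Cfsg.Agent.Helper18 Cfsg.Agent.Helper40.ChevAdd Cfsg.Agent.Helper40.St Cfsg.Agent.Helper40.LC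
  Cfsg.Agent.Helper40.Uc Cfsg.Agent.Helper40.Hy Cfsg.Agent.Helper40.Sl

set_option maxRecDepth 100000 in
theorem genB_D4_1 : genB 1 false chevD4 = true := by decide +kernel

set_option maxRecDepth 100000 in
theorem genB_D4_2 : genB 2 true chevD4 = true := by decide +kernel

set_option maxRecDepth 100000 in
theorem genB_D4_3 : genB 3 false chevD4 = true := by decide +kernel

set_option maxRecDepth 100000 in
theorem genB_F4_1 : genB 1 false chevF4 = true := by decide +kernel

set_option maxRecDepth 100000 in
theorem genB_F4_2 : genB 2 true chevF4 = true := by decide +kernel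

set_option maxRecDepth 100000 in
theorem genB_F4_3 : genB 3 false chevF4 = true := by decide +kernel

set_option maxRecDepth 100000 in
theorem genB_G2_2 : genB 2 true chevG2 = true := by decide +kernel

set_option maxRecDepth 100000 in
theorem genB_G2_3 : genB 3 false chevG2 = true := by decide +kernel

set_option maxRecDepth 100000 in
theorem genB_B2_2 : genB 2 true chevB2 = true := by decide +kernel

set_option maxRecDepth 100000 in
theorem genB_B2_3 : genB 3 false chevB2 = true := by decide +kernel

/-- the root-system facts of `UcRoots` for the four small types -/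
theorem ucData_small (D : ChevalleyDatum) (hD : D ∈ [chevG2, chevB2, chevD4, chevF4]) : UcData D := by
  have hA : addAllOK D = true := addAllOK_of_mem D (by
    simp only [allData, List.mem_cons, List.not_mem_nil, or_false] at hD ⊢
    rcases hD with h | h | h | h <;> simp [h])
  simp only [List.mem_cons, List.not_mem_nil, or_false] at hD
  rcases hD with rfl | rfl | rfl | rfl
  · exact ucData_of _ hA ucB_G2
  · exact ucData_of _ hA ucB_B2
  · exact ucData_of _ hA ucB_D4
  · exact ucData_of _ hA ucB_F4

section
variable {K : Type*} [Field K]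

/-- **lifting in the natural characteristic**, from the root-system facts `GenData` -/
theorem nc_cover_lift (D : ChevalleyDatum) (hD : D ∈ [chevG2, chevB2, chevD4, chevF4, chevE6, chevE7, chevE8])
    (UD : UcData D) {n : ℕ} {two : Bool} (GD : GenData n two D)
    (hv : ∃ v : K, v ≠ 0 ∧ ∀ d : ℤ, ¬ (n : ℤ) ∣ d → v ^ d ≠ 1) (hU : ∀ C : ℤ, UnitC two C → (C : K) ≠ 0)
    (p : ℕ) (hp : (p : K) = 0)
    {G₁ E : Type*} [Group G₁] [Group E] (π₁ : E →* G₁) (hπ : Function.Surjective π₁)
    (hc : π₁.ker ≤ Subgroup.center E) (tf : ∀ z ∈ π₁.ker, z ^ p = 1 → z = 1)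
    (σ : D.SteinbergCover K →* G₁) :
    ∃ τ : D.SteinbergCover K →* E, π₁.comp τ = σ := by
  have hadd := ChevAdd.addOK_of_mem hD
  have hG := lift_rels (K := K) D hadd hD
  have hGAB : ∀ g ∈ D.steinbergRelsAB K, FreeGroup.lift (fGL D hadd) g = 1 :=
    fun g hg => hG g (relsAB_subset D hg)
  have O := over_presented hadd (D.steinbergRelsAB K) (fun _ h => h) hGAB
  have P : PCtx p D hadd (fun r t => PresentedGroup.mk (D.steinbergRelsAB K) (D.stX r t))
      (PresentedGroup.toGroup hGAB) π₁ σ := ⟨hD, O, ⟨hπ, hc⟩, UD, hp, tf⟩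
  obtain ⟨f, hf⟩ := exists_gen hD O GD hv hU
  have N := P.nctx_of_gen f hf
  have R := N.rels
  have hY := lift_relsAB_of_rels' D hD _ R
  refine ⟨PresentedGroup.toGroup hY, ?_⟩
  apply PresentedGroup.ext
  intro q
  rw [MonoidHom.comp_apply, PresentedGroup.toGroup.of]
  have h1 := N.isLift q.1.val q.1.isLt q.2
  unfold IsLift at h1
  rw [h1]
  congr 1
  unfold ChevalleyDatum.stX
  rw [dif_pos q.1.isLt]
  rfl

end

end Cfsg.Agent.Helper40.Nc
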