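import Cfsg.Agent.Helper40.HzQ3
import Cfsg.Agent.Helper40.NcFinal

/-!
Helper40: the checks of `HzQ3` (field with three elements) for `D₄` and `B₂`: sign tables of the fundamental
reflections (from `NData`), certificate words interchanging the orthogonal pairs of roots, and the `decide` runs.
-/

set_option autoImplicit false

namespace Cfsg.Agent.Helper40.Hz

open Cfsg Cfsg.Lie Cfsg.Agent.Helper18 Cfsg.Agent.Helper40.NData Cfsg.Agent.Helper40.NMono Cfsg.Agent.Helper40.Hy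

def piD4 : ℕ → ℕ → ℕ := fun i => match i with | 0 => piD4_0 | 1 => piD4_1 | 2 => piD4_2 | _ => piD4_3
def etaD4 : ℕ → ℕ → ℤ := fun i => match i with | 0 => etaD4_0 | 1 => etaD4_1 | 2 => etaD4_2 | _ => etaD4_3
def piB2 : ℕ → ℕ → ℕ := fun i => match i with | 0 => piB2_0 | _ => piB2_1
def etaB2 : ℕ → ℕ → ℤ := fun i => match i with | 0 => etaB2_0 | _ => etaB2_1

/-- words of fundamental reflections interchanging the orthogonal pairs of roots of `D₄` -/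
def certD4 : List (ℕ × ℕ × List ℕ) :=
  [(0, 5, [1, 2, 3, 1]), (0, 10, [1, 0, 3, 1]), (0, 11, [1, 0, 2, 1]), (0, 12, [3, 1, 0, 2, 1, 3]),
    (0, 13, [2, 1, 0, 3, 1, 2]), (0, 18, [0, 1, 2, 3, 1, 0]), (1, 4, [2, 3]), (1, 7, [0, 3]), (1, 8, [0, 2]),
    (1, 15, [3, 1, 0, 2, 1, 3]), (1, 16, [2, 1, 0, 3, 1, 2]), (1, 19, [0, 1, 2, 3, 1, 0]), (2, 3, [2, 3]),
    (2, 6, [0, 3]), (2, 9, [0, 2]), (2, 14, [1, 0, 2, 1]), (2, 17, [0, 2, 1, 0, 3, 1, 0, 2]),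
    (2, 20, [0, 1, 2, 1, 3, 1, 0, 2]), (3, 2, [2, 3]), (3, 6, [0, 2]), (3, 9, [0, 3]), (3, 14, [1, 0, 3, 1]),
    (3, 17, [0, 2, 3, 1, 0, 2, 1, 3]), (3, 21, [0, 1, 2, 1, 3, 1, 0, 2]), (4, 1, [2, 3]), (4, 7, [0, 2]),
    (4, 8, [0, 3]), (4, 15, [0, 1, 0, 3, 1, 0]), (4, 16, [0, 1, 0, 2, 1, 0]), (4, 22, [0, 1, 2, 3, 1, 0]),
    (5, 0, [1, 2, 3, 1]), (5, 10, [1, 0, 2, 1]), (5, 11, [1, 0, 3, 1]), (5, 12, [0, 1, 0, 3, 1, 0]),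
    (5, 13, [0, 1, 0, 2, 1, 0]), (5, 23, [0, 1, 2, 3, 1, 0]), (6, 2, [0, 3]), (6, 3, [0, 2]), (6, 9, [2, 3]),
    (6, 14, [1, 2, 3, 1]), (6, 20, [0, 2, 3, 1, 0, 2, 1, 3]), (6, 21, [0, 2, 1, 0, 3, 1, 0, 2]),
    (7, 1, [0, 3]), (7, 4, [0, 2]), (7, 8, [2, 3]), (7, 15, [1, 2, 1, 3, 1, 2]), (7, 19, [0, 1, 0, 2, 1, 0]),
    (7, 22, [2, 1, 0, 3, 1, 2]), (8, 1, [0, 2]), (8, 4, [0, 3]), (8, 7, [2, 3]), (8, 16, [1, 2, 1, 3, 1, 2]),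
    (8, 19, [0, 1, 0, 3, 1, 0]), (8, 22, [3, 1, 0, 2, 1, 3]), (9, 2, [0, 2]), (9, 3, [0, 3]), (9, 6, [2, 3]),
    (9, 17, [1, 2, 3, 1]), (9, 20, [1, 0, 3, 1]), (9, 21, [1, 0, 2, 1]), (10, 0, [1, 0, 3, 1]),
    (10, 5, [1, 0, 2, 1]), (10, 11, [1, 2, 3, 1]), (10, 12, [1, 2, 1, 3, 1, 2]),
    (10, 18, [0, 1, 0, 2, 1, 0]), (10, 23, [2, 1, 0, 3, 1, 2]), (11, 0, [1, 0, 2, 1]), (11, 5, [1, 0, 3, 1]),
    (11, 10, [1, 2, 3, 1]), (11, 13, [1, 2, 1, 3, 1, 2]), (11, 18, [0, 1, 0, 3, 1, 0]),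
    (11, 23, [3, 1, 0, 2, 1, 3]), (12, 0, [3, 1, 0, 2, 1, 3]), (12, 5, [0, 1, 0, 3, 1, 0]),
    (12, 10, [1, 2, 1, 3, 1, 2]), (12, 13, [1, 2, 3, 1]), (12, 18, [1, 0, 3, 1]), (12, 23, [1, 0, 2, 1]),
    (13, 0, [2, 1, 0, 3, 1, 2]), (13, 5, [0, 1, 0, 2, 1, 0]), (13, 11, [1, 2, 1, 3, 1, 2]),
    (13, 12, [1, 2, 3, 1]), (13, 18, [1, 0, 2, 1]), (13, 23, [1, 0, 3, 1]), (14, 2, [1, 0, 2, 1]),
    (14, 3, [1, 0, 3, 1]), (14, 6, [1, 2, 3, 1]), (14, 17, [2, 3]), (14, 20, [0, 3]), (14, 21, [0, 2]),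
    (15, 1, [3, 1, 0, 2, 1, 3]), (15, 4, [0, 1, 0, 3, 1, 0]), (15, 7, [1, 2, 1, 3, 1, 2]), (15, 16, [2, 3]),
    (15, 19, [0, 3]), (15, 22, [0, 2]), (16, 1, [2, 1, 0, 3, 1, 2]), (16, 4, [0, 1, 0, 2, 1, 0]),
    (16, 8, [1, 2, 1, 3, 1, 2]), (16, 15, [2, 3]), (16, 19, [0, 2]), (16, 22, [0, 3]),
    (17, 2, [0, 2, 1, 0, 3, 1, 0, 2]), (17, 3, [0, 2, 3, 1, 0, 2, 1, 3]), (17, 9, [1, 2, 3, 1]),
    (17, 14, [2, 3]), (17, 20, [0, 2]), (17, 21, [0, 3]), (18, 0, [0, 1, 2, 3, 1, 0]),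
    (18, 10, [0, 1, 0, 2, 1, 0]), (18, 11, [0, 1, 0, 3, 1, 0]), (18, 12, [1, 0, 3, 1]),
    (18, 13, [1, 0, 2, 1]), (18, 23, [1, 2, 3, 1]), (19, 1, [0, 1, 2, 3, 1, 0]), (19, 7, [0, 1, 0, 2, 1, 0]),
    (19, 8, [0, 1, 0, 3, 1, 0]), (19, 15, [0, 3]), (19, 16, [0, 2]), (19, 22, [2, 3]),
    (20, 2, [0, 1, 2, 1, 3, 1, 0, 2]), (20, 6, [0, 2, 3, 1, 0, 2, 1, 3]), (20, 9, [1, 0, 3, 1]),
    (20, 14, [0, 3]), (20, 17, [0, 2]), (20, 21, [2, 3]), (21, 3, [0, 1, 2, 1, 3, 1, 0, 2]),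
    (21, 6, [0, 2, 1, 0, 3, 1, 0, 2]), (21, 9, [1, 0, 2, 1]), (21, 14, [0, 2]), (21, 17, [0, 3]),
    (21, 20, [2, 3]), (22, 4, [0, 1, 2, 3, 1, 0]), (22, 7, [2, 1, 0, 3, 1, 2]), (22, 8, [3, 1, 0, 2, 1, 3]),
    (22, 15, [0, 2]), (22, 16, [0, 3]), (22, 19, [2, 3]), (23, 5, [0, 1, 2, 3, 1, 0]),
    (23, 10, [2, 1, 0, 3, 1, 2]), (23, 11, [3, 1, 0, 2, 1, 3]), (23, 12, [1, 0, 2, 1]),
    (23, 13, [1, 0, 3, 1]), (23, 18, [1, 2, 3, 1])]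

/-- words of fundamental reflections interchanging the orthogonal pairs of long roots of `B₂` -/
def certB2 : List (ℕ × ℕ × List ℕ) :=
  [(0, 3, [0]), (0, 4, [1, 0, 1]), (3, 0, [0]), (3, 7, [1, 0, 1]), (4, 0, [1, 0, 1]), (4, 7, [0]),
    (7, 3, [1, 0, 1]), (7, 4, [0])]

set_option maxRecDepth 100000 in
theorem q3D4_0 : q3Chunk chevD4 piD4 etaD4 certD4 0 8 = true := by decide +kernel

set_option maxRecDepth 100000 in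
theorem q3D4_8 : q3Chunk chevD4 piD4 etaD4 certD4 8 8 = true := by decide +kernel

set_option maxRecDepth 100000 in
theorem q3D4_16 : q3Chunk chevD4 piD4 etaD4 certD4 16 8 = true := by decide +kernel

set_option maxRecDepth 100000 in
theorem q3B2_0 : q3Chunk chevB2 piB2 etaB2 certB2 0 8 = true := by decide +kernel

theorem q3Data_D4 : Q3Data chevD4 piD4 etaD4 where
  tab := by
    intro i hi
    have hrk : chevD4.rank = 4 := rfl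
    rw [hrk] at hi
    interval_cases i
    · exact ⟨nOK_D4_0, piOK_D4_0⟩
    · exact ⟨nOK_D4_1, piOK_D4_1⟩
    · exact ⟨nOK_D4_2, piOK_D4_2⟩
    · exact ⟨nOK_D4_3, piOK_D4_3⟩
  pair := q3_pair_of chevD4 (addAllOK_of_mem chevD4 (by simp [allData])) piD4 etaD4 certD4
    (q3Chunk_add chevD4 piD4 etaD4 certD4 0 8 16 q3D4_0 (q3Chunk_add chevD4 piD4 etaD4 certD4 8 8 8 q3D4_8 q3D4_16))
  gen := Nc.genData_of 2 true chevD4 (addAllOK_of_mem chevD4 (by simp [allData])) Nc.genB_D4_2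

theorem q3Data_B2 : Q3Data chevB2 piB2 etaB2 where
  tab := by
    intro i hi
    have hrk : chevB2.rank = 2 := rfl
    rw [hrk] at hi
    interval_cases i
    · exact ⟨nOK_B2_0, piOK_B2_0⟩
    · exact ⟨nOK_B2_1, piOK_B2_1⟩
  pair := q3_pair_of chevB2 (addAllOK_of_mem chevB2 (by simp [allData])) piB2 etaB2 certB2 q3B2_0
  gen := Nc.genData_of 2 true chevB2 (addAllOK_of_mem chevB2 (by simp [allData])) Nc.genB_B2_2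

end Cfsg.Agent.Helper40.Hz
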