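import Cfsg.Agent.Helper40.HzStep

/-!
Helper40: small fields, second version: **the field with four elements, type `B₂`**.  Lifts of commuting root
elements of different roots commute by the torus or decomposition arguments; lifts of root elements of one root
commute because the root element is a term of a two-term commutator formula of roots commuting with it (for the
short roots one of these commutes only because `2 = 0`).  The lifts are lifted commutators with torus elements, and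
the relations follow by Steinberg's torus argument.
-/

set_option autoImplicit false
set_option linter.unusedSectionVars false

namespace Cfsg.Agent.Helper40.Hz

open Cfsg Cfsg.Lie Cfsg.Agent.Helper18 Cfsg.Agent.Helper40.ChevAdd Cfsg.Agent.Helper40.St Cfsg.Agent.Helper40.LC
  Cfsg.Agent.Helper40.Uc Cfsg.Agent.Helper40.Hy

/-- `x_r` is the first term of the formula of `p'`, `q'`; `p'` and the second root commute with `r`, and the
formula of `q'`, `r` has one term with an even constant -/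
def SelfAlt1 (D : ChevalleyDatum) (r : ℕ) : Prop :=
  ∃ p' q' m2 m3 : ℕ, ∃ C1 C2 C3 : ℤ, p' < D.nroots ∧ q' < D.nroots ∧ q' ≠ p' ∧ q' ≠ D.neg p' ∧
    D.commTerms p' q' = [(r, C1, 1, 1), (m2, C2, 1, 2)] ∧ (C1 = 1 ∨ C1 = -1) ∧ CP D p' r ∧ CP D m2 r ∧
    r ≠ q' ∧ r ≠ D.neg q' ∧ m3 < D.nroots ∧ D.commTerms q' r = [(m3, C3, 1, 1)] ∧ (C3 = 2 ∨ C3 = -2)

/-- `x_r` is the second term of the formula of `p'`, `q'`, all of whose roots commute with `r` -/
def SelfAlt2 (D : ChevalleyDatum) (r : ℕ) : Prop :=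
  ∃ p' q' m1 : ℕ, ∃ C1 C2 : ℤ, p' < D.nroots ∧ q' < D.nroots ∧ q' ≠ p' ∧ q' ≠ D.neg p' ∧
    D.commTerms p' q' = [(m1, C1, 1, 1), (r, C2, 1, 2)] ∧ (C2 = 1 ∨ C2 = -1) ∧ CP D p' r ∧ CP D q' r ∧ CP D m1 r

/-- the root-system facts for the field with four elements -/
structure Q4Data (D : ChevalleyDatum) : Prop where
  pair : ∀ r s, r < D.nroots → s < D.nroots → s ≠ r → s ≠ D.neg r → PairHy 3 false D r s
  self : ∀ r, r < D.nroots → SelfAlt1 D r ∨ SelfAlt2 D r
  torr : ∀ r, r < D.nroots → ∃ m : List ℤ, ¬ ((3 : ℕ) : ℤ) ∣ lvlF D m r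

def pairsB (n : ℕ) (two : Bool) (D : ChevalleyDatum) : Bool :=
  (List.range D.nroots).all fun r => (List.range D.nroots).all fun s =>
    decide (s = r) || decide (s = D.neg r) || pairHyB n two D r s

theorem pairs_of (n : ℕ) (two : Bool) (D : ChevalleyDatum) (hA : addAllOK D = true) (h : pairsB n two D = true) :
    ∀ r s, r < D.nroots → s < D.nroots → s ≠ r → s ≠ D.neg r → PairHy n two D r s := by
  intro r s hr hs h1 h2
  unfold pairsB at h
  rw [List.all_eq_true] at h
  have h3 := h r (List.mem_range.mpr hr)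
  rw [List.all_eq_true] at h3
  have h4 := h3 s (List.mem_range.mpr hs)
  simp only [Bool.or_eq_true, decide_eq_true_eq] at h4
  rcases h4 with (h4 | h4) | h4
  · exact absurd h4 h1
  · exact absurd h4 h2
  · exact pairHy_of n two D hA r s h4

def torrB (n : ℕ) (D : ChevalleyDatum) : Bool :=
  (List.range D.nroots).all fun r => (cands D).any fun m => decide (¬ (n : ℤ) ∣ lvlFast D m r)

theorem torr_of (n : ℕ) (D : ChevalleyDatum) (hA : addAllOK D = true) (h : torrB n D = true) :
    ∀ r, r < D.nroots → ∃ m : List ℤ, ¬ (n : ℤ) ∣ lvlF D m r := by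
  intro r hr
  unfold torrB at h
  rw [List.all_eq_true] at h
  have h1 := h r (List.mem_range.mpr hr)
  rw [List.any_eq_true] at h1
  obtain ⟨m, -, h1⟩ := h1
  rw [decide_eq_true_eq, lvlFast_eq D hA _ r hr] at h1
  exact ⟨m, h1⟩

section
variable {K : Type*} [Field K] {D : ChevalleyDatum} {Γ : Type*} [Group Γ] {X : ℕ → K → Γ}
  {hadd : ChevAdd.addOK D = true} {π : Γ →* GL D.Idx K}
  {G₁ E : Type*} [Group G₁] [Group E] {π₁ : E →* G₁} {σ : Γ →* G₁}

/-- **lifting over the field with four elements**, from the root-system facts `Q4Data` -/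
theorem q4_lift (L : LCtx 3 false D hadd X π π₁ σ)
    (gen : Subgroup.closure {g | ∃ r < D.nroots, ∃ t : K, g = X r t} = ⊤) (perf : commutator Γ = ⊤)
    (h2 : (2 : K) = 0) (Q : Q4Data D) :
    ∃ Y : ℕ → K → E, (∀ r, r < D.nroots → ∀ t : K, IsLift π₁ σ (Y r t) (X r t)) ∧ Rels D Y := by
  -- step A, different roots
  have lc_cp : ∀ a b, CP D a b → ∀ t u : K, L.S.lc (X a t) (X b u) = 1 := by
    intro a b h t u
    have hc : ∀ t u : K, Commute (X a t) (X b u) := fun t u => Nc.commute_X_of_cp L.O h t u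
    rcases Q.pair a b h.1 h.2.1 h.2.2.1 h.2.2.2.1 with ⟨-, w⟩ | ⟨_, _, hL, -, -⟩ | ⟨_, _, _, _, hL, -, -, -, -⟩ |
      ⟨_, _, _, _, hL, -, -, -, -⟩
    · rcases w with (w | w) | (w | w)
      · exact L.lc_of_torN h.1 h.2.1 w hc t u
      · rw [L.S.lc_swap, L.lc_of_torN h.2.1 h.1 w (fun u t => (hc t u).symm) u t, inv_one]
      · exact L.lc_of_decU w t u
      · rw [L.S.lc_swap, L.lc_of_decU w u t, inv_one]
    all_goals (rw [h.2.2.2.2] at hL; cases hL)
  -- step A, one root
  have lc_self : ∀ r, r < D.nroots → ∀ t u : K, L.S.lc (X r t) (X r u) = 1 := by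
    intro r hr t u
    rcases Q.self r hr with ⟨p', q', m2, m3, C1, C2, C3, hp, hq, h1, h2', hL, hC1, cp, cm, hrq, hrnq, hm3, hL3, hC3⟩ |
      ⟨p', q', m1, C1, C2, hp, hq, h1, h2', hL, hC2, cp, cq, cm⟩
    · have hcq : ∀ x u : K, Commute (X q' x) (X r u) := by
        intro x u
        have hrel := L.O.comm q' r hq hr hrq hrnq x u
        unfold ChevalleyDatum.commWord at hrel
        rw [hL3] at hrel
        simp only [List.map_cons, List.map_nil, wordG, List.prod_cons, List.prod_nil, mul_one, pow_one] at hrel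
        have hz : (C3 : K) = 0 := by
          rcases hC3 with rfl | rfl
          · exact_mod_cast h2
          · push_cast
            rw [h2, neg_zero]
        rw [hz, zero_mul, zero_mul, L.O.toRels.X_zero m3 hm3, mul_one] at hrel
        exact hrel.symm
      have hC : (C1 : K) ≠ 0 := by
        rcases hC1 with rfl | rfl <;> simp
      exact L.lc_self_alt1 hp hq h1 h2' hL hC cm.1 (fun x u => Nc.commute_X_of_cp L.O cp x u) hcq
        (fun x u => Nc.commute_X_of_cp L.O cm x u) (fun x u => lc_cp _ _ cm x u) t u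
    · have hC : (C2 : K) ≠ 0 := by
        rcases hC2 with rfl | rfl <;> simp
      exact L.lc_self_alt2 hp hq h1 h2' hL hC cm.1 (fun x u => Nc.commute_X_of_cp L.O cp x u)
        (fun x u => Nc.commute_X_of_cp L.O cq x u) (fun x u => lc_cp _ _ cm x u) t u
  have W : WCtx 3 D hadd X π π₁ σ := ⟨L.hD, L.O, gen, L.S, perf, L.hv, lc_self, lc_cp⟩
  -- the lifts, root by root
  have hex : ∀ r, ∃ y : K → E, r < D.nroots → LiftOK D X π₁ σ r y := by
    intro r
    by_cases hr : r < D.nroots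
    · obtain ⟨m, hm⟩ := Q.torr r hr
      obtain ⟨v, hv0, hvd⟩ := L.hv
      exact ⟨_, fun _ => W.liftOK_tor hr m v hv0 (hvd _ hm)⟩
    · exact ⟨fun _ => 1, fun h => absurd h hr⟩
  choose Y hY using hex
  have Z : ZCtx 3 D hadd X π π₁ σ Y := W.zctx_of_liftOK Y hY
  refine ⟨Y, Z.isLift, ?_⟩
  apply Z.rels_of_zd
  intro r s hr hs h1 h2' t u
  rcases Q.pair r s hr hs h1 h2' with ⟨h', -⟩ | ⟨m1, C1, h', c1, tor⟩ | ⟨m1, m2, C1, C2, h', c1, c2, c12, tor⟩ |
      ⟨m1, m2, C1, C2, h', c1, c2, c12, tor⟩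
  · exact Z.zd_n0 ⟨hr, hs, h1, h2', h'⟩ t u
  · exact Z.zd_n1 hr hs h1 h2' m1 C1 h' c1 tor t u
  · exact Z.zd_n2a hr hs h1 h2' m1 m2 C1 C2 h' c1 c2 c12 tor t u
  · exact Z.zd_n2b hr hs h1 h2' m1 m2 C1 C2 h' c1 c2 c12 tor t u

end

end Cfsg.Agent.Helper40.Hz
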