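import Cfsg.Agent.Helper40.HzQ4
import Cfsg.Agent.Helper40.HzQ3Data

/-!
Helper40: the checks of `HzQ4` (field with four elements) for `B₂`, and the checks of `HyRoots` for `D₄` over the
field with four elements.
-/

set_option autoImplicit false

namespace Cfsg.Agent.Helper40.Hz

open Cfsg Cfsg.Lie Cfsg.Agent.Helper18 Cfsg.Agent.Helper40.NData Cfsg.Agent.Helper40.NMono Cfsg.Agent.Helper40.Hy
  Cfsg.Agent.Helper40.Uc

set_option maxRecDepth 100000 in
theorem pairsB_B2_3 : pairsB 3 false chevB2 = true := by decide +kernel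

set_option maxRecDepth 100000 in
theorem torrB_B2_3 : torrB 3 chevB2 = true := by decide +kernel

instance instDecidableCP (D : ChevalleyDatum) (a b : ℕ) : Decidable (CP D a b) := by unfold CP; infer_instance

set_option maxRecDepth 100000 in
theorem self_B2 : ∀ r, r < chevB2.nroots → SelfAlt1 chevB2 r ∨ SelfAlt2 chevB2 r := by
  intro r hr
  have hn : chevB2.nroots = 8 := by decide +kernel
  rw [hn] at hr
  interval_cases r
  · exact Or.inr ⟨3, 2, 1, -1, -1, by decide +kernel⟩
  · exact Or.inl ⟨0, 5, 3, 3, 1, -1, 2, by decide +kernel⟩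
  · exact Or.inl ⟨0, 6, 4, 4, -1, 1, 2, by decide +kernel⟩
  · exact Or.inr ⟨0, 5, 1, 1, -1, by decide +kernel⟩
  · exact Or.inr ⟨0, 6, 2, -1, 1, by decide +kernel⟩
  · exact Or.inl ⟨3, 6, 7, 7, 1, 1, -2, by decide +kernel⟩
  · exact Or.inl ⟨4, 5, 7, 7, 1, -1, 2, by decide +kernel⟩
  · exact Or.inr ⟨3, 6, 5, 1, 1, by decide +kernel⟩

theorem q4Data_B2 : Q4Data chevB2 where
  pair := pairs_of 3 false chevB2 (addAllOK_of_mem chevB2 (by simp [allData])) pairsB_B2_3
  self := self_B2
  torr := torr_of 3 chevB2 (addAllOK_of_mem chevB2 (by simp [allData])) torrB_B2_3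

set_option maxRecDepth 100000 in
theorem hyD4_q4_0 : hyChunk 3 false chevD4 0 12 = true := by decide +kernel

set_option maxRecDepth 100000 in
theorem hyD4_q4_12 : hyChunk 3 false chevD4 12 12 = true := by decide +kernel

theorem hyData_D4_q4 : HyData 3 false chevD4 :=
  hyData_of 3 false chevD4 (addAllOK_of_mem chevD4 (by simp [allData]))
    (hyChunk_add 3 false chevD4 0 12 12 hyD4_q4_0 hyD4_q4_12)

end Cfsg.Agent.Helper40.Hz
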