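import Cfsg.Agent.Helper40.HzY

/-!
Helper40: small fields, second version, step A: the ways of proving that lifts of two commuting root elements
commute: a torus element separating the roots, a decomposition of one root into roots commuting with the other,
a root element written through a two-term commutator formula (for `x_r(t)`, `x_r(u)`), cyclicity of the root
subgroups over the field with three elements.
-/

set_option autoImplicit false
set_option linter.unusedSectionVars false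

namespace Cfsg.Agent.Helper40.Hz

open Cfsg Cfsg.Lie Cfsg.Agent.Helper18 Cfsg.Agent.Helper40.ChevAdd Cfsg.Agent.Helper40.St Cfsg.Agent.Helper40.LC
  Cfsg.Agent.Helper40.Uc Cfsg.Agent.Helper40.Hy

section
variable {K : Type*} [Field K] {D : ChevalleyDatum} {Γ : Type*} [Group Γ] {X : ℕ → K → Γ}
  {hadd : ChevAdd.addOK D = true} {π : Γ →* GL D.Idx K}
  {G₁ E : Type*} [Group G₁] [Group E] {π₁ : E →* G₁} {σ : Γ →* G₁}

/-- the bare context of the lifting problem -/
structure LCtx (n : ℕ) (two : Bool) (D : ChevalleyDatum) (hadd : ChevAdd.addOK D = true) (X : ℕ → K → Γ)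
    (π : Γ →* GL D.Idx K) (π₁ : E →* G₁) (σ : Γ →* G₁) : Prop where
  hD : D ∈ [chevG2, chevB2, chevD4, chevF4, chevE6, chevE7, chevE8]
  O : Over D hadd X π
  S : Setup π₁ σ
  hv : ∃ v : K, v ≠ 0 ∧ ∀ d : ℤ, ¬ (n : ℤ) ∣ d → v ^ d ≠ 1
  hU : ∀ C : ℤ, UnitC two C → (C : K) ≠ 0

namespace LCtx

variable {n : ℕ} {two : Bool} (C : LCtx n two D hadd X π π₁ σ)
include C

/-- lifts of `x_r(t)` and `x_s(u)` commute when `r = p + q` with `p`, `q` commuting with `s` -/
theorem lc_of_decU {r s : ℕ} (h : DecU two D r s) (t u : K) : C.S.lc (X r t) (X s u) = 1 := by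
  obtain ⟨p, q, C', hex, hC, cp, cq⟩ := h
  have e : X q 1 * X p (-(C' : K)⁻¹ * t) * (X q 1)⁻¹ * (X p (-(C' : K)⁻¹ * t))⁻¹ = X r t := by
    rw [Nc.comm_ex1 C.O hex]
    congr 1
    have := C.hU C' hC
    field_simp
  rw [← e]
  exact C.S.lc_comm_trick (Nc.commute_X_of_cp C.O cq 1 u) (Nc.commute_X_of_cp C.O cp _ u)

/-- lifts of commuting root elements commute when a torus element separates the roots -/
theorem lc_of_torN {a b : ℕ} (ha : a < D.nroots) (hb : b < D.nroots) (h : TorN n D a b)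
    (hc : ∀ t u : K, Commute (X a t) (X b u)) (t u : K) : C.S.lc (X a t) (X b u) = 1 := by
  obtain ⟨m, h1, h2⟩ := h
  obtain ⟨v, hv0, hvd⟩ := C.hv
  have hinv : ∀ u : K, C.S.lc (X a t) (X b (v ^ lvlF D m b * u)) = C.S.lc (X a t) (X b u) := by
    intro u
    have h4 : C.S.lift (tor D X m v) * C.S.lc (X a t) (X b u) * (C.S.lift (tor D X m v))⁻¹ =
        C.S.lc (X a (v ^ lvlF D m a * t)) (X b (v ^ lvlF D m b * u)) := by
      rw [C.S.conj_lc (C.S.lift_spec _), tor_act C.hD C.O m v hv0 a ha, tor_act C.hD C.O m v hv0 b hb]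
    rw [Setup.conj_of_mem_center (C.S.lc_mem_center (hc t u)), h1, zpow_zero, one_mul] at h4
    exact h4.symm
  have hadd' : ∀ u u' : K, C.S.lc (X a t) (X b (u + u')) = C.S.lc (X a t) (X b u) * C.S.lc (X a t) (X b u') := by
    intro u u'
    rw [C.O.add b hb, C.S.lc_mul_right (hc t u')]
  exact add_trick' (fun u => C.S.lc (X a t) (X b u)) hadd' _ (hvd _ h2) hinv u

/-- lifts of the root elements of one root commute when the root is a sum of two roots commuting with it -/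
theorem lc_self_of_decU {r : ℕ} (h : DecU two D r r) (t u : K) : C.S.lc (X r t) (X r u) = 1 :=
  C.lc_of_decU h t u

/-- lifts of the root elements of one root commute over the field with three elements -/
theorem lc_self_cyc (hpm : ∀ w : K, w ≠ 0 → w = 1 ∨ w = -1) {r : ℕ} (hr : r < D.nroots) (t u : K) :
    C.S.lc (X r t) (X r u) = 1 := by
  by_cases ht : t = 0
  · rw [ht, C.O.toRels.X_zero r hr, C.S.lc_one_left]
  by_cases hu : u = 0
  · rw [hu, C.O.toRels.X_zero r hr, C.S.lc_one_right]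
  have hut : u = t ∨ u = -t := by
    rcases hpm t ht with h1 | h1 <;> rcases hpm u hu with h2 | h2 <;> rw [h1, h2] <;> simp
  rcases hut with rfl | rfl
  · exact C.S.lc_self _
  · rw [C.O.toRels.X_neg r hr, C.S.lc_inv_right (Commute.refl _), C.S.lc_self, inv_one]

/-- `x_r(t)` is the first term of a two-term commutator formula of roots commuting with `r` -/
theorem lc_self_alt1 {r p' q' m2 : ℕ} {C1 C2 : ℤ} (hp : p' < D.nroots) (hq : q' < D.nroots) (h1 : q' ≠ p')
    (h2 : q' ≠ D.neg p') (hL : D.commTerms p' q' = [(r, C1, 1, 1), (m2, C2, 1, 2)]) (hC : (C1 : K) ≠ 0)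
    (hm2 : m2 < D.nroots)
    (hcp : ∀ x u : K, Commute (X p' x) (X r u)) (hcq : ∀ x u : K, Commute (X q' x) (X r u))
    (hcm : ∀ x u : K, Commute (X m2 x) (X r u)) (hlm : ∀ x u : K, C.S.lc (X m2 x) (X r u) = 1) (t u : K) :
    C.S.lc (X r t) (X r u) = 1 := by
  set t₀ : K := -t / (C1 : K) with ht₀
  have hrel := C.O.comm p' q' hp hq h1 h2 t₀ 1
  unfold ChevalleyDatum.commWord at hrel
  rw [hL] at hrel
  simp only [List.map_cons, List.map_nil, wordG, List.prod_cons, List.prod_nil, mul_one, pow_one, one_pow] at hrel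
  have e1 : (C1 : K) * -t₀ = t := by
    rw [ht₀]
    field_simp
  rw [e1] at hrel
  have e2 : X r t = ((X q' 1)⁻¹ * (X p' t₀)⁻¹ * ((X q' 1)⁻¹)⁻¹ * ((X p' t₀)⁻¹)⁻¹) * X m2 (-((C2 : K) * -t₀)) := by
    rw [C.O.toRels.X_neg m2 hm2, inv_inv, inv_inv]
    have : X r t * X m2 ((C2 : K) * -t₀) = (X q' 1)⁻¹ * (X p' t₀)⁻¹ * X q' 1 * X p' t₀ := by
      rw [mul_assoc, mul_assoc, hrel]
      group
    rw [← this]
    group
  rw [e2, C.S.lc_mul_left (hcm _ u), hlm, one_mul]
  exact C.S.lc_comm_trick (hcq 1 u).inv_left (hcp t₀ u).inv_left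

/-- `x_r(t)` is the second term of a two-term commutator formula of roots commuting with `r` -/
theorem lc_self_alt2 {r p' q' m1 : ℕ} {C1 C2 : ℤ} (hp : p' < D.nroots) (hq : q' < D.nroots) (h1 : q' ≠ p')
    (h2 : q' ≠ D.neg p') (hL : D.commTerms p' q' = [(m1, C1, 1, 1), (r, C2, 1, 2)]) (hC : (C2 : K) ≠ 0)
    (hm1 : m1 < D.nroots)
    (hcp : ∀ x u : K, Commute (X p' x) (X r u)) (hcq : ∀ x u : K, Commute (X q' x) (X r u))
    (hlm : ∀ x u : K, C.S.lc (X m1 x) (X r u) = 1) (t u : K) :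
    C.S.lc (X r t) (X r u) = 1 := by
  set t₀ : K := -t / (C2 : K) with ht₀
  have hrel := C.O.comm p' q' hp hq h1 h2 t₀ 1
  unfold ChevalleyDatum.commWord at hrel
  rw [hL] at hrel
  simp only [List.map_cons, List.map_nil, wordG, List.prod_cons, List.prod_nil, mul_one, pow_one, one_pow] at hrel
  have e1 : (C2 : K) * -t₀ = t := by
    rw [ht₀]
    field_simp
  rw [e1] at hrel
  have e2 : X r t = X m1 (-((C1 : K) * -t₀)) * ((X q' 1)⁻¹ * (X p' t₀)⁻¹ * ((X q' 1)⁻¹)⁻¹ * ((X p' t₀)⁻¹)⁻¹) := by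
    rw [C.O.toRels.X_neg m1 hm1, inv_inv, inv_inv]
    have : X m1 ((C1 : K) * -t₀) * X r t = (X q' 1)⁻¹ * (X p' t₀)⁻¹ * X q' 1 * X p' t₀ := by
      rw [mul_assoc, mul_assoc, hrel]
      group
    rw [← this]
    group
  have hcc : Commute ((X q' 1)⁻¹ * (X p' t₀)⁻¹ * ((X q' 1)⁻¹)⁻¹ * ((X p' t₀)⁻¹)⁻¹) (X r u) :=
    Commute.mul_left (Commute.mul_left (Commute.mul_left (hcq 1 u).inv_left (hcp t₀ u).inv_left)
      (hcq 1 u).inv_left.inv_left) (hcp t₀ u).inv_left.inv_left
  rw [e2, C.S.lc_mul_left hcc, C.S.lc_comm_trick (hcq 1 u).inv_left (hcp t₀ u).inv_left, one_mul, hlm]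

end LCtx

end

end Cfsg.Agent.Helper40.Hz
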