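import Cfsg.Agent.Helper40.NMono

/-!
Helper40: the matrix of `n_p` (p fundamental) in closed form, from the monomial check.
-/

set_option autoImplicit false

namespace Cfsg.Agent.Helper40.NMono

open Cfsg Cfsg.Lie Cfsg.Agent.Helper18 Cfsg.Agent.Helper40.ChevAdd Cfsg.Agent.Helper40.SPC

variable {F : Type*} [Field F]

/-- the closed form of `n_p` as in the statement S1095 -/
def nForm (D : ChevalleyDatum) (F : Type*) [Field F] (i : ℕ) (η : ℕ → ℤ) : Matrix D.Idx D.Idx F :=
  Matrix.of (fun (row col : D.Idx) =>
        Sum.elim
          (fun j' : Fin D.rank => Sum.elim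
            (fun j : Fin D.rank => (if j' = j then (1 : F) else 0) - (if (j' : ℕ) = i then ((D.cartan j (D.simple i) : ℤ) : F) else 0))
            (fun _ => (0 : F)) col)
          (fun s' : Fin D.nroots => Sum.elim
            (fun _ => (0 : F))
            (fun s : Fin D.nroots => if (s' : ℕ) = D.reflectRoot i s then ((η s : ℤ) : F) else 0) col)
          row)

theorem nMat_eq_nForm (D : ChevalleyDatum) (i : ℕ) (π : ℕ → ℕ) (η : ℕ → ℤ) (hm : monoOK D i π η = true)
    (hπ : piOK D i π = true) : D.nMat F (D.simple i) 1 = nForm D F i η := by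
  have hsp := monoOK_spec D i π η hm
  apply matrix_ext_mulVec
  intro j
  rcases j with j | s
  · have h1 := mono_cartan (F := F) D i π η hm j
    unfold bI at h1
    rw [h1, Matrix.mulVec_single_one]
    funext row
    rcases row with k | u
    · simp only [nForm, Matrix.col_apply, Matrix.of_apply, Sum.elim_inl, Finset.sum_apply, Pi.smul_apply,
        Pi.single_apply, smul_eq_mul]
      rw [Finset.sum_eq_single k]
      · simp only [reflC, if_true, mul_one]
        push_cast
        have e1 : (if k.val = j.val then (1 : F) else 0) = if k = j then 1 else 0 := by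
          by_cases hkj : k = j
          · subst hkj; simp
          · have : ¬ k.val = j.val := fun e => hkj (Fin.ext e)
            simp [hkj, this]
        rw [e1]
      · intro b _ hb
        have : ¬ (Sum.inl k : D.Idx) = Sum.inl b := fun e => hb (Sum.inl.inj e).symm
        simp [this]
      · intro h; exact absurd (Finset.mem_univ _) h
    · simp only [nForm, Matrix.col_apply, Matrix.of_apply, Sum.elim_inl, Sum.elim_inr, Finset.sum_apply,
        Pi.smul_apply, Pi.single_apply, smul_eq_mul]
      apply Finset.sum_eq_zero
      intro b _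
      simp
  · have h1 := mono_root (F := F) D i π η hm s.val s.2 (hsp s.val s.2).1
    unfold bR at h1
    rw [h1, Matrix.mulVec_single_one]
    funext row
    rcases row with k | u
    · simp [nForm]
    · simp only [nForm, Matrix.col_apply, Matrix.of_apply, Sum.elim_inr, Pi.smul_apply, Pi.single_apply,
        smul_eq_mul]
      rw [← piOK_spec hπ s.val s.2]
      by_cases hu : u.val = π s.val
      · have : (Sum.inr u : D.Idx) = Sum.inr ⟨π s.val, (hsp s.val s.2).1⟩ := by
          congr 1; exact Fin.ext hu
        simp [hu, this]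
      · have : ¬ (Sum.inr u : D.Idx) = Sum.inr ⟨π s.val, (hsp s.val s.2).1⟩ := by
          intro e
          apply hu
          have := Sum.inr.inj e
          rw [this]
        simp [hu, this]

/-- the full statement of S1095 for one fundamental root -/
theorem exists_eta (D : ChevalleyDatum) (i : ℕ) (π : ℕ → ℕ) (η : ℕ → ℤ) (h : nOK D i π η = true)
    (hπ : piOK D i π = true) (he : etaOK D i π η = true) :
    ∃ η : ℕ → ℤ, (∀ s < D.nroots, η s = 1 ∨ η s = -1) ∧ η (D.simple i) = -1 ∧ η (D.neg (D.simple i)) = -1 ∧
      (∀ s < D.nroots, η s * η (D.reflectRoot i s) = (-1) ^ (D.cartan i s).natAbs ∧ η s * η (D.neg s) = 1) ∧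
      D.nMat F (D.simple i) 1 = nForm D F i η := by
  have h' := h
  unfold nOK at h'
  rw [Bool.and_eq_true] at h'
  have hsp := monoOK_spec D i π η h'.1
  unfold etaOK at he
  simp only [Bool.and_eq_true, decide_eq_true_eq, List.all_eq_true, List.mem_range] at he
  obtain ⟨⟨e1, e2⟩, e3⟩ := he
  refine ⟨η, fun s hs => (hsp s hs).2.1, e1, e2, ?_, nMat_eq_nForm D i π η h'.1 hπ⟩
  intro s hs
  rw [← piOK_spec hπ s hs]
  exact e3 s hs

end Cfsg.Agent.Helper40.NMono
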