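import Cfsg.Agent.Helper40.HzStep
import Cfsg.Agent.Helper40.StH
import Cfsg.Agent.Helper40.NData.All

/-!
Helper40: small fields, second version: conjugation of the root elements by products of the elements `n̄_p(1)`
(`p` fundamental) with explicit signs, read off the tables of `NData`, and the resulting argument for two orthogonal
roots `r`, `s` interchanged by such a product with signs of product `1`: the lifted commutator
`f(t, u) = [x̃_r(t), x̃_s(u)]` satisfies `f(t, u) f(u, t) = 1`; it is bi-additive, so over the field with three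
elements it is trivial.
-/

set_option autoImplicit false
set_option linter.unusedSectionVars false

namespace Cfsg.Agent.Helper40.Hz

open Cfsg Cfsg.Lie Cfsg.Agent.Helper18 Cfsg.Agent.Helper40.ChevAdd Cfsg.Agent.Helper40.St Cfsg.Agent.Helper40.LC
  Cfsg.Agent.Helper40.Uc Cfsg.Agent.Helper40.Hy Cfsg.Agent.Helper40.NMono Cfsg.Agent.Helper40.SL2Chev

/-- the root and the sign obtained by applying the fundamental reflections of the word `w`, first letter first -/
def actW (pi : ℕ → ℕ → ℕ) (eta : ℕ → ℕ → ℤ) : List ℕ → ℕ → ℕ × ℤ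
  | [], r => (r, 1)
  | i :: w, r => ((actW pi eta w (pi i r)).1, eta i r * (actW pi eta w (pi i r)).2)

section
variable {K : Type*} [Field K] {D : ChevalleyDatum} {Γ : Type*} [Group Γ] {X : ℕ → K → Γ}
  {hadd : ChevAdd.addOK D = true} {π : Γ →* GL D.Idx K}
  {G₁ E : Type*} [Group G₁] [Group E] {π₁ : E →* G₁} {σ : Γ →* G₁}

/-- the product of the `n̄_p(1)` along the word `w` (last letter leftmost) -/
def nwG (D : ChevalleyDatum) (X : ℕ → K → Γ) : List ℕ → Γ
  | [] => 1
  | i :: w => nwG D X w * nbar D X (D.simple i) 1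

/-- the action of `n̄_p(1)` with the sign of the table -/
theorem nbar_one_act_tab (hD : D ∈ [chevG2, chevB2, chevD4, chevF4, chevE6, chevE7, chevE8]) (O : Over D hadd X π)
    (i : ℕ) (hi : i < D.rank) (π' : ℕ → ℕ) (η : ℕ → ℤ) (hn : nOK D i π' η = true) (hπ : piOK D i π' = true)
    (r : ℕ) (hr : r < D.nroots) (u : K) :
    π' r < D.nroots ∧
      nbar D X (D.simple i) 1 * X r u * (nbar D X (D.simple i) 1)⁻¹ = X (π' r) (((η r : ℤ) : K) * u) := by
  obtain ⟨φ, S⟩ := exists_std D hD
  have hn' := hn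
  unfold nOK at hn'
  rw [Bool.and_eq_true] at hn'
  have hsp := monoOK_spec D i π' η hn'.1
  have hp := S.simple_lt i hi
  have hnp := S.neg_lt _ hp
  refine ⟨(hsp r hr).1, ?_⟩
  obtain ⟨hrs, c, hc, e1⟩ := nbar_act hD O S i hi 1 one_ne_zero r hr
  have e2 := congrArg π (e1 1)
  rw [map_mul, map_mul, map_inv, π_nbar O _ hp hnp, O.π_X r hr, O.π_X _ hrs, nconj D hadd i π' η hn r hr 1,
    piOK_spec hπ r hr] at e2
  have e3 := xGL_inj hD _ hrs _ _ e2
  rw [mul_one, mul_one] at e3
  rw [e1 u, ← e3, piOK_spec hπ r hr]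

/-- the action of the product of the `n̄_p(1)` along a word -/
theorem nwG_act (hD : D ∈ [chevG2, chevB2, chevD4, chevF4, chevE6, chevE7, chevE8]) (O : Over D hadd X π)
    (pi : ℕ → ℕ → ℕ) (eta : ℕ → ℕ → ℤ) (w : List ℕ)
    (hT : ∀ i ∈ w, i < D.rank ∧ nOK D i (pi i) (eta i) = true ∧ piOK D i (pi i) = true) :
    ∀ (r : ℕ), r < D.nroots → ∀ u : K, (actW pi eta w r).1 < D.nroots ∧
      nwG D X w * X r u * (nwG D X w)⁻¹ = X (actW pi eta w r).1 ((((actW pi eta w r).2 : ℤ) : K) * u) := by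
  induction w with
  | nil =>
    intro r hr u
    refine ⟨hr, ?_⟩
    simp [nwG, actW]
  | cons i w ih =>
    intro r hr u
    obtain ⟨hi, hn, hπ⟩ := hT i List.mem_cons_self
    obtain ⟨h1, h2⟩ := nbar_one_act_tab hD O i hi (pi i) (eta i) hn hπ r hr u
    obtain ⟨h3, h4⟩ := ih (fun j hj => hT j (List.mem_cons_of_mem _ hj)) (pi i r) h1 (((eta i r : ℤ) : K) * u)
    refine ⟨h3, ?_⟩
    show nwG D X w * nbar D X (D.simple i) 1 * X r u * (nwG D X w * nbar D X (D.simple i) 1)⁻¹ = _
    have e : nwG D X w * nbar D X (D.simple i) 1 * X r u * (nwG D X w * nbar D X (D.simple i) 1)⁻¹ =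
        nwG D X w * (nbar D X (D.simple i) 1 * X r u * (nbar D X (D.simple i) 1)⁻¹) * (nwG D X w)⁻¹ := by group
    have ea : actW pi eta (i :: w) r = ((actW pi eta w (pi i r)).1, eta i r * (actW pi eta w (pi i r)).2) := rfl
    rw [e, h2, h4, ea]
    show X (actW pi eta w (pi i r)).1 _ = X (actW pi eta w (pi i r)).1 _
    congr 1
    push_cast
    ring

namespace LCtx

variable {n : ℕ} {two : Bool} (C : LCtx n two D hadd X π π₁ σ)
include C

/-- **two roots interchanged by a product of the `n̄_p(1)` with signs of product `1`** (field with three elements) -/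
theorem lc_of_swap (hpm : ∀ w : K, w ≠ 0 → w = 1 ∨ w = -1) (h3 : (3 : K) = 0)
    (pi : ℕ → ℕ → ℕ) (eta : ℕ → ℕ → ℤ) (w : List ℕ)
    (hT : ∀ i ∈ w, i < D.rank ∧ nOK D i (pi i) (eta i) = true ∧ piOK D i (pi i) = true)
    {r s : ℕ} (hr : r < D.nroots) (hs : s < D.nroots)
    (hrs : (actW pi eta w r).1 = s) (hsr : (actW pi eta w s).1 = r)
    (hsign : ((actW pi eta w r).2 = 1 ∧ (actW pi eta w s).2 = 1) ∨
      ((actW pi eta w r).2 = -1 ∧ (actW pi eta w s).2 = -1))
    (hc : ∀ t u : K, Commute (X r t) (X s u)) (t u : K) : C.S.lc (X r t) (X s u) = 1 := by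
  -- bi-additivity
  have haddl : ∀ t t' u : K, C.S.lc (X r (t + t')) (X s u) = C.S.lc (X r t) (X s u) * C.S.lc (X r t') (X s u) := by
    intro t t' u
    rw [C.O.add r hr, C.S.lc_mul_left (hc t' u)]
    exact (Subgroup.mem_center_iff.mp (C.S.lc_mem_center (hc t' u)) _).symm
  have haddr : ∀ t u u' : K, C.S.lc (X r t) (X s (u + u')) = C.S.lc (X r t) (X s u) * C.S.lc (X r t) (X s u') := by
    intro t u u'
    rw [C.O.add s hs, C.S.lc_mul_right (hc t u')]
  have hnegl : ∀ t u : K, C.S.lc (X r (-t)) (X s u) = (C.S.lc (X r t) (X s u))⁻¹ := by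
    intro t u
    apply eq_inv_of_mul_eq_one_left
    rw [← haddl, neg_add_cancel, C.O.toRels.X_zero r hr, C.S.lc_one_left]
  have hnegr : ∀ t u : K, C.S.lc (X r t) (X s (-u)) = (C.S.lc (X r t) (X s u))⁻¹ := by
    intro t u
    apply eq_inv_of_mul_eq_one_left
    rw [← haddr, neg_add_cancel, C.O.toRels.X_zero s hs, C.S.lc_one_right]
  -- the symmetry
  have hsym : ∀ t u : K, C.S.lc (X r t) (X s u) = (C.S.lc (X r u) (X s t))⁻¹ := by
    intro t u
    have h4 := C.S.conj_lc (C.S.lift_spec (nwG D X w)) (X r t) (X s u)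
    rw [Setup.conj_of_mem_center (C.S.lc_mem_center (hc t u)),
      (nwG_act C.hD C.O pi eta w hT r hr t).2, (nwG_act C.hD C.O pi eta w hT s hs u).2, hrs, hsr] at h4
    rw [h4, C.S.lc_swap]
    rcases hsign with ⟨e1, e2⟩ | ⟨e1, e2⟩
    · rw [e1, e2]
      simp
    · rw [e1, e2]
      simp only [Int.cast_neg, Int.cast_one, neg_mul, one_mul]
      rw [hnegl, hnegr, inv_inv]
  -- the diagonal values have order dividing `2` and `3`
  have hdiag : ∀ t : K, C.S.lc (X r t) (X s t) = 1 := by
    intro t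
    set z := C.S.lc (X r t) (X s t) with hz
    have h2 : z * z = 1 := by
      have e : z = z⁻¹ := hsym t t
      calc z * z = z⁻¹ * z := by rw [← e]
        _ = 1 := inv_mul_cancel z
    have h3' : z * z * z = 1 := by
      have e : C.S.lc (X r (t + t + t)) (X s t) = z * z * z := by rw [haddl, haddl]
      have e0 : t + t + t = 0 := by linear_combination t * h3
      rw [e0, C.O.toRels.X_zero r hr, C.S.lc_one_left] at e
      exact e.symm
    rw [h2, one_mul] at h3'
    exact h3'
  by_cases ht : t = 0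
  · rw [ht, C.O.toRels.X_zero r hr, C.S.lc_one_left]
  by_cases hu : u = 0
  · rw [hu, C.O.toRels.X_zero s hs, C.S.lc_one_right]
  have hut : u = t ∨ u = -t := by
    rcases hpm t ht with h1 | h1 <;> rcases hpm u hu with h2 | h2 <;> rw [h1, h2] <;> simp
  rcases hut with rfl | rfl
  · exact hdiag u
  · rw [hnegr, hdiag, inv_one]

end LCtx

end

end Cfsg.Agent.Helper40.Hz
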