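import Cfsg.Agent.Helper40.HzMain
import Cfsg.Agent.Helper40.HyStepA
import Cfsg.Agent.Helper40.NcY

/-!
Helper40: small fields, second version: construction of the system of lifts root by root.  A root element is lifted
either as a lifted commutator with a torus element acting on it by a scalar other than `1`, or (fields whose non-zero
elements are `± 1`) as a lifted commutator of two root elements.
-/

set_option autoImplicit false
set_option linter.unusedSectionVars false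

namespace Cfsg.Agent.Helper40.Hz

open Cfsg Cfsg.Lie Cfsg.Agent.Helper18 Cfsg.Agent.Helper40.ChevAdd Cfsg.Agent.Helper40.St Cfsg.Agent.Helper40.LC
  Cfsg.Agent.Helper40.Uc Cfsg.Agent.Helper40.Hy

section
variable {K : Type*} [Field K] {D : ChevalleyDatum} {Γ : Type*} [Group Γ] {X : ℕ → K → Γ}
  {hadd : ChevAdd.addOK D = true} {π : Γ →* GL D.Idx K}
  {G₁ E : Type*} [Group G₁] [Group E] {π₁ : E →* G₁} {σ : Γ →* G₁}

/-- the context of the lifting problem: lifts of commuting root elements are known to commute -/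
structure WCtx (n : ℕ) (D : ChevalleyDatum) (hadd : ChevAdd.addOK D = true) (X : ℕ → K → Γ)
    (π : Γ →* GL D.Idx K) (π₁ : E →* G₁) (σ : Γ →* G₁) : Prop where
  hD : D ∈ [chevG2, chevB2, chevD4, chevF4, chevE6, chevE7, chevE8]
  O : Over D hadd X π
  gen : Subgroup.closure {g | ∃ r < D.nroots, ∃ t : K, g = X r t} = ⊤
  S : Setup π₁ σ
  perf : commutator Γ = ⊤
  hv : ∃ v : K, v ≠ 0 ∧ ∀ d : ℤ, ¬ (n : ℤ) ∣ d → v ^ d ≠ 1
  lc_self : ∀ r, r < D.nroots → ∀ t u : K, S.lc (X r t) (X r u) = 1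
  lc_cp : ∀ a b, CP D a b → ∀ t u : K, S.lc (X a t) (X b u) = 1

/-- a good family of lifts of the root elements of the root `r` -/
structure LiftOK (D : ChevalleyDatum) (X : ℕ → K → Γ) (π₁ : E →* G₁) (σ : Γ →* G₁) (r : ℕ) (y : K → E) : Prop where
  isLift : ∀ t : K, IsLift π₁ σ (y t) (X r t)
  add : ∀ t u : K, y (t + u) = y t * y u
  conj : ∀ (m : List ℤ) (v : K), v ≠ 0 → ∀ e : E, IsLift π₁ σ e (tor D X m v) → ∀ t : K,
    e * y t * e⁻¹ = y (v ^ lvlF D m r * t)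

namespace WCtx

variable {n : ℕ} (W : WCtx n D hadd X π π₁ σ)
include W

/-- the lifts `[h̃, x̃_r(c t)]`, `h` a torus element acting on `x_r` by a scalar other than `1` -/
theorem liftOK_tor {r : ℕ} (hr : r < D.nroots) (m₀ : List ℤ) (v₀ : K) (hv₀ : v₀ ≠ 0)
    (hne : v₀ ^ lvlF D m₀ r ≠ 1) :
    LiftOK D X π₁ σ r (fun t => W.S.lc (tor D X m₀ v₀) (X r ((v₀ ^ lvlF D m₀ r - 1)⁻¹ * t))) := by
  have hc : v₀ ^ lvlF D m₀ r - 1 ≠ 0 := sub_ne_zero.mpr hne
  have hlift : ∀ t : K, IsLift π₁ σ (W.S.lc (tor D X m₀ v₀) (X r ((v₀ ^ lvlF D m₀ r - 1)⁻¹ * t))) (X r t) := by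
    intro t
    have := W.S.isLift_lc (tor D X m₀ v₀) (X r ((v₀ ^ lvlF D m₀ r - 1)⁻¹ * t))
    rw [tor_act W.hD W.O m₀ v₀ hv₀ r hr, ← W.O.toRels.X_neg r hr, ← W.O.add r hr] at this
    have e : v₀ ^ lvlF D m₀ r * ((v₀ ^ lvlF D m₀ r - 1)⁻¹ * t) + -((v₀ ^ lvlF D m₀ r - 1)⁻¹ * t) = t := by
      field_simp
      ring
    rwa [e] at this
  refine ⟨hlift, ?_, ?_⟩
  · intro t u
    show W.S.lc _ (X r ((v₀ ^ lvlF D m₀ r - 1)⁻¹ * (t + u))) = _
    rw [mul_add, W.O.add r hr, W.S.lc_mul_right' (W.S.lift_spec _)]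
    have hcm : Commute (W.S.lift (X r ((v₀ ^ lvlF D m₀ r - 1)⁻¹ * t)))
        (W.S.lc (tor D X m₀ v₀) (X r ((v₀ ^ lvlF D m₀ r - 1)⁻¹ * u))) :=
      W.S.commute_of_lc_eq_one (W.lc_self r hr _ u) (W.S.lift_spec _) (hlift u)
    rw [hcm.eq, mul_inv_cancel_right]
  · intro m v hv e he t
    show e * W.S.lc _ _ * e⁻¹ = W.S.lc _ _
    rw [W.S.conj_lc he, tor_act W.hD W.O m v hv r hr]
    have hζ : tor D X m v * tor D X m₀ v₀ * (tor D X m v)⁻¹ * (tor D X m₀ v₀)⁻¹ ∈ Subgroup.center Γ :=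
      comm_tor_mem_center W.hD W.O W.gen m m₀ v v₀ hv hv₀
    have e1 : tor D X m v * tor D X m₀ v₀ * (tor D X m v)⁻¹ =
        (tor D X m v * tor D X m₀ v₀ * (tor D X m v)⁻¹ * (tor D X m₀ v₀)⁻¹) * tor D X m₀ v₀ := by group
    rw [e1, W.S.lc_center_mul W.perf hζ]
    congr 2
    ring

/-- the lifts `[x̃_q(1), x̃_p(- t / C)]` for a decomposition `r = p + q` (fields whose non-zero elements are `± 1`) -/
theorem liftOK_comm (hpm : ∀ w : K, w ≠ 0 → w = 1 ∨ w = -1) {r : ℕ} (p q : ℕ) (C' : ℤ) (hex : EX1 D p q r C')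
    (hC : (C' : K) ≠ 0) (cp : CP D p r) (cq : CP D q r) :
    LiftOK D X π₁ σ r (fun t => W.S.lc (X q 1) (X p (-(C' : K)⁻¹ * t))) := by
  have hF : ∀ x : K, IsLift π₁ σ (W.S.lc (X q 1) (X p x)) (X r (-((C' : K) * x * 1))) := by
    intro x
    have := W.S.isLift_lc (X q 1) (X p x)
    rwa [Nc.comm_ex1 W.O hex] at this
  have hlift : ∀ t : K, IsLift π₁ σ (W.S.lc (X q 1) (X p (-(C' : K)⁻¹ * t))) (X r t) := by
    intro t
    have := hF (-(C' : K)⁻¹ * t)
    have e : -((C' : K) * (-(C' : K)⁻¹ * t) * 1) = t := by field_simp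
    rwa [e] at this
  have hcp : ∀ x y : K, Commute (W.S.lift (X p y)) (W.S.lc (X q 1) (X p x)) := fun x y =>
    W.S.commute_of_lc_eq_one (W.lc_cp _ _ cp y _) (W.S.lift_spec _) (hF x)
  have hcq : ∀ x y : K, Commute (W.S.lift (X q y)) (W.S.lc (X q 1) (X p x)) := fun x y =>
    W.S.commute_of_lc_eq_one (W.lc_cp _ _ cq y _) (W.S.lift_spec _) (hF x)
  have hp := hex.1
  have hq := hex.2.1
  refine ⟨hlift, ?_, ?_⟩
  · intro t u
    show W.S.lc _ (X p (-(C' : K)⁻¹ * (t + u))) = _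
    rw [mul_add, W.O.add _ hp, W.S.lc_mul_right' (W.S.lift_spec _), (hcp _ _).eq, mul_inv_cancel_right]
  · intro m v hv e he t
    show e * W.S.lc (X q 1) (X p (-(C' : K)⁻¹ * t)) * e⁻¹ =
      W.S.lc (X q 1) (X p (-(C' : K)⁻¹ * (v ^ lvlF D m r * t)))
    rw [W.S.conj_lc he, tor_act W.hD W.O m v hv q hq, tor_act W.hD W.O m v hv p hp]
    have hl := (commTerms_lvl D W.hD (lvlF D m) (fun v hv => isAdditiveAt_lvlF_of_mem D W.hD m v hv) _ _ hp hq
      (r, C', 1, 1) (by rw [hex.2.2.2.2]; exact List.mem_singleton.mpr rfl)).2.1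
    simp only [Nat.cast_one, one_mul] at hl
    rw [hl, zpow_add₀ hv]
    rcases hpm (v ^ lvlF D m q) (zpow_ne_zero _ hv) with hw | hw
    · rw [hw, mul_one, mul_one]
      congr 2
      ring
    · rw [hw]
      have e1 : (-1 : K) * 1 = -1 := by ring
      rw [e1, W.O.toRels.X_neg _ hq, lc_inv_left_of_comm W.S (hcq _ 1),
        ← lc_inv_right_of_comm W.S (hcp _ _), ← W.O.toRels.X_neg _ hp]
      congr 2
      ring

/-- a family of good lifts for every root is a system of lifts with the properties of Steinberg's argument -/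
theorem zctx_of_liftOK (Y : ℕ → K → E) (h : ∀ r, r < D.nroots → LiftOK D X π₁ σ r (Y r)) :
    ZCtx n D hadd X π π₁ σ Y := by
  refine ⟨W.hD, W.O, W.S, W.hv, fun r hr => (h r hr).isLift, fun r hr => (h r hr).add, ?_, ?_⟩
  · intro m v hv e he r hr t
    exact (h r hr).conj m v hv e he t
  · intro a b hab t u
    exact W.S.commute_of_lc_eq_one (W.lc_cp a b hab t u) ((h a hab.1).isLift t) ((h b hab.2.1).isLift u)

end WCtx

end

end Cfsg.Agent.Helper40.Hz
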