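import Mathlib

/-!
Helper40: lifted commutators.  For a surjective homomorphism `π₁ : E → G₁` with central kernel and a homomorphism
`σ : Δ → G₁`, the commutator of lifts to `E` of two elements of `Δ` does not depend on the lifts.
-/

set_option autoImplicit false

namespace Cfsg.Agent.Helper40.LC

variable {Δ G₁ E : Type*} [Group Δ] [Group G₁] [Group E]

/-- `e` lies over `g` -/
def IsLift (π₁ : E →* G₁) (σ : Δ →* G₁) (e : E) (g : Δ) : Prop := π₁ e = σ g

/-- a surjective homomorphism with central kernel, and a homomorphism into its target -/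
structure Setup (π₁ : E →* G₁) (σ : Δ →* G₁) : Prop where
  surj : Function.Surjective π₁
  central : π₁.ker ≤ Subgroup.center E

variable {π₁ : E →* G₁} {σ : Δ →* G₁}

theorem IsLift.mul {a b : E} {g h : Δ} (ha : IsLift π₁ σ a g) (hb : IsLift π₁ σ b h) : IsLift π₁ σ (a * b) (g * h) := by
  unfold IsLift at *
  rw [map_mul, map_mul, ha, hb]

theorem IsLift.inv {a : E} {g : Δ} (ha : IsLift π₁ σ a g) : IsLift π₁ σ a⁻¹ g⁻¹ := by
  unfold IsLift at *
  rw [map_inv, map_inv, ha]

theorem IsLift.one : IsLift π₁ σ (1 : E) (1 : Δ) := by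
  unfold IsLift
  rw [map_one, map_one]

theorem comm_central (a b z w : E) (hz : z ∈ Subgroup.center E) (hw : w ∈ Subgroup.center E) :
    (a * z) * (b * w) * (a * z)⁻¹ * (b * w)⁻¹ = a * b * a⁻¹ * b⁻¹ := by
  have hz' : ∀ x : E, z * x * z⁻¹ = x := fun x => by
    rw [← (Subgroup.mem_center_iff.mp hz x), mul_inv_cancel_right]
  have hw' : ∀ x : E, w * x * w⁻¹ = x := fun x => by
    rw [← (Subgroup.mem_center_iff.mp hw x), mul_inv_cancel_right]
  calc (a * z) * (b * w) * (a * z)⁻¹ * (b * w)⁻¹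
      = a * (z * (b * w) * z⁻¹) * a⁻¹ * (b * w)⁻¹ := by group
    _ = a * (b * w) * a⁻¹ * (b * w)⁻¹ := by rw [hz']
    _ = a * b * (w * a⁻¹ * w⁻¹) * b⁻¹ := by group
    _ = a * b * a⁻¹ * b⁻¹ := by rw [hw']

namespace Setup

variable (S : Setup π₁ σ)
include S

theorem exists_lift (g : Δ) : ∃ e : E, IsLift π₁ σ e g := S.surj (σ g)

/-- a chosen lift -/
noncomputable def lift (g : Δ) : E := (S.exists_lift g).choose

theorem lift_spec (g : Δ) : IsLift π₁ σ (S.lift g) g := (S.exists_lift g).choose_spec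

/-- the lifted commutator -/
noncomputable def lc (g h : Δ) : E := S.lift g * S.lift h * (S.lift g)⁻¹ * (S.lift h)⁻¹

theorem mem_center_of_lifts {a a' : E} {g : Δ} (ha : IsLift π₁ σ a g) (ha' : IsLift π₁ σ a' g) :
    a⁻¹ * a' ∈ Subgroup.center E := by
  apply S.central
  rw [MonoidHom.mem_ker, map_mul, map_inv, ha, ha', inv_mul_cancel]

theorem lc_eq {a b : E} {g h : Δ} (ha : IsLift π₁ σ a g) (hb : IsLift π₁ σ b h) :
    S.lc g h = a * b * a⁻¹ * b⁻¹ := by
  have hz := S.mem_center_of_lifts ha (S.lift_spec g)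
  have hw := S.mem_center_of_lifts hb (S.lift_spec h)
  have := comm_central a b _ _ hz hw
  rw [mul_inv_cancel_left, mul_inv_cancel_left] at this
  exact this

theorem isLift_lc (g h : Δ) : IsLift π₁ σ (S.lc g h) (g * h * g⁻¹ * h⁻¹) :=
  (((S.lift_spec g).mul (S.lift_spec h)).mul (S.lift_spec g).inv).mul (S.lift_spec h).inv

theorem conj_lc {e : E} {k : Δ} (he : IsLift π₁ σ e k) (g h : Δ) :
    e * S.lc g h * e⁻¹ = S.lc (k * g * k⁻¹) (k * h * k⁻¹) := by
  rw [S.lc_eq ((he.mul (S.lift_spec g)).mul he.inv) ((he.mul (S.lift_spec h)).mul he.inv)]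
  unfold lc
  group

theorem lc_mem_ker {g h : Δ} (hc : Commute g h) : S.lc g h ∈ π₁.ker := by
  rw [MonoidHom.mem_ker, S.isLift_lc g h, hc.eq, mul_inv_cancel_right, mul_inv_cancel, map_one]

theorem lc_mem_center {g h : Δ} (hc : Commute g h) : S.lc g h ∈ Subgroup.center E :=
  S.central (S.lc_mem_ker hc)

theorem lc_swap (g h : Δ) : S.lc h g = (S.lc g h)⁻¹ := by
  unfold lc
  group

theorem lc_one_right (g : Δ) : S.lc g 1 = 1 := by
  rw [S.lc_eq (S.lift_spec g) IsLift.one]
  group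

theorem lc_one_left (g : Δ) : S.lc 1 g = 1 := by
  rw [S.lc_eq IsLift.one (S.lift_spec g)]
  group

theorem lc_self (g : Δ) : S.lc g g = 1 := by
  unfold lc
  group

theorem lc_mul_right' {a : E} {x : Δ} (ha : IsLift π₁ σ a x) (g x' : Δ) :
    S.lc g (x * x') = S.lc g x * (a * S.lc g x' * a⁻¹) := by
  rw [S.lc_eq (S.lift_spec g) (ha.mul (S.lift_spec x')), S.lc_eq (S.lift_spec g) ha]
  unfold lc
  group

theorem lc_mul_left' {a : E} {g : Δ} (ha : IsLift π₁ σ a g) (g' h : Δ) :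
    S.lc (g * g') h = a * S.lc g' h * a⁻¹ * S.lc g h := by
  rw [S.lc_eq (ha.mul (S.lift_spec g')) (S.lift_spec h), S.lc_eq ha (S.lift_spec h)]
  unfold lc
  group

omit S [Group Δ] [Group G₁] in
theorem conj_of_mem_center {z : E} (hz : z ∈ Subgroup.center E) (a : E) : a * z * a⁻¹ = z := by
  rw [(Subgroup.mem_center_iff.mp hz a), mul_inv_cancel_right]

theorem lc_mul_right {g x x' : Δ} (hc : Commute g x') : S.lc g (x * x') = S.lc g x * S.lc g x' := by
  rw [S.lc_mul_right' (S.lift_spec x), Setup.conj_of_mem_center (S.lc_mem_center hc)]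

theorem lc_mul_left {g g' h : Δ} (hc : Commute g' h) : S.lc (g * g') h = S.lc g' h * S.lc g h := by
  rw [S.lc_mul_left' (S.lift_spec g), Setup.conj_of_mem_center (S.lc_mem_center hc)]

theorem lc_inv_right {g x : Δ} (hc : Commute g x) : S.lc g x⁻¹ = (S.lc g x)⁻¹ := by
  have h := S.lc_mul_right (g := g) (x := x) (x' := x⁻¹) hc.inv_right
  rw [mul_inv_cancel, S.lc_one_right] at h
  exact (inv_eq_of_mul_eq_one_right h.symm).symm

/-- a commutator of elements commuting with `h` has trivial lifted commutator with `h` -/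
theorem lc_comm_trick {p q h : Δ} (hp : Commute p h) (hq : Commute q h) : S.lc (p * q * p⁻¹ * q⁻¹) h = 1 := by
  set P := S.lift p
  set Q := S.lift q
  set H := S.lift h
  have hP : IsLift π₁ σ P p := S.lift_spec p
  have hQ : IsLift π₁ σ Q q := S.lift_spec q
  have hH : IsLift π₁ σ H h := S.lift_spec h
  rw [S.lc_eq (((hP.mul hQ).mul hP.inv).mul hQ.inv) hH]
  -- `H P H⁻¹ = P z₁`, `H Q H⁻¹ = Q z₂`
  have h1 : P⁻¹ * (H * P * H⁻¹) ∈ Subgroup.center E := by
    apply S.mem_center_of_lifts hP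
    have := (hH.mul hP).mul hH.inv
    rwa [hp.symm.eq, mul_inv_cancel_right] at this
  have h2 : Q⁻¹ * (H * Q * H⁻¹) ∈ Subgroup.center E := by
    apply S.mem_center_of_lifts hQ
    have := (hH.mul hQ).mul hH.inv
    rwa [hq.symm.eq, mul_inv_cancel_right] at this
  have h3 := comm_central P Q _ _ h1 h2
  rw [mul_inv_cancel_left, mul_inv_cancel_left] at h3
  have h4 : H * (P * Q * P⁻¹ * Q⁻¹) * H⁻¹ = P * Q * P⁻¹ * Q⁻¹ := by
    calc H * (P * Q * P⁻¹ * Q⁻¹) * H⁻¹
        = H * P * H⁻¹ * (H * Q * H⁻¹) * (H * P * H⁻¹)⁻¹ * (H * Q * H⁻¹)⁻¹ := by group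
      _ = _ := h3
  calc P * Q * P⁻¹ * Q⁻¹ * H * (P * Q * P⁻¹ * Q⁻¹)⁻¹ * H⁻¹
      = P * Q * P⁻¹ * Q⁻¹ * (H * (P * Q * P⁻¹ * Q⁻¹) * H⁻¹)⁻¹ := by group
    _ = 1 := by rw [h4, mul_inv_cancel]

/-- central elements of a perfect group have trivial lifted commutators -/
theorem lc_center_left (hperf : commutator Δ = ⊤) {ζ : Δ} (hζ : ζ ∈ Subgroup.center Δ) (g : Δ) : S.lc ζ g = 1 := by
  have hc : ∀ x : Δ, Commute ζ x := fun x => (Subgroup.mem_center_iff.mp hζ x).symm
  let N : Subgroup Δ :=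
    { carrier := {x | S.lc ζ x = 1}
      mul_mem' := fun {x y} hx hy => by
        show S.lc ζ (x * y) = 1
        rw [S.lc_mul_right (hc y), hx, hy, mul_one]
      one_mem' := S.lc_one_right ζ
      inv_mem' := fun {x} hx => by
        show S.lc ζ x⁻¹ = 1
        rw [S.lc_inv_right (hc x), hx, inv_one] }
  have hN : commutator Δ ≤ N := by
    rw [commutator_def, Subgroup.commutator_le]
    intro a _ b _
    show S.lc ζ (commutatorElement.bracket a b) = 1
    rw [show commutatorElement.bracket a b = a * b * a⁻¹ * b⁻¹ from rfl, S.lc_mul_right (hc _), S.lc_mul_right (hc _), S.lc_mul_right (hc _),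
      S.lc_inv_right (hc a), S.lc_inv_right (hc b)]
    have h1 := Subgroup.mem_center_iff.mp (S.lc_mem_center (hc a)) (S.lc ζ b)
    calc S.lc ζ a * S.lc ζ b * (S.lc ζ a)⁻¹ * (S.lc ζ b)⁻¹
        = (S.lc ζ b * S.lc ζ a) * (S.lc ζ a)⁻¹ * (S.lc ζ b)⁻¹ := by rw [h1]
      _ = 1 := by group
  rw [hperf] at hN
  exact hN (Subgroup.mem_top g)

theorem lc_center_mul (hperf : commutator Δ = ⊤) {ζ : Δ} (hζ : ζ ∈ Subgroup.center Δ) (g h : Δ) :
    S.lc (ζ * g) h = S.lc g h := by
  rw [S.lc_mul_left' (S.lift_spec ζ), S.lc_center_left hperf hζ, mul_one, S.conj_lc (S.lift_spec ζ)]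
  have e : ∀ x : Δ, ζ * x * ζ⁻¹ = x := fun x => by
    rw [← (Subgroup.mem_center_iff.mp hζ x), mul_inv_cancel_right]
  rw [e, e]

/-- lifts of a central element of a perfect group commute with all lifts -/
theorem commute_lift_center (hperf : commutator Δ = ⊤) {ζ : Δ} (hζ : ζ ∈ Subgroup.center Δ) {a b : E} {g : Δ}
    (ha : IsLift π₁ σ a ζ) (hb : IsLift π₁ σ b g) : Commute a b := by
  have := S.lc_center_left hperf hζ g
  rw [S.lc_eq ha hb] at this
  have h2 : a * b = b * a := by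
    calc a * b = (a * b * a⁻¹ * b⁻¹) * (b * a) := by group
      _ = b * a := by rw [this, one_mul]
  exact h2

/-- two lifts of commuting elements whose lifted commutator is trivial commute -/
theorem commute_of_lc_eq_one {g h : Δ} (hl : S.lc g h = 1) {a b : E} (ha : IsLift π₁ σ a g) (hb : IsLift π₁ σ b h) :
    Commute a b := by
  rw [S.lc_eq ha hb] at hl
  have h2 : a * b = b * a := by
    calc a * b = (a * b * a⁻¹ * b⁻¹) * (b * a) := by group
      _ = b * a := by rw [hl, one_mul]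
  exact h2

omit S in
/-- two lifts of the same element differ by an element of the kernel -/
theorem eq_mul_central {a a' : E} {g : Δ} (ha : IsLift π₁ σ a g) (ha' : IsLift π₁ σ a' g) :
    ∃ z ∈ π₁.ker, a' = a * z := by
  refine ⟨a⁻¹ * a', ?_, by group⟩
  rw [MonoidHom.mem_ker, map_mul, map_inv, ha, ha', inv_mul_cancel]

end Setup

end Cfsg.Agent.Helper40.LC
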