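import Cfsg.Agent.Helper40.CommStep

/-!
Helper40: the monomial form of `n_r = x_r(1) x_{-r}(-1) x_r(1)` from a Boolean check with the engine of
helper18 (numeric simulation on the basis vectors), and the resulting conjugation relation
`n_r x_s(t) = x_{π s}(η_s t) n_r` via the signed-permutation lemma `SPC.spc`.
-/

set_option autoImplicit false

namespace Cfsg.Agent.Helper40.NMono

open Cfsg Cfsg.Lie Cfsg.Agent.Helper18 Cfsg.Agent.Helper40.ChevAdd Cfsg.Agent.Helper40.SPC
  Cfsg.Agent.Helper40.Comm Cfsg.Agent.Helper40.CommT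

/-- lookup in a table packed in base 256 -/
def lk (W s : ℕ) : ℕ := (W >>> (8 * s)) % 256

/-- lookup of a sign in a bit mask -/
def sg (E s : ℕ) : ℤ := if E.testBit s then -1 else 1

/-- a check over `List.range n` from checks over chunks of length `c` -/
theorem all_range_of_chunks (f : ℕ → Bool) (n c m : ℕ) (hc : 0 < c) (hn : n ≤ c * m)
    (h : ∀ k < m, (List.range' (c * k) c).all f = true) : (List.range n).all f = true := by
  rw [List.all_eq_true]
  intro r hr
  rw [List.mem_range] at hr
  have hk : r / c < m := by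
    rw [Nat.div_lt_iff_lt_mul hc]
    calc r < n := hr
      _ ≤ c * m := hn
      _ = m * c := Nat.mul_comm _ _
  have h1 := h (r / c) hk
  rw [List.all_eq_true] at h1
  apply h1
  rw [List.mem_range'_1]
  have := Nat.div_add_mod r c
  have := Nat.mod_lt r hc
  constructor <;> omega

/-- the word `n_r(1)` with constant polynomials -/
def nW (D : ChevalleyDatum) (r : ℕ) : List (ℕ × Poly) := [(r, pconst 1), (D.neg r, pconst (-1)), (r, pconst 1)]

/-- normal form of a sparse vector -/
def norm (v : SVec) : SVec := v.foldr (fun ip acc => vinsert ip.1 ip.2 acc) []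

/-- the matrix of the reflection in the `i`-th fundamental root on the fundamental coroots -/
def reflC (D : ChevalleyDatum) (i : ℕ) (k j : ℕ) : ℤ :=
  (if k = j then 1 else 0) - (if k = i then D.cartan j (D.simple i) else 0)

/-- the check of the monomial form of `n_r`, `r = simple i` -/
def monoOK (D : ChevalleyDatum) (i : ℕ) (π : ℕ → ℕ) (η : ℕ → ℤ) : Bool :=
  (List.range D.nroots).all (fun s => decide (π s < D.nroots) && (decide (η s = 1) || decide (η s = -1)) &&
    decide (π (π s) = s) &&
    decide (applyWord D (nW D (D.simple i)) [(D.rank + s, pconst 1)] = [(D.rank + π s, pconst (η s))])) &&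
  (List.range D.rank).all (fun j => decide (applyWord D (nW D (D.simple i)) [(j, pconst 1)] =
    norm ((List.range D.rank).map fun k => (k, pconst (reflC D i k j)))))

/-- the table `π` is the reflection `reflectRoot i` -/
def piOK (D : ChevalleyDatum) (i : ℕ) (π : ℕ → ℕ) : Bool :=
  (List.range D.nroots).all fun s => π s == D.reflectRoot i s

/-- the properties of the signs -/
def etaOK (D : ChevalleyDatum) (i : ℕ) (π : ℕ → ℕ) (η : ℕ → ℤ) : Bool :=
  decide (η (D.simple i) = -1) && decide (η (D.neg (D.simple i)) = -1) &&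
  (List.range D.nroots).all fun s => decide (η s * η (π s) = (-1) ^ (D.cartan i s).natAbs) &&
    decide (η s * η (D.neg s) = 1)

theorem piOK_spec {D : ChevalleyDatum} {i : ℕ} {π : ℕ → ℕ} (h : piOK D i π = true) (s : ℕ) (hs : s < D.nroots) :
    π s = D.reflectRoot i s := by
  unfold piOK at h
  rw [List.all_eq_true] at h
  have := h s (List.mem_range.mpr hs)
  simpa using this

section Sound
variable {F : Type*} [Field F]

theorem vec_norm (x y z : F) (v : SVec) (k : ℕ) : vec x y z (norm v) k = vec x y z v k := by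
  induction v with
  | nil => rfl
  | cons e v ih =>
    have : norm (e :: v) = vinsert e.1 e.2 (norm v) := rfl
    rw [this, vec_vinsert, ih, vec_cons]

theorem vecD_norm (x y z : F) (D : ChevalleyDatum) (v : SVec) : vecD x y z D (norm v) = vecD x y z D v := by
  funext j
  exact vec_norm x y z v _

theorem nW_eval (D : ChevalleyDatum) (r : ℕ) :
    D.wordMat F ((nW D r).map fun e => (e.1, peval (0 : F) 0 0 e.2)) = D.nMat F r 1 := by
  unfold ChevalleyDatum.nMat ChevalleyDatum.nWord nW
  simp [peval_pconst]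

theorem mono_root (D : ChevalleyDatum) (i : ℕ) (π : ℕ → ℕ) (η : ℕ → ℤ) (h : monoOK D i π η = true)
    (s : ℕ) (hs : s < D.nroots) (hπ : π s < D.nroots) :
    (D.nMat F (D.simple i) 1).mulVec (bR D s hs) = ((η s : ℤ) : F) • bR D (π s) hπ := by
  unfold monoOK at h
  rw [Bool.and_eq_true, List.all_eq_true] at h
  have h1 := h.1 s (List.mem_range.mpr hs)
  simp only [Bool.and_eq_true, decide_eq_true_eq] at h1
  have h2 := h1.2
  have h3 := applyWord_spec (0 : F) 0 0 D (nW D (D.simple i)) [(D.rank + s, pconst 1)]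
  rw [h2, nW_eval] at h3
  have e1 : D.rank + s = code D (Sum.inr ⟨s, hs⟩) := rfl
  have e2 : D.rank + π s = code D (Sum.inr ⟨π s, hπ⟩) := rfl
  rw [e1, e2, vecD_single, vecD_single, peval_pconst, peval_pconst] at h3
  rw [Int.cast_one] at h3
  unfold bR
  rw [← h3]
  funext j
  simp [Pi.single_apply]

theorem mono_cartan (D : ChevalleyDatum) (i : ℕ) (π : ℕ → ℕ) (η : ℕ → ℤ) (h : monoOK D i π η = true)
    (j : Fin D.rank) :
    (D.nMat F (D.simple i) 1).mulVec (bI D j) =
      ∑ k : Fin D.rank, ((reflC D i k.val j.val : ℤ) : F) • bI D k := by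
  unfold monoOK at h
  rw [Bool.and_eq_true, List.all_eq_true, List.all_eq_true] at h
  have h1 := h.2 j.val (List.mem_range.mpr j.2)
  have h2 := of_decide_eq_true h1
  have h3 := applyWord_spec (0 : F) 0 0 D (nW D (D.simple i)) [(j.val, pconst 1)]
  rw [h2, nW_eval, vecD_norm, vecD_map_range] at h3
  have e1 : vecD (0 : F) 0 0 D [(j.val, pconst 1)] = Pi.single (Sum.inl j) 1 := by
    have : j.val = code D (Sum.inl j) := rfl
    rw [this, vecD_single, peval_pconst, Int.cast_one]
  rw [e1] at h3
  unfold bI at h3 ⊢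
  simp only [peval_pconst] at h3
  rw [← h3]

theorem monoOK_spec (D : ChevalleyDatum) (i : ℕ) (π : ℕ → ℕ) (η : ℕ → ℤ) (h : monoOK D i π η = true) :
    ∀ s < D.nroots, π s < D.nroots ∧ (η s = 1 ∨ η s = -1) ∧ π (π s) = s := by
  intro s hs
  unfold monoOK at h
  rw [Bool.and_eq_true, List.all_eq_true] at h
  have h1 := h.1 s (List.mem_range.mpr hs)
  simp only [Bool.and_eq_true, Bool.or_eq_true, decide_eq_true_eq] at h1
  exact ⟨h1.1.1.1, h1.1.1.2, h1.1.2⟩

/-- all the table checks for the reflection `n_{p_i}` -/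
def nOK (D : ChevalleyDatum) (i : ℕ) (π : ℕ → ℕ) (η : ℕ → ℤ) : Bool :=
  monoOK D i π η && (List.range D.nroots).all fun r => spcOK D π η (reflC D i) r

/-- the conjugation relation `n_p x_s(t) = x_{π s}(η_s t) n_p` -/
theorem n_conj (D : ChevalleyDatum) (i : ℕ) (π : ℕ → ℕ) (η : ℕ → ℤ) (h : nOK D i π η = true)
    (s : ℕ) (hs : s < D.nroots) (t : F) :
    D.nMat F (D.simple i) 1 * D.x F s t = D.x F (π s) (((η s : ℤ) : F) * t) * D.nMat F (D.simple i) 1 := by
  unfold nOK at h
  rw [Bool.and_eq_true, List.all_eq_true] at h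
  obtain ⟨hm, hall⟩ := h
  have hsp := monoOK_spec D i π η hm
  apply spc D _ π η (reflC D i) (fun s hs => (hsp s hs).1)
  · intro a ha b hb e
    rw [← (hsp a ha).2.2, e, (hsp b hb).2.2]
  · exact fun s hs => (hsp s hs).2.1
  · intro s hs
    exact mono_root D i π η hm s hs _
  · intro j
    exact mono_cartan D i π η hm j
  · exact hs
  · exact hall s (List.mem_range.mpr hs)

/-- `n_r(1)` has a right inverse -/
theorem nMat_mul_inv (D : ChevalleyDatum) (hadd : addOK D = true) (r : ℕ) :
    D.nMat F r 1 * D.wordMat F [(r, -1), (D.neg r, 1), (r, -1)] = 1 := by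
  unfold ChevalleyDatum.nMat ChevalleyDatum.nWord ChevalleyDatum.wordMat
  simp only [List.map_cons, List.map_nil, List.prod_cons, List.prod_nil, mul_one, inv_one]
  have h1 := x_mul_neg (F := F) D hadd r 1
  have h2 := x_mul_neg (F := F) D hadd (D.neg r) (-1)
  rw [neg_neg] at h2
  calc D.x F r 1 * (D.x F (D.neg r) (-1) * D.x F r 1) * (D.x F r (-1) * (D.x F (D.neg r) 1 * D.x F r (-1)))
      = D.x F r 1 * (D.x F (D.neg r) (-1) * (D.x F r 1 * D.x F r (-1)) * D.x F (D.neg r) 1) * D.x F r (-1) := by
        simp only [mul_assoc]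
    _ = 1 := by rw [h1, mul_one, h2, mul_one, h1]

/-- the transport step of the commutator formula along `n_{p_i}` -/
theorem cf_step_n (D : ChevalleyDatum) (hadd : addOK D = true) (hno3 : no3 D = true) (i : ℕ) (π : ℕ → ℕ) (η : ℕ → ℤ)
    (h : nOK D i π η = true) (r s : ℕ) (hr : r < D.nroots) (hs : s < D.nroots)
    (hcf : CF D F (π r) (π s)) : CF D F r s := by
  unfold nOK at h
  rw [Bool.and_eq_true, List.all_eq_true] at h
  obtain ⟨hm, hall⟩ := h
  have hsp := monoOK_spec D i π η hm
  exact cf_step D hno3 (D.nMat F (D.simple i) 1) _ (nMat_mul_inv D hadd (D.simple i)) π η (reflC D i)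
    (fun s hs => (hsp s hs).1) (fun s hs => (hsp s hs).2.2) (fun s hs => (hsp s hs).2.1)
    (fun s hs => mono_root D i π η hm s hs _) (fun j => mono_cartan D i π η hm j)
    (fun r hr => hall r (List.mem_range.mpr hr)) r s hr hs hcf

/-- the transport step in terms of `reflectRoot` -/
theorem cf_step_refl (D : ChevalleyDatum) (hadd : addOK D = true) (hno3 : no3 D = true) (i : ℕ) (π : ℕ → ℕ) (η : ℕ → ℤ)
    (h : nOK D i π η = true) (hπ : piOK D i π = true) (r s : ℕ) (hr : r < D.nroots) (hs : s < D.nroots)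
    (hcf : CF D F (D.reflectRoot i r) (D.reflectRoot i s)) : CF D F r s := by
  rw [← piOK_spec hπ r hr, ← piOK_spec hπ s hs] at hcf
  exact cf_step_n D hadd hno3 i π η h r s hr hs hcf

/-- the statement of S1031 for one fundamental root -/
theorem n_conj_refl (D : ChevalleyDatum) (i : ℕ) (π : ℕ → ℕ) (η : ℕ → ℤ)
    (h : nOK D i π η = true) (hπ : piOK D i π = true) (s : ℕ) (hs : s < D.nroots) :
    ∃ e : ℤ, (e = 1 ∨ e = -1) ∧ ∀ t : F, D.nMat F (D.simple i) 1 * D.x F s t =
      D.x F (D.reflectRoot i s) ((e : F) * t) * D.nMat F (D.simple i) 1 := by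
  have h' := h
  unfold nOK at h'
  rw [Bool.and_eq_true] at h'
  refine ⟨η s, (monoOK_spec D i π η h'.1 s hs).2.1, fun t => ?_⟩
  rw [← piOK_spec hπ s hs]
  exact n_conj D i π η h s hs t

end Sound

end Cfsg.Agent.Helper40.NMono
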