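import Cfsg.Agent.Helper40.LC
import Cfsg.Agent.Helper40.HyMain
import Cfsg.Agent.Helper10.UcColl

/-!
Helper40: lifting in the natural characteristic.  For a central extension `π₁ : E → G₁` whose kernel has no
`p`-torsion, `p` the characteristic of the field, a system of lifts `Y r t` of the root elements which is additive
and in which lifts of commuting root elements commute satisfies Steinberg's relations (R1), (R2): the central defect
of every commutator relation is additive in one of its variables, hence of order dividing `p`, hence trivial.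
No condition on the size of the field.
-/

set_option autoImplicit false
set_option linter.unusedSectionVars false

namespace Cfsg.Agent.Helper40.Nc

open Cfsg Cfsg.Lie Cfsg.Agent.Helper18 Cfsg.Agent.Helper40.ChevAdd Cfsg.Agent.Helper40.St Cfsg.Agent.Helper40.LC
  Cfsg.Agent.Helper40.Uc Cfsg.Agent.Helper40.Hy

/-- an additive map from a field of characteristic dividing `p` whose values have no `p`-torsion is trivial -/
theorem pow_trick {K : Type*} [Field K] {E : Type*} [Group E] (p : ℕ) (hp : (p : K) = 0) (f : K → E)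
    (hadd : ∀ u u', f (u + u') = f u * f u') (htf : ∀ u, f u ^ p = 1 → f u = 1) : ∀ u, f u = 1 := by
  have h0 : f 0 = 1 := by
    have := hadd 0 0
    rw [add_zero] at this
    exact (mul_eq_left.mp this.symm)
  have hn : ∀ (n : ℕ) (u : K), f ((n : K) * u) = f u ^ n := by
    intro n u
    induction n with
    | zero => rw [Nat.cast_zero, zero_mul, h0, pow_zero]
    | succ n ih =>
      have : ((n + 1 : ℕ) : K) * u = (n : K) * u + u := by push_cast; ring
      rw [this, hadd, ih, pow_succ]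
  intro u
  apply htf
  rw [← hn, hp, zero_mul, h0]

section
variable {K : Type*} [Field K] {D : ChevalleyDatum} {Γ : Type*} [Group Γ] {X : ℕ → K → Γ}
  {hadd : ChevAdd.addOK D = true} {π : Γ →* GL D.Idx K}
  {G₁ E : Type*} [Group G₁] [Group E] {π₁ : E →* G₁} {σ : Γ →* G₁}

/-- the context: a system of lifts `Y` of the root elements over an extension whose kernel has no `p`-torsion -/
structure NCtx (p : ℕ) (D : ChevalleyDatum) (hadd : ChevAdd.addOK D = true) (X : ℕ → K → Γ)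
    (π : Γ →* GL D.Idx K) (π₁ : E →* G₁) (σ : Γ →* G₁) (Y : ℕ → K → E) : Prop where
  hD : D ∈ [chevG2, chevB2, chevD4, chevF4, chevE6, chevE7, chevE8]
  O : Over D hadd X π
  S : Setup π₁ σ
  UD : UcData D
  hp : (p : K) = 0
  tf : ∀ z ∈ π₁.ker, z ^ p = 1 → z = 1
  isLift : ∀ r, r < D.nroots → ∀ t : K, IsLift π₁ σ (Y r t) (X r t)
  add : ∀ r, r < D.nroots → ∀ t u : K, Y r (t + u) = Y r t * Y r u
  comm : ∀ a b, CP D a b → ∀ t u : K, Commute (Y a t) (Y b u)

namespace NCtx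

variable {p : ℕ} {Y : ℕ → K → E} (C : NCtx p D hadd X π π₁ σ Y)
include C

theorem isLift_wordG (w : List (ℕ × K)) (hw : ∀ e ∈ w, e.1 < D.nroots) :
    IsLift π₁ σ (wordG Y w) (wordG X w) := by
  induction w with
  | nil => simp only [wordG, List.map_nil, List.prod_nil]; exact IsLift.one
  | cons e w ih =>
    rw [wordG_cons, wordG_cons]
    exact (C.isLift _ (hw e List.mem_cons_self) e.2).mul (ih (fun e' he' => hw e' (List.mem_cons_of_mem _ he')))

theorem commWord_lt {r s : ℕ} (hr : r < D.nroots) (hs : s < D.nroots) (t u : K) :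
    ∀ e ∈ D.commWord K r s t u, e.1 < D.nroots := by
  intro e he
  unfold ChevalleyDatum.commWord at he
  obtain ⟨c, hc, rfl⟩ := List.mem_map.mp he
  exact (commTerms_lvl D C.hD (lvlF D []) (fun v hv => isAdditiveAt_lvlF_of_mem D C.hD [] v hv) r s hr hs c hc).1

theorem zd_mem_ker {r s : ℕ} (hr : r < D.nroots) (hs : s < D.nroots) (h1 : s ≠ r) (h2 : s ≠ D.neg r) (t u : K) :
    Zd D Y r s t u ∈ π₁.ker := by
  have hA : IsLift π₁ σ (Y r t * Y s u * wordG Y (D.commWord K r s t u))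
      (X r t * X s u * wordG X (D.commWord K r s t u)) :=
    ((C.isLift r hr t).mul (C.isLift s hs u)).mul (C.isLift_wordG _ (C.commWord_lt hr hs t u))
  have hB : IsLift π₁ σ (Y s u * Y r t) (X s u * X r t) := (C.isLift s hs u).mul (C.isLift r hr t)
  unfold Hy.Zd
  rw [MonoidHom.mem_ker, map_mul, map_inv, hA, hB, C.O.comm r s hr hs h1 h2 t u, inv_mul_cancel]

theorem zd_mem_center {r s : ℕ} (hr : r < D.nroots) (hs : s < D.nroots) (h1 : s ≠ r) (h2 : s ≠ D.neg r) (t u : K) :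
    Zd D Y r s t u ∈ Subgroup.center E :=
  C.S.central (C.zd_mem_ker hr hs h1 h2 t u)

/-- additivity in the first variable kills the defect -/
theorem zd_eq_one_of_add_left {r s : ℕ} (hr : r < D.nroots) (hs : s < D.nroots) (h1 : s ≠ r) (h2 : s ≠ D.neg r)
    (hadd' : ∀ t t' u : K, Zd D Y r s (t + t') u = Zd D Y r s t u * Zd D Y r s t' u)
    (t u : K) : Zd D Y r s t u = 1 :=
  pow_trick p C.hp (fun t => Zd D Y r s t u) (fun t t' => hadd' t t' u)
    (fun t h => C.tf _ (C.zd_mem_ker hr hs h1 h2 t u) h) t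

/-- additivity in the second variable kills the defect -/
theorem zd_eq_one_of_add_right {r s : ℕ} (hr : r < D.nroots) (hs : s < D.nroots) (h1 : s ≠ r) (h2 : s ≠ D.neg r)
    (hadd' : ∀ t u u' : K, Zd D Y r s t (u + u') = Zd D Y r s t u * Zd D Y r s t u')
    (t u : K) : Zd D Y r s t u = 1 :=
  pow_trick p C.hp (fun u => Zd D Y r s t u) (fun u u' => hadd' t u u')
    (fun u h => C.tf _ (C.zd_mem_ker hr hs h1 h2 t u) h) u

/-- the relation from the vanishing of the defect -/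
theorem rel_of_zd {r s : ℕ} (t u : K) (h : Zd D Y r s t u = 1) :
    Y s u * Y r t = Y r t * Y s u * wordG Y (D.commWord K r s t u) := by
  have := zd_rel (D := D) Y r s t u
  rw [h, mul_one] at this
  exact this

open Cfsg.Agent.Helper10.UcColl in
/-- one-term commutator formulas -/
theorem zd_n1 {r s : ℕ} (hr : r < D.nroots) (hs : s < D.nroots) (h1 : s ≠ r) (h2 : s ≠ D.neg r)
    (m1 : ℕ) (C1 : ℤ) (h : D.commTerms r s = [(m1, C1, 1, 1)]) (c1 : CP D r m1) (t u : K) :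
    Zd D Y r s t u = 1 := by
  have hW : ∀ t u : K, wordG Y (D.commWord K r s t u) = Y m1 ((C1 : K) * -t * u) := by
    intro t u
    unfold ChevalleyDatum.commWord
    rw [h]
    simp only [List.map_cons, List.map_nil, wordG, List.prod_cons, List.prod_nil, mul_one, pow_one]
  apply C.zd_eq_one_of_add_left hr hs h1 h2
  intro t t' u
  apply z_add_left (Y r) (Y s) (fun t u => wordG Y (D.commWord K r s t u)) (Zd D Y r s)
    (fun t t' => C.add r hr t t') (fun t u => zd_rel Y r s t u)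
    (fun t u => C.zd_mem_center hr hs h1 h2 t u)
  intro t t' u
  simp only [hW]
  rw [ci_n1 (Y m1) (Y r) (fun x y => C.add m1 c1.2.1 x y) (fun x y => (C.comm _ _ c1 y x).symm)]
  congr 1
  ring

/-- the exact one-term relation -/
theorem rel_n1 {p' q m : ℕ} {c : ℤ} (e : EX1 D p' q m c) (t u : K) :
    Y q u * Y p' t = Y p' t * Y q u * Y m ((c : K) * -t * u) := by
  obtain ⟨hp, hq, h1, h2, hL⟩ := e
  have hz : Zd D Y p' q t u = 1 := by
    rcases C.UD.pair p' q hp hq h1 h2 with ⟨h', -⟩ | ⟨m1, C1, h', c1, -⟩ | ⟨_, _, _, _, h', -, -, -, -⟩ |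
      ⟨_, _, _, _, h', -, -, -, -⟩ | ⟨_, _, _, _, _, _, _, h', -, -, -, -, -, -, -, -⟩ |
      ⟨_, _, _, _, _, _, _, _, _, _, h', -, -, -, -, -, -, -, -, -, -, -, -⟩ |
      ⟨_, _, _, _, _, _, _, _, _, _, h', -, -, -, -, -, -, -, -, -, -, -, -⟩
    · rw [hL] at h'; cases h'
    · exact C.zd_n1 hp hq h1 h2 m1 C1 h' c1 t u
    all_goals (rw [hL] at h'; cases h')
  have := C.rel_of_zd t u hz
  rw [this]
  congr 1
  unfold ChevalleyDatum.commWord
  rw [hL]
  simp only [List.map_cons, List.map_nil, wordG, List.prod_cons, List.prod_nil, mul_one, pow_one]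

open Cfsg.Agent.Helper10.UcColl in
theorem zd_n2a {r s : ℕ} (hr : r < D.nroots) (hs : s < D.nroots) (h1 : s ≠ r) (h2 : s ≠ D.neg r)
    (m1 m2 : ℕ) (C1 C2 : ℤ) (h : D.commTerms r s = [(m1, C1, 1, 1), (m2, C2, 1, 2)])
    (c1 : CP D r m1) (c2 : CP D r m2) (c12 : CP D m1 m2) (t u : K) :
    Zd D Y r s t u = 1 := by
  have hW : ∀ t u : K, wordG Y (D.commWord K r s t u) =
      Y m1 ((C1 : K) * -t * u) * Y m2 ((C2 : K) * -t * u ^ 2) := by
    intro t u
    unfold ChevalleyDatum.commWord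
    rw [h]
    simp only [List.map_cons, List.map_nil, wordG, List.prod_cons, List.prod_nil, mul_one, pow_one]
  apply C.zd_eq_one_of_add_left hr hs h1 h2
  intro t t' u
  apply z_add_left (Y r) (Y s) (fun t u => wordG Y (D.commWord K r s t u)) (Zd D Y r s)
    (fun t t' => C.add r hr t t') (fun t u => zd_rel Y r s t u)
    (fun t u => C.zd_mem_center hr hs h1 h2 t u)
  intro t t' u
  simp only [hW]
  rw [ci_n2a (Y m1) (Y m2) (Y r) (fun x y => C.add m1 c1.2.1 x y) (fun x y => C.add m2 c2.2.1 x y)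
    (fun x y => (C.comm _ _ c1 y x).symm) (fun x y => (C.comm _ _ c2 y x).symm)
    (fun x y => C.comm _ _ c12 x y)]
  have e1 : (C1 : K) * -t' * u + (C1 : K) * -t * u = (C1 : K) * -(t + t') * u := by ring
  have e2 : (C2 : K) * -t' * u ^ 2 + (C2 : K) * -t * u ^ 2 = (C2 : K) * -(t + t') * u ^ 2 := by ring
  rw [e1, e2]

open Cfsg.Agent.Helper10.UcColl in
theorem zd_n2b {r s : ℕ} (hr : r < D.nroots) (hs : s < D.nroots) (h1 : s ≠ r) (h2 : s ≠ D.neg r)
    (m1 m2 : ℕ) (C1 C2 : ℤ) (h : D.commTerms r s = [(m1, C1, 1, 1), (m2, C2, 2, 1)])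
    (c1 : CP D s m1) (c2 : CP D s m2) (c12 : CP D m1 m2) (t u : K) :
    Zd D Y r s t u = 1 := by
  have hW : ∀ t u : K, wordG Y (D.commWord K r s t u) =
      Y m1 ((C1 : K) * -t * u) * Y m2 ((C2 : K) * (-t) ^ 2 * u) := by
    intro t u
    unfold ChevalleyDatum.commWord
    rw [h]
    simp only [List.map_cons, List.map_nil, wordG, List.prod_cons, List.prod_nil, mul_one, pow_one]
  apply C.zd_eq_one_of_add_right hr hs h1 h2
  intro t u u'
  apply z_add_right (Y r) (Y s) (fun t u => wordG Y (D.commWord K r s t u)) (Zd D Y r s)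
    (fun u u' => C.add s hs u u') (fun t u => zd_rel Y r s t u)
    (fun t u => C.zd_mem_center hr hs h1 h2 t u)
  intro t u u'
  simp only [hW]
  rw [ci_n2b (Y m1) (Y m2) (Y s) (fun x y => C.add m1 c1.2.1 x y) (fun x y => C.add m2 c2.2.1 x y)
    (fun x y => (C.comm _ _ c1 y x).symm) (fun x y => (C.comm _ _ c2 y x).symm)
    (fun x y => C.comm _ _ c12 x y)]
  have e1 : (C1 : K) * -t * u + (C1 : K) * -t * u' = (C1 : K) * -t * (u + u') := by ring
  have e2 : (C2 : K) * (-t) ^ 2 * u + (C2 : K) * (-t) ^ 2 * u' = (C2 : K) * (-t) ^ 2 * (u + u') := by ring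
  rw [e1, e2]

open Cfsg.Agent.Helper10.UcColl in
theorem zd_n3 {r s : ℕ} (hr : r < D.nroots) (hs : s < D.nroots) (h1 : s ≠ r) (h2 : s ≠ D.neg r)
    (m1 m2 m3 : ℕ) (C1 C2 C3 C4 : ℤ) (h : D.commTerms r s = [(m1, C1, 1, 1), (m2, C2, 2, 1), (m3, C3, 1, 2)])
    (e1 : EX1 D r m1 m2 C4) (c2 : CP D r m2) (c3 : CP D r m3) (c12 : CP D m1 m2) (c13 : CP D m1 m3)
    (c23 : CP D m2 m3) (num : 2 * C2 = C1 * C4) (t u : K) :
    Zd D Y r s t u = 1 := by
  have hW : ∀ t u : K, wordG Y (D.commWord K r s t u) =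
      Y m1 ((C1 : K) * -t * u) * (Y m2 ((C2 : K) * (-t) ^ 2 * u) *
        Y m3 ((C3 : K) * -t * u ^ 2)) := by
    intro t u
    unfold ChevalleyDatum.commWord
    rw [h]
    simp only [List.map_cons, List.map_nil, wordG, List.prod_cons, List.prod_nil, mul_one, pow_one]
  have hnum : (2 : K) * (C2 : K) = (C1 : K) * (C4 : K) := by exact_mod_cast congrArg (Int.cast : ℤ → K) num
  apply C.zd_eq_one_of_add_left hr hs h1 h2
  intro t t' u
  apply z_add_left (Y r) (Y s) (fun t u => wordG Y (D.commWord K r s t u)) (Zd D Y r s)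
    (fun t t' => C.add r hr t t') (fun t u => zd_rel Y r s t u)
    (fun t u => C.zd_mem_center hr hs h1 h2 t u)
  intro t t' u
  simp only [hW]
  rw [ci_n3 (Y m1) (Y m2) (Y m3) (Y r)
    (fun x y => C.add m1 e1.2.1 x y) (fun x y => C.add m2 c2.2.1 x y)
    (fun x y => C.add m3 c3.2.1 x y) (C4 : K)
    (fun x y => C.rel_n1 e1 y x)
    (fun x y => (C.comm _ _ c2 y x).symm) (fun x y => (C.comm _ _ c3 y x).symm)
    (fun x y => C.comm _ _ c12 x y) (fun x y => C.comm _ _ c13 x y)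
    (fun x y => C.comm _ _ c23 x y)]
  have e1' : (C1 : K) * -t' * u + (C1 : K) * -t * u = (C1 : K) * -(t + t') * u := by ring
  have e2' : (C2 : K) * (-t') ^ 2 * u + (C2 : K) * (-t) ^ 2 * u + -((C4 : K) * t' * ((C1 : K) * -t * u)) =
      (C2 : K) * (-(t + t')) ^ 2 * u := by linear_combination (-(t * t' * u)) * hnum
  have e3' : (C3 : K) * -t' * u ^ 2 + (C3 : K) * -t * u ^ 2 = (C3 : K) * -(t + t') * u ^ 2 := by ring
  rw [e1', e2', e3']

open Cfsg.Agent.Helper10.UcColl in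
theorem zd_n4l {r s : ℕ} (hr : r < D.nroots) (hs : s < D.nroots) (h1 : s ≠ r) (h2 : s ≠ D.neg r)
    (m1 m2 m3 m4 : ℕ) (C1 C2 C3 C4 C5 C6 : ℤ)
    (h : D.commTerms r s = [(m1, C1, 1, 1), (m2, C2, 1, 2), (m3, C3, 1, 3), (m4, C4, 2, 3)])
    (e3 : EX1 D r m3 m4 C5) (e12 : EX1 D m1 m2 m4 C6) (c1 : CP D r m1) (c2 : CP D r m2) (c4 : CP D r m4)
    (c13 : CP D m1 m3) (c14 : CP D m1 m4) (c23 : CP D m2 m3) (c24 : CP D m2 m4) (c34 : CP D m3 m4)
    (num : 2 * C4 = C3 * C5 - C1 * C2 * C6) (t u : K) :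
    Zd D Y r s t u = 1 := by
  have hW : ∀ t u : K, wordG Y (D.commWord K r s t u) =
      Y m1 ((C1 : K) * -t * u) * (Y m2 ((C2 : K) * -t * u ^ 2) *
        (Y m3 ((C3 : K) * -t * u ^ 3) * Y m4 ((C4 : K) * (-t) ^ 2 * u ^ 3))) := by
    intro t u
    unfold ChevalleyDatum.commWord
    rw [h]
    simp only [List.map_cons, List.map_nil, wordG, List.prod_cons, List.prod_nil, mul_one, pow_one]
  have hnum : (2 : K) * (C4 : K) = (C3 : K) * (C5 : K) - (C1 : K) * (C2 : K) * (C6 : K) := by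
    exact_mod_cast congrArg (Int.cast : ℤ → K) num
  apply C.zd_eq_one_of_add_left hr hs h1 h2
  intro t t' u
  apply z_add_left (Y r) (Y s) (fun t u => wordG Y (D.commWord K r s t u)) (Zd D Y r s)
    (fun t t' => C.add r hr t t') (fun t u => zd_rel Y r s t u)
    (fun t u => C.zd_mem_center hr hs h1 h2 t u)
  intro t t' u
  simp only [hW]
  rw [ci_n4l (Y m1) (Y m2) (Y m3) (Y m4) (Y r)
    (fun x y => C.add m1 c1.2.1 x y) (fun x y => C.add m2 c2.2.1 x y)
    (fun x y => C.add m3 e3.2.1 x y) (fun x y => C.add m4 c4.2.1 x y) (C5 : K) (C6 : K)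
    (fun x y => C.rel_n1 e3 y x) (fun x y => C.rel_n1 e12 x y)
    (fun x y => (C.comm _ _ c1 y x).symm) (fun x y => (C.comm _ _ c2 y x).symm)
    (fun x y => (C.comm _ _ c4 y x).symm)
    (fun x y => C.comm _ _ c13 x y) (fun x y => C.comm _ _ c14 x y)
    (fun x y => C.comm _ _ c23 x y) (fun x y => C.comm _ _ c24 x y)
    (fun x y => C.comm _ _ c34 x y)]
  have e1' : (C1 : K) * -t' * u + (C1 : K) * -t * u = (C1 : K) * -(t + t') * u := by ring
  have e2' : (C2 : K) * -t' * u ^ 2 + (C2 : K) * -t * u ^ 2 = (C2 : K) * -(t + t') * u ^ 2 := by ring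
  have e3' : (C3 : K) * -t' * u ^ 3 + (C3 : K) * -t * u ^ 3 = (C3 : K) * -(t + t') * u ^ 3 := by ring
  have e4' : (C4 : K) * (-t') ^ 2 * u ^ 3 + (C4 : K) * (-t) ^ 2 * u ^ 3 + -((C5 : K) * t' * ((C3 : K) * -t * u ^ 3)) +
      -((C6 : K) * ((C1 : K) * -t * u) * ((C2 : K) * -t' * u ^ 2)) = (C4 : K) * (-(t + t')) ^ 2 * u ^ 3 := by
    linear_combination (-(t * t' * u ^ 3)) * hnum
  rw [e1', e2', e3', e4']

open Cfsg.Agent.Helper10.UcColl in
theorem zd_n4s {r s : ℕ} (hr : r < D.nroots) (hs : s < D.nroots) (h1 : s ≠ r) (h2 : s ≠ D.neg r)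
    (m1 m2 m3 m4 : ℕ) (C1 C2 C3 C4 C5 C6 : ℤ)
    (h : D.commTerms r s = [(m1, C1, 1, 1), (m2, C2, 2, 1), (m3, C3, 3, 1), (m4, C4, 3, 2)])
    (e3 : EX1 D s m3 m4 C5) (e12 : EX1 D m1 m2 m4 C6) (c1 : CP D s m1) (c2 : CP D s m2) (c4 : CP D s m4)
    (c13 : CP D m1 m3) (c14 : CP D m1 m4) (c23 : CP D m2 m3) (c24 : CP D m2 m4) (c34 : CP D m3 m4)
    (num : -(2 * C4) = C3 * C5 + C1 * C2 * C6) (t u : K) :
    Zd D Y r s t u = 1 := by
  have hW : ∀ t u : K, wordG Y (D.commWord K r s t u) =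
      Y m1 ((C1 : K) * -t * u) * (Y m2 ((C2 : K) * (-t) ^ 2 * u) *
        (Y m3 ((C3 : K) * (-t) ^ 3 * u) * Y m4 ((C4 : K) * (-t) ^ 3 * u ^ 2))) := by
    intro t u
    unfold ChevalleyDatum.commWord
    rw [h]
    simp only [List.map_cons, List.map_nil, wordG, List.prod_cons, List.prod_nil, mul_one, pow_one]
  have hnum : -((2 : K) * (C4 : K)) = (C3 : K) * (C5 : K) + (C1 : K) * (C2 : K) * (C6 : K) := by
    exact_mod_cast congrArg (Int.cast : ℤ → K) num
  apply C.zd_eq_one_of_add_right hr hs h1 h2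
  intro t u u'
  apply z_add_right (Y r) (Y s) (fun t u => wordG Y (D.commWord K r s t u)) (Zd D Y r s)
    (fun u u' => C.add s hs u u') (fun t u => zd_rel Y r s t u)
    (fun t u => C.zd_mem_center hr hs h1 h2 t u)
  intro t u u'
  simp only [hW]
  rw [ci_n4s (Y m1) (Y m2) (Y m3) (Y m4) (Y s)
    (fun x y => C.add m1 c1.2.1 x y) (fun x y => C.add m2 c2.2.1 x y)
    (fun x y => C.add m3 e3.2.1 x y) (fun x y => C.add m4 c4.2.1 x y) (C5 : K) (C6 : K)
    (fun x y => C.rel_n1 e3 y x) (fun x y => C.rel_n1 e12 x y)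
    (fun x y => (C.comm _ _ c1 y x).symm) (fun x y => (C.comm _ _ c2 y x).symm)
    (fun x y => (C.comm _ _ c4 y x).symm)
    (fun x y => C.comm _ _ c13 x y) (fun x y => C.comm _ _ c14 x y)
    (fun x y => C.comm _ _ c23 x y) (fun x y => C.comm _ _ c24 x y)
    (fun x y => C.comm _ _ c34 x y)]
  have e1' : (C1 : K) * -t * u + (C1 : K) * -t * u' = (C1 : K) * -t * (u + u') := by ring
  have e2' : (C2 : K) * (-t) ^ 2 * u + (C2 : K) * (-t) ^ 2 * u' = (C2 : K) * (-t) ^ 2 * (u + u') := by ring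
  have e3' : (C3 : K) * (-t) ^ 3 * u + (C3 : K) * (-t) ^ 3 * u' = (C3 : K) * (-t) ^ 3 * (u + u') := by ring
  have e4' : (C4 : K) * (-t) ^ 3 * u ^ 2 + (C4 : K) * (-t) ^ 3 * u' ^ 2 + -((C5 : K) * u' * ((C3 : K) * (-t) ^ 3 * u)) +
      -((C6 : K) * ((C1 : K) * -t * u') * ((C2 : K) * (-t) ^ 2 * u)) = (C4 : K) * (-t) ^ 3 * (u + u') ^ 2 := by
    linear_combination (-(t ^ 3 * u * u')) * hnum
  rw [e1', e2', e3', e4']

/-- **the lifts satisfy Steinberg's relations (R1), (R2)** -/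
theorem rels : Rels D Y where
  add := fun r hr t u => C.add r hr t u
  comm := by
    intro r s hr hs h1 h2 t u
    apply C.rel_of_zd t u
    rcases C.UD.pair r s hr hs h1 h2 with ⟨h', -⟩ | ⟨m1, C1, h', c1, -⟩ |
      ⟨m1, m2, C1, C2, h', c1, c2, c12, -⟩ | ⟨m1, m2, C1, C2, h', c1, c2, c12, -⟩ |
      ⟨m1, m2, m3, C1, C2, C3, C4, h', e1, c2, c3, c12, c13, c23, num, -⟩ |
      ⟨m1, m2, m3, m4, C1, C2, C3, C4, C5, C6, h', e3, e12, c1, c2, c4, c13, c14, c23, c24, c34, num, -⟩ |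
      ⟨m1, m2, m3, m4, C1, C2, C3, C4, C5, C6, h', e3, e12, c1, c2, c4, c13, c14, c23, c24, c34, num, -⟩
    · unfold Hy.Zd ChevalleyDatum.commWord
      rw [h']
      simp only [List.map_nil, wordG, List.prod_nil, mul_one]
      rw [(C.comm _ _ ⟨hr, hs, h1, h2, h'⟩ t u).eq, inv_mul_cancel]
    · exact C.zd_n1 hr hs h1 h2 m1 C1 h' c1 t u
    · exact C.zd_n2a hr hs h1 h2 m1 m2 C1 C2 h' c1 c2 c12 t u
    · exact C.zd_n2b hr hs h1 h2 m1 m2 C1 C2 h' c1 c2 c12 t u
    · exact C.zd_n3 hr hs h1 h2 m1 m2 m3 C1 C2 C3 C4 h' e1 c2 c3 c12 c13 c23 num t u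
    · exact C.zd_n4l hr hs h1 h2 m1 m2 m3 m4 C1 C2 C3 C4 C5 C6 h' e3 e12 c1 c2 c4 c13 c14 c23 c24 c34 num t u
    · exact C.zd_n4s hr hs h1 h2 m1 m2 m3 m4 C1 C2 C3 C4 C5 C6 h' e3 e12 c1 c2 c4 c13 c14 c23 c24 c34 num t u

end NCtx

end

end Cfsg.Agent.Helper40.Nc
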