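import Mathlib
import Cfsg.Agent.S2403

/-!
# Generation of `SL_{n+1}(K)` by a root subgroup and the Coxeter monomial matrix (helper40)

`sl_gen_top_of_root`: a subgroup `H` of `SL_{n+1}(K)` (any field) containing the monomial matrix
`w` (`Cfsg.Agent.S2403.wMat`) and the whole root subgroup `{T_{01}(t)}` is everything.
-/

set_option autoImplicit false

namespace Cfsg.Agent.Helper40

open Matrix Cfsg.Agent.S2403

variable {K : Type*} [Field K] {n : ℕ}

theorem sl_gen_top_of_root (hn : 1 ≤ n) (H : Subgroup (Matrix.SpecialLinearGroup (Fin (n + 1)) K))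
    (w : Matrix.SpecialLinearGroup (Fin (n + 1)) K)
    (hw : (w : Matrix (Fin (n + 1)) (Fin (n + 1)) K) = wMat K n) (hwH : w ∈ H)
    (hroot : ∀ (ha : 0 < n + 1) (hb : 1 < n + 1) (hab : (⟨0, ha⟩ : Fin (n + 1)) ≠ ⟨1, hb⟩) (t : K),
      Matrix.SpecialLinearGroup.transvection hab t ∈ H) : H = ⊤ := by
  let Q : ℕ → ℕ → Prop := fun a b => ∀ (ha : a < n + 1) (hb : b < n + 1) (hab : (⟨a, ha⟩ : Fin (n + 1)) ≠ ⟨b, hb⟩) (t : K),
    Matrix.SpecialLinearGroup.transvection hab t ∈ H
  have hQ01 : Q 0 1 := hroot
  -- conjugation by w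
  have hshift : ∀ a b, a < n → b < n → (Q a b ↔ Q (a + 1) (b + 1)) := by
    intro a b ha hb
    have key : ∀ (hab : (⟨a, by omega⟩ : Fin (n + 1)) ≠ ⟨b, by omega⟩)
        (hab' : (⟨a + 1, by omega⟩ : Fin (n + 1)) ≠ ⟨b + 1, by omega⟩) (t : K),
        w * Matrix.SpecialLinearGroup.transvection hab' t =
          Matrix.SpecialLinearGroup.transvection hab t * w := by
      intro hab hab' t
      apply Subtype.ext
      rw [Matrix.SpecialLinearGroup.coe_mul, Matrix.SpecialLinearGroup.coe_mul,
        Matrix.SpecialLinearGroup.transvection_coe, Matrix.SpecialLinearGroup.transvection_coe, hw]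
      exact shift_identity a b ha hb t
    constructor
    · intro h ha' hb' hab' t
      have hab : (⟨a, by omega⟩ : Fin (n + 1)) ≠ ⟨b, by omega⟩ := by
        intro h'; apply hab'; simp only [Fin.mk.injEq] at h' ⊢; omega
      have := key hab hab' t
      have e : Matrix.SpecialLinearGroup.transvection hab' t =
          w⁻¹ * Matrix.SpecialLinearGroup.transvection hab t * w := by
        rw [mul_assoc, ← this, inv_mul_cancel_left]
      rw [e]
      exact mul_mem (mul_mem (inv_mem hwH) (h _ _ hab t)) hwH
    · intro h ha' hb' hab t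
      have hab' : (⟨a + 1, by omega⟩ : Fin (n + 1)) ≠ ⟨b + 1, by omega⟩ := by
        intro h'; apply hab; simp only [Fin.mk.injEq] at h' ⊢; omega
      have := key hab hab' t
      have e : Matrix.SpecialLinearGroup.transvection hab t =
          w * Matrix.SpecialLinearGroup.transvection hab' t * w⁻¹ := by
        rw [this, mul_inv_cancel_right]
      rw [e]
      exact mul_mem (mul_mem hwH (h _ _ hab' t)) (inv_mem hwH)
  -- superdiagonal
  have hsup : ∀ a, a < n → Q a (a + 1) := by
    intro a
    induction a with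
    | zero => intro _; exact hQ01
    | succ a ih =>
      intro ha
      exact (hshift a (a + 1) (by omega) (by omega)).1 (ih (by omega))
  -- commutator step
  have hcomm : ∀ a b c, c < n + 1 → a ≠ b → a ≠ c → c ≠ b → Q a c → Q c b → Q a b := by
    intro a b c hc hab hac hcb h1 h2 ha hb hab' t
    have hac' : (⟨a, ha⟩ : Fin (n + 1)) ≠ ⟨c, hc⟩ := by
      intro h'; apply hac; simpa using h'
    have hcb' : (⟨c, hc⟩ : Fin (n + 1)) ≠ ⟨b, hb⟩ := by
      intro h'; apply hcb; simpa using h'
    rw [← Cfsg.Agent.Helper5.commutator_transvection hab' hac' hcb' t, commutatorElement_def]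
    have g1 := h1 ha hc hac' t
    have g2 := h2 hc hb hcb' 1
    exact mul_mem (mul_mem (mul_mem g1 g2) (inv_mem g1)) (inv_mem g2)
  -- upper triangle
  have hupper : ∀ d a, a + d + 1 < n + 1 → Q a (a + d + 1) := by
    intro d
    induction d with
    | zero => intro a ha; exact hsup a (by omega)
    | succ d ih =>
      intro a ha
      have h1 := ih a (by omega)
      have h2 := hsup (a + d + 1) (by omega)
      have := hcomm a (a + (d + 1) + 1) (a + d + 1) (by omega) (by omega) (by omega) (by omega) h1 h2
      exact this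
  have hupper' : ∀ a b, a < b → b < n + 1 → Q a b := by
    intro a b hab hb
    obtain ⟨d, rfl⟩ : ∃ d, b = a + d + 1 := ⟨b - a - 1, by omega⟩
    exact hupper d a hb
  -- wrap
  have hwrap : Q n 0 := by
    intro ha hb hab t
    have hab2 : (⟨n - 1, by omega⟩ : Fin (n + 1)) ≠ ⟨n, by omega⟩ := by
      intro h'; simp only [Fin.mk.injEq] at h'; omega
    have key : w * Matrix.SpecialLinearGroup.transvection hab ((-1) ^ n * ((-1) ^ n * t)) =
          Matrix.SpecialLinearGroup.transvection hab2 ((-1) ^ n * t) * w := by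
      apply Subtype.ext
      rw [Matrix.SpecialLinearGroup.coe_mul, Matrix.SpecialLinearGroup.coe_mul,
        Matrix.SpecialLinearGroup.transvection_coe, Matrix.SpecialLinearGroup.transvection_coe, hw]
      exact wrap_identity hn _
    have e0 : ((-1 : K) ^ n * ((-1) ^ n * t)) = t := by
      rw [← mul_assoc, ← pow_add, ← two_mul, pow_mul]; simp
    rw [e0] at key
    have e : Matrix.SpecialLinearGroup.transvection hab t =
        w⁻¹ * Matrix.SpecialLinearGroup.transvection hab2 ((-1) ^ n * t) * w := by
      rw [mul_assoc, ← key, inv_mul_cancel_left]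
    rw [e]
    exact mul_mem (mul_mem (inv_mem hwH) (hupper' (n - 1) n (by omega) (by omega) _ _ hab2 _)) hwH
  -- first column
  have hcol : ∀ a, 0 < a → a < n + 1 → Q a 0 := by
    intro a ha0 ha
    by_cases han : a = n
    · rw [han]; exact hwrap
    · exact hcomm a 0 n (by omega) (by omega) han (by omega) (hupper' a n (by omega) (by omega)) hwrap
  -- lower triangle
  have hlower : ∀ a b, b < a → a < n + 1 → Q a b := by
    intro a b hba ha
    by_cases hb0 : b = 0
    · rw [hb0]; exact hcol a (by omega) ha
    · exact hcomm a b 0 (by omega) (by omega) (by omega) (by omega) (hcol a (by omega) ha)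
        (hupper' 0 b (by omega) (by omega))
  -- all transvections
  have hall : ∀ (i j : Fin (n + 1)) (hij : i ≠ j) (t : K),
      Matrix.SpecialLinearGroup.transvection hij t ∈ H := by
    intro i j hij t
    have hne : i.val ≠ j.val := fun h => hij (Fin.ext h)
    rcases lt_or_gt_of_ne hne with h | h
    · exact hupper' i.val j.val h j.isLt i.isLt j.isLt hij t
    · exact hlower i.val j.val h i.isLt i.isLt j.isLt hij t
  have : Nontrivial (Fin (n + 1)) := Fin.nontrivial_iff_two_le.2 (by omega)
  rw [eq_top_iff, ← Cfsg.Agent.Helper5.closure_transvection_eq_top, Subgroup.closure_le]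
  rintro M ⟨i, j, hij, a, rfl⟩
  exact hall i j hij a


end Cfsg.Agent.Helper40
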