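import Cfsg.Agent.Helper61.PslDefs

/-!
Helper40: piece (PT) of helper61's S3616: the regular dihedral labelling of the nonzero points of `ZMod p`,
`p ≡ 3 (mod 4)`.
-/

set_option autoImplicit false

namespace Cfsg.Agent.Helper40.PslPT

open Equiv MulAction Cfsg.Agent.Helper61.Zp DihedralGroup Cfsg.Agent.Helper61.Orbital Cfsg.Agent.Helper61.Psl

variable {p : ℕ} [Fact p.Prime]

/-- the labelling function -/
def ptFun (e : ℕ) (ε : ZMod p) : DihedralGroup e → ZMod p
  | r i => ε ^ i.val
  | sr i => -(ε ^ i.val)⁻¹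

/-- (PT) the regular dihedral labelling of the nonzero points, `p ≡ 3 (mod 4)`. -/
theorem exists_pt (hp3 : p % 4 = 3) (hp7 : 7 < p) [NeZero ((p - 1) / 2)]
    (G : Subgroup (Perm (ZMod p))) :
    ∃ ε : (ZMod p)ˣ, IsSquare ε ∧
      ∃ pt : DihedralGroup ((p - 1) / 2) → ↥(SubMulAction.ofStabilizer ↥G (0 : ZMod p)),
        Function.Bijective pt ∧ (pt 1).1 = 1 ∧
        (∀ (j : ZMod ((p - 1) / 2)) (d : DihedralGroup ((p - 1) / 2)),
          (pt (r j * d)).1 = (ε : ZMod p) ^ j.val * (pt d).1) ∧
        (∀ (j : ZMod ((p - 1) / 2)) (d : DihedralGroup ((p - 1) / 2)),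
          (pt (sr j * d)).1 = -((ε : ZMod p) ^ j.val * (pt d).1)⁻¹) := by
  classical
  have hp : p.Prime := Fact.out
  have h2e : 2 * ((p - 1) / 2) = p - 1 := by omega
  have he0 : (p - 1) / 2 ≠ 0 := NeZero.ne _
  obtain ⟨ω, hω⟩ := IsCyclic.exists_generator (α := (ZMod p)ˣ)
  have hordω : orderOf ω = p - 1 := by
    rw [orderOf_eq_card_of_forall_mem_zpowers hω, Nat.card_eq_fintype_card, ZMod.card_units]
  set ε : (ZMod p)ˣ := ω ^ 2 with hε
  have hordε : orderOf ε = (p - 1) / 2 := by
    rw [hε, orderOf_pow, hordω, ← h2e]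
    simp
  have hεe : ε ^ ((p - 1) / 2) = 1 := by rw [← hordε]; exact pow_orderOf_eq_one ε
  have hneg : ¬ IsSquare (-1 : ZMod p) := by
    rw [ZMod.exists_sq_eq_neg_one_iff]
    simp [hp3]
  have hε0 : ∀ n : ℕ, ((ε : ZMod p)) ^ n ≠ 0 := fun n => pow_ne_zero _ ε.ne_zero
  -- additivity of the exponent
  have hA : ∀ i j : ZMod ((p - 1) / 2),
      (ε : ZMod p) ^ (i + j).val = (ε : ZMod p) ^ i.val * (ε : ZMod p) ^ j.val := by
    intro i j
    have h1 : ε ^ (i + j).val = ε ^ i.val * ε ^ j.val := by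
      rw [ZMod.val_add, ← pow_add]
      have := pow_mod_orderOf ε (i.val + j.val)
      rw [hordε] at this
      exact this
    have h2 := congrArg (fun u : (ZMod p)ˣ => (u : ZMod p)) h1
    simpa using h2
  have hB : ∀ i j : ZMod ((p - 1) / 2),
      (ε : ZMod p) ^ (i - j).val * (ε : ZMod p) ^ j.val = (ε : ZMod p) ^ i.val := by
    intro i j
    rw [← hA, sub_add_cancel]
  -- injectivity of the powers
  have hinj : ∀ i j : ZMod ((p - 1) / 2), (ε : ZMod p) ^ i.val = (ε : ZMod p) ^ j.val → i = j := by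
    intro i j h
    have h1 : ε ^ i.val = ε ^ j.val := Units.ext (by simpa using h)
    have hi : i.val < orderOf ε := by rw [hordε]; exact ZMod.val_lt i
    have hj : j.val < orderOf ε := by rw [hordε]; exact ZMod.val_lt j
    exact ZMod.val_injective _ (pow_injOn_Iio_orderOf hi hj h1)
  -- a power of `ε` times a power of `ε` is not `-1`
  have hnot : ∀ a b : ℕ, (ε : ZMod p) ^ a * (ε : ZMod p) ^ b ≠ -1 := by
    intro a b h
    apply hneg
    refine ⟨(ω : ZMod p) ^ (a + b), ?_⟩
    rw [← h, hε]
    push_cast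
    ring
  have hne0 : ∀ d : DihedralGroup ((p - 1) / 2), ptFun ((p - 1) / 2) (ε : ZMod p) d ≠ 0 := by
    intro d
    cases d with
    | r i => exact hε0 _
    | sr i => exact neg_ne_zero.mpr (inv_ne_zero (hε0 _))
  refine ⟨ε, ⟨ω, by rw [hε, pow_two]⟩, fun d => ⟨ptFun ((p - 1) / 2) (ε : ZMod p) d,
    (SubMulAction.mem_ofStabilizer_iff _ _).mpr (hne0 d)⟩, ?_, ?_, ?_, ?_⟩
  · -- bijective
    have hinj' : Function.Injective (fun d : DihedralGroup ((p - 1) / 2) =>
        (⟨ptFun ((p - 1) / 2) (ε : ZMod p) d, (SubMulAction.mem_ofStabilizer_iff _ _).mpr (hne0 d)⟩ :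
          ↥(SubMulAction.ofStabilizer ↥G (0 : ZMod p)))) := by
      intro d d' h
      have h' : ptFun ((p - 1) / 2) (ε : ZMod p) d = ptFun ((p - 1) / 2) (ε : ZMod p) d' :=
        congrArg Subtype.val h
      cases d with
      | r i =>
        cases d' with
        | r j => rw [hinj i j h']
        | sr j =>
          exfalso
          simp only [ptFun] at h'
          apply hnot i.val j.val
          rw [h']
          field_simp [hε0 j.val]
      | sr i =>
        cases d' with
        | r j =>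
          exfalso
          simp only [ptFun] at h'
          apply hnot j.val i.val
          rw [← h']
          field_simp [hε0 i.val]
        | sr j =>
          simp only [ptFun, neg_inj, inv_inj] at h'
          rw [hinj i j h']
    apply hinj'.bijective_of_nat_card_le
    rw [SubMulAction.nat_card_ofStabilizer_eq, DihedralGroup.nat_card, h2e]
    simp
  · -- `pt 1 = 1`
    show ptFun ((p - 1) / 2) (ε : ZMod p) 1 = 1
    rw [DihedralGroup.one_def]
    simp [ptFun]
  · intro j d
    show ptFun ((p - 1) / 2) (ε : ZMod p) (r j * d) = (ε : ZMod p) ^ j.val * ptFun ((p - 1) / 2) (ε : ZMod p) d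
    cases d with
    | r i =>
      rw [DihedralGroup.r_mul_r]
      simp only [ptFun]
      exact hA j i
    | sr i =>
      rw [DihedralGroup.r_mul_sr]
      simp only [ptFun]
      have := hB i j
      rw [← this]
      field_simp [hε0 j.val, hε0 (i - j).val]
  · intro j d
    show ptFun ((p - 1) / 2) (ε : ZMod p) (sr j * d) =
      -((ε : ZMod p) ^ j.val * ptFun ((p - 1) / 2) (ε : ZMod p) d)⁻¹
    cases d with
    | r i =>
      rw [DihedralGroup.sr_mul_r]
      simp only [ptFun]
      rw [hA j i]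
    | sr i =>
      rw [DihedralGroup.sr_mul_sr]
      simp only [ptFun]
      have := hB i j
      rw [← this]
      field_simp [hε0 j.val, hε0 (i - j).val]

end Cfsg.Agent.Helper40.PslPT
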