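import Mathlib
import Cfsg.Agent.Helper44.QSimDefs
import Cfsg.Agent.Helper44.QSimDiag

set_option autoImplicit false
open scoped MatrixGroups

/-!
# Piece (DGc) of S5981: a diagonal element of order `r` of `PSL_r(q)`, `r² ∣ q - 1`, which is a
similarity of no non-degenerate quadratic form
-/

namespace Cfsg.Agent.Helper40.QSim

open Matrix Cfsg.Geo QuadraticMap Cfsg.Agent.Helper44.QSim

universe u

variable {F : Type u} [Field F] [Fintype F] {n : ℕ}

/-- if `r² ∣ q - 1` there are `ζ ≠ 1` with `ζ ^ r = 1` and `c₀` with `c₀ ^ r * ζ = 1` -/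
theorem exists_zeta_root {q : ℕ} (hq : Fintype.card F = q) (r : ℕ) (hr : r.Prime)
    (hrq : r ^ 2 ∣ q - 1) :
    ∃ ζ c₀ : F, ζ ^ r = 1 ∧ ζ ≠ 1 ∧ c₀ ≠ 0 ∧ c₀ ^ r * ζ = 1 := by
  classical
  obtain ⟨γ, hγ⟩ := IsCyclic.exists_generator (α := Fˣ)
  have hq2 : 2 ≤ q := by
    rw [← hq]
    exact Fintype.one_lt_card
  have hord : orderOf γ = q - 1 := by
    rw [orderOf_eq_card_of_forall_mem_zpowers hγ, Nat.card_eq_fintype_card, Fintype.card_units, hq]
  obtain ⟨m, hm⟩ := hrq
  have hm0 : m ≠ 0 := by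
    rintro rfl
    omega
  have hmdvd : m ∣ orderOf γ := by
    rw [hord, hm]
    exact Dvd.intro_left _ rfl
  have hr0 : r ≠ 0 := hr.ne_zero
  have hδ : orderOf (γ ^ m) = r ^ 2 := by
    rw [orderOf_pow_of_dvd hm0 hmdvd, hord, hm]
    exact Nat.mul_div_cancel _ (Nat.pos_of_ne_zero hm0)
  have hζ : orderOf ((γ ^ m) ^ r) = r := by
    rw [orderOf_pow_of_dvd hr0 (by rw [hδ, pow_two]; exact Dvd.intro _ rfl), hδ, pow_two]
    exact Nat.mul_div_cancel _ hr.pos
  refine ⟨(((γ ^ m) ^ r : Fˣ) : F), (((γ ^ m)⁻¹ : Fˣ) : F), ?_, ?_, Units.ne_zero _, ?_⟩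
  · rw [← Units.val_pow_eq_pow_val]
    have := pow_orderOf_eq_one ((γ ^ m) ^ r)
    rw [hζ] at this
    rw [this, Units.val_one]
  · intro h1
    have h2 : ((γ ^ m) ^ r : Fˣ) = 1 := Units.ext (by rw [h1, Units.val_one])
    rw [h2, orderOf_one] at hζ
    exact hr.one_lt.ne hζ
  · rw [← Units.val_pow_eq_pow_val, ← Units.val_mul, inv_pow, inv_mul_cancel, Units.val_one]

/-- (DGc) -/
theorem exists_diag_noSim_sq {q : ℕ} (hq : Fintype.card F = q) (hn : 3 ≤ n) (r : ℕ)
    (hr : r.Prime) (hr2 : r ≠ 2) (hnr : n = r) (hrq : r ^ 2 ∣ q - 1) :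
    ∃ x : GL (Fin n) F, IsPrimeElt r x ∧ NoSim (x : Matrix (Fin n) (Fin n) F) := by
  classical
  obtain ⟨ζ, c₀, hζr, hζ1, hc0, hc0r⟩ := exists_zeta_root hq r hr hrq
  have hζ0 : ζ ≠ 0 := by
    rintro rfl
    rw [zero_pow hr.ne_zero] at hζr
    exact zero_ne_one hζr
  have hζ2 : ζ * ζ ≠ 1 := by
    intro h2
    obtain ⟨k, hk⟩ := hr.eq_two_or_odd'.resolve_left hr2
    rw [hk, pow_succ, pow_mul, pow_two, h2, one_pow, one_mul] at hζr
    exact hζ1 hζr
  let l : Fin n := ⟨n - 1, by omega⟩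
  let i0 : Fin n := ⟨0, by omega⟩
  let i1 : Fin n := ⟨1, by omega⟩
  have hi0l : i0 ≠ l := by
    intro h
    have := congrArg Fin.val h
    simp only [i0, l] at this
    omega
  have hi1l : i1 ≠ l := by
    intro h
    have := congrArg Fin.val h
    simp only [i1, l] at this
    omega
  have hi01 : i0 ≠ i1 := by
    intro h
    have := congrArg Fin.val h
    simp only [i0, i1] at this
    omega
  let μ : Fin n → F := fun i => c₀ * (if i = l then ζ else 1)
  have hμl : μ l = c₀ * ζ := by simp only [μ, if_true]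
  have hμne : ∀ i, i ≠ l → μ i = c₀ := by
    intro i hi
    simp only [μ, if_neg hi, mul_one]
  have hμ0 : ∀ i, μ i ≠ 0 := by
    intro i
    by_cases hi : i = l
    · rw [hi, hμl]
      exact mul_ne_zero hc0 hζ0
    · rw [hμne i hi]
      exact hc0
  have hdet : (Matrix.diagonal μ).det = 1 := by
    rw [Matrix.det_diagonal]
    simp only [μ]
    rw [Finset.prod_mul_distrib, Finset.prod_const, Finset.card_univ, Fintype.card_fin,
      Finset.prod_ite_eq' Finset.univ l (fun _ => ζ), if_pos (Finset.mem_univ _), hnr]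
    exact hc0r
  let x : GL (Fin n) F :=
    ⟨Matrix.diagonal μ, Matrix.diagonal (fun i => (μ i)⁻¹),
      by
        rw [Matrix.diagonal_mul_diagonal]
        rw [← Matrix.diagonal_one]
        congr 1
        funext i
        exact mul_inv_cancel₀ (hμ0 i),
      by
        rw [Matrix.diagonal_mul_diagonal]
        rw [← Matrix.diagonal_one]
        congr 1
        funext i
        exact inv_mul_cancel₀ (hμ0 i)⟩
  have hx : (x : Matrix (Fin n) (Fin n) F) = Matrix.diagonal μ := rfl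
  refine ⟨x, ⟨?_, ⟨c₀ ^ r, ?_⟩, ?_⟩, ?_⟩
  · rw [mem_specialLinear_iff, hx]
    exact hdet
  · rw [Units.val_pow_eq_pow_val, hx, Matrix.diagonal_pow, Matrix.smul_one_eq_diagonal]
    congr 1
    funext i
    show μ i ^ r = c₀ ^ r
    by_cases hi : i = l
    · rw [hi, hμl, mul_pow, hζr, mul_one]
    · rw [hμne i hi]
  · intro z hz
    rw [hx, Matrix.smul_one_eq_diagonal] at hz
    have h0 := Matrix.diagonal_injective hz
    have ha := congrFun h0 i0
    have hb := congrFun h0 l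
    rw [hμne i0 hi0l] at ha
    rw [hμl] at hb
    apply hζ1
    have : c₀ * ζ = c₀ * 1 := by rw [hb, mul_one, ha]
    exact mul_left_cancel₀ hc0 this
  · intro Q' hQ' c hc hsim
    rw [hx] at hsim
    obtain ⟨σ, hσ⟩ := exists_perm_of_simWith_diagonal Q' hQ' μ c hsim
    -- an index `i ≠ l` with `σ i ≠ l`
    have hex : ∃ i, i ≠ l ∧ σ i ≠ l := by
      by_cases h0 : σ i0 = l
      · refine ⟨i1, hi1l, fun h1 => hi01 ?_⟩
        exact σ.injective (h0.trans h1.symm)
      · exact ⟨i0, hi0l, h0⟩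
    obtain ⟨i, hil, hσil⟩ := hex
    have hcc : c = c₀ * c₀ := by
      rw [← hσ i, hμne i hil, hμne _ hσil]
    have hl := hσ l
    rw [hμl, hcc] at hl
    by_cases hσl : σ l = l
    · rw [hσl, hμl] at hl
      apply hζ2
      have : c₀ * c₀ * (ζ * ζ) = c₀ * c₀ * 1 := by
        linear_combination hl
      exact mul_left_cancel₀ (mul_ne_zero hc0 hc0) this
    · rw [hμne _ hσl] at hl
      apply hζ1
      have : c₀ * c₀ * ζ = c₀ * c₀ * 1 := by
        linear_combination hl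
      exact mul_left_cancel₀ (mul_ne_zero hc0 hc0) this

end Cfsg.Agent.Helper40.QSim
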