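import Mathlib
import Cfsg.Agent.Helper44.QSimDefs
import Cfsg.Agent.Helper44.OrthOddA

set_option autoImplicit false
open scoped MatrixGroups

/-!
# Piece (EX4) of S5981: a similarity of an odd-dimensional quadratic form with prescribed
eigenvalues `c ; c·lam ; c·lam⁻¹`
-/


namespace Cfsg.Agent.Helper40.QSim

open Matrix Cfsg.Geo QuadraticMap Polynomial

universe u

variable {F : Type u} [Field F] {n : ℕ}

/-- the diagonal entries `c ; c·lam ; c·lam⁻¹` -/
def pairDiag {h : ℕ} (c : F) (lam : Fin h → F) : Unit ⊕ (Fin h ⊕ Fin h) → F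
  | .inl _ => c
  | .inr (.inl i) => c * lam i
  | .inr (.inr i) => c * (lam i)⁻¹

theorem quadFormOdd_diag {h : ℕ} (c : F) (lam : Fin h → F) (hlam : ∀ i, lam i ≠ 0)
    (w : Unit ⊕ (Fin h ⊕ Fin h) → F) :
    Cfsg.quadFormOdd h F (Matrix.diagonal (pairDiag c lam) *ᵥ w)
      = c ^ 2 * Cfsg.quadFormOdd h F w := by
  unfold Cfsg.quadFormOdd
  simp only [Matrix.mulVec_diagonal, pairDiag]
  rw [mul_add, Finset.mul_sum]
  congr 1
  · ring
  · apply Finset.sum_congr rfl
    intro i _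
    have := hlam i
    field_simp

theorem pairDiag_pow {h : ℕ} (c : F) (lam : Fin h → F) (k : ℕ) (hck : c ^ k = 1)
    (hlk : ∀ i, lam i ^ k = 1) (j : Unit ⊕ (Fin h ⊕ Fin h)) : pairDiag c lam j ^ k = 1 := by
  rcases j with j | j | j
  · exact hck
  · show (c * lam j) ^ k = 1
    rw [mul_pow, hck, hlk, one_mul]
  · show (c * (lam j)⁻¹) ^ k = 1
    rw [mul_pow, inv_pow, hck, hlk, inv_one, one_mul]

theorem pairDiag_ne_zero {h : ℕ} (c : F) (hc : c ≠ 0) (lam : Fin h → F) (hlam : ∀ i, lam i ≠ 0)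
    (j : Unit ⊕ (Fin h ⊕ Fin h)) : pairDiag c lam j ≠ 0 := by
  rcases j with j | j | j
  · exact hc
  · exact mul_ne_zero hc (hlam j)
  · exact mul_ne_zero hc (inv_ne_zero (hlam j))

variable [Fintype F]

/-- (EX4) -/
theorem exists_sim_of_pairs (_h2 : (2 : F) ≠ 0) (Q : QuadraticForm F (Fin n → F))
    (hQ : (polarBilin Q).Nondegenerate) {h : ℕ} (hn : n = 2 * h + 1) (c : F) (hc : c ≠ 0)
    (lam : Fin h → F) (hlam : ∀ i, lam i ≠ 0) :
    ∃ y : GL (Fin n) F, y ∈ quadSimilarityGroup (⇑Q) ∧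
      (y : Matrix (Fin n) (Fin n) F).charpoly
        = (X - C c) * ∏ i, ((X - C (c * lam i)) * (X - C (c * (lam i)⁻¹))) ∧
      ∀ k : ℕ, c ^ k = 1 → (∀ i, lam i ^ k = 1) → y ^ k = 1 := by
  classical
  have hfr : Module.finrank F (Fin n → F) = 2 * h + 1 := by
    rw [Module.finrank_fintype_fun_eq_card, Fintype.card_fin, hn]
  have hnd : ∀ x : Fin n → F, (∀ y, polar Q x y = 0) → x = 0 := by
    intro x hx
    apply hQ.1
    intro y
    rw [polarBilin_apply_apply]
    exact hx y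
  obtain ⟨a, g, ha, hg⟩ := Cfsg.Agent.Helper44.QType.exists_similarity_odd Q hfr hnd
  let G : Matrix (Unit ⊕ (Fin h ⊕ Fin h)) (Fin n) F :=
    LinearMap.toMatrix' (g : (Fin n → F) →ₗ[F] (Unit ⊕ (Fin h ⊕ Fin h) → F))
  let G' : Matrix (Fin n) (Unit ⊕ (Fin h ⊕ Fin h)) F :=
    LinearMap.toMatrix' (g.symm : (Unit ⊕ (Fin h ⊕ Fin h) → F) →ₗ[F] (Fin n → F))
  have hGG' : G * G' = 1 := by
    rw [← LinearMap.toMatrix'_comp, ← LinearMap.toMatrix'_id]
    congr 1
    ext v : 1
    simp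
  have hG'G : G' * G = 1 := by
    rw [← LinearMap.toMatrix'_comp, ← LinearMap.toMatrix'_id]
    congr 1
    ext v : 1
    simp
  have hGv : ∀ v, G *ᵥ v = g v := by
    intro v
    rw [← Matrix.toLin'_apply, Matrix.toLin'_toMatrix']
    rfl
  let d : Unit ⊕ (Fin h ⊕ Fin h) → F := pairDiag c lam
  have hd0 : ∀ j, d j ≠ 0 := pairDiag_ne_zero c hc lam hlam
  let Y : Matrix (Fin n) (Fin n) F := G' * Matrix.diagonal d * G
  let Yi : Matrix (Fin n) (Fin n) F := G' * Matrix.diagonal (fun j => (d j)⁻¹) * G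
  have hDDi : Matrix.diagonal d * Matrix.diagonal (fun j => (d j)⁻¹) = 1 := by
    rw [Matrix.diagonal_mul_diagonal, ← Matrix.diagonal_one]
    congr 1
    funext j
    exact mul_inv_cancel₀ (hd0 j)
  have hDiD : Matrix.diagonal (fun j => (d j)⁻¹) * Matrix.diagonal d = 1 := by
    rw [Matrix.diagonal_mul_diagonal, ← Matrix.diagonal_one]
    congr 1
    funext j
    exact inv_mul_cancel₀ (hd0 j)
  have hYYi : Y * Yi = 1 := by
    calc Y * Yi = G' * (Matrix.diagonal d * (G * G') * Matrix.diagonal (fun j => (d j)⁻¹)) * G := by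
          simp only [Y, Yi, Matrix.mul_assoc]
      _ = 1 := by rw [hGG', Matrix.mul_one, hDDi, Matrix.mul_one, hG'G]
  have hYiY : Yi * Y = 1 := by
    calc Yi * Y = G' * (Matrix.diagonal (fun j => (d j)⁻¹) * (G * G') * Matrix.diagonal d) * G := by
          simp only [Y, Yi, Matrix.mul_assoc]
      _ = 1 := by rw [hGG', Matrix.mul_one, hDiD, Matrix.mul_one, hG'G]
  let y : GL (Fin n) F := ⟨Y, Yi, hYYi, hYiY⟩
  have hy : (y : Matrix (Fin n) (Fin n) F) = Y := rfl
  have hGY : G * Y = Matrix.diagonal d * G := by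
    calc G * Y = (G * G') * Matrix.diagonal d * G := by simp only [Y, Matrix.mul_assoc]
      _ = Matrix.diagonal d * G := by rw [hGG', Matrix.one_mul]
  refine ⟨y, ?_, ?_, ?_⟩
  · refine ⟨Units.mk0 (c ^ 2) (pow_ne_zero 2 hc), fun v => ?_⟩
    rw [hy, Units.val_mk0, ← hg, ← hg, ← hGv, ← hGv, Matrix.mulVec_mulVec, hGY,
      ← Matrix.mulVec_mulVec, quadFormOdd_diag c lam hlam]
    ring
  · rw [hy]
    have hcard : Fintype.card (Unit ⊕ (Fin h ⊕ Fin h)) ≤ Fintype.card (Fin n) := by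
      rw [Fintype.card_sum, Fintype.card_sum, Fintype.card_fin, Fintype.card_fin,
        Fintype.card_unit, hn]
      omega
    have hcard' : Fintype.card (Fin n) - Fintype.card (Unit ⊕ (Fin h ⊕ Fin h)) = 0 := by
      rw [Fintype.card_sum, Fintype.card_sum, Fintype.card_fin, Fintype.card_fin,
        Fintype.card_unit, hn]
      omega
    have hY' : Y = G' * (Matrix.diagonal d * G) := by simp only [Y, Matrix.mul_assoc]
    rw [hY', Matrix.charpoly_mul_comm_of_le _ _ hcard, hcard', pow_zero, one_mul,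
      Matrix.mul_assoc, hGG', Matrix.mul_one, Matrix.charpoly_diagonal,
      Fintype.prod_sum_type, Fintype.prod_sum_type, Finset.prod_mul_distrib]
    simp only [d, pairDiag, Finset.univ_unique, Finset.prod_singleton]
  · intro k hck hlk
    have hpow : ∀ k : ℕ, Y ^ k = G' * (Matrix.diagonal d) ^ k * G := by
      intro k
      induction k with
      | zero => rw [pow_zero, pow_zero, Matrix.mul_one, hG'G]
      | succ k ih =>
        rw [pow_succ, ih, pow_succ]
        calc G' * Matrix.diagonal d ^ k * G * Y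
            = G' * Matrix.diagonal d ^ k * (G * Y) := by simp only [Matrix.mul_assoc]
          _ = G' * (Matrix.diagonal d ^ k * Matrix.diagonal d) * G := by
              rw [hGY]; simp only [Matrix.mul_assoc]
    apply Units.ext
    rw [Units.val_pow_eq_pow_val, hy, hpow, Matrix.diagonal_pow]
    have : (d ^ k) = fun _ => (1 : F) := by
      funext j
      exact pairDiag_pow c lam k hck hlk j
    rw [this, Matrix.diagonal_one, Matrix.mul_one, hG'G]
    rfl

end Cfsg.Agent.Helper40.QSim
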