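import Cfsg.Agent.Helper40.SL2Hom
import Cfsg.Agent.Helper40.NData.All
import Cfsg.Agent.Helper18.ConjAll
import Cfsg.Agent.Helper36.ChevGen

/-!
Helper40: table checks for the rank-one relations in the Chevalley groups of the seven tabulated types (for the homomorphism
`SL₂(F) → ⟨X_r, X_{-r}⟩`).
-/

set_option autoImplicit false

namespace Cfsg.Agent.Helper40.SL2Chev

open Cfsg Cfsg.Lie Cfsg.Agent.Helper40.NMono Cfsg.Agent.Helper40.ChevAdd Cfsg.Agent.Helper40.SL2Hom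

/-! ### table checks -/

/-- `<-p, p^∨> = -2` for the fundamental roots -/
def pairOK (D : ChevalleyDatum) : Bool :=
  (List.range D.rank).all fun i => Cfsg.Agent.Helper18.pairing' D (D.simple i) (D.neg (D.simple i)) == -2

/-- the fundamental reflections commute with `r ↦ -r` -/
def negReflOK (D : ChevalleyDatum) : Bool :=
  (List.range D.rank).all fun i => (List.range D.nroots).all fun s =>
    D.reflectRoot i (D.neg s) == D.neg (D.reflectRoot i s) && decide (D.neg s < D.nroots)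

theorem pairOK_G2 : pairOK chevG2 = true := by decide +kernel
theorem pairOK_B2 : pairOK chevB2 = true := by decide +kernel
theorem pairOK_D4 : pairOK chevD4 = true := by decide +kernel
theorem pairOK_F4 : pairOK chevF4 = true := by decide +kernel
theorem pairOK_E6 : pairOK chevE6 = true := by decide +kernel
theorem pairOK_E7 : pairOK chevE7 = true := by decide +kernel
theorem pairOK_E8 : pairOK chevE8 = true := by decide +kernel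

theorem negReflOK_G2 : negReflOK chevG2 = true := by decide +kernel
theorem negReflOK_B2 : negReflOK chevB2 = true := by decide +kernel
theorem negReflOK_D4 : negReflOK chevD4 = true := by decide +kernel
theorem negReflOK_F4 : negReflOK chevF4 = true := by decide +kernel
theorem negReflOK_E6 : negReflOK chevE6 = true := by decide +kernel
theorem negReflOK_E7 : negReflOK chevE7 = true := by decide +kernel
theorem negReflOK_E8 : negReflOK chevE8 = true := by decide +kernel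

def certG2 : List ℕ := [1, 0, 0, 1, 0, 0, 0, 0, 1, 0, 0, 1]
def certB2 : List ℕ := [0, 1, 0, 0, 0, 0, 1, 0]
def certD4 : List ℕ := [1, 0, 0, 0, 0, 0, 2, 1, 1, 0, 0, 0, 0, 0, 0, 1, 1, 2, 0, 0, 0, 0, 0, 1]
def certF4 : List ℕ := [3, 2, 1, 0, 0, 0, 0, 1, 2, 1, 1, 0, 0, 0, 0, 2, 1, 1, 3, 2, 0, 2, 0, 0, 0, 0, 2, 0, 2, 3, 1, 1, 2, 0, 0, 0, 0, 1, 1, 2, 1, 0, 0, 0, 0, 1, 2, 3]
def certE6 : List ℕ := [1, 3, 2, 2, 2, 0, 0, 0, 0, 0, 0, 0, 0, 0, 0, 0, 4, 3, 3, 1, 1, 1, 1, 1, 1, 0, 2, 2, 2, 0, 3, 3, 0, 4, 0, 0, 0, 0, 4, 0, 3, 3, 0, 2, 2, 2, 0, 1, 1, 1, 1, 1, 1, 3, 3, 4, 0, 0, 0, 0, 0, 0, 0, 0, 0, 0, 0, 2, 2, 2, 3, 1]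
def certE7 : List ℕ := [0, 2, 3, 1, 1, 1, 1, 4, 3, 3, 3, 2, 2, 2, 2, 2, 2, 0, 0, 0, 0, 0, 0, 0, 0, 0, 0, 0, 0, 0, 0, 0, 0, 5, 4, 4, 3, 3, 3, 1, 1, 1, 1, 1, 1, 1, 1, 0, 2, 2, 2, 2, 0, 3, 3, 3, 0, 4, 4, 0, 5, 0, 0, 0, 0, 5, 0, 4, 4, 0, 3, 3, 3, 0, 2, 2, 2, 2, 0, 1, 1, 1, 1, 1, 1, 1, 1, 3, 3, 3, 4, 4, 5, 0, 0, 0, 0, 0, 0, 0, 0, 0, 0, 0, 0, 0, 0, 0, 0, 2, 2, 2, 2, 2, 2, 3, 3, 3, 4, 1, 1, 1, 1, 3, 2, 0]
def certE8 : List ℕ := [7, 6, 5, 4, 3, 1, 0, 2, 0, 0, 0, 0, 0, 0, 1, 3, 2, 2, 2, 2, 2, 4, 3, 3, 3, 3, 1, 1, 1, 1, 1, 1, 1, 1, 1, 1, 5, 4, 4, 4, 3, 3, 3, 3, 3, 3, 2, 2, 2, 2, 2, 2, 2, 2, 2, 2, 0, 0, 0, 0, 0, 0, 0, 0, 0, 0, 0, 0, 0, 0, 0, 0, 0, 0, 0, 0, 0, 0, 6, 5, 5, 4, 4, 4, 3, 3, 3, 3, 1, 1, 1, 1, 1, 1, 1, 1, 1, 1, 0, 2, 2, 2, 2, 2, 0, 3, 3, 3, 3, 0, 4, 4, 4, 0, 5, 5, 0, 6, 0, 0, 0, 0, 6, 0, 5, 5, 0, 4, 4, 4, 0, 3, 3, 3, 3, 0, 2, 2, 2, 2, 2, 0, 1,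 1, 1, 1, 1, 1, 1, 1, 1, 1, 3, 3, 3, 3, 4, 4, 4, 5, 5, 6, 0, 0, 0, 0, 0, 0, 0, 0, 0, 0, 0, 0, 0, 0, 0, 0, 0, 0, 0, 0, 0, 0, 2, 2, 2, 2, 2, 2, 2, 2, 2, 2, 3, 3, 3, 3, 3, 3, 4, 4, 4, 5, 1, 1, 1, 1, 1, 1, 1, 1, 1, 1, 3, 3, 3, 3, 4, 2, 2, 2, 2, 2, 3, 1, 0, 0, 0, 0, 0, 0, 2, 0, 1, 3, 4, 5, 6, 7]

theorem genCheck_G2 : Cfsg.Agent.Helper36.genCheck chevG2 certG2 = true := by decide +kernel
theorem genCheck_B2 : Cfsg.Agent.Helper36.genCheck chevB2 certB2 = true := by decide +kernel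
theorem genCheck_D4 : Cfsg.Agent.Helper36.genCheck chevD4 certD4 = true := by decide +kernel
theorem genCheck_F4 : Cfsg.Agent.Helper36.genCheck chevF4 certF4 = true := by decide +kernel
theorem genCheck_E6 : Cfsg.Agent.Helper36.genCheck chevE6 certE6 = true := by decide +kernel
theorem genCheck_E7 : Cfsg.Agent.Helper36.genCheck chevE7 certE7 = true := by decide +kernel
theorem genCheck_E8 : Cfsg.Agent.Helper36.genCheck chevE8 certE8 = true := by decide +kernel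

theorem checks_of_mem (D : ChevalleyDatum)
    (hD : D ∈ [chevG2, chevB2, chevD4, chevF4, chevE6, chevE7, chevE8]) :
    pairOK D = true ∧ negReflOK D = true ∧ ∃ cert, Cfsg.Agent.Helper36.genCheck D cert = true := by
  simp only [List.mem_cons, List.not_mem_nil, or_false] at hD
  rcases hD with rfl | rfl | rfl | rfl | rfl | rfl | rfl
  · exact ⟨pairOK_G2, negReflOK_G2, _, genCheck_G2⟩
  · exact ⟨pairOK_B2, negReflOK_B2, _, genCheck_B2⟩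
  · exact ⟨pairOK_D4, negReflOK_D4, _, genCheck_D4⟩
  · exact ⟨pairOK_F4, negReflOK_F4, _, genCheck_F4⟩
  · exact ⟨pairOK_E6, negReflOK_E6, _, genCheck_E6⟩
  · exact ⟨pairOK_E7, negReflOK_E7, _, genCheck_E7⟩
  · exact ⟨pairOK_E8, negReflOK_E8, _, genCheck_E8⟩

end Cfsg.Agent.Helper40.SL2Chev
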