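import Cfsg.Agent.Helper40.SlRoots

/-! Helper40: the checks of `SlRoots` for `E6`, roots 0 to 71. -/

set_option autoImplicit false

namespace Cfsg.Agent.Helper40.Sl

open Cfsg Cfsg.Lie

set_option maxRecDepth 100000 in
theorem slqE6_0 : slChunk chevE6 0 12 = true := by decide +kernel

set_option maxRecDepth 100000 in
theorem slqE6_12 : slChunk chevE6 12 12 = true := by decide +kernel

set_option maxRecDepth 100000 in
theorem slqE6_24 : slChunk chevE6 24 12 = true := by decide +kernel

set_option maxRecDepth 100000 in
theorem slqE6_36 : slChunk chevE6 36 12 = true := by decide +kernel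

set_option maxRecDepth 100000 in
theorem slqE6_48 : slChunk chevE6 48 12 = true := by decide +kernel

set_option maxRecDepth 100000 in
theorem slqE6_60 : slChunk chevE6 60 12 = true := by decide +kernel

theorem slqE6_all_0 : slChunk chevE6 0 72 = true :=
  (slChunk_add chevE6 0 12 60 slqE6_0 (slChunk_add chevE6 12 12 48 slqE6_12 (slChunk_add chevE6 24 12 36 slqE6_24 (slChunk_add chevE6 36 12 24 slqE6_36 (slChunk_add chevE6 48 12 12 slqE6_48 slqE6_60)))))

end Cfsg.Agent.Helper40.Sl
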