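import Cfsg.Agent.Helper40.SlRoots

/-! Helper40: the checks of `SlRoots` for `E8`, roots 200 to 219. -/

set_option autoImplicit false

namespace Cfsg.Agent.Helper40.Sl

open Cfsg Cfsg.Lie

set_option maxRecDepth 100000 in
theorem slqE8_200 : slChunk chevE8 200 4 = true := by decide +kernel

set_option maxRecDepth 100000 in
theorem slqE8_204 : slChunk chevE8 204 4 = true := by decide +kernel

set_option maxRecDepth 100000 in
theorem slqE8_208 : slChunk chevE8 208 4 = true := by decide +kernel

set_option maxRecDepth 100000 in
theorem slqE8_212 : slChunk chevE8 212 4 = true := by decide +kernel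

set_option maxRecDepth 100000 in
theorem slqE8_216 : slChunk chevE8 216 4 = true := by decide +kernel

theorem slqE8_all_200 : slChunk chevE8 200 20 = true :=
  (slChunk_add chevE8 200 4 16 slqE8_200 (slChunk_add chevE8 204 4 12 slqE8_204 (slChunk_add chevE8 208 4 8 slqE8_208 (slChunk_add chevE8 212 4 4 slqE8_212 slqE8_216))))

end Cfsg.Agent.Helper40.Sl
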