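import Cfsg.Agent.Helper40.UcRoots

/-!
Helper40: the root-system facts behind the theorem that for the simply-laced types `E₆`, `E₇`, `E₈` the group
presented by (R1), (R2) is centrally closed over **every** field (lifts of root elements defined as lifted commutators,
as in Milnor's proof for `St(n, R)`, `n ≥ 5`, and Stein's for root systems of rank at least five), as decidable checks
on the tables of a `ChevalleyDatum`.
-/

set_option autoImplicit false

namespace Cfsg.Agent.Helper40.Sl

open Cfsg Cfsg.Lie Cfsg.Agent.Helper18 Cfsg.Agent.Helper40.Uc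

/-- the commutator formula of `a`, `b` has the single term `(m, C, 1, 1)` with `C = ± 1` -/
def EXu (D : ChevalleyDatum) (a b m : ℕ) (C : ℤ) : Prop := EX1 D a b m C ∧ (C = 1 ∨ C = -1)

def exuB (D : ChevalleyDatum) (a b m : ℕ) : Bool :=
  ex1B D a b m (single D a b).2 && (decide ((single D a b).2 = 1) || decide ((single D a b).2 = -1))

theorem exu_of (D : ChevalleyDatum) (a b m : ℕ) (h : exuB D a b m = true) : EXu D a b m (single D a b).2 := by
  unfold exuB at h
  simp only [Bool.and_eq_true, Bool.or_eq_true, decide_eq_true_eq] at h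
  exact ⟨ex1_of D _ _ _ _ h.1, h.2⟩

/-- `r` is a sum of two roots whose root elements commute with those of `s` -/
def DecCP (D : ChevalleyDatum) (r s : ℕ) : Prop := ∃ p q C, EXu D p q r C ∧ CP D p s ∧ CP D q s

/-- candidates for the decompositions `r = p + q`, read off the chain table -/
def decomps (D : ChevalleyDatum) (r : ℕ) : List (ℕ × ℕ) :=
  (D.chain.getD r #[]).toList.filterMap fun e => (e.2.toList.head?).map fun km => (km.1, D.neg e.1)

def decCPB (D : ChevalleyDatum) (r s : ℕ) : Bool :=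
  (decomps D r).any fun pq => cpB D pq.1 s && cpB D pq.2 s && exuB D pq.1 pq.2 r

theorem decCP_of (D : ChevalleyDatum) (r s : ℕ) (h : decCPB D r s = true) : DecCP D r s := by
  unfold decCPB at h
  rw [List.any_eq_true] at h
  obtain ⟨pq, -, h⟩ := h
  simp only [Bool.and_eq_true] at h
  exact ⟨pq.1, pq.2, _, exu_of D _ _ _ h.2, cp_of D _ _ h.1.1, cp_of D _ _ h.1.2⟩

/-- a subsystem of type `A₃` with fundamental roots `a1`, `a2`, `a3` -/
structure A3 (D : ChevalleyDatum) (a1 a2 a3 a12 a23 a123 : ℕ) (C21 C32 : ℤ) : Prop where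
  e21 : EXu D a2 a1 a12 C21
  e32 : EXu D a3 a2 a23 C32
  c13 : CP D a1 a3
  cAB : CP D a12 a23
  ex : ∃ C' : ℤ, EX1 D a3 a12 a123 C'
  cB : CP D a23 a123

def a3B (D : ChevalleyDatum) (a1 a2 a3 a12 a23 a123 : ℕ) : Bool :=
  exuB D a2 a1 a12 && exuB D a3 a2 a23 && cpB D a1 a3 && cpB D a12 a23 &&
    ex1B D a3 a12 a123 (single D a3 a12).2 && cpB D a23 a123

theorem a3_of (D : ChevalleyDatum) (a1 a2 a3 a12 a23 a123 : ℕ) (h : a3B D a1 a2 a3 a12 a23 a123 = true) :
    A3 D a1 a2 a3 a12 a23 a123 (single D a2 a1).2 (single D a3 a2).2 := by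
  unfold a3B at h
  simp only [Bool.and_eq_true] at h
  obtain ⟨⟨⟨⟨⟨h1, h2⟩, h3⟩, h4⟩, h5⟩, h6⟩ := h
  exact ⟨exu_of D _ _ _ h1, exu_of D _ _ _ h2, cp_of D _ _ h3, cp_of D _ _ h4, ⟨_, ex1_of D _ _ _ _ h5⟩, cp_of D _ _ h6⟩

/-- the chosen decomposition of the root `m` -/
def hubOf (D : ChevalleyDatum) (m : ℕ) : ℕ × ℕ := ((decomps D m).head?).getD (0, 0)

/-- the constant of the chosen decomposition -/
def hubC (D : ChevalleyDatum) (m : ℕ) : ℤ := (single D (hubOf D m).1 (hubOf D m).2).2

/-- the facts used for the chosen decomposition of `m` -/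
structure Hub (D : ChevalleyDatum) (m : ℕ) : Prop where
  e : EXu D (hubOf D m).1 (hubOf D m).2 m (hubC D m)
  c : CP D (hubOf D m).1 m
  n : ∃ (a1 a2 a23 : ℕ) (C21 C32 : ℤ), A3 D a1 a2 (hubOf D m).1 (hubOf D m).2 a23 m C21 C32

def tryA3 (D : ChevalleyDatum) (m r₀ s₀ a2 a1 : ℕ) : Bool :=
  match D.chainRoot r₀ a2 1 with
  | some a23 => a3B D a1 a2 r₀ s₀ a23 m
  | none => false

theorem tryA3_of (D : ChevalleyDatum) (m r₀ s₀ a2 a1 : ℕ) (h : tryA3 D m r₀ s₀ a2 a1 = true) :
    ∃ (a1 a2 a23 : ℕ) (C21 C32 : ℤ), A3 D a1 a2 r₀ s₀ a23 m C21 C32 := by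
  unfold tryA3 at h
  split at h
  · exact ⟨_, _, _, _, _, a3_of D _ _ _ _ _ _ h⟩
  · exact absurd h (by simp)

def hubB (D : ChevalleyDatum) (m : ℕ) : Bool :=
  exuB D (hubOf D m).1 (hubOf D m).2 m && cpB D (hubOf D m).1 m &&
    (decomps D (hubOf D m).2).any fun pq =>
      tryA3 D m (hubOf D m).1 (hubOf D m).2 pq.1 pq.2 || tryA3 D m (hubOf D m).1 (hubOf D m).2 pq.2 pq.1

theorem hub_of (D : ChevalleyDatum) (m : ℕ) (h : hubB D m = true) : Hub D m := by
  unfold hubB at h
  rw [Bool.and_eq_true, Bool.and_eq_true, List.any_eq_true] at h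
  obtain ⟨⟨h1, h2⟩, pq, -, h3⟩ := h
  refine ⟨exu_of D _ _ _ h1, cp_of D _ _ h2, ?_⟩
  rw [Bool.or_eq_true] at h3
  rcases h3 with h3 | h3
  · exact tryA3_of D _ _ _ _ _ h3
  · exact tryA3_of D _ _ _ _ _ h3

/-- how the decomposition `m = r + s` (constant `C`) is tied to the chosen one -/
inductive Link (D : ChevalleyDatum) (r s m : ℕ) (C : ℤ) : Prop
  | same (h1 : r = (hubOf D m).1) (h2 : s = (hubOf D m).2) : Link D r s m C
  | swap (h1 : r = (hubOf D m).2) (h2 : s = (hubOf D m).1) (num : C = -hubC D m) : Link D r s m C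
  | la (e : ℕ) (C21 C32 : ℤ) (A : A3 D s e (hubOf D m).1 (hubOf D m).2 r m C21 C32)
      (num : C = hubC D m * C32 * C21) : Link D r s m C
  | lb (e : ℕ) (C21 C32 : ℤ) (A : A3 D s e (hubOf D m).2 (hubOf D m).1 r m C21 C32)
      (num : C = -(hubC D m * C32 * C21)) : Link D r s m C

def linkB (D : ChevalleyDatum) (r s m : ℕ) (C : ℤ) : Bool :=
  (decide (r = (hubOf D m).1) && decide (s = (hubOf D m).2)) ||
  (decide (r = (hubOf D m).2) && decide (s = (hubOf D m).1) && decide (C = -hubC D m)) ||
  (match D.chainRoot r (D.neg (hubOf D m).1) 1 with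
   | some e => a3B D s e (hubOf D m).1 (hubOf D m).2 r m &&
       decide (C = hubC D m * (single D (hubOf D m).1 e).2 * (single D e s).2)
   | none => false) ||
  (match D.chainRoot r (D.neg (hubOf D m).2) 1 with
   | some e => a3B D s e (hubOf D m).2 (hubOf D m).1 r m &&
       decide (C = -(hubC D m * (single D (hubOf D m).2 e).2 * (single D e s).2))
   | none => false)

theorem link_of (D : ChevalleyDatum) (r s m : ℕ) (C : ℤ) (h : linkB D r s m C = true) : Link D r s m C := by
  unfold linkB at h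
  rw [Bool.or_eq_true, Bool.or_eq_true, Bool.or_eq_true] at h
  rcases h with ((h | h) | h) | h
  · simp only [Bool.and_eq_true, decide_eq_true_eq] at h
    exact Link.same h.1 h.2
  · simp only [Bool.and_eq_true, decide_eq_true_eq] at h
    exact Link.swap h.1.1 h.1.2 h.2
  · split at h
    · rw [Bool.and_eq_true, decide_eq_true_eq] at h
      exact Link.la _ _ _ (a3_of D _ _ _ _ _ _ h.1) h.2
    · exact absurd h (by simp)
  · split at h
    · rw [Bool.and_eq_true, decide_eq_true_eq] at h
      exact Link.lb _ _ _ (a3_of D _ _ _ _ _ _ h.1) h.2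
    · exact absurd h (by simp)

/-- the facts used for the pair `(r, s)` -/
inductive PairSl (D : ChevalleyDatum) (r s : ℕ) : Prop
  | n0 (h : D.commTerms r s = []) (d : (r < s ∧ DecCP D r s) ∨ (s < r ∧ CP D s r)) : PairSl D r s
  | n1 (m : ℕ) (C : ℤ) (h : D.commTerms r s = [(m, C, 1, 1)]) (hm : m < D.nroots) (hC : C = 1 ∨ C = -1)
      (l : Link D r s m C) : PairSl D r s

def pairSlB (D : ChevalleyDatum) (r s : ℕ) : Bool :=
  match D.commTerms r s with
  | [] => (decide (r < s) && decCPB D r s) || (decide (s < r) && cpB D s r)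
  | [(m, C, 1, 1)] => decide (m < D.nroots) && (decide (C = 1) || decide (C = -1)) && linkB D r s m C
  | _ => false

theorem pairSl_of (D : ChevalleyDatum) (r s : ℕ) (h : pairSlB D r s = true) : PairSl D r s := by
  unfold pairSlB at h
  split at h
  · rename_i hL
    rw [Bool.or_eq_true, Bool.and_eq_true, Bool.and_eq_true, decide_eq_true_eq, decide_eq_true_eq] at h
    rcases h with h | h
    · exact PairSl.n0 hL (Or.inl ⟨h.1, decCP_of D _ _ h.2⟩)
    · exact PairSl.n0 hL (Or.inr ⟨h.1, cp_of D _ _ h.2⟩)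
  · rename_i m C hL
    simp only [Bool.and_eq_true, Bool.or_eq_true, decide_eq_true_eq] at h
    exact PairSl.n1 m C hL h.1.1 h.1.2 (link_of D _ _ _ _ h.2)
  · exact absurd h (by simp)

/-- the check for the root `r` -/
def slRow (D : ChevalleyDatum) (r : ℕ) : Bool :=
  decCPB D r r && hubB D r &&
    (List.range D.nroots).all fun s => decide (s = r) || decide (s = D.neg r) || pairSlB D r s

/-- the check for the roots `lo, …, lo + len - 1` -/
def slChunk (D : ChevalleyDatum) (lo len : ℕ) : Bool := (List.range' lo len).all (slRow D)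

structure SlData (D : ChevalleyDatum) : Prop where
  pair : ∀ r s, r < D.nroots → s < D.nroots → s ≠ r → s ≠ D.neg r → PairSl D r s
  self : ∀ r, r < D.nroots → DecCP D r r
  hub : ∀ m, m < D.nroots → Hub D m

theorem slData_of_rows (D : ChevalleyDatum) (h : ∀ r < D.nroots, slRow D r = true) : SlData D := by
  refine ⟨?_, ?_, ?_⟩
  · intro r s hr hs h1 h2
    have h3 := h r hr
    unfold slRow at h3
    rw [Bool.and_eq_true, List.all_eq_true] at h3
    have h4 := h3.2 s (List.mem_range.mpr hs)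
    simp only [Bool.or_eq_true, decide_eq_true_eq] at h4
    rcases h4 with (h4 | h4) | h4
    · exact absurd h4 h1
    · exact absurd h4 h2
    · exact pairSl_of D r s h4
  · intro r hr
    have h3 := h r hr
    unfold slRow at h3
    rw [Bool.and_eq_true, Bool.and_eq_true] at h3
    exact decCP_of D r r h3.1.1
  · intro r hr
    have h3 := h r hr
    unfold slRow at h3
    rw [Bool.and_eq_true, Bool.and_eq_true] at h3
    exact hub_of D r h3.1.2

theorem slChunk_add (D : ChevalleyDatum) (lo a b : ℕ) (h1 : slChunk D lo a = true)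
    (h2 : slChunk D (lo + a) b = true) : slChunk D lo (a + b) = true := by
  unfold slChunk at *
  have e : List.range' lo (a + b) = List.range' lo a ++ List.range' (lo + a) b := by
    rw [← List.range'_append]
    simp
  rw [e, List.all_append, h1, h2]
  rfl

theorem slData_of (D : ChevalleyDatum) (h : slChunk D 0 D.nroots = true) : SlData D := by
  apply slData_of_rows D
  intro r hr
  unfold slChunk at h
  rw [List.all_eq_true] at h
  apply h r
  rw [List.mem_range']
  exact ⟨r, hr, by omega⟩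

end Cfsg.Agent.Helper40.Sl
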