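import Cfsg.Agent.Helper40.LC
import Cfsg.Agent.Helper40.SlRoots

/-!
Helper40: for the simply-laced types whose tables pass the checks of `SlRoots` (`E₆`, `E₇`, `E₈`) the group presented
by (R1), (R2) is centrally closed over **every** field.  The lift of `x_m(y)` to a central extension is the lifted
commutator of root elements of a chosen decomposition `m = r₀ + s₀`; it does not depend on the decomposition
(the `A₃` identity `[u, [v, w]] = [[u, v], w]` of Milnor's proof for `St(n, R)`), and lifts of commuting root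
elements commute because one of them is a commutator of root elements commuting with the other.
-/

set_option autoImplicit false
set_option linter.unusedSectionVars false

namespace Cfsg.Agent.Helper40.Sl

open Cfsg Cfsg.Lie Cfsg.Agent.Helper18 Cfsg.Agent.Helper40.St Cfsg.Agent.Helper40.LC Cfsg.Agent.Helper40.Uc

/-- the group identity behind the `A₃` argument -/
theorem grp_a3 {E : Type*} [Group E] (u v w x y z : E) (hx : x = u * v * u⁻¹ * v⁻¹) (hy : y = v * w * v⁻¹ * w⁻¹)
    (hz : z = x * w * x⁻¹ * w⁻¹) (h1 : u * w = w * u) (h2 : x * y = y * x) (h3 : y * z = z * y) :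
    u * y * u⁻¹ * y⁻¹ = z := by
  have e1 : u⁻¹ * w * u = w := by rw [mul_assoc, ← h1, inv_mul_cancel_left]
  have e2 : u⁻¹ * w⁻¹ = w⁻¹ * u⁻¹ := by rw [← mul_inv_rev, ← h1, mul_inv_rev]
  have key : x * y * x⁻¹ * z = u * y * u⁻¹ := by
    calc x * y * x⁻¹ * z = u * v * (u⁻¹ * w * u) * v⁻¹ * (u⁻¹ * w⁻¹) := by
          rw [hz, hx, hy]
          group
      _ = u * y * u⁻¹ := by
          rw [e1, e2, hy]
          group
  calc u * y * u⁻¹ * y⁻¹ = x * y * x⁻¹ * z * y⁻¹ := by rw [key]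
    _ = z := by rw [h2, mul_inv_cancel_right, h3, mul_inv_cancel_right]

section
variable {Δ G₁ E : Type*} [Group Δ] [Group G₁] [Group E] {π₁ : E →* G₁} {σ : Δ →* G₁}

/-- the `A₃` identity for lifted commutators -/
theorem lc_a3 (S : Setup π₁ σ) {g h k : Δ} (h1 : S.lc g k = 1)
    (h2 : S.lc (g * h * g⁻¹ * h⁻¹) (h * k * h⁻¹ * k⁻¹) = 1)
    (h3 : S.lc (h * k * h⁻¹ * k⁻¹) ((g * h * g⁻¹ * h⁻¹) * k * (g * h * g⁻¹ * h⁻¹)⁻¹ * k⁻¹) = 1) :
    S.lc g (h * k * h⁻¹ * k⁻¹) = S.lc (g * h * g⁻¹ * h⁻¹) k := by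
  have hx := S.isLift_lc g h
  have hy := S.isLift_lc h k
  have hz : IsLift π₁ σ (S.lc g h * S.lift k * (S.lc g h)⁻¹ * (S.lift k)⁻¹)
      ((g * h * g⁻¹ * h⁻¹) * k * (g * h * g⁻¹ * h⁻¹)⁻¹ * k⁻¹) :=
    ((hx.mul (S.lift_spec k)).mul hx.inv).mul (S.lift_spec k).inv
  rw [S.lc_eq (S.lift_spec g) hy, S.lc_eq hx (S.lift_spec k)]
  exact grp_a3 (S.lift g) (S.lift h) (S.lift k) (S.lc g h) (S.lc h k) _ rfl rfl rfl
    (S.commute_of_lc_eq_one h1 (S.lift_spec g) (S.lift_spec k)).eq
    (S.commute_of_lc_eq_one h2 hx hy).eq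
    (S.commute_of_lc_eq_one h3 hy hz).eq

end

section
variable {K : Type*} [Field K] {D : ChevalleyDatum} {Γ : Type*} [Group Γ] {X : ℕ → K → Γ}
  {G₁ E : Type*} [Group G₁] [Group E] {π₁ : E →* G₁} {σ : Γ →* G₁}

/-- the context of the lifting problem -/
structure Ctx (D : ChevalleyDatum) (X : ℕ → K → Γ) (π₁ : E →* G₁) (σ : Γ →* G₁) : Prop where
  R : Rels D X
  S : Setup π₁ σ
  SD : SlData D

theorem sq_of_pm {C : ℤ} (h : C = 1 ∨ C = -1) : (C : K) * (C : K) = 1 := by
  rcases h with rfl | rfl <;> simp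

namespace Ctx

variable (C : Ctx D X π₁ σ)
include C

theorem commute_X {a b : ℕ} (h : CP D a b) (t u : K) : Commute (X a t) (X b u) := by
  have := C.R.comm a b h.1 h.2.1 h.2.2.1 h.2.2.2.1 t u
  unfold ChevalleyDatum.commWord at this
  rw [h.2.2.2.2] at this
  simp only [List.map_nil, wordG, List.prod_nil, mul_one] at this
  exact this.symm

/-- the commutator of two root elements whose roots add up to a root -/
theorem comm_ex1 {a b m : ℕ} {C' : ℤ} (h : EX1 D a b m C') (t u : K) :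
    X b u * X a t * (X b u)⁻¹ * (X a t)⁻¹ = X m (-((C' : K) * t * u)) := by
  have h1 := C.R.comm a b h.1 h.2.1 h.2.2.1 h.2.2.2.1 (-t) (-u)
  unfold ChevalleyDatum.commWord at h1
  rw [h.2.2.2.2] at h1
  simp only [List.map_cons, List.map_nil, wordG, List.prod_cons, List.prod_nil, mul_one, pow_one] at h1
  rw [C.R.X_neg a h.1, C.R.X_neg b h.2.1] at h1
  have e : (C' : K) * - -t * -u = -((C' : K) * t * u) := by ring
  rw [e] at h1
  calc X b u * X a t * (X b u)⁻¹ * (X a t)⁻¹ = X b u * X a t * ((X b u)⁻¹ * (X a t)⁻¹) := by group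
    _ = X b u * X a t * ((X a t)⁻¹ * (X b u)⁻¹ * X m (-((C' : K) * t * u))) := by rw [h1]
    _ = _ := by group

theorem isLift_F {a b m : ℕ} {C' : ℤ} (h : EX1 D a b m C') (t u : K) :
    IsLift π₁ σ (C.S.lc (X b u) (X a t)) (X m (-((C' : K) * t * u))) := by
  have := C.S.isLift_lc (X b u) (X a t)
  rwa [C.comm_ex1 h] at this

/-- lifts of `x_r(t)` and `x_s(u)` commute when `r = p + q` with `p`, `q` commuting with `s` -/
theorem lc_of_decCP {r s : ℕ} (h : DecCP D r s) (t u : K) : C.S.lc (X r t) (X s u) = 1 := by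
  obtain ⟨p, q, C', ⟨hex, hC⟩, cp, cq⟩ := h
  have h1 := C.comm_ex1 hex (-(C' : K) * t) 1
  have e : -((C' : K) * (-(C' : K) * t) * 1) = t := by
    linear_combination t * sq_of_pm (K := K) hC
  rw [e] at h1
  rw [← h1]
  exact C.S.lc_comm_trick (C.commute_X cq 1 u) (C.commute_X cp _ u)

/-- lifts of commuting root elements of different roots commute -/
theorem lc_cp {a b : ℕ} (h : CP D a b) (t u : K) : C.S.lc (X a t) (X b u) = 1 := by
  rcases C.SD.pair a b h.1 h.2.1 h.2.2.1 h.2.2.2.1 with ⟨-, d⟩ | ⟨m, C', hL, -, -, -⟩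
  · rcases d with ⟨-, d⟩ | ⟨hlt, cp'⟩
    · exact C.lc_of_decCP d t u
    · rcases C.SD.pair b a cp'.1 cp'.2.1 cp'.2.2.1 cp'.2.2.2.1 with ⟨-, d'⟩ | ⟨m, C', hL, -, -, -⟩
      · rcases d' with ⟨-, d'⟩ | ⟨hlt', -⟩
        · rw [C.S.lc_swap, C.lc_of_decCP d' u t, inv_one]
        · omega
      · rw [cp'.2.2.2.2] at hL
        cases hL
  · rw [h.2.2.2.2] at hL
    cases hL

/-- lifts of root elements of the same root commute -/
theorem lc_self {r : ℕ} (hr : r < D.nroots) (t u : K) : C.S.lc (X r t) (X r u) = 1 :=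
  C.lc_of_decCP (C.SD.self r hr) t u

/-- the `A₃` identity for root elements -/
theorem a3_id {a1 a2 a3 a12 a23 a123 : ℕ} {C21 C32 : ℤ} (A : A3 D a1 a2 a3 a12 a23 a123 C21 C32) (a b c : K) :
    C.S.lc (X a1 a) (X a23 (-((C32 : K) * c * b))) = C.S.lc (X a12 (-((C21 : K) * b * a))) (X a3 c) := by
  have hA := C.comm_ex1 A.e21.1 b a
  have hB := C.comm_ex1 A.e32.1 c b
  obtain ⟨C', hex⟩ := A.ex
  have hZ := C.comm_ex1 hex c (-((C21 : K) * b * a))
  rw [← hA, ← hB]
  apply lc_a3 C.S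
  · exact C.lc_cp A.c13 a c
  · rw [hA, hB]
    exact C.lc_cp A.cAB _ _
  · rw [hA, hB, hZ]
    exact C.lc_cp A.cB _ _

/-- the chosen decomposition: the lifted commutator depends on the product of the parameters only -/
theorem hubN {m : ℕ} (hm : m < D.nroots) (t u : K) :
    C.S.lc (X (hubOf D m).2 u) (X (hubOf D m).1 t) = C.S.lc (X (hubOf D m).2 1) (X (hubOf D m).1 (t * u)) := by
  obtain ⟨a1, a2, a23, C21, C32, A⟩ := (C.SD.hub m hm).n
  have h1 := C.a3_id A 1 (-(C21 : K) * u) t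
  have h2 := C.a3_id A 1 (-(C21 : K)) (t * u)
  have e := sq_of_pm (K := K) A.e21.2
  have e1 : -((C21 : K) * (-(C21 : K) * u) * 1) = u := by linear_combination u * e
  have e2 : -((C21 : K) * (-(C21 : K)) * 1) = 1 := by linear_combination e
  have e3 : -((C32 : K) * t * (-(C21 : K) * u)) = -((C32 : K) * (t * u) * (-(C21 : K))) := by ring
  rw [e1, e3] at h1
  rw [e2] at h2
  rw [← h1, ← h2]

end Ctx

/-- the lift of the root element `x_m(y)`: a lifted commutator of root elements of the chosen decomposition of `m` -/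
noncomputable def Y (S : Setup π₁ σ) (D : ChevalleyDatum) (X : ℕ → K → Γ) (m : ℕ) (y : K) : E :=
  S.lc (X (hubOf D m).2 1) (X (hubOf D m).1 (-((hubC D m : ℤ) : K) * y))

namespace Ctx

variable (C : Ctx D X π₁ σ)
include C

theorem isLift_Y {m : ℕ} (hm : m < D.nroots) (y : K) : IsLift π₁ σ (Y C.S D X m y) (X m y) := by
  have H := C.SD.hub m hm
  have := C.isLift_F H.e.1 (-((hubC D m : ℤ) : K) * y) 1
  have e : -(((hubC D m : ℤ) : K) * (-((hubC D m : ℤ) : K) * y) * 1) = y := by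
    linear_combination y * sq_of_pm (K := K) H.e.2
  rwa [e] at this

/-- the lifted commutators of the chosen decomposition -/
theorem F_hub {m : ℕ} (hm : m < D.nroots) (t u : K) :
    C.S.lc (X (hubOf D m).2 u) (X (hubOf D m).1 t) = Y C.S D X m (-(((hubC D m : ℤ) : K) * t * u)) := by
  have H := C.SD.hub m hm
  rw [C.hubN hm]
  unfold Y
  congr 2
  linear_combination (-(t * u)) * sq_of_pm (K := K) H.e.2

theorem Y_add {m : ℕ} (hm : m < D.nroots) (y y' : K) : Y C.S D X m (y + y') = Y C.S D X m y * Y C.S D X m y' := by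
  have H := C.SD.hub m hm
  have hr := H.e.1.1
  unfold Y
  rw [mul_add, C.R.add _ hr, C.S.lc_mul_right' (C.S.lift_spec _)]
  congr 1
  have h1 := C.isLift_F H.e.1 (-((hubC D m : ℤ) : K) * y') 1
  have h2 := C.S.commute_of_lc_eq_one (C.lc_cp H.c (-((hubC D m : ℤ) : K) * y) _) (C.S.lift_spec _) h1
  rw [h2.eq, mul_inv_cancel_right]

theorem Y_zero {m : ℕ} (hm : m < D.nroots) : Y C.S D X m 0 = 1 := by
  have := C.Y_add hm 0 0
  rw [add_zero] at this
  exact (mul_eq_left.mp this.symm)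

theorem Y_neg {m : ℕ} (hm : m < D.nroots) (y : K) : Y C.S D X m (-y) = (Y C.S D X m y)⁻¹ := by
  apply eq_inv_of_mul_eq_one_left
  rw [← C.Y_add hm, neg_add_cancel, C.Y_zero hm]

/-- the lifted commutator of root elements whose roots add up to `m` is the lift `Y m` of their commutator -/
theorem F_eq {r s m : ℕ} {C' : ℤ} (h : EX1 D r s m C') (l : Link D r s m C') (hm : m < D.nroots) (t u : K) :
    C.S.lc (X s u) (X r t) = Y C.S D X m (-((C' : K) * t * u)) := by
  have H := C.SD.hub m hm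
  rcases l with ⟨h1, h2⟩ | ⟨h1, h2, num⟩ | ⟨e, C21, C32, A, num⟩ | ⟨e, C21, C32, A, num⟩
  · subst h1 h2
    have e1 := h.2.2.2.2
    rw [H.e.1.2.2.2.2] at e1
    have e2 : hubC D m = C' := by
      injection e1 with e1 _
      injection e1 with _ e1
      injection e1
    rw [C.F_hub hm, e2]
  · subst h1 h2
    rw [C.S.lc_swap, C.F_hub hm, ← C.Y_neg hm, num]
    congr 1
    push_cast
    ring
  · have h1 := C.a3_id A u 1 (-(C32 : K) * t)
    have e1 : -((C32 : K) * (-(C32 : K) * t) * 1) = t := by linear_combination t * sq_of_pm (K := K) A.e32.2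
    rw [e1, C.F_hub hm] at h1
    rw [h1, num]
    congr 1
    push_cast
    ring
  · have h1 := C.a3_id A u 1 (-(C32 : K) * t)
    have e1 : -((C32 : K) * (-(C32 : K) * t) * 1) = t := by linear_combination t * sq_of_pm (K := K) A.e32.2
    rw [e1, C.S.lc_swap (X (hubOf D m).2 (-(C32 : K) * t)) (X (hubOf D m).1 (-((C21 : K) * 1 * u))), C.F_hub hm,
      ← C.Y_neg hm] at h1
    rw [h1, num]
    congr 1
    push_cast
    ring

/-- **the lifts satisfy (R1) and (R2)** -/
theorem rels : Rels D (Y C.S D X) where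
  add := fun r hr t u => C.Y_add hr t u
  comm := by
    intro r s hr hs h1 h2 t u
    rcases C.SD.pair r s hr hs h1 h2 with ⟨h0, -⟩ | ⟨m, C', hL, hm, hC, l⟩
    · have hcp : CP D r s := ⟨hr, hs, h1, h2, h0⟩
      have h3 := C.S.commute_of_lc_eq_one (C.lc_cp hcp t u) (C.isLift_Y hr t) (C.isLift_Y hs u)
      unfold ChevalleyDatum.commWord
      rw [h0]
      simp only [List.map_nil, wordG, List.prod_nil, mul_one]
      exact h3.eq.symm
    · have hex : EX1 D r s m C' := ⟨hr, hs, h1, h2, hL⟩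
      have hF := C.F_eq hex l hm (-t) (-u)
      rw [C.R.X_neg s hs, C.R.X_neg r hr, C.S.lc_eq (C.isLift_Y hs u).inv (C.isLift_Y hr t).inv, inv_inv, inv_inv] at hF
      unfold ChevalleyDatum.commWord
      rw [hL]
      simp only [List.map_cons, List.map_nil, wordG, List.prod_cons, List.prod_nil, mul_one, pow_one]
      have e : (C' : K) * -t * u = -((C' : K) * -t * -u) := by ring
      rw [e, ← hF]
      group

end Ctx

/-- every root element is a commutator -/
theorem perfect (R : Rels D X) (SD : SlData D)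
    (gen : Subgroup.closure {g | ∃ r < D.nroots, ∃ t : K, g = X r t} = ⊤) : commutator Γ = ⊤ := by
  rw [eq_top_iff, ← gen, Subgroup.closure_le]
  rintro g ⟨r, hr, t, rfl⟩
  obtain ⟨p, q, C', ⟨hex, hC⟩, -, -⟩ := SD.self r hr
  have C0 : Ctx D X (MonoidHom.id Γ) (MonoidHom.id Γ) :=
    ⟨R, ⟨Function.surjective_id, by rw [MonoidHom.ker_id]; exact bot_le⟩, SD⟩
  have h1 := C0.comm_ex1 hex (-(C' : K) * t) 1
  have e : -((C' : K) * (-(C' : K) * t) * 1) = t := by
    linear_combination t * sq_of_pm (K := K) hC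
  rw [e] at h1
  have h3 := Subgroup.commutator_mem_commutator (H₁ := (⊤ : Subgroup Γ)) (H₂ := (⊤ : Subgroup Γ))
    (Subgroup.mem_top (X q 1)) (Subgroup.mem_top (X p (-(C' : K) * t)))
  rw [commutatorElement_def] at h3
  rw [← h1, commutator_def]
  exact h3

end

end Cfsg.Agent.Helper40.Sl
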