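import Cfsg.Agent.Helper40.StTorus
import Cfsg.Agent.Helper40.StPres3

/-!
Helper40: Steinberg's presented group has trivial centre when the Cartan matrix is unimodular (types G₂, F₄, E₈).
-/

set_option autoImplicit false
set_option linter.unusedSectionVars false

namespace Cfsg.Agent.Helper40.St

open Cfsg Cfsg.Lie Cfsg.Agent.Helper18 Cfsg.Agent.Helper40.ChevAdd Cfsg.Agent.Helper40.SL2Chev
  Cfsg.Agent.Helper40.SL2Hom

/-- `B` is the inverse of the Cartan matrix -/
def cartInvOK (D : ChevalleyDatum) (B : List (List ℤ)) : Bool :=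
  decide (∀ i ∈ Finset.range D.rank, ∀ k ∈ Finset.range D.rank,
    ∑ j ∈ Finset.range D.rank, pairing' D (D.simple i) (D.simple j) * (B.getD j []).getD k 0 =
      if i = k then 1 else 0)

set_option maxRecDepth 100000 in
theorem cartInvOK_G2 : cartInvOK chevG2 [[2, 3], [1, 2]] = true := by decide +kernel
set_option maxRecDepth 100000 in
theorem cartInvOK_F4 : cartInvOK chevF4 [[2, 3, 4, 2], [3, 6, 8, 4], [2, 4, 6, 3], [1, 2, 3, 2]] = true := by
  decide +kernel
set_option maxRecDepth 100000 in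
theorem cartInvOK_E8 : cartInvOK chevE8 [[4, 5, 7, 10, 8, 6, 4, 2], [5, 8, 10, 15, 12, 9, 6, 3],
    [7, 10, 14, 20, 16, 12, 8, 4], [10, 15, 20, 30, 24, 18, 12, 6], [8, 12, 16, 24, 20, 15, 10, 5],
    [6, 9, 12, 18, 15, 12, 8, 4], [4, 6, 8, 12, 10, 8, 6, 3], [2, 3, 4, 6, 5, 4, 3, 2]] = true := by
  decide +kernel

theorem exists_cartInv (D : ChevalleyDatum) (hD : D ∈ [chevG2, chevF4, chevE8]) :
    ∃ B : ℕ → ℕ → ℤ, ∀ i < D.rank, ∀ k < D.rank,
      ∑ j ∈ Finset.range D.rank, pairing' D (D.simple i) (D.simple j) * B j k = if i = k then 1 else 0 := by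
  have key : ∀ B : List (List ℤ), cartInvOK D B = true → ∃ B : ℕ → ℕ → ℤ, ∀ i < D.rank, ∀ k < D.rank,
      ∑ j ∈ Finset.range D.rank, pairing' D (D.simple i) (D.simple j) * B j k = if i = k then 1 else 0 := by
    intro B hB
    unfold cartInvOK at hB
    rw [decide_eq_true_eq] at hB
    exact ⟨fun j k => (B.getD j []).getD k 0, fun i hi k hk =>
      hB i (Finset.mem_range.mpr hi) k (Finset.mem_range.mpr hk)⟩
  simp only [List.mem_cons, List.not_mem_nil, or_false] at hD
  rcases hD with rfl | rfl | rfl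
  · exact key _ cartInvOK_G2
  · exact key _ cartInvOK_F4
  · exact key _ cartInvOK_E8

section
variable {K : Type*} [Field K] {D : ChevalleyDatum}

/-- the centre of Steinberg's presented group is trivial when the Cartan matrix is unimodular -/
theorem steinberg_center_eq_bot (hD : D ∈ [chevG2, chevB2, chevD4, chevF4, chevE6, chevE7, chevE8])
    (B : ℕ → ℕ → ℤ)
    (hB : ∀ i < D.rank, ∀ k < D.rank,
      ∑ j ∈ Finset.range D.rank, pairing' D (D.simple i) (D.simple j) * B j k = if i = k then 1 else 0) :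
    Subgroup.center (D.SteinbergGroup K) = ⊥ := by
  have hadd := ChevAdd.addOK_of_mem hD
  obtain ⟨φ, S⟩ := exists_std D hD
  have hG := lift_rels (K := K) D hadd hD
  have O := over_presented hadd (D.steinbergRels K) (relsAB_subset D) hG
  have gen := gen_presented (D := D) (D.steinbergRels K)
  obtain ⟨θ, h1, -, h3, -⟩ := presented_central (K := K) hadd hD (D.steinbergRels K) (relsAB_subset D) hG
  rw [eq_bot_iff]
  intro z hz
  rw [Subgroup.mem_bot]
  -- `z` lies in the kernel
  have hc : θ z ∈ Subgroup.center ↥(D.group K) := by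
    rw [Subgroup.mem_center_iff]
    intro y
    obtain ⟨x, rfl⟩ := h1 y
    rw [Subgroup.mem_center_iff] at hz
    rw [← map_mul, ← map_mul, hz x]
  rw [center_group_eq_bot D hD, Subgroup.mem_bot] at hc
  have hπ : PresentedGroup.toGroup hG z = 1 := by
    rw [← h3 z, hc]
    rfl
  have hmul : ∀ i < D.rank, ∀ t u : K, t ≠ 0 → u ≠ 0 →
      hbar D (fun r t => PresentedGroup.mk (D.steinbergRels K) (D.stX r t)) (D.simple i) (t * u) =
        hbar D (fun r t => PresentedGroup.mk (D.steinbergRels K) (D.stX r t)) (D.simple i) t *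
          hbar D (fun r t => PresentedGroup.mk (D.steinbergRels K) (D.stX r t)) (D.simple i) u := by
    intro i hi t u ht hu
    have hp := S.simple_lt i hi
    have hrel : D.stH (D.simple i) t * D.stH (D.simple i) u * (D.stH (D.simple i) (t * u))⁻¹ ∈ D.steinbergRels K :=
      Or.inr ⟨D.simple i, t, u, hp, ht, hu, rfl⟩
    have h4 := PresentedGroup.mk_eq_mk_of_mul_inv_mem hrel
    rw [map_mul, mk_stH, mk_stH, mk_stH, ← nbar_inv O.toRels _ hp (S.neg_lt _ hp)] at h4
    exact h4.symm
  exact eq_one_of_mem_HB hD O S hmul B hB z (ker_le_HB hD O gen (MonoidHom.mem_ker.mpr hπ)) hπ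

end

end Cfsg.Agent.Helper40.St
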