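import Cfsg.Agent.Helper40.SlFinal
import Cfsg.Agent.Helper40.MultAux
import Cfsg.Agent.S1078
import Cfsg.Agent.S1079

/-!
Helper40: the Schur multipliers of the finite Chevalley groups `E₆(q)`, `E₇(q)`, `E₈(q)` (all `q`).
-/

set_option autoImplicit false

namespace Cfsg.Agent.Helper40.Sl

open Cfsg Cfsg.Lie Cfsg.Agent.Helper40.St Cfsg.Agent.Helper40.LC

universe u

/-- the multiplier of a finite Chevalley group of type `E₆`, `E₇`, `E₈` is the centre of the presented group -/
theorem hasCyclicSchurMultiplier_chev {F : Type u} [Field F] [Fintype F] (D : ChevalleyDatum)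
    (hD : D ∈ [chevE6, chevE7, chevE8]) (n p : ℕ) (hp : p.Prime) (hn : n ∣ p)
    (hcard : Nat.card (Subgroup.center (D.SteinbergGroup F)) = n) :
    Cfsg.HasCyclicSchurMultiplier ↥(D.group F) n := by
  apply hasCyclicSchurMultiplier_of_lift D (mem7_of_mem3 D hD) (cover_perfect (K := F) D hD) _ n p hp hn hcard
  intro E _ π₁ hπ hc σ
  obtain ⟨τ, hτ, -⟩ := sl_cover_lift_unique (K := F) D hD π₁ hπ hc σ
  exact ⟨τ, hτ⟩

end Cfsg.Agent.Helper40.Sl
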