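import Mathlib
import Cfsg.Agent.Helper29.StCM

/-!
# Monomial symplectic matrices and their action on the root elements of `Sp_{2m}(K)` (for S2411)

`monoMat σ c` is the monomial matrix `e_j ↦ c j • e_(σ j)`; if `σ` commutes with `bar` and
`c j * c (bar j) * sgn j = sgn (σ j)` it is symplectic (`monoSp`) and normalizes the root subgroups:
`monoSp_isMono : IsMono spT (monoSp σ c hσ hc) σ c`.
-/

set_option autoImplicit false

namespace Cfsg.Agent.Helper40.SpGen

open Matrix Cfsg.Agent.Helper96.StN Cfsg.Agent.Helper96.StC Cfsg.Agent.Helper29.StCM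

universe u v

section gen

variable {K : Type u} [Field K] {ι : Type v} [DecidableEq ι] [Fintype ι]

/-- the monomial matrix `e_j ↦ c j • e_(σ j)` -/
def monoMat (σ : Equiv.Perm (ι ⊕ ι)) (c : ι ⊕ ι → K) : Matrix (ι ⊕ ι) (ι ⊕ ι) K :=
  Matrix.of fun i j => if i = σ j then c j else 0

theorem monoMat_apply (σ : Equiv.Perm (ι ⊕ ι)) (c : ι ⊕ ι → K) (i j : ι ⊕ ι) :
    monoMat σ c i j = if i = σ j then c j else 0 := rfl

theorem monoMat_mul (σ τ : Equiv.Perm (ι ⊕ ι)) (c e : ι ⊕ ι → K) :
    monoMat σ c * monoMat τ e = monoMat (σ * τ) (fun j => c (τ j) * e j) := by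
  ext i k
  rw [Matrix.mul_apply, Finset.sum_eq_single (τ k)]
  · simp only [monoMat_apply]
    rw [if_pos trivial]
    by_cases h : i = σ (τ k)
    · rw [if_pos h, if_pos (by rw [Equiv.Perm.mul_apply]; exact h)]
    · rw [if_neg h, if_neg (by rw [Equiv.Perm.mul_apply]; exact h), zero_mul]
  · intro j _ hj
    simp only [monoMat_apply]
    rw [if_neg hj, mul_zero]
  · intro h; exact absurd (Finset.mem_univ _) h

theorem monoMat_one : monoMat (1 : Equiv.Perm (ι ⊕ ι)) (fun _ => (1 : K)) = 1 := by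
  ext i j
  rw [monoMat_apply, Matrix.one_apply, Equiv.Perm.one_apply]

theorem monoMat_mul_E (σ : Equiv.Perm (ι ⊕ ι)) (c : ι ⊕ ι → K) (a b : ι ⊕ ι) :
    monoMat σ c * (E a b : Matrix _ _ K) = c a • E (σ a) b := by
  ext i k
  unfold E
  by_cases hk : k = b
  · subst hk
    rw [Matrix.mul_single_apply_same, mul_one, monoMat_apply, Matrix.smul_apply,
      Matrix.single_apply]
    by_cases hi : i = σ a
    · subst hi; simp
    · rw [if_neg hi, if_neg (fun h => hi h.1.symm)]; simp
  · rw [Matrix.mul_single_apply_of_ne _ _ _ _ _ hk, Matrix.smul_apply, Matrix.single_apply,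
      if_neg (fun h => hk h.2.symm)]; simp

theorem E_mul_monoMat (σ : Equiv.Perm (ι ⊕ ι)) (c : ι ⊕ ι → K) (a b : ι ⊕ ι) :
    (E a b : Matrix _ _ K) * monoMat σ c = c (σ.symm b) • E a (σ.symm b) := by
  ext i k
  unfold E
  by_cases hi : i = a
  · subst hi
    rw [Matrix.single_mul_apply_same, one_mul, monoMat_apply, Matrix.smul_apply,
      Matrix.single_apply]
    by_cases hk : b = σ k
    · have : σ.symm b = k := by rw [hk]; simp
      rw [if_pos hk, this]; simp
    · have : ¬ (σ.symm b = k) := fun h => hk (by rw [← h]; simp)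
      rw [if_neg hk, if_neg (fun h => this h.2)]; simp
  · rw [Matrix.single_mul_apply_of_ne _ _ _ _ _ hi, Matrix.smul_apply, Matrix.single_apply,
      if_neg (fun h => hi h.1.symm)]; simp

theorem sgn_mul_self (a : ι ⊕ ι) : sgn K a * sgn K a = 1 := by
  rcases a with a | a <;> simp [sgn]

theorem sgn_ne_zero (a : ι ⊕ ι) : sgn K a ≠ 0 := by
  rcases a with a | a <;> simp [sgn]

theorem eps_eq_sgn (p q : ι ⊕ ι) : eps K p q = sgn K p * sgn K q := by
  rcases p with p | p <;> rcases q with q | q <;> simp [eps, sgn]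

theorem monoMat_mem (σ : Equiv.Perm (ι ⊕ ι)) (c : ι ⊕ ι → K)
    (hσ : ∀ p, σ (bar p) = bar (σ p))
    (hc : ∀ j, c j * c (bar j) * sgn K j = sgn K (σ j)) :
    monoMat σ c ∈ Matrix.symplecticGroup ι K := by
  rw [SymplecticGroup.mem_iff]
  ext i k
  rw [Matrix.mul_apply, Finset.sum_eq_single (bar (σ.symm i))]
  · rw [Matrix.mul_apply, Finset.sum_eq_single (σ.symm i)]
    · rw [Matrix.transpose_apply, monoMat_apply, monoMat_apply, J_apply, J_apply, if_pos rfl,
        if_pos (by simp), hσ, Equiv.apply_symm_apply]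
      by_cases hk : k = bar i
      · rw [if_pos hk, if_pos hk]
        have := hc (σ.symm i)
        rw [Equiv.apply_symm_apply] at this
        rw [← this]; ring
      · rw [if_neg hk, if_neg hk, mul_zero]
    · intro j _ hj
      rw [monoMat_apply, if_neg (fun h => hj (by rw [h]; simp)), zero_mul]
    · intro h; exact absurd (Finset.mem_univ _) h
  · intro l _ hl
    have : (monoMat σ c * Matrix.J ι K) i l = 0 := by
      rw [Matrix.mul_apply]
      apply Finset.sum_eq_zero
      intro j _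
      rw [monoMat_apply, J_apply]
      by_cases hj : i = σ j
      · have hj' : j = σ.symm i := by rw [hj]; simp
        rw [if_pos hj, if_neg (fun h => hl (by rw [h, hj'])), mul_zero]
      · rw [if_neg hj, zero_mul]
    rw [this, zero_mul]
  · intro h; exact absurd (Finset.mem_univ _) h

/-- the monomial element of the symplectic group -/
def monoSp (σ : Equiv.Perm (ι ⊕ ι)) (c : ι ⊕ ι → K)
    (hσ : ∀ p, σ (bar p) = bar (σ p))
    (hc : ∀ j, c j * c (bar j) * sgn K j = sgn K (σ j)) : Matrix.symplecticGroup ι K :=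
  ⟨monoMat σ c, monoMat_mem σ c hσ hc⟩

theorem monoSp_coe (σ : Equiv.Perm (ι ⊕ ι)) (c : ι ⊕ ι → K)
    (hσ : ∀ p, σ (bar p) = bar (σ p))
    (hc : ∀ j, c j * c (bar j) * sgn K j = sgn K (σ j)) :
    (monoSp σ c hσ hc).1 = monoMat σ c := rfl

theorem coef_ne_zero {σ : Equiv.Perm (ι ⊕ ι)} {c : ι ⊕ ι → K}
    (hc : ∀ j, c j * c (bar j) * sgn K j = sgn K (σ j)) (j : ι ⊕ ι) : c j ≠ 0 := by
  intro h
  have := hc j
  rw [h, zero_mul, zero_mul] at this
  exact sgn_ne_zero _ this.symm

theorem monoMat_mul_spM (σ : Equiv.Perm (ι ⊕ ι)) (c : ι ⊕ ι → K)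
    (hσ : ∀ p, σ (bar p) = bar (σ p))
    (hc : ∀ j, c j * c (bar j) * sgn K j = sgn K (σ j)) (p q : ι ⊕ ι) (hpq : p ≠ q) (t : K) :
    monoMat σ c * spM p q t = spM (σ p) (σ q) (c p * (c q)⁻¹ * t) * monoMat σ c := by
  have hcp := coef_ne_zero hc p
  have hcq := coef_ne_zero hc q
  by_cases hq : q = bar p
  · have hq' : σ q = bar (σ p) := by rw [hq, hσ]
    rw [spM_long' hq, spM_long' hq']
    rw [mul_add, add_mul, mul_one, one_mul, mul_smul_comm, smul_mul_assoc, monoMat_mul_E,
      E_mul_monoMat, Equiv.symm_apply_apply, smul_smul, smul_smul]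
    congr 2
    field_simp
  · have hq' : σ q ≠ bar (σ p) := by
      rw [← hσ]; exact fun h => hq (σ.injective h)
    rw [spM_short hq, spM_short hq', ← hσ q, ← hσ p]
    simp only [mul_add, mul_sub, add_mul, sub_mul, mul_one, one_mul, mul_smul_comm,
      smul_mul_assoc, monoMat_mul_E, E_mul_monoMat, Equiv.symm_apply_apply, smul_smul]
    have e1 : t * c p = c p * (c q)⁻¹ * t * c q := by field_simp
    have e2 : eps K p q * t * c (bar q) =
        eps K (σ p) (σ q) * (c p * (c q)⁻¹ * t) * c (bar p) := by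
      have hp := hc p
      have hq2 := hc q
      have h3 : (c p * c (bar p)) ^ 2 = 1 := by
        have h4 := sgn_mul_self (K := K) (σ p)
        rw [← hp] at h4
        have s1 := sgn_mul_self (K := K) p
        have : (c p * c (bar p)) ^ 2 * (sgn K p * sgn K p) = 1 := by rw [← h4]; ring
        rwa [s1, mul_one] at this
      have h5 : c q * (c q)⁻¹ = 1 := mul_inv_cancel₀ hcq
      rw [eps_eq_sgn, eps_eq_sgn, ← hp, ← hq2]
      have : c p * c (bar p) * sgn K p * (c q * c (bar q) * sgn K q) * (c p * (c q)⁻¹ * t) *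
          c (bar p) = sgn K p * sgn K q * t * c (bar q) * (c p * c (bar p)) ^ 2 *
            (c q * (c q)⁻¹) := by ring
      rw [this, h3, h5]; ring
    rw [e1, e2]

theorem monoSp_isMono {m : ℕ} (σ : Equiv.Perm (Fin m ⊕ Fin m)) (c : Fin m ⊕ Fin m → K)
    (hσ : ∀ p, σ (bar p) = bar (σ p))
    (hc : ∀ j, c j * c (bar j) * sgn K j = sgn K (σ j)) :
    IsMono (fun (p q : Fin m ⊕ Fin m) (t : K) => spT p q t) (monoSp σ c hσ hc) σ c := by
  refine ⟨coef_ne_zero hc, fun k l hkl u => ?_⟩
  rw [mul_inv_eq_iff_eq_mul]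
  apply Subtype.ext
  have hkl' : σ k ≠ σ l := fun h => hkl (σ.injective h)
  change (monoSp σ c hσ hc).1 * (spT k l u).1 = (spT (σ k) (σ l) _).1 * (monoSp σ c hσ hc).1
  rw [spT_coe hkl, spT_coe hkl', monoSp_coe]
  exact monoMat_mul_spM σ c hσ hc k l hkl u

end gen

end Cfsg.Agent.Helper40.SpGen
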