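import Mathlib
import Cfsg.Agent.Helper40.SpGenMono

/-!
# The cyclic order on the index set `Fin m ⊕ Fin m` and the Coxeter element of `Sp_{2m}(K)`
(for S2411)

`cyc n` is the index at position `n` (mod `2m`) in the order `1, 2, …, m, -1, -2, …, -m`;
`coxPerm` is the `2m`-cycle `cyc n ↦ cyc (n + 1)`; `coxSp` is the monomial symplectic matrix
`e_1 ↦ e_2 ↦ ⋯ ↦ e_m ↦ f_1 ↦ ⋯ ↦ f_m ↦ -e_1`.
-/

set_option autoImplicit false

namespace Cfsg.Agent.Helper40.SpGen

open Matrix Cfsg.Agent.Helper96.StN Cfsg.Agent.Helper96.StC Cfsg.Agent.Helper29.StCM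

universe u

variable {m : ℕ}

/-- position in the cyclic order -/
def pos : Fin m ⊕ Fin m → ℕ
  | Sum.inl i => i.val
  | Sum.inr i => m + i.val

theorem pos_lt (p : Fin m ⊕ Fin m) : pos p < 2 * m := by
  rcases p with i | i <;> simp only [pos] <;> have := i.isLt <;> omega

/-- decoding a position -/
def dec (x : Fin (2 * m)) : Fin m ⊕ Fin m :=
  if h : x.val < m then Sum.inl ⟨x.val, h⟩ else Sum.inr ⟨x.val - m, by have := x.isLt; omega⟩

/-- the index at position `n` mod `2m` -/
def cyc [NeZero m] (n : ℕ) : Fin m ⊕ Fin m :=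
  dec ⟨n % (2 * m), Nat.mod_lt _ (by have := NeZero.pos m; omega)⟩

theorem pos_dec (x : Fin (2 * m)) : pos (dec x) = x.val := by
  unfold dec
  split_ifs with h
  · rfl
  · simp only [pos]; omega

variable [NeZero m]

theorem pos_cyc (n : ℕ) : pos (cyc (m := m) n) = n % (2 * m) := by
  unfold cyc; rw [pos_dec]

theorem cyc_congr {a b : ℕ} (h : a % (2 * m) = b % (2 * m)) : cyc (m := m) a = cyc b := by
  unfold cyc
  exact congrArg dec (Fin.ext h)

theorem dec_mk_inl (i : Fin m) (h : i.val < 2 * m) : dec ⟨i.val, h⟩ = Sum.inl i := by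
  unfold dec
  exact dif_pos i.isLt

theorem dec_mk_inr (i : Fin m) (h : m + i.val < 2 * m) : dec ⟨m + i.val, h⟩ = Sum.inr i := by
  unfold dec
  split_ifs with h1
  · exfalso
    have h2 : m + i.val < m := h1
    omega
  · congr 1
    apply Fin.ext
    show m + i.val - m = i.val
    omega

theorem cyc_of_lt {n : ℕ} (h : n < m) : cyc n = Sum.inl ⟨n, h⟩ := by
  unfold cyc
  have e : (⟨n % (2 * m), Nat.mod_lt _ (by omega)⟩ : Fin (2 * m)) = ⟨n, by omega⟩ :=
    Fin.ext (Nat.mod_eq_of_lt (by omega))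
  rw [e]
  exact dec_mk_inl ⟨n, h⟩ (by simp only; omega)

theorem cyc_of_ge {n : ℕ} (h1 : m ≤ n) (h2 : n < 2 * m) :
    cyc (m := m) n = Sum.inr ⟨n - m, by omega⟩ := by
  unfold cyc
  have e : (⟨n % (2 * m), Nat.mod_lt _ (by omega)⟩ : Fin (2 * m)) =
      ⟨m + (n - m), by omega⟩ :=
    Fin.ext (by show n % (2 * m) = m + (n - m); rw [Nat.mod_eq_of_lt h2]; omega)
  rw [e]
  exact dec_mk_inr ⟨n - m, by omega⟩ (by simp only; omega)

theorem cyc_pos (p : Fin m ⊕ Fin m) : cyc (pos p) = p := by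
  rcases p with i | i
  · exact cyc_of_lt i.isLt
  · have hi := i.isLt
    have h := cyc_of_ge (m := m) (n := m + i.val) (by omega) (by omega)
    rw [show pos (Sum.inr i : Fin m ⊕ Fin m) = m + i.val from rfl, h]
    congr 1
    apply Fin.ext
    show m + i.val - m = i.val
    omega

theorem cyc_add_two_mul (n : ℕ) : cyc (m := m) (n + 2 * m) = cyc n :=
  cyc_congr (Nat.add_mod_right _ _)

theorem cyc_add_mul (n j : ℕ) : cyc (m := m) (n + 2 * m * j) = cyc n :=
  cyc_congr (Nat.add_mul_mod_self_left _ _ _)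

theorem cyc_mod_add (a b : ℕ) : cyc (m := m) (a % (2 * m) + b) = cyc (a + b) :=
  cyc_congr (Nat.mod_add_mod _ _ _)

theorem cyc_eq_iff {a b : ℕ} : cyc (m := m) a = cyc b ↔ a % (2 * m) = b % (2 * m) := by
  refine ⟨fun h => ?_, cyc_congr⟩
  have := congrArg pos h
  rwa [pos_cyc, pos_cyc] at this

theorem cyc_ne_add (a : ℕ) {e : ℕ} (he : 0 < e) (he' : e < 2 * m) :
    cyc (m := m) a ≠ cyc (a + e) := by
  intro h
  rw [cyc_eq_iff] at h
  have h1 : (a + 0) % (2 * m) = (a + e) % (2 * m) := by rw [add_zero]; exact h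
  have h2 : 0 % (2 * m) = e % (2 * m) := Nat.ModEq.add_left_cancel' a h1
  rw [Nat.zero_mod, Nat.mod_eq_of_lt he'] at h2
  omega

theorem cyc_add_ne (a : ℕ) {e : ℕ} (he : 0 < e) (he' : e < 2 * m) :
    cyc (m := m) (a + e) ≠ cyc a := (cyc_ne_add a he he').symm

theorem cyc_ne_of {a b : ℕ} (hab : a < b) (h : b < a + 2 * m) : cyc (m := m) a ≠ cyc b := by
  have e : b = a + (b - a) := by omega
  rw [e]
  exact cyc_ne_add a (by omega) (by omega)

theorem bar_cyc (n : ℕ) : bar (cyc (m := m) n) = cyc (n + m) := by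
  have hm := NeZero.pos m
  have hr : n % (2 * m) < 2 * m := Nat.mod_lt _ (by omega)
  have e1 : cyc (m := m) (n + m) = cyc (n % (2 * m) + m) := (cyc_mod_add n m).symm
  rw [e1]
  by_cases h : n % (2 * m) < m
  · have h2 : (n % (2 * m) + m) % (2 * m) = n % (2 * m) + m := Nat.mod_eq_of_lt (by omega)
    unfold cyc dec
    simp only [h2]
    rw [dif_pos h, dif_neg (by omega)]
    simp only [bar_inl]
    congr 1
    apply Fin.ext
    simp
  · have h2 : (n % (2 * m) + m) % (2 * m) = n % (2 * m) - m := by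
      rw [Nat.mod_eq_sub_mod (by omega)]
      have : n % (2 * m) + m - 2 * m = n % (2 * m) - m := by omega
      rw [this]
      exact Nat.mod_eq_of_lt (by omega)
    unfold cyc dec
    simp only [h2]
    rw [dif_neg h, dif_pos (by omega)]
    simp only [bar_inr]

/-- the Coxeter permutation: the `2m`-cycle along the cyclic order -/
def coxPerm (m : ℕ) [NeZero m] : Equiv.Perm (Fin m ⊕ Fin m) where
  toFun p := cyc (pos p + 1)
  invFun p := cyc (pos p + (2 * m - 1))
  left_inv p := by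
    have hm := NeZero.pos m
    show cyc (pos (cyc (pos p + 1)) + (2 * m - 1)) = p
    rw [pos_cyc, cyc_mod_add]
    have : pos p + 1 + (2 * m - 1) = pos p + 2 * m := by omega
    rw [this, cyc_add_two_mul, cyc_pos]
  right_inv p := by
    have hm := NeZero.pos m
    show cyc (pos (cyc (pos p + (2 * m - 1))) + 1) = p
    rw [pos_cyc, cyc_mod_add]
    have : pos p + (2 * m - 1) + 1 = pos p + 2 * m := by omega
    rw [this, cyc_add_two_mul, cyc_pos]

theorem coxPerm_cyc (n : ℕ) : coxPerm m (cyc n) = cyc (n + 1) := by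
  change cyc (pos (cyc n) + 1) = _
  rw [pos_cyc, cyc_mod_add]

theorem coxPerm_bar (p : Fin m ⊕ Fin m) : coxPerm m (bar p) = bar (coxPerm m p) := by
  rw [← cyc_pos p, bar_cyc, coxPerm_cyc, coxPerm_cyc, bar_cyc]
  congr 1
  omega

/-- the coefficients of the Coxeter element: `-1` at the last position -/
def coxCoef (K : Type u) [Field K] : Fin m ⊕ Fin m → K
  | Sum.inl _ => 1
  | Sum.inr i => if i.val + 1 = m then -1 else 1

theorem coxPerm_apply (p : Fin m ⊕ Fin m) : coxPerm m p = cyc (pos p + 1) := rfl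

theorem coxCoef_cond (K : Type u) [Field K] (j : Fin m ⊕ Fin m) :
    coxCoef K j * coxCoef K (bar j) * sgn K j = sgn K (coxPerm m j) := by
  have hm := NeZero.pos m
  rcases j with i | i
  · have hi := i.isLt
    rw [coxPerm_apply, bar_inl, sgn_inl]
    show (1 : K) * (if i.val + 1 = m then -1 else 1) * -1 = sgn K (cyc (i.val + 1))
    by_cases h : i.val + 1 = m
    · rw [if_pos h, cyc_of_ge (m := m) (n := i.val + 1) (by omega) (by omega), sgn_inr]; ring
    · rw [if_neg h, cyc_of_lt (m := m) (n := i.val + 1) (by omega), sgn_inl]; ring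
  · have hi := i.isLt
    rw [coxPerm_apply, bar_inr, sgn_inr]
    show (if i.val + 1 = m then -1 else 1) * (1 : K) * 1 = sgn K (cyc (m + i.val + 1))
    by_cases h : i.val + 1 = m
    · have e : m + i.val + 1 = 0 + 2 * m := by omega
      rw [if_pos h, e, cyc_add_two_mul, cyc_of_lt hm, sgn_inl]; ring
    · rw [if_neg h, cyc_of_ge (m := m) (n := m + i.val + 1) (by omega) (by omega), sgn_inr]; ring

/-- the Coxeter element of `Sp_{2m}(K)` -/
def coxSp (K : Type u) [Field K] (m : ℕ) [NeZero m] : Matrix.symplecticGroup (Fin m) K :=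
  monoSp (coxPerm m) (coxCoef K) coxPerm_bar (coxCoef_cond K)

theorem coxSp_isMono (K : Type u) [Field K] :
    IsMono (fun (p q : Fin m ⊕ Fin m) (t : K) => spT p q t) (coxSp K m) (coxPerm m)
      (coxCoef K) :=
  monoSp_isMono _ _ _ _

end Cfsg.Agent.Helper40.SpGen
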