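import Mathlib
import Cfsg.Agent.Helper40.SpGenCyc

/-!
# A generation criterion for groups with a Steinberg family of type `C` (for S2411)

If a subgroup `H` contains an element `w` acting on the root elements like the Coxeter element
(`IsMono X w (coxPerm m) c`), the root subgroup of the short root `(cyc 0, cyc 1)` and, in
characteristic `2`, a nontrivial long root element, then it contains all root elements.
-/

set_option autoImplicit false

namespace Cfsg.Agent.Helper40.SpGen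

open Cfsg.Agent.Helper96.StN Cfsg.Agent.Helper96.StC

universe u v

variable {K : Type u} [Field K] {D : Type v} [Group D] {m : ℕ} [NeZero m]
  {X : Fin m ⊕ Fin m → Fin m ⊕ Fin m → K → D}

/-- conjugating a root subgroup contained in `H` by a monomial element of `H` -/
theorem mono_mem {g : D} {π : Equiv.Perm (Fin m ⊕ Fin m)} {c : Fin m ⊕ Fin m → K}
    (hg : IsMono X g π c) (H : Subgroup D) (hgH : g ∈ H) {k l : Fin m ⊕ Fin m} (hkl : k ≠ l)
    (h : ∀ t, X k l t ∈ H) (t : K) : X (π k) (π l) t ∈ H := by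
  have h1 := hg.2 k l hkl ((c k * (c l)⁻¹)⁻¹ * t)
  have hk := hg.1 k
  have hl := hg.1 l
  have h2 : c k * (c l)⁻¹ * ((c k * (c l)⁻¹)⁻¹ * t) = t := by field_simp
  rw [h2] at h1
  rw [← h1]
  exact H.mul_mem (H.mul_mem hgH (h _)) (H.inv_mem hgH)

/-- the same for a single element -/
theorem mono_mem_one {g : D} {π : Equiv.Perm (Fin m ⊕ Fin m)} {c : Fin m ⊕ Fin m → K}
    (hg : IsMono X g π c) (H : Subgroup D) (hgH : g ∈ H) {k l : Fin m ⊕ Fin m} (hkl : k ≠ l)
    {v : K} (h : X k l v ∈ H) : X (π k) (π l) (c k * (c l)⁻¹ * v) ∈ H := by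
  rw [← hg.2 k l hkl v]
  exact H.mul_mem (H.mul_mem hgH h) (H.inv_mem hgH)

section main

variable (hm : 2 ≤ m) (hX : SpRel X) {w : D} {c : Fin m ⊕ Fin m → K}
  (hw : IsMono X w (coxPerm m) c) (H : Subgroup D) (hwH : w ∈ H)
  (hS : ∀ t, X (cyc 0) (cyc 1) t ∈ H)

include hm hw hwH hS in
theorem adjacent_mem (n : ℕ) (t : K) : X (cyc n) (cyc (n + 1)) t ∈ H := by
  induction n generalizing t with
  | zero => exact hS t
  | succ n ih =>
    have h := mono_mem hw H hwH (cyc_ne_of (m := m) (a := n) (b := n + 1) (by omega) (by omega)) ih t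
    rwa [coxPerm_cyc, coxPerm_cyc] at h

include hm hX hw hwH hS in
theorem dist_mem (d : ℕ) (hd1 : 1 ≤ d) (hd2 : d + 1 ≤ m) (n : ℕ) (t : K) :
    X (cyc n) (cyc (n + d)) t ∈ H := by
  induction d, hd1 using Nat.le_induction generalizing n t with
  | base => exact adjacent_mem hm hw H hwH hS n t
  | succ d hd1 ih =>
    have ih' := ih (by omega)
    have hpq : cyc (m := m) n ≠ cyc (n + d) := cyc_ne_of (by omega) (by omega)
    have hqs : cyc (m := m) (n + d) ≠ cyc (n + d + 1) := cyc_ne_of (by omega) (by omega)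
    have hps : cyc (m := m) n ≠ cyc (n + d + 1) := cyc_ne_of (by omega) (by omega)
    have hpq' : cyc (m := m) n ≠ bar (cyc (n + d)) := by
      rw [bar_cyc]; exact cyc_ne_of (by omega) (by omega)
    have hqs' : cyc (m := m) (n + d) ≠ bar (cyc (n + d + 1)) := by
      rw [bar_cyc]; exact cyc_ne_of (by omega) (by omega)
    have hps' : cyc (m := m) n ≠ bar (cyc (n + d + 1)) := by
      rw [bar_cyc]; exact cyc_ne_of (by omega) (by omega)
    have h := hX.mul _ _ _ hpq hqs hps hpq' hqs' hps' t 1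
    rw [mul_one] at h
    have e : n + (d + 1) = n + d + 1 := by omega
    rw [e, ← h]
    have h1 := ih' n t
    have h2 := adjacent_mem hm hw H hwH hS (n + d) 1
    exact H.mul_mem (H.mul_mem (H.mul_mem h1 h2) (H.inv_mem h1)) (H.inv_mem h2)

include hm hX hw hwH hS in
theorem short_mem {p q : Fin m ⊕ Fin m} (hpq : p ≠ q) (hq : q ≠ bar p) (t : K) :
    X p q t ∈ H := by
  have hm0 := NeZero.pos m
  have hp := pos_lt p
  have hq2 := pos_lt q
  set e := (pos q + 2 * m - pos p) % (2 * m) with he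
  have he2 : e < 2 * m := Nat.mod_lt _ (by omega)
  have hqe : q = cyc (pos p + e) := by
    rw [← cyc_pos q]
    apply cyc_congr
    rw [he, Nat.add_mod_mod]
    have : pos p + (pos q + 2 * m - pos p) = pos q + 2 * m := by omega
    rw [this, Nat.add_mod_right]
  have he0 : e ≠ 0 := by
    intro h0
    rw [h0, add_zero, cyc_pos] at hqe
    exact hpq hqe.symm
  have hem : e ≠ m := by
    intro h0
    rw [h0, ← bar_cyc, cyc_pos] at hqe
    exact hq hqe
  rcases Nat.lt_or_ge e m with h1 | h1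
  · have := dist_mem hm hX hw H hwH hS e (by omega) (by omega) (pos p) t
    rwa [cyc_pos, ← hqe] at this
  · rw [hX.sym p q hpq hq t]
    have hbq : bar q = cyc (pos p + e + m) := by rw [hqe, bar_cyc]
    have hbp : bar p = cyc (pos p + e + m + (2 * m - e)) := by
      conv_lhs => rw [← cyc_pos p]
      rw [bar_cyc]
      have : pos p + e + m + (2 * m - e) = pos p + m + 2 * m := by omega
      rw [this, cyc_add_two_mul]
    rw [hbq, hbp]
    exact dist_mem hm hX hw H hwH hS (2 * m - e) (by omega) (by omega) _ _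

include hm hX hw hwH hS in
theorem long_mem_of_two (h2 : (2 : K) ≠ 0) (p : Fin m ⊕ Fin m) (t : K) :
    X p (bar p) t ∈ H := by
  set q : Fin m ⊕ Fin m := cyc (pos p + 1) with hq
  have hpq : p ≠ q := by
    conv_lhs => rw [← cyc_pos p]
    exact cyc_ne_of (by omega) (by omega)
  have hpq' : p ≠ bar q := by
    conv_lhs => rw [← cyc_pos p]
    rw [hq, bar_cyc]
    exact cyc_ne_of (by omega) (by omega)
  have hqp' : q ≠ bar p := fun e => hpq' (by rw [e, bar_bar])
  have h := hX.r5 p q hpq hpq' (t / 2) 1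
  have e : 2 * (t / 2) * 1 = t := by field_simp
  rw [e] at h
  rw [← h]
  have h1 := short_mem hm hX hw H hwH hS hpq hqp' (t / 2)
  have h2 : X q (bar p) 1 ∈ H :=
    short_mem hm hX hw H hwH hS hqp' (fun e => hpq (bar_injective e)) 1
  exact H.mul_mem (H.mul_mem (H.mul_mem h1 h2) (H.inv_mem h1)) (H.inv_mem h2)

include hm hw hwH in
theorem exists_long_all {p₀ : Fin m ⊕ Fin m} {v₀ : K} (hv₀ : v₀ ≠ 0)
    (h₀ : X p₀ (bar p₀) v₀ ∈ H) (p : Fin m ⊕ Fin m) :
    ∃ v : K, v ≠ 0 ∧ X p (bar p) v ∈ H := by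
  have hm0 := NeZero.pos m
  have key : ∀ n : ℕ, ∃ v : K, v ≠ 0 ∧
      X (cyc (pos p₀ + n)) (bar (cyc (pos p₀ + n))) v ∈ H := by
    intro n
    induction n with
    | zero =>
      refine ⟨v₀, hv₀, ?_⟩
      rw [add_zero, cyc_pos]; exact h₀
    | succ n ih =>
      obtain ⟨v, hv, hvH⟩ := ih
      have hne : cyc (m := m) (pos p₀ + n) ≠ bar (cyc (pos p₀ + n)) := (bar_ne _).symm
      have h := mono_mem_one hw H hwH hne hvH
      rw [coxPerm_bar, coxPerm_cyc] at h
      refine ⟨_, ?_, h⟩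
      exact mul_ne_zero (mul_ne_zero (hw.1 _) (inv_ne_zero (hw.1 _))) hv
  obtain ⟨v, hv, hvH⟩ := key (pos p + (2 * m - 1) * pos p₀)
  have e : pos p₀ + (pos p + (2 * m - 1) * pos p₀) = pos p + 2 * m * pos p₀ := by
    have : 2 * m = (2 * m - 1) + 1 := by omega
    calc pos p₀ + (pos p + (2 * m - 1) * pos p₀)
        = pos p + ((2 * m - 1) + 1) * pos p₀ := by ring
      _ = pos p + 2 * m * pos p₀ := by rw [← this]
  rw [e, cyc_add_mul, cyc_pos] at hvH
  exact ⟨v, hv, hvH⟩

include hm hX hw hwH hS in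
theorem long_mem_of_sq (hsq : ∀ s : K, ∃ u, u ^ 2 = s) {p₀ : Fin m ⊕ Fin m} {v₀ : K}
    (hv₀ : v₀ ≠ 0) (h₀ : X p₀ (bar p₀) v₀ ∈ H) (q : Fin m ⊕ Fin m) (s : K) :
    X (bar q) q s ∈ H := by
  set p : Fin m ⊕ Fin m := cyc (pos q + 1) with hp
  have hqp : q ≠ p := by
    conv_lhs => rw [← cyc_pos q]
    exact cyc_ne_of (by omega) (by omega)
  have hqp' : q ≠ bar p := by
    conv_lhs => rw [← cyc_pos q]
    rw [hp, bar_cyc]
    exact cyc_ne_of (by omega) (by omega)
  have hpq : p ≠ q := hqp.symm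
  have hpq' : p ≠ bar q := fun e => hqp' (by rw [e, bar_bar])
  obtain ⟨v, hv, hvH⟩ := exists_long_all hm hw H hwH hv₀ h₀ p
  obtain ⟨u, hu⟩ := hsq (s / (eps K p q * v))
  have h := hX.r6 p q hpq hpq' v u
  have e : eps K p q * v * u ^ 2 = s := by
    rw [hu]
    have := eps_ne_zero (K := K) p q
    field_simp
  rw [e] at h
  have h1 : X p q (v * u) ∈ H := short_mem hm hX hw H hwH hS hpq hqp' _
  have h2 : X (bar p) q u ∈ H :=
    short_mem hm hX hw H hwH hS (fun e => hpq' (by rw [← e, bar_bar]))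
      (by rw [bar_bar]; exact hqp) _
  have h3 : X (bar q) q s = (X p q (v * u))⁻¹ *
      (X p (bar p) v * X (bar p) q u * (X p (bar p) v)⁻¹ * (X (bar p) q u)⁻¹) := by
    rw [h]; group
  rw [h3]
  exact H.mul_mem (H.inv_mem h1)
    (H.mul_mem (H.mul_mem (H.mul_mem hvH h2) (H.inv_mem hvH)) (H.inv_mem h2))

include hm hX hw hwH hS in
/-- **generation criterion** -/
theorem all_roots_mem
    (hlong : (2 : K) ≠ 0 ∨
      ((∀ s : K, ∃ u, u ^ 2 = s) ∧ ∃ (p : Fin m ⊕ Fin m) (v : K), v ≠ 0 ∧ X p (bar p) v ∈ H))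
    (p q : Fin m ⊕ Fin m) (hpq : p ≠ q) (t : K) : X p q t ∈ H := by
  by_cases hq : q = bar p
  · rcases hlong with h2 | ⟨hsq, p₀, v₀, hv₀, h₀⟩
    · rw [hq]; exact long_mem_of_two hm hX hw H hwH hS h2 p t
    · have hp : p = bar q := by rw [hq, bar_bar]
      rw [hp]
      exact long_mem_of_sq hm hX hw H hwH hS hsq hv₀ h₀ q t
  · exact short_mem hm hX hw H hwH hS hpq hq t

end main

end Cfsg.Agent.Helper40.SpGen
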