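import Mathlib
import Cfsg.Agent.Helper40.SpGenFL
import Cfsg.Agent.Helper62.StCG2
import Cfsg.Agent.Helper96.StC.Mono

/-!
# `Sp_{2m}(K)` is generated by two elements (for S2411)

* `K` with at least three elements: `h · x_L(1)` and `x_S(1) · w`, where `w` is the Coxeter element,
  `h = diag(k, 1, …; k⁻¹, 1, …)` with `k` a generator of `Kˣ`, `S = e_1 - e_2`, `L = 2e_2`
  (Steinberg's trick);
* `K` with two elements, `m ≥ 3`: `x_S(1) · ρ` and `w`, `ρ` of order three in the `SL_2` of the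
  third hyperbolic pair.
-/

set_option autoImplicit false

namespace Cfsg.Agent.Helper40.SpGen

open Matrix Cfsg.Agent.Helper96.StN Cfsg.Agent.Helper96.StC Cfsg.Agent.Helper29.StCM

universe u v

/-! ### abstract lemmas -/

section abstract

variable {K : Type u} [Field K] {D : Type v} [Group D] {ι : Type*}
  {X : ι ⊕ ι → ι ⊕ ι → K → D}

theorem X_pow (hX : SpRel X) {p q : ι ⊕ ι} (hpq : p ≠ q) (t : K) (n : ℕ) :
    X p q t ^ n = X p q (n * t) := by
  induction n with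
  | zero => rw [pow_zero, Nat.cast_zero, zero_mul, X_zero hX hpq]
  | succ n ih =>
    rw [pow_succ, ih, ← hX.add p q hpq]
    congr 1
    push_cast; ring

/-- Steinberg's trick -/
theorem trick (hX : SpRel X) {h h' w : D} {c c' : ι ⊕ ι → K}
    (hh : IsMono X h 1 c) (hh' : IsMono X h' 1 c') (hcomm : h * h' = h' * h)
    (hconj : w * h * w⁻¹ = h') {p q : ι ⊕ ι} (hpq : p ≠ q) (H : Subgroup D) (hH : h ∈ H)
    (hb : X p q 1 * w ∈ H) :
    X p q ((c p * (c q)⁻¹ - 1) * (1 - c' p * (c' q)⁻¹)) ∈ H := by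
  set lam := c p * (c q)⁻¹ with hlam
  set rho := c' p * (c' q)⁻¹ with hrho
  have h1 : ∀ u, h * X p q u * h⁻¹ = X p q (lam * u) := fun u => hh.2 p q hpq u
  have h2 : ∀ u, h' * X p q u * h'⁻¹ = X p q (rho * u) := fun u => hh'.2 p q hpq u
  have hy : (X p q 1 * w) * h * (X p q 1 * w)⁻¹ = X p q (1 - rho) * h' := by
    have e1 : (X p q 1 * w) * h * (X p q 1 * w)⁻¹ = X p q 1 * (w * h * w⁻¹) * (X p q 1)⁻¹ := by
      group
    rw [e1, hconj, X_neg hX hpq]
    have e2 : X p q 1 * h' * X p q (-1) = X p q 1 * (h' * X p q (-1) * h'⁻¹) * h' := by group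
    rw [e2, h2, ← hX.add p q hpq]
    congr 2
    ring
  have hyH : X p q (1 - rho) * h' ∈ H := by
    rw [← hy]
    exact H.mul_mem (H.mul_mem hb hH) (H.inv_mem hb)
  set v := 1 - rho with hv
  have hz : h * (X p q v * h') * h⁻¹ * (X p q v * h')⁻¹ = X p q ((lam - 1) * v) := by
    have e1 : h * (X p q v * h') * h⁻¹ * (X p q v * h')⁻¹ =
        (h * X p q v * h⁻¹) * (h * h' * h⁻¹ * h'⁻¹) * (X p q v)⁻¹ := by group
    have e2 : h * h' * h⁻¹ * h'⁻¹ = 1 := by rw [hcomm]; group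
    rw [e1, e2, mul_one, h1, X_neg hX hpq, ← hX.add p q hpq]
    congr 1
    ring
  rw [← hz]
  exact H.mul_mem (H.mul_mem (H.mul_mem hH hyH) (H.inv_mem hH)) (H.inv_mem hyH)

/-- scaling by a torus element -/
theorem scale_mem (hX : SpRel X) {h : D} {c : ι ⊕ ι → K} (hh : IsMono X h 1 c)
    {p q : ι ⊕ ι} (hpq : p ≠ q) (H : Subgroup D) (hH : h ∈ H) {u₀ : K} (h₀ : X p q u₀ ∈ H)
    (hgen : ∀ t : K, t ≠ 0 → ∃ i : ℕ, (c p * (c q)⁻¹) ^ i * u₀ = t) (t : K) : X p q t ∈ H := by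
  by_cases ht : t = 0
  · rw [ht, X_zero hX hpq]; exact H.one_mem
  obtain ⟨i, hi⟩ := hgen t ht
  rw [← hi]
  clear hi
  induction i with
  | zero => rw [pow_zero, one_mul]; exact h₀
  | succ i ih =>
    have e := hh.2 p q hpq ((c p * (c q)⁻¹) ^ i * u₀)
    have e' : (c p * (c q)⁻¹) ^ (i + 1) * u₀ = c p * (c q)⁻¹ * ((c p * (c q)⁻¹) ^ i * u₀) := by
      ring
    rw [e']
    have : X p q (c p * (c q)⁻¹ * ((c p * (c q)⁻¹) ^ i * u₀)) =
        h * X p q ((c p * (c q)⁻¹) ^ i * u₀) * h⁻¹ := e.symm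
    rw [this]
    exact H.mul_mem (H.mul_mem hH ih) (H.inv_mem hH)

end abstract

/-! ### diagonal elements -/

section diag

variable {K : Type u} [Field K] {ι : Type v} [DecidableEq ι] [Fintype ι]

/-- the diagonal element of the symplectic group with entries `c` -/
def diagSp (c : ι ⊕ ι → K) (hc : ∀ j, c j * c (bar j) = 1) : Matrix.symplecticGroup ι K :=
  monoSp 1 c (fun _ => rfl) (fun j => by rw [hc j, one_mul]; rfl)

theorem diagSp_coe (c : ι ⊕ ι → K) (hc : ∀ j, c j * c (bar j) = 1) :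
    (diagSp c hc).1 = monoMat 1 c := rfl

theorem diagSp_mul (c c' : ι ⊕ ι → K) (hc : ∀ j, c j * c (bar j) = 1)
    (hc' : ∀ j, c' j * c' (bar j) = 1) :
    diagSp c hc * diagSp c' hc' = diagSp (fun j => c j * c' j)
      (fun j => by rw [mul_mul_mul_comm, hc j, hc' j, one_mul]) := by
  apply Subtype.ext
  change (diagSp c hc).1 * (diagSp c' hc').1 = _
  rw [diagSp_coe, diagSp_coe, diagSp_coe, monoMat_mul, one_mul]
  rfl

theorem diagSp_comm (c c' : ι ⊕ ι → K) (hc : ∀ j, c j * c (bar j) = 1)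
    (hc' : ∀ j, c' j * c' (bar j) = 1) :
    diagSp c hc * diagSp c' hc' = diagSp c' hc' * diagSp c hc := by
  rw [diagSp_mul, diagSp_mul]
  congr 1
  funext j
  exact mul_comm _ _

theorem diagSp_one_eq (c : ι ⊕ ι → K) (hc : ∀ j, c j * c (bar j) = 1) (h1 : ∀ j, c j = 1) :
    diagSp c hc = 1 := by
  apply Subtype.ext
  change (diagSp c hc).1 = 1
  rw [diagSp_coe]
  have : c = fun _ => (1 : K) := funext h1
  rw [this, monoMat_one]

theorem diagSp_pow (c : ι ⊕ ι → K) (hc : ∀ j, c j * c (bar j) = 1) (n : ℕ) :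
    diagSp c hc ^ n = diagSp (fun j => c j ^ n)
      (fun j => by rw [← mul_pow, hc j, one_pow]) := by
  induction n with
  | zero =>
    rw [pow_zero]
    exact (diagSp_one_eq _ _ (fun j => pow_zero _)).symm
  | succ n ih =>
    rw [pow_succ, ih, diagSp_mul]
    congr 1
    funext j
    rw [pow_succ]

theorem mono_mul_diag (σ : Equiv.Perm (ι ⊕ ι)) (cσ : ι ⊕ ι → K)
    (hσ : ∀ p, σ (bar p) = bar (σ p))
    (hcσ : ∀ j, cσ j * cσ (bar j) * sgn K j = sgn K (σ j))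
    (c : ι ⊕ ι → K) (hc : ∀ j, c j * c (bar j) = 1)
    (hc' : ∀ j, c (σ.symm j) * c (σ.symm (bar j)) = 1) :
    monoSp σ cσ hσ hcσ * diagSp c hc * (monoSp σ cσ hσ hcσ)⁻¹ =
      diagSp (fun j => c (σ.symm j)) hc' := by
  rw [mul_inv_eq_iff_eq_mul]
  apply Subtype.ext
  change (monoSp σ cσ hσ hcσ).1 * (diagSp c hc).1 = (diagSp _ hc').1 * (monoSp σ cσ hσ hcσ).1
  rw [monoSp_coe, diagSp_coe, diagSp_coe, monoMat_mul, monoMat_mul, mul_one, one_mul]
  congr 1
  funext j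
  simp only [Equiv.Perm.one_apply, Equiv.symm_apply_apply]
  exact mul_comm _ _

theorem diagSp_isMono {m : ℕ} (c : Fin m ⊕ Fin m → K) (hc : ∀ j, c j * c (bar j) = 1) :
    IsMono (fun (p q : Fin m ⊕ Fin m) (t : K) => spT p q t) (diagSp c hc) 1 c :=
  monoSp_isMono _ _ _ _

end diag

end Cfsg.Agent.Helper40.SpGen
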