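import Mathlib
import Cfsg.Agent.Helper40.SpGenMain

/-!
# `Sp_{2m}(K)`, `|K| ≥ 3`, `m ≥ 2`, is generated by two elements (for S2411)
-/

set_option autoImplicit false

namespace Cfsg.Agent.Helper40.SpGen

open Matrix Cfsg.Agent.Helper96.StN Cfsg.Agent.Helper96.StC Cfsg.Agent.Helper29.StCM

universe u

section caseA

variable {K : Type u} [Field K] {m : ℕ} [NeZero m]

/-- coefficients of the torus element `diag(k, 1, …; k⁻¹, 1, …)` -/
def cA (k : K) : Fin m ⊕ Fin m → K :=
  fun j => if j = cyc 0 then k else if j = bar (cyc 0) then k⁻¹ else 1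

theorem cA_zero (k : K) : cA (m := m) k (cyc 0) = k := by
  unfold cA; rw [if_pos rfl]

theorem cA_bar_zero (k : K) : cA (m := m) k (bar (cyc 0)) = k⁻¹ := by
  unfold cA; rw [if_neg (bar_ne _), if_pos rfl]

theorem cA_other (k : K) {j : Fin m ⊕ Fin m} (h0 : j ≠ cyc 0) (h1 : j ≠ bar (cyc 0)) :
    cA k j = 1 := by
  unfold cA; rw [if_neg h0, if_neg h1]

theorem cA_cond {k : K} (hk : k ≠ 0) (j : Fin m ⊕ Fin m) : cA k j * cA k (bar j) = 1 := by
  by_cases h0 : j = cyc 0
  · rw [h0, cA_zero, cA_bar_zero, mul_inv_cancel₀ hk]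
  · by_cases h1 : j = bar (cyc 0)
    · rw [h1, bar_bar, cA_zero, cA_bar_zero, inv_mul_cancel₀ hk]
    · rw [cA_other k h0 h1, cA_other k (fun e => h1 (by rw [← e, bar_bar]))
        (fun e => h0 (bar_injective e)), mul_one]

theorem cA_ne_zero {k : K} (hk : k ≠ 0) (j : Fin m ⊕ Fin m) : cA k j ≠ 0 := by
  intro h
  have := cA_cond hk j
  rw [h, zero_mul] at this
  exact zero_ne_one this

theorem coxPerm_symm_cyc (n : ℕ) : (coxPerm m).symm (cyc (n + 1)) = cyc n := by
  rw [Equiv.symm_apply_eq, coxPerm_cyc]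

theorem coxPerm_symm_bar (p : Fin m ⊕ Fin m) :
    (coxPerm m).symm (bar p) = bar ((coxPerm m).symm p) := by
  rw [Equiv.symm_apply_eq, coxPerm_bar, Equiv.apply_symm_apply]

variable [Fintype K]

theorem two_generated_of_three_le (hm : 2 ≤ m) (hK : 3 ≤ Fintype.card K) :
    ∃ a b : Matrix.symplecticGroup (Fin m) K,
      Subgroup.closure ({a, b} : Set (Matrix.symplecticGroup (Fin m) K)) = ⊤ := by
  classical
  -- a generator of the multiplicative group
  obtain ⟨k, hk⟩ := IsCyclic.exists_generator (α := Kˣ)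
  have hk0 : (k : K) ≠ 0 := Units.ne_zero k
  have hord : orderOf k = Fintype.card K - 1 := by
    rw [orderOf_eq_card_of_forall_mem_zpowers hk, Nat.card_units, Nat.card_eq_fintype_card]
  have hk1 : (k : K) ≠ 1 := by
    intro h1
    have : k = 1 := Units.ext h1
    rw [this, orderOf_one] at hord
    omega
  have hpow : ∀ t : K, t ≠ 0 → ∃ i : ℕ, (k : K) ^ i = t := by
    intro t ht
    have hmem := hk (Units.mk0 t ht)
    rw [← mem_powers_iff_mem_zpowers] at hmem
    obtain ⟨i, hi⟩ := hmem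
    refine ⟨i, ?_⟩
    have := congrArg (fun u : Kˣ => (u : K)) hi
    simpa using this
  -- the elements
  set Xf : Fin m ⊕ Fin m → Fin m ⊕ Fin m → K → Matrix.symplecticGroup (Fin m) K :=
    fun p q t => spT p q t with hXf
  have hX : SpRel Xf := spT_spRel
  have hcA := cA_cond (m := m) hk0
  set h := diagSp (cA (m := m) (k : K)) hcA with hh
  have hhm : IsMono Xf h 1 (cA (k : K)) := diagSp_isMono _ _
  set w := coxSp K m with hw
  have hwm : IsMono Xf w (coxPerm m) (coxCoef K) := coxSp_isMono K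
  have h01 : cyc (m := m) 0 ≠ cyc 1 := cyc_ne_of (by omega) (by omega)
  have h1b : cyc (m := m) 1 ≠ bar (cyc 1) := (bar_ne _).symm
  have hc1 : cA (m := m) (k : K) (cyc 1) = 1 :=
    cA_other _ h01.symm (by rw [bar_cyc]; exact (cyc_ne_of (by omega) (by omega)))
  have hc1b : cA (m := m) (k : K) (bar (cyc 1)) = 1 := by
    have := hcA (cyc 1)
    rwa [hc1, one_mul] at this
  set xS := Xf (cyc 0) (cyc 1) 1 with hxS
  set xL := Xf (cyc 1) (bar (cyc 1)) 1 with hxL
  refine ⟨h * xL, xS * w, ?_⟩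
  set H := Subgroup.closure ({h * xL, xS * w} : Set (Matrix.symplecticGroup (Fin m) K)) with hH
  have haH : h * xL ∈ H := Subgroup.subset_closure (by simp)
  have hbH : xS * w ∈ H := Subgroup.subset_closure (by simp)
  -- h and xL commute
  have hcomm : Commute h xL := by
    have e := hhm.2 (cyc 1) (bar (cyc 1)) h1b 1
    rw [hc1, hc1b] at e
    simp only [inv_one, mul_one, Equiv.Perm.one_apply] at e
    exact mul_inv_eq_iff_eq_mul.mp e
  -- powers
  have hq0 : ((Fintype.card K : ℕ) : K) = 0 := FiniteField.cast_card_eq_zero K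
  have hxLq : xL ^ Fintype.card K = 1 := by
    rw [hxL, X_pow hX h1b, hq0, zero_mul, X_zero hX h1b]
  have hhq : h ^ (Fintype.card K - 1) = 1 := by
    rw [hh, diagSp_pow]
    apply diagSp_one_eq
    intro j
    exact FiniteField.pow_card_sub_one_eq_one _ (cA_ne_zero hk0 j)
  have hhH : h ∈ H := by
    have e : (h * xL) ^ Fintype.card K = h := by
      rw [hcomm.mul_pow, hxLq, mul_one]
      have : Fintype.card K = (Fintype.card K - 1) + 1 := by omega
      rw [this, pow_succ, hhq, one_mul]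
    rw [← e]
    exact H.pow_mem haH _
  have hxLH : xL ∈ H := by
    have : xL = h⁻¹ * (h * xL) := by group
    rw [this]
    exact H.mul_mem (H.inv_mem hhH) haH
  -- the conjugate torus element
  have hc' : ∀ j : Fin m ⊕ Fin m, cA (k : K) ((coxPerm m).symm j) *
      cA (k : K) ((coxPerm m).symm (bar j)) = 1 := by
    intro j
    rw [coxPerm_symm_bar]
    exact hcA _
  set h' := diagSp (fun j => cA (m := m) (k : K) ((coxPerm m).symm j)) hc' with hh'
  have hh'm : IsMono Xf h' 1 (fun j => cA (k : K) ((coxPerm m).symm j)) := diagSp_isMono _ _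
  have hconj : w * h * w⁻¹ = h' :=
    mono_mul_diag (coxPerm m) (coxCoef K) coxPerm_bar (coxCoef_cond K) _ hcA hc'
  have hhh' : h * h' = h' * h := diagSp_comm _ _ _ _
  have htr := trick hX hhm hh'm hhh' hconj h01 H hhH hbH
  -- the parameters
  have e0 : (coxPerm m).symm (cyc 0) = cyc (2 * m - 1) := by
    have : cyc (m := m) 0 = cyc (2 * m - 1 + 1) := by
      have : 2 * m - 1 + 1 = 0 + 2 * m := by omega
      rw [this, cyc_add_two_mul]
    rw [this, coxPerm_symm_cyc]
  have e1 : (coxPerm m).symm (cyc 1) = cyc 0 := coxPerm_symm_cyc 0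
  have hclast : cA (m := m) (k : K) (cyc (2 * m - 1)) = 1 :=
    cA_other _ (cyc_ne_of (by omega) (by omega)).symm
      (by rw [bar_cyc]; exact (cyc_ne_of (by omega) (by omega)).symm)
  simp only [e0, e1, hclast, hc1, cA_zero, inv_one, mul_one, one_mul] at htr
  have hu0 : ((k : K) - 1) * (1 - (k : K)⁻¹) ≠ 0 := by
    apply mul_ne_zero (sub_ne_zero.2 hk1)
    rw [sub_ne_zero]
    intro e
    apply hk1
    have := congrArg (fun x => x * (k : K)) e
    simp only [one_mul, inv_mul_cancel₀ hk0] at this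
    exact this
  -- the whole root subgroup
  have hSall : ∀ t, Xf (cyc 0) (cyc 1) t ∈ H := by
    apply scale_mem hX hhm h01 H hhH htr
    intro t ht
    rw [cA_zero, hc1, inv_one, mul_one]
    obtain ⟨i, hi⟩ := hpow (t / (((k : K) - 1) * (1 - (k : K)⁻¹))) (div_ne_zero ht hu0)
    refine ⟨i, ?_⟩
    rw [hi]
    field_simp
  have hwH : w ∈ H := by
    have : w = xS⁻¹ * (xS * w) := by group
    rw [this]
    exact H.mul_mem (H.inv_mem (hSall 1)) hbH
  -- all root elements
  have hlong : (2 : K) ≠ 0 ∨ ((∀ s : K, ∃ u, u ^ 2 = s) ∧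
      ∃ (p : Fin m ⊕ Fin m) (v : K), v ≠ 0 ∧ Xf p (bar p) v ∈ H) := by
    by_cases h2 : (2 : K) = 0
    · right
      refine ⟨fun s => ?_, cyc 1, 1, one_ne_zero, hxLH⟩
      have hchar : ringChar K = 2 := by
        have hdvd : ringChar K ∣ 2 := (ringChar.spec K 2).1 (by exact_mod_cast h2)
        have hp : (ringChar K).Prime := CharP.char_is_prime K (ringChar K)
        rcases (Nat.dvd_prime Nat.prime_two).1 hdvd with h | h
        · exact absurd h hp.ne_one
        · exact h
      obtain ⟨u, hu⟩ := FiniteField.isSquare_of_char_two hchar s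
      exact ⟨u, by rw [hu, sq]⟩
    · exact Or.inl h2
  have hall := all_roots_mem hm hX hwm H hwH hSall hlong
  rw [eq_top_iff, ← Cfsg.Agent.Helper62.StCG.spT_closure, Subgroup.closure_le]
  rintro g ⟨p, q, hpq, t, rfl⟩
  exact hall p q hpq t

end caseA

end Cfsg.Agent.Helper40.SpGen
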