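import Mathlib
import Cfsg.Agent.Helper40.SpGenMain

/-!
# `Sp_{2m}(𝔽₂)`, `m ≥ 3`, is generated by two elements (for S2411)
-/

set_option autoImplicit false

namespace Cfsg.Agent.Helper40.SpGen

open Matrix Cfsg.Agent.Helper96.StN Cfsg.Agent.Helper96.StC Cfsg.Agent.Helper29.StCM

universe u

theorem cube_eq_one_of_conj {G : Type*} [Group G] {A B : G} (hA : A * A = 1) (hB : B * B = 1)
    (h : (A * B * A) * A * (A * B * A)⁻¹ = B) : (A * B) ^ 3 = 1 := by
  have hAi : A⁻¹ = A := inv_eq_of_mul_eq_one_right hA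
  have hBi : B⁻¹ = B := inv_eq_of_mul_eq_one_right hB
  have h1 : A * B = B * (A * B * A) := by
    have h2 := mul_inv_eq_iff_eq_mul.mp h
    have h3 : A * B * A * A = A * B := by rw [mul_assoc (A * B), hA, mul_one]
    rw [h3] at h2; exact h2
  have hx : (A * B)⁻¹ = B * A := by rw [_root_.mul_inv_rev, hAi, hBi]
  have hx2 : A * B = (A * B)⁻¹ * (A * B)⁻¹ := by
    rw [hx]
    calc A * B = B * (A * B * A) := h1
      _ = B * A * (B * A) := by group
  rw [pow_three']
  nth_rewrite 1 [hx2]
  group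

section caseB

variable {K : Type u} [Field K] [Fintype K] {m : ℕ} [NeZero m]

theorem two_generated_of_card_two (hm : 3 ≤ m) (hK : Fintype.card K = 2) :
    ∃ a b : Matrix.symplecticGroup (Fin m) K,
      Subgroup.closure ({a, b} : Set (Matrix.symplecticGroup (Fin m) K)) = ⊤ := by
  classical
  have hm2 : 2 ≤ m := by omega
  -- the field with two elements
  have h2 : (2 : K) = 0 := by
    have := FiniteField.cast_card_eq_zero K
    rw [hK] at this
    exact_mod_cast this
  have hneg : (-1 : K) = 1 := by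
    have : (1 : K) + 1 = 0 := by rw [one_add_one_eq_two]; exact h2
    exact (eq_neg_of_add_eq_zero_left this).symm
  have h01 : ∀ t : K, t = 0 ∨ t = 1 := by
    intro t
    by_contra hcon
    rw [not_or] at hcon
    have h3 : ({0, 1, t} : Finset K).card ≤ Fintype.card K := Finset.card_le_univ _
    have h4 : ({0, 1, t} : Finset K).card = 3 := by
      rw [Finset.card_insert_of_notMem, Finset.card_insert_of_notMem, Finset.card_singleton]
      · simp only [Finset.mem_singleton]; exact fun e => hcon.2 e.symm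
      · simp only [Finset.mem_insert, Finset.mem_singleton, not_or]
        exact ⟨zero_ne_one, fun e => hcon.1 e.symm⟩
    omega
  -- the elements
  set Xf : Fin m ⊕ Fin m → Fin m ⊕ Fin m → K → Matrix.symplecticGroup (Fin m) K :=
    fun p q t => spT p q t with hXf
  have hX : SpRel Xf := spT_spRel
  have hM : MonoData Xf reflPerm cw := monoData hX (exists_other hm2)
  set w := coxSp K m with hw
  have hwm : IsMono Xf w (coxPerm m) (coxCoef K) := coxSp_isMono K
  set p : Fin m ⊕ Fin m := cyc 2 with hp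
  set q : Fin m ⊕ Fin m := cyc 1 with hq
  have h0q : cyc (m := m) 0 ≠ q := cyc_ne_of (by omega) (by omega)
  have hpq : p ≠ q := (cyc_ne_of (by omega) (by omega)).symm
  have hpq' : p ≠ bar q := by
    rw [hq, bar_cyc]; exact cyc_ne_of (by omega) (by omega)
  have hqp' : q ≠ bar p := fun e => hpq' (by rw [e, bar_bar])
  have hp0 : p ≠ cyc 0 := (cyc_ne_of (by omega) (by omega)).symm
  have hp0' : p ≠ bar (cyc 0) := by
    rw [bar_cyc]; exact cyc_ne_of (by omega) (by omega)
  have h0p' : cyc (m := m) 0 ≠ bar p := fun e => hp0' (by rw [e, bar_bar])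
  have hpb : p ≠ bar p := (bar_ne p).symm
  set xS := Xf (cyc 0) q 1 with hxS
  set xP := Xf p (bar p) 1 with hxP
  set xN := Xf (bar p) p 1 with hxN
  set rho := xP * xN with hrho
  refine ⟨xS * rho, w, ?_⟩
  set H := Subgroup.closure ({xS * rho, w} : Set (Matrix.symplecticGroup (Fin m) K)) with hH
  have haH : xS * rho ∈ H := Subgroup.subset_closure (by simp)
  have hwH : w ∈ H := Subgroup.subset_closure (by simp)
  -- orders
  have hsq : ∀ {a b : Fin m ⊕ Fin m}, a ≠ b → Xf a b 1 * Xf a b 1 = 1 := by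
    intro a b hab
    rw [← hX.add a b hab, one_add_one_eq_two, h2, X_zero hX hab]
  have hxS2 : xS * xS = 1 := hsq h0q
  have hxP2 : xP * xP = 1 := hsq hpb
  have hxN2 : xN * xN = 1 := hsq hpb.symm
  have hrho3 : rho ^ 3 = 1 := by
    apply cube_eq_one_of_conj hxP2 hxN2
    have hmono := (hM.mono p (bar p) hpb 1 one_ne_zero).2 p (bar p) hpb 1
    have hW : W Xf p (bar p) 1 = xP * xN * xP := by
      unfold W
      rw [inv_one, hneg]
    rw [hW] at hmono
    rw [hmono]
    have e1 : reflPerm p (bar p) p = bar p := by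
      unfold reflPerm; rw [if_pos rfl, Equiv.swap_apply_left]
    have e2 : reflPerm p (bar p) (bar p) = p := by
      unfold reflPerm; rw [if_pos rfl, Equiv.swap_apply_right]
    have e3 : cw (K := K) p (bar p) 1 p = 1 := by
      unfold cw; rw [if_pos rfl, if_pos rfl, inv_one, hneg]
    have e4 : cw (K := K) p (bar p) 1 (bar p) = 1 := by
      unfold cw; rw [if_pos rfl, if_neg hpb.symm, if_pos rfl]
    rw [e1, e2, e3, e4, inv_one, mul_one, mul_one]
  -- xS commutes with rho
  have hc1 : xS * xP = xP * xS :=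
    hX.comm (cyc 0) q p (bar p) h0q hpb hpq.symm (by rw [bar_bar]; exact hpq.symm) h0p'
      (fun e => h0p' e) 1 1
  have hc2 : xS * xN = xN * xS :=
    hX.comm (cyc 0) q (bar p) p h0q hpb.symm hqp' hqp' (by rw [bar_bar]; exact hp0.symm)
      hp0.symm 1 1
  have hcomm : Commute xS rho := by
    show xS * (xP * xN) = (xP * xN) * xS
    rw [← mul_assoc, hc1, mul_assoc, hc2, mul_assoc]
  have hxSH : xS ∈ H := by
    have e : (xS * rho) ^ 3 = xS := by
      rw [hcomm.mul_pow, hrho3, mul_one, pow_three', hxS2, one_mul]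
    rw [← e]; exact H.pow_mem haH _
  have hrhoH : rho ∈ H := by
    have : rho = xS⁻¹ * (xS * rho) := by group
    rw [this]; exact H.mul_mem (H.inv_mem hxSH) haH
  -- the short root subgroups
  have hSall : ∀ t, Xf (cyc 0) (cyc 1) t ∈ H := by
    intro t
    rcases h01 t with rfl | rfl
    · rw [X_zero hX h0q]; exact H.one_mem
    · exact hxSH
  have hshort := fun {a b : Fin m ⊕ Fin m} (hab : a ≠ b) (hb : b ≠ bar a) (t : K) =>
    short_mem hm2 hX hwm H hwH hSall hab hb t
  -- a long root element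
  have hbpq : bar p ≠ q := fun e => hqp' e.symm
  have hB : Xf (bar p) q 1 ∈ H := hshort hbpq (by rw [bar_bar]; exact hpq.symm) 1
  have hc3 : xN * Xf (bar p) q 1 = Xf (bar p) q 1 * xN :=
    hX.comm (bar p) p (bar p) q hpb.symm hbpq hpb hpq' (by rw [bar_bar]; exact hpb.symm) hbpq 1 1
  have hconj : rho * Xf (bar p) q 1 * rho⁻¹ =
      Xf p q 1 * Xf (bar q) q (eps K p q) * Xf (bar p) q 1 := by
    have e1 : rho * Xf (bar p) q 1 * rho⁻¹ =
        xP * (xN * Xf (bar p) q 1 * xN⁻¹) * xP⁻¹ := by rw [hrho]; group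
    have e2 : xN * Xf (bar p) q 1 * xN⁻¹ = Xf (bar p) q 1 := by rw [hc3]; group
    rw [e1, e2, r6_conj hX hpq hpq' 1 1]
    simp only [mul_one, one_pow]
  have hlongelt : Xf (bar q) q (eps K p q) ∈ H := by
    have e : Xf (bar q) q (eps K p q) =
        (Xf p q 1)⁻¹ * (rho * Xf (bar p) q 1 * rho⁻¹) * (Xf (bar p) q 1)⁻¹ := by
      rw [hconj]; group
    rw [e]
    exact H.mul_mem (H.mul_mem (H.inv_mem (hshort hpq hqp' 1))
      (H.mul_mem (H.mul_mem hrhoH hB) (H.inv_mem hrhoH))) (H.inv_mem hB)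
  have hlong : (2 : K) ≠ 0 ∨ ((∀ s : K, ∃ u, u ^ 2 = s) ∧
      ∃ (p : Fin m ⊕ Fin m) (v : K), v ≠ 0 ∧ Xf p (bar p) v ∈ H) := by
    right
    refine ⟨fun s => ⟨s, ?_⟩, bar q, eps K p q, eps_ne_zero p q, ?_⟩
    · rcases h01 s with rfl | rfl <;> simp
    · rw [bar_bar]; exact hlongelt
  have hall := all_roots_mem hm2 hX hwm H hwH hSall hlong
  rw [eq_top_iff, ← Cfsg.Agent.Helper62.StCG.spT_closure, Subgroup.closure_le]
  rintro g ⟨a, b, hab, t, rfl⟩
  exact hall a b hab t

end caseB

end Cfsg.Agent.Helper40.SpGen
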