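import Cfsg.Agent.Helper40.StBPData

/-!
Helper40: Steinberg's rank-one relation (B') `n̄_p(t) x̄_p(u) n̄_p(t)⁻¹ = x̄_{-p}(-t⁻² u)` (`p` fundamental) in a group
with root elements satisfying (A), (B) and lying over the Chevalley group (rank at least two).
-/

set_option autoImplicit false
set_option linter.unusedSectionVars false

namespace Cfsg.Agent.Helper40.St

open Cfsg Cfsg.Lie Cfsg.Agent.Helper18 Cfsg.Agent.Helper40.ChevAdd Cfsg.Agent.Helper40.UProd
  Cfsg.Agent.Helper40.SL2Hom Cfsg.Agent.Helper40.SL2Chev Cfsg.Agent.Helper40.NMono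

theorem goodB_spec {D : ChevalleyDatum} {i : ℕ} {m : List ℤ} {c : ℕ} (h : goodB D i m c = true) :
    c ≠ D.simple i ∧ c ≠ D.neg (D.simple i) ∧ 0 < lvlFast D m (D.reflectRoot i c) := by
  unfold goodB at h
  simp only [Bool.and_eq_true, decide_eq_true_eq] at h
  exact ⟨h.1.1, h.1.2, h.2⟩

section
variable {K : Type*} [Field K] {D : ChevalleyDatum} {Γ : Type*} [Group Γ] {X : ℕ → K → Γ}
  {hadd : ChevAdd.addOK D = true} {π : Γ →* GL D.Idx K}

/-- the product of a word, split at position `k` -/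
theorem wordG_split (wd : List (ℕ × K)) (k : ℕ) (e : ℕ × K) (h : wd[k]? = some e) :
    wordG X wd = wordG X (wd.take k) * X e.1 e.2 * wordG X (wd.drop (k + 1)) := by
  obtain ⟨hk, hk'⟩ := List.getElem?_eq_some_iff.mp h
  have h1 : wd = wd.take k ++ e :: wd.drop (k + 1) := by
    rw [← hk', ← List.drop_eq_getElem_cons hk, List.take_append_drop]
  conv_lhs => rw [h1]
  rw [wordG_append, wordG_cons, mul_assoc]

/-- Steinberg's relation (B') for a fundamental root -/
theorem nbar_conj_self (hD : D ∈ [chevG2, chevB2, chevD4, chevF4, chevE6, chevE7, chevE8]) (O : Over D hadd X π)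
    {φ : ℕ → ℤ} (S : Std D φ) (i : ℕ) (hi : i < D.rank) (t u : K) (ht : t ≠ 0) :
    nbar D X (D.simple i) t * X (D.simple i) u * (nbar D X (D.simple i) t)⁻¹ =
      X (D.neg (D.simple i)) (-(t⁻¹ * t⁻¹ * u)) := by
  obtain ⟨a, b, k, m, hc⟩ := exists_bp D hD i hi
  unfold bpOK at hc
  simp only [Bool.and_eq_true, decide_eq_true_eq, List.all_eq_true, Option.any_eq_true, Bool.or_eq_true] at hc
  obtain ⟨⟨⟨⟨⟨⟨⟨⟨⟨ha, hb⟩, hga⟩, hgb⟩, hba⟩, hbna⟩, hk⟩, hrest⟩, hreg⟩, hnp⟩ := hc
  have hp := S.simple_lt i hi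
  have hn := S.neg_lt _ hp
  have Rg := reg_of_regOK D hD m hreg
  have hfast := lvlFast_eq D (addAllOK_of_mem D hD) m
  let H : Subgroup Γ := Subgroup.closure {g | ∃ c < D.nroots, goodB D i m c = true ∧ ∃ s : K, g = X c s}
  have hgen : ∀ c < D.nroots, goodB D i m c = true → ∀ s : K, X c s ∈ H :=
    fun c hc hg s => Subgroup.subset_closure ⟨c, hc, hg, s, rfl⟩
  have hconj : ∀ g ∈ H, nbar D X (D.simple i) t * g * (nbar D X (D.simple i) t)⁻¹ ∈ UG D X (lvlF D m) := by
    intro g hg
    induction hg using Subgroup.closure_induction with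
    | mem x hx =>
      obtain ⟨c, hc, hgood, s, rfl⟩ := hx
      obtain ⟨g1, g2, g3⟩ := goodB_spec hgood
      obtain ⟨hrs, c', -, he⟩ := nbar_conj hD O S i hi c hc g1 g2 t ht
      rw [he s]
      apply X_mem_UG (lvlF D m) _ hrs
      rw [← hfast _ hrs]
      exact g3
    | one =>
      simp only [mul_one, mul_inv_cancel]
      exact Subgroup.one_mem _
    | mul x y _ _ hx hy =>
      have : nbar D X (D.simple i) t * (x * y) * (nbar D X (D.simple i) t)⁻¹ =
          (nbar D X (D.simple i) t * x * (nbar D X (D.simple i) t)⁻¹) *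
            (nbar D X (D.simple i) t * y * (nbar D X (D.simple i) t)⁻¹) := by group
      rw [this]
      exact Subgroup.mul_mem _ hx hy
    | inv x _ hx =>
      have : nbar D X (D.simple i) t * x⁻¹ * (nbar D X (D.simple i) t)⁻¹ =
          (nbar D X (D.simple i) t * x * (nbar D X (D.simple i) t)⁻¹)⁻¹ := by group
      rw [this]
      exact Subgroup.inv_mem _ hx
  have hXp : X (D.simple i) u ∈ H := by
    obtain ⟨e, hek, ⟨he1, he2⟩, he3⟩ := hk
    have htu : ∃ t₀ u₀ : K, ((e.2.1 : ℤ) : K) * (-t₀) ^ e.2.2.1 * u₀ ^ e.2.2.2 = u := by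
      have hC : ((e.2.1 : ℤ) : K) * ((e.2.1 : ℤ) : K) = 1 := by
        rcases he2 with h | h <;> rw [h] <;> simp
      rcases he3 with h | h
      · refine ⟨-(((e.2.1 : ℤ) : K) * u), 1, ?_⟩
        rw [h, neg_neg, pow_one, one_pow, mul_one, ← mul_assoc, hC, one_mul]
      · refine ⟨-1, ((e.2.1 : ℤ) : K) * u, ?_⟩
        rw [h, neg_neg, one_pow, pow_one, mul_one, ← mul_assoc, hC, one_mul]
    obtain ⟨t₀, u₀, htu⟩ := htu
    have hcomm := O.comm a b ha hb hba hbna t₀ u₀
    have hW : wordG X (D.commWord K a b t₀ u₀) ∈ H := by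
      have : wordG X (D.commWord K a b t₀ u₀) = (X a t₀ * X b u₀)⁻¹ * (X b u₀ * X a t₀) := by
        rw [hcomm]
        group
      rw [this]
      exact H.mul_mem (H.inv_mem (H.mul_mem (hgen a ha hga _) (hgen b hb hgb _)))
        (H.mul_mem (hgen b hb hgb _) (hgen a ha hga _))
    have hsplit := wordG_split (X := X) (D.commWord K a b t₀ u₀) k (D.simple i, u) (by
      unfold ChevalleyDatum.commWord
      rw [List.getElem?_map, hek, Option.map_some, he1, htu])
    rw [hsplit] at hW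
    have hmemE : ∀ c ∈ (D.commTerms a b).eraseIdx k, X c.1 (((c.2.1 : ℤ) : K) * (-t₀) ^ c.2.2.1 * u₀ ^ c.2.2.2) ∈ H := by
      intro c hc
      have hc' : c ∈ D.commTerms a b := List.mem_of_mem_eraseIdx hc
      exact hgen c.1 (commTerms_lvl D hD _ Rg.add a b ha hb c hc').1 (hrest c hc) _
    have h1 : wordG X ((D.commWord K a b t₀ u₀).take k) ∈ H := by
      apply wordG_mem
      intro e' he'
      unfold ChevalleyDatum.commWord at he'
      rw [← List.map_take] at he'
      obtain ⟨c, hc, rfl⟩ := List.mem_map.mp he'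
      apply hmemE
      rw [List.eraseIdx_eq_take_drop_succ]
      exact List.mem_append_left _ hc
    have h2 : wordG X ((D.commWord K a b t₀ u₀).drop (k + 1)) ∈ H := by
      apply wordG_mem
      intro e' he'
      unfold ChevalleyDatum.commWord at he'
      rw [← List.map_drop] at he'
      obtain ⟨c, hc, rfl⟩ := List.mem_map.mp he'
      apply hmemE
      rw [List.eraseIdx_eq_take_drop_succ]
      exact List.mem_append_right _ hc
    have e0 : X (D.simple i) u = (wordG X ((D.commWord K a b t₀ u₀).take k))⁻¹ *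
        (wordG X ((D.commWord K a b t₀ u₀).take k) * X (D.simple i) u *
          wordG X ((D.commWord K a b t₀ u₀).drop (k + 1))) *
        (wordG X ((D.commWord K a b t₀ u₀).drop (k + 1)))⁻¹ := by group
    rw [e0]
    exact H.mul_mem (H.mul_mem (H.inv_mem h1) hW) (H.inv_mem h2)
  apply transfer hD O Rg _ _ (hconj _ hXp)
  · apply X_mem_UG (lvlF D m) _ hn
    rw [← hfast _ hn]
    exact hnp
  · rw [map_mul, map_mul, map_inv, π_nbar O _ hp hn, O.π_X _ hp, O.π_X _ hn]
    exact PB_all D hadd hD _ hp t u ht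

/-- the action of `n̄_p(t)` on `x̄_{-p}(u)` -/
theorem nbar_conj_neg (hD : D ∈ [chevG2, chevB2, chevD4, chevF4, chevE6, chevE7, chevE8]) (O : Over D hadd X π)
    {φ : ℕ → ℤ} (S : Std D φ) (i : ℕ) (hi : i < D.rank) (t v : K) (ht : t ≠ 0) :
    nbar D X (D.simple i) t * X (D.neg (D.simple i)) v * (nbar D X (D.simple i) t)⁻¹ =
      X (D.simple i) (-(t * t * v)) := by
  have hp := S.simple_lt i hi
  have hn := S.neg_lt _ hp
  have h1 := nbar_conj_self hD O S i hi (-t) (-(t * t * v)) (neg_ne_zero.mpr ht)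
  have e : -((-t)⁻¹ * (-t)⁻¹ * -(t * t * v)) = v := by field_simp
  rw [e, ← nbar_inv O.toRels _ hp hn, inv_inv] at h1
  rw [← h1]
  group

end

end Cfsg.Agent.Helper40.St
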