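import Cfsg.Agent.Helper40.StNorm

/-!
Helper40: Steinberg's rank-one relation (B'): table certificates.
-/

set_option autoImplicit false
set_option linter.unusedSectionVars false

namespace Cfsg.Agent.Helper40.St

open Cfsg Cfsg.Lie Cfsg.Agent.Helper18 Cfsg.Agent.Helper40.ChevAdd Cfsg.Agent.Helper40.UProd
  Cfsg.Agent.Helper40.SL2Hom Cfsg.Agent.Helper40.SL2Chev Cfsg.Agent.Helper40.NMono

/-- the root `c` is different from `± p_i` and its reflection is positive for `lvlFast D m` -/
def goodB (D : ChevalleyDatum) (i : ℕ) (m : List ℤ) (c : ℕ) : Bool :=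
  decide (c ≠ D.simple i) && decide (c ≠ D.neg (D.simple i)) && decide (0 < lvlFast D m (D.reflectRoot i c))

/-- certificate for (B'): `p_i` occurs with coefficient `±1` and exponent `1` in the commutator formula of the
roots `a`, `b`, and the reflections of all the other roots involved are positive for a regular functional, as is `-p_i` -/
def bpOK (D : ChevalleyDatum) (i a b k : ℕ) (m : List ℤ) : Bool :=
  decide (a < D.nroots) && decide (b < D.nroots) && goodB D i m a && goodB D i m b && decide (b ≠ a) &&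
  decide (b ≠ D.neg a) &&
  (((D.commTerms a b)[k]?).any fun c => decide (c.1 = D.simple i) && (decide (c.2.1 = 1) || decide (c.2.1 = -1)) &&
    (decide (c.2.2.1 = 1) || decide (c.2.2.2 = 1))) &&
  (((D.commTerms a b).eraseIdx k).all fun c => goodB D i m c.1) &&
  regOK D m && decide (0 < lvlFast D m (D.neg (D.simple i)))

def bpAllOK (D : ChevalleyDatum) (certs : List (ℕ × ℕ × ℕ × List ℤ)) : Bool :=
  (List.range D.rank).all fun i =>
    bpOK D i (certs.getD i (0, 0, 0, [])).1 (certs.getD i (0, 0, 0, [])).2.1 (certs.getD i (0, 0, 0, [])).2.2.1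
      (certs.getD i (0, 0, 0, [])).2.2.2

def bpCertG2 : List (ℕ × ℕ × ℕ × List ℤ) := [(0, 9, 1, [-3, -2]), (1, 11, 0, [-1, -5])]
def bpCertB2 : List (ℕ × ℕ × ℕ × List ℤ) := [(1, 7, 0, [-2, -1]), (0, 6, 1, [-3, -8])]
def bpCertD4 : List (ℕ × ℕ × ℕ × List ℤ) := [(6, 22, 0, [-21, -26, -3, -6]), (1, 23, 0, [-16, -22, -3, -1]),
  (3, 22, 0, [-3, -13, -12, -7]), (2, 22, 0, [-7, -13, -2, -12])]
def bpCertF4 : List (ℕ × ℕ × ℕ × List ℤ) := [(7, 44, 0, [-18, -8, 1, -11]), (8, 40, 0, [-18, -22, -13, 3]),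
  (2, 46, 0, [12, -1, -10, 5]), (1, 47, 0, [-18, -8, 1, -11])]
def bpCertE6 : List (ℕ × ℕ × ℕ × List ℤ) := [(16, 66, 0, [-167, -237, -265, -375, -152, -22]),
  (1, 71, 0, [21, -48, -1, -41, -68, -50]), (5, 69, 0, [-48, -37, -64, -40, -1, 15]),
  (2, 70, 0, [1, -99, -44, -136, -89, -76]), (3, 69, 0, [65, 231, 142, 333, 152, 34]),
  (4, 68, 0, [-70, -228, -206, -423, -376, -233])]
def bpCertE7 : List (ℕ × ℕ × ℕ × List ℤ) := [(1, 125, 0, [-138, -131, -106, -88, 165, 284, 231]),
  (7, 122, 0, [-572, -719, -984, -1242, -701, -316, -61]), (2, 124, 0, [-322, -171, -440, -382, -275, -392, -307]),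
  (3, 123, 0, [102, -93, 34, 30, 233, 294, 247]), (4, 122, 0, [-248, -193, -498, -564, -379, -164, -75]),
  (5, 121, 0, [67, 74, 166, 167, -2, -80, -53]), (6, 120, 0, [-95, -120, -88, -166, -223, -241, -150])]
def bpCertE8 : List (ℕ × ℕ × ℕ × List ℤ) := [(14, 233, 0, [-394, -365, -667, -718, -137, 152, 143, 128]),
  (7, 234, 0, [-300, -791, -787, -1357, -1060, -750, -687, -448]),
  (6, 234, 0, [116, 202, 168, 445, 742, 843, 676, 316]),
  (5, 235, 0, [718, 844, 1116, 1862, 2010, 1908, 1525, 828]),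
  (4, 236, 0, [-750, -902, -1308, -2010, -2074, -1847, -1526, -892]),
  (3, 237, 0, [-282, -494, -764, -1110, -911, -928, -754, -367]),
  (2, 238, 0, [369, 794, 974, 1286, 560, 139, 17, 47]),
  (1, 239, 0, [642, 770, 1123, 1338, 761, 336, 146, -14])]

set_option maxRecDepth 100000 in
theorem bpAllOK_G2 : bpAllOK chevG2 bpCertG2 = true := by decide +kernel
set_option maxRecDepth 100000 in
theorem bpAllOK_B2 : bpAllOK chevB2 bpCertB2 = true := by decide +kernel
set_option maxRecDepth 100000 in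
theorem bpAllOK_D4 : bpAllOK chevD4 bpCertD4 = true := by decide +kernel
set_option maxRecDepth 100000 in
theorem bpAllOK_F4 : bpAllOK chevF4 bpCertF4 = true := by decide +kernel
set_option maxRecDepth 100000 in
theorem bpAllOK_E6 : bpAllOK chevE6 bpCertE6 = true := by decide +kernel
set_option maxRecDepth 100000 in
theorem bpAllOK_E7 : bpAllOK chevE7 bpCertE7 = true := by decide +kernel
set_option maxRecDepth 100000 in
theorem bpAllOK_E8 : bpAllOK chevE8 bpCertE8 = true := by decide +kernel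

theorem exists_bp (D : ChevalleyDatum) (hD : D ∈ [chevG2, chevB2, chevD4, chevF4, chevE6, chevE7, chevE8])
    (i : ℕ) (hi : i < D.rank) : ∃ (a b k : ℕ) (m : List ℤ), bpOK D i a b k m = true := by
  have key : ∀ certs, bpAllOK D certs = true → ∃ (a b k : ℕ) (m : List ℤ), bpOK D i a b k m = true := by
    intro certs h
    unfold bpAllOK at h
    rw [List.all_eq_true] at h
    exact ⟨_, _, _, _, h i (List.mem_range.mpr hi)⟩
  simp only [List.mem_cons, List.not_mem_nil, or_false] at hD
  rcases hD with rfl | rfl | rfl | rfl | rfl | rfl | rfl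
  · exact key _ bpAllOK_G2
  · exact key _ bpAllOK_B2
  · exact key _ bpAllOK_D4
  · exact key _ bpAllOK_F4
  · exact key _ bpAllOK_E6
  · exact key _ bpAllOK_E7
  · exact key _ bpAllOK_E8

end Cfsg.Agent.Helper40.St
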