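import Mathlib
import Cfsg.Agent.Helper96.StC.Defs
import Cfsg.Agent.Helper40.StColl
import Cfsg.Prelude.Def_ChevB2

/-!
# S2092, part II, `m = 2`: the root elements of `Sp_4(K)` satisfy Steinberg's relations of `chevB2` (definitions, roots 0, 1)
Generated by a script: brute force verification of 4 × 4 matrix identities.
-/

set_option autoImplicit false
set_option linter.unusedSimpArgs false
set_option linter.unreachableTactic false
set_option linter.unusedTactic false

namespace Cfsg.Agent.Helper40.StCB2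

open Cfsg Cfsg.Lie Cfsg.Agent.Helper96.StC Cfsg.Agent.Helper40.St Matrix

universe u
variable {K : Type u} [Field K]

/-- the index type -/
abbrev I2 := Fin 2 ⊕ Fin 2

/-- first index of the canonical name of the root `r` of `chevB2` -/
def Pn : ℕ → I2
  | 0 => Sum.inr 0 | 1 => Sum.inr 0 | 2 => Sum.inl 1 | 3 => Sum.inr 1
  | 4 => Sum.inl 1 | 5 => Sum.inl 0 | 6 => Sum.inl 0 | _ => Sum.inl 0

/-- second index of the canonical name -/
def Qn : ℕ → I2
  | 0 => Sum.inl 0 | 1 => Sum.inl 1 | 2 => Sum.inl 0 | 3 => Sum.inl 1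
  | 4 => Sum.inr 1 | 5 => Sum.inl 1 | 6 => Sum.inr 1 | _ => Sum.inr 0

/-- the sign -/
def sgn : ℕ → ℤ
  | 3 => -1 | 4 => -1 | _ => 1

/-- the matrices `x_r(t)` -/
def xM (r : ℕ) (t : K) : Matrix I2 I2 K := spM (Pn r) (Qn r) ((sgn r : K) * t)

theorem xM_comm_0_1 (t u : K) :
    xM 1 u * xM 0 t = xM 0 t * xM 1 u := by
  ext i j
  rcases i with i | i <;> rcases j with j | j <;> fin_cases i <;> fin_cases j <;>
    simp [xM, spM, Pn, Qn, sgn, bar, eps, Matrix.mul_apply, Fintype.sum_sum_type, Fin.sum_univ_two,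
      Matrix.single_apply, Matrix.one_apply] <;> ring

theorem xM_comm_0_2 (t u : K) :
    xM 2 u * xM 0 t = xM 0 t * xM 2 u := by
  ext i j
  rcases i with i | i <;> rcases j with j | j <;> fin_cases i <;> fin_cases j <;>
    simp [xM, spM, Pn, Qn, sgn, bar, eps, Matrix.mul_apply, Fintype.sum_sum_type, Fin.sum_univ_two,
      Matrix.single_apply, Matrix.one_apply] <;> ring

theorem xM_comm_0_3 (t u : K) :
    xM 3 u * xM 0 t = xM 0 t * xM 3 u := by
  ext i j
  rcases i with i | i <;> rcases j with j | j <;> fin_cases i <;> fin_cases j <;>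
    simp [xM, spM, Pn, Qn, sgn, bar, eps, Matrix.mul_apply, Fintype.sum_sum_type, Fin.sum_univ_two,
      Matrix.single_apply, Matrix.one_apply] <;> ring

theorem xM_comm_0_4 (t u : K) :
    xM 4 u * xM 0 t = xM 0 t * xM 4 u := by
  ext i j
  rcases i with i | i <;> rcases j with j | j <;> fin_cases i <;> fin_cases j <;>
    simp [xM, spM, Pn, Qn, sgn, bar, eps, Matrix.mul_apply, Fintype.sum_sum_type, Fin.sum_univ_two,
      Matrix.single_apply, Matrix.one_apply] <;> ring

theorem xM_comm_0_5 (t u : K) :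
    xM 5 u * xM 0 t = xM 0 t * xM 5 u * xM 1 (((1 : ℤ) : K) * (-t) ^ 1 * u ^ 1) * xM 3 (((-1 : ℤ) : K) * (-t) ^ 1 * u ^ 2) := by
  ext i j
  rcases i with i | i <;> rcases j with j | j <;> fin_cases i <;> fin_cases j <;>
    simp [xM, spM, Pn, Qn, sgn, bar, eps, Matrix.mul_apply, Fintype.sum_sum_type, Fin.sum_univ_two,
      Matrix.single_apply, Matrix.one_apply] <;> ring

theorem xM_comm_0_6 (t u : K) :
    xM 6 u * xM 0 t = xM 0 t * xM 6 u * xM 2 (((-1 : ℤ) : K) * (-t) ^ 1 * u ^ 1) * xM 4 (((1 : ℤ) : K) * (-t) ^ 1 * u ^ 2) := by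
  ext i j
  rcases i with i | i <;> rcases j with j | j <;> fin_cases i <;> fin_cases j <;>
    simp [xM, spM, Pn, Qn, sgn, bar, eps, Matrix.mul_apply, Fintype.sum_sum_type, Fin.sum_univ_two,
      Matrix.single_apply, Matrix.one_apply] <;> ring

theorem xM_comm_1_0 (t u : K) :
    xM 0 u * xM 1 t = xM 1 t * xM 0 u := by
  ext i j
  rcases i with i | i <;> rcases j with j | j <;> fin_cases i <;> fin_cases j <;>
    simp [xM, spM, Pn, Qn, sgn, bar, eps, Matrix.mul_apply, Fintype.sum_sum_type, Fin.sum_univ_two,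
      Matrix.single_apply, Matrix.one_apply] <;> ring

theorem xM_comm_1_2 (t u : K) :
    xM 2 u * xM 1 t = xM 1 t * xM 2 u * xM 0 (((2 : ℤ) : K) * (-t) ^ 1 * u ^ 1) := by
  ext i j
  rcases i with i | i <;> rcases j with j | j <;> fin_cases i <;> fin_cases j <;>
    simp [xM, spM, Pn, Qn, sgn, bar, eps, Matrix.mul_apply, Fintype.sum_sum_type, Fin.sum_univ_two,
      Matrix.single_apply, Matrix.one_apply] <;> ring

theorem xM_comm_1_3 (t u : K) :
    xM 3 u * xM 1 t = xM 1 t * xM 3 u := by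
  ext i j
  rcases i with i | i <;> rcases j with j | j <;> fin_cases i <;> fin_cases j <;>
    simp [xM, spM, Pn, Qn, sgn, bar, eps, Matrix.mul_apply, Fintype.sum_sum_type, Fin.sum_univ_two,
      Matrix.single_apply, Matrix.one_apply] <;> ring

theorem xM_comm_1_4 (t u : K) :
    xM 4 u * xM 1 t = xM 1 t * xM 4 u * xM 2 (((1 : ℤ) : K) * (-t) ^ 1 * u ^ 1) * xM 0 (((1 : ℤ) : K) * (-t) ^ 2 * u ^ 1) := by
  ext i j
  rcases i with i | i <;> rcases j with j | j <;> fin_cases i <;> fin_cases j <;>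
    simp [xM, spM, Pn, Qn, sgn, bar, eps, Matrix.mul_apply, Fintype.sum_sum_type, Fin.sum_univ_two,
      Matrix.single_apply, Matrix.one_apply] <;> ring

theorem xM_comm_1_5 (t u : K) :
    xM 5 u * xM 1 t = xM 1 t * xM 5 u * xM 3 (((-2 : ℤ) : K) * (-t) ^ 1 * u ^ 1) := by
  ext i j
  rcases i with i | i <;> rcases j with j | j <;> fin_cases i <;> fin_cases j <;>
    simp [xM, spM, Pn, Qn, sgn, bar, eps, Matrix.mul_apply, Fintype.sum_sum_type, Fin.sum_univ_two,
      Matrix.single_apply, Matrix.one_apply] <;> ring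

theorem xM_comm_1_7 (t u : K) :
    xM 7 u * xM 1 t = xM 1 t * xM 7 u * xM 5 (((-1 : ℤ) : K) * (-t) ^ 1 * u ^ 1) * xM 3 (((1 : ℤ) : K) * (-t) ^ 2 * u ^ 1) := by
  ext i j
  rcases i with i | i <;> rcases j with j | j <;> fin_cases i <;> fin_cases j <;>
    simp [xM, spM, Pn, Qn, sgn, bar, eps, Matrix.mul_apply, Fintype.sum_sum_type, Fin.sum_univ_two,
      Matrix.single_apply, Matrix.one_apply] <;> ring

end Cfsg.Agent.Helper40.StCB2
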