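import Mathlib
import Cfsg.Agent.Helper96.StC.Defs
import Cfsg.Agent.Helper40.StColl
import Cfsg.Prelude.Def_ChevB2
import Cfsg.Agent.Helper40.StCB2b
import Cfsg.Agent.Helper40.StCB2c
import Cfsg.Agent.Helper40.StCB2d
import Cfsg.Agent.Helper29.StCM
/-!
# S2092, part II, `m = 2`: the root elements of `Sp_4(K)` satisfy Steinberg's relations of `chevB2` (the relations in the group)
Generated by a script: brute force verification of 4 × 4 matrix identities.
-/

set_option autoImplicit false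
set_option linter.unusedSimpArgs false
set_option linter.unreachableTactic false
set_option linter.unusedTactic false

namespace Cfsg.Agent.Helper40.StCB2

open Cfsg Cfsg.Lie Cfsg.Agent.Helper96.StC Cfsg.Agent.Helper40.St Matrix

universe u
variable {K : Type u} [Field K]

/-- the root elements in the group -/
def xS (r : ℕ) (t : K) : symplecticGroup (Fin 2) K :=
  Cfsg.Agent.Helper29.StCM.spT (Pn r) (Qn r) ((sgn r : K) * t)

theorem Pn_ne_Qn (r : ℕ) : Pn r ≠ Qn r := by
  unfold Pn Qn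
  split <;> simp

theorem xS_coe (r : ℕ) (t : K) : (xS r t).1 = xM r t :=
  Cfsg.Agent.Helper29.StCM.spT_coe (Pn_ne_Qn r) _

theorem coe_wordG (w : List (ℕ × K)) :
    ((wordG (xS (K := K)) w : symplecticGroup (Fin 2) K) : Matrix I2 I2 K)
      = (w.map fun p => xM p.1 p.2).prod := by
  induction w with
  | nil => simp [wordG]
  | cons e w ih =>
    have h1 : wordG (xS (K := K)) (e :: w) = xS e.1 e.2 * wordG xS w := by simp [wordG]
    rw [h1, Submonoid.coe_mul, ih, xS_coe, List.map_cons, List.prod_cons]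

theorem commWord_0_1 (t u : K) :
    chevB2.commWord K 0 1 t u = [] := by
  unfold ChevalleyDatum.commWord
  rw [show chevB2.commTerms 0 1 = [] from by decide]
  rfl

theorem xS_comm_0_1 (t u : K) :
    xS 1 u * xS 0 t = xS 0 t * xS 1 u * wordG xS (chevB2.commWord K 0 1 t u) := by
  apply Subtype.ext
  rw [Submonoid.coe_mul, Submonoid.coe_mul, Submonoid.coe_mul, coe_wordG, commWord_0_1, xS_coe, xS_coe]
  simp only [List.map, List.prod_cons, List.prod_nil, mul_one]
  rw [xM_comm_0_1 t u]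

theorem commWord_0_2 (t u : K) :
    chevB2.commWord K 0 2 t u = [] := by
  unfold ChevalleyDatum.commWord
  rw [show chevB2.commTerms 0 2 = [] from by decide]
  rfl

theorem xS_comm_0_2 (t u : K) :
    xS 2 u * xS 0 t = xS 0 t * xS 2 u * wordG xS (chevB2.commWord K 0 2 t u) := by
  apply Subtype.ext
  rw [Submonoid.coe_mul, Submonoid.coe_mul, Submonoid.coe_mul, coe_wordG, commWord_0_2, xS_coe, xS_coe]
  simp only [List.map, List.prod_cons, List.prod_nil, mul_one]
  rw [xM_comm_0_2 t u]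

theorem commWord_0_3 (t u : K) :
    chevB2.commWord K 0 3 t u = [] := by
  unfold ChevalleyDatum.commWord
  rw [show chevB2.commTerms 0 3 = [] from by decide]
  rfl

theorem xS_comm_0_3 (t u : K) :
    xS 3 u * xS 0 t = xS 0 t * xS 3 u * wordG xS (chevB2.commWord K 0 3 t u) := by
  apply Subtype.ext
  rw [Submonoid.coe_mul, Submonoid.coe_mul, Submonoid.coe_mul, coe_wordG, commWord_0_3, xS_coe, xS_coe]
  simp only [List.map, List.prod_cons, List.prod_nil, mul_one]
  rw [xM_comm_0_3 t u]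

theorem commWord_0_4 (t u : K) :
    chevB2.commWord K 0 4 t u = [] := by
  unfold ChevalleyDatum.commWord
  rw [show chevB2.commTerms 0 4 = [] from by decide]
  rfl

theorem xS_comm_0_4 (t u : K) :
    xS 4 u * xS 0 t = xS 0 t * xS 4 u * wordG xS (chevB2.commWord K 0 4 t u) := by
  apply Subtype.ext
  rw [Submonoid.coe_mul, Submonoid.coe_mul, Submonoid.coe_mul, coe_wordG, commWord_0_4, xS_coe, xS_coe]
  simp only [List.map, List.prod_cons, List.prod_nil, mul_one]
  rw [xM_comm_0_4 t u]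

theorem commWord_0_5 (t u : K) :
    chevB2.commWord K 0 5 t u = [(1, ((1 : ℤ) : K) * (-t) ^ 1 * u ^ 1), (3, ((-1 : ℤ) : K) * (-t) ^ 1 * u ^ 2)] := by
  unfold ChevalleyDatum.commWord
  rw [show chevB2.commTerms 0 5 = [(1, 1, 1, 1), (3, -1, 1, 2)] from by decide]
  rfl

theorem xS_comm_0_5 (t u : K) :
    xS 5 u * xS 0 t = xS 0 t * xS 5 u * wordG xS (chevB2.commWord K 0 5 t u) := by
  apply Subtype.ext
  rw [Submonoid.coe_mul, Submonoid.coe_mul, Submonoid.coe_mul, coe_wordG, commWord_0_5, xS_coe, xS_coe]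
  simp only [List.map, List.prod_cons, List.prod_nil, mul_one]
  rw [xM_comm_0_5 t u]
  simp only [mul_assoc]

theorem commWord_0_6 (t u : K) :
    chevB2.commWord K 0 6 t u = [(2, ((-1 : ℤ) : K) * (-t) ^ 1 * u ^ 1), (4, ((1 : ℤ) : K) * (-t) ^ 1 * u ^ 2)] := by
  unfold ChevalleyDatum.commWord
  rw [show chevB2.commTerms 0 6 = [(2, -1, 1, 1), (4, 1, 1, 2)] from by decide]
  rfl

theorem xS_comm_0_6 (t u : K) :
    xS 6 u * xS 0 t = xS 0 t * xS 6 u * wordG xS (chevB2.commWord K 0 6 t u) := by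
  apply Subtype.ext
  rw [Submonoid.coe_mul, Submonoid.coe_mul, Submonoid.coe_mul, coe_wordG, commWord_0_6, xS_coe, xS_coe]
  simp only [List.map, List.prod_cons, List.prod_nil, mul_one]
  rw [xM_comm_0_6 t u]
  simp only [mul_assoc]

theorem commWord_1_0 (t u : K) :
    chevB2.commWord K 1 0 t u = [] := by
  unfold ChevalleyDatum.commWord
  rw [show chevB2.commTerms 1 0 = [] from by decide]
  rfl

theorem xS_comm_1_0 (t u : K) :
    xS 0 u * xS 1 t = xS 1 t * xS 0 u * wordG xS (chevB2.commWord K 1 0 t u) := by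
  apply Subtype.ext
  rw [Submonoid.coe_mul, Submonoid.coe_mul, Submonoid.coe_mul, coe_wordG, commWord_1_0, xS_coe, xS_coe]
  simp only [List.map, List.prod_cons, List.prod_nil, mul_one]
  rw [xM_comm_1_0 t u]

theorem commWord_1_2 (t u : K) :
    chevB2.commWord K 1 2 t u = [(0, ((2 : ℤ) : K) * (-t) ^ 1 * u ^ 1)] := by
  unfold ChevalleyDatum.commWord
  rw [show chevB2.commTerms 1 2 = [(0, 2, 1, 1)] from by decide]
  rfl

theorem xS_comm_1_2 (t u : K) :
    xS 2 u * xS 1 t = xS 1 t * xS 2 u * wordG xS (chevB2.commWord K 1 2 t u) := by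
  apply Subtype.ext
  rw [Submonoid.coe_mul, Submonoid.coe_mul, Submonoid.coe_mul, coe_wordG, commWord_1_2, xS_coe, xS_coe]
  simp only [List.map, List.prod_cons, List.prod_nil, mul_one]
  rw [xM_comm_1_2 t u]

theorem commWord_1_3 (t u : K) :
    chevB2.commWord K 1 3 t u = [] := by
  unfold ChevalleyDatum.commWord
  rw [show chevB2.commTerms 1 3 = [] from by decide]
  rfl

theorem xS_comm_1_3 (t u : K) :
    xS 3 u * xS 1 t = xS 1 t * xS 3 u * wordG xS (chevB2.commWord K 1 3 t u) := by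
  apply Subtype.ext
  rw [Submonoid.coe_mul, Submonoid.coe_mul, Submonoid.coe_mul, coe_wordG, commWord_1_3, xS_coe, xS_coe]
  simp only [List.map, List.prod_cons, List.prod_nil, mul_one]
  rw [xM_comm_1_3 t u]

theorem commWord_1_4 (t u : K) :
    chevB2.commWord K 1 4 t u = [(2, ((1 : ℤ) : K) * (-t) ^ 1 * u ^ 1), (0, ((1 : ℤ) : K) * (-t) ^ 2 * u ^ 1)] := by
  unfold ChevalleyDatum.commWord
  rw [show chevB2.commTerms 1 4 = [(2, 1, 1, 1), (0, 1, 2, 1)] from by decide]
  rfl

theorem xS_comm_1_4 (t u : K) :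
    xS 4 u * xS 1 t = xS 1 t * xS 4 u * wordG xS (chevB2.commWord K 1 4 t u) := by
  apply Subtype.ext
  rw [Submonoid.coe_mul, Submonoid.coe_mul, Submonoid.coe_mul, coe_wordG, commWord_1_4, xS_coe, xS_coe]
  simp only [List.map, List.prod_cons, List.prod_nil, mul_one]
  rw [xM_comm_1_4 t u]
  simp only [mul_assoc]

theorem commWord_1_5 (t u : K) :
    chevB2.commWord K 1 5 t u = [(3, ((-2 : ℤ) : K) * (-t) ^ 1 * u ^ 1)] := by
  unfold ChevalleyDatum.commWord
  rw [show chevB2.commTerms 1 5 = [(3, -2, 1, 1)] from by decide]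
  rfl

theorem xS_comm_1_5 (t u : K) :
    xS 5 u * xS 1 t = xS 1 t * xS 5 u * wordG xS (chevB2.commWord K 1 5 t u) := by
  apply Subtype.ext
  rw [Submonoid.coe_mul, Submonoid.coe_mul, Submonoid.coe_mul, coe_wordG, commWord_1_5, xS_coe, xS_coe]
  simp only [List.map, List.prod_cons, List.prod_nil, mul_one]
  rw [xM_comm_1_5 t u]

theorem commWord_1_7 (t u : K) :
    chevB2.commWord K 1 7 t u = [(5, ((-1 : ℤ) : K) * (-t) ^ 1 * u ^ 1), (3, ((1 : ℤ) : K) * (-t) ^ 2 * u ^ 1)] := by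
  unfold ChevalleyDatum.commWord
  rw [show chevB2.commTerms 1 7 = [(5, -1, 1, 1), (3, 1, 2, 1)] from by decide]
  rfl

theorem xS_comm_1_7 (t u : K) :
    xS 7 u * xS 1 t = xS 1 t * xS 7 u * wordG xS (chevB2.commWord K 1 7 t u) := by
  apply Subtype.ext
  rw [Submonoid.coe_mul, Submonoid.coe_mul, Submonoid.coe_mul, coe_wordG, commWord_1_7, xS_coe, xS_coe]
  simp only [List.map, List.prod_cons, List.prod_nil, mul_one]
  rw [xM_comm_1_7 t u]
  simp only [mul_assoc]

theorem commWord_2_0 (t u : K) :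
    chevB2.commWord K 2 0 t u = [] := by
  unfold ChevalleyDatum.commWord
  rw [show chevB2.commTerms 2 0 = [] from by decide]
  rfl

theorem xS_comm_2_0 (t u : K) :
    xS 0 u * xS 2 t = xS 2 t * xS 0 u * wordG xS (chevB2.commWord K 2 0 t u) := by
  apply Subtype.ext
  rw [Submonoid.coe_mul, Submonoid.coe_mul, Submonoid.coe_mul, coe_wordG, commWord_2_0, xS_coe, xS_coe]
  simp only [List.map, List.prod_cons, List.prod_nil, mul_one]
  rw [xM_comm_2_0 t u]

theorem commWord_2_1 (t u : K) :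
    chevB2.commWord K 2 1 t u = [(0, ((-2 : ℤ) : K) * (-t) ^ 1 * u ^ 1)] := by
  unfold ChevalleyDatum.commWord
  rw [show chevB2.commTerms 2 1 = [(0, -2, 1, 1)] from by decide]
  rfl

theorem xS_comm_2_1 (t u : K) :
    xS 1 u * xS 2 t = xS 2 t * xS 1 u * wordG xS (chevB2.commWord K 2 1 t u) := by
  apply Subtype.ext
  rw [Submonoid.coe_mul, Submonoid.coe_mul, Submonoid.coe_mul, coe_wordG, commWord_2_1, xS_coe, xS_coe]
  simp only [List.map, List.prod_cons, List.prod_nil, mul_one]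
  rw [xM_comm_2_1 t u]

theorem commWord_2_3 (t u : K) :
    chevB2.commWord K 2 3 t u = [(1, ((1 : ℤ) : K) * (-t) ^ 1 * u ^ 1), (0, ((-1 : ℤ) : K) * (-t) ^ 2 * u ^ 1)] := by
  unfold ChevalleyDatum.commWord
  rw [show chevB2.commTerms 2 3 = [(1, 1, 1, 1), (0, -1, 2, 1)] from by decide]
  rfl

theorem xS_comm_2_3 (t u : K) :
    xS 3 u * xS 2 t = xS 2 t * xS 3 u * wordG xS (chevB2.commWord K 2 3 t u) := by
  apply Subtype.ext
  rw [Submonoid.coe_mul, Submonoid.coe_mul, Submonoid.coe_mul, coe_wordG, commWord_2_3, xS_coe, xS_coe]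
  simp only [List.map, List.prod_cons, List.prod_nil, mul_one]
  rw [xM_comm_2_3 t u]
  simp only [mul_assoc]

theorem commWord_2_4 (t u : K) :
    chevB2.commWord K 2 4 t u = [] := by
  unfold ChevalleyDatum.commWord
  rw [show chevB2.commTerms 2 4 = [] from by decide]
  rfl

theorem xS_comm_2_4 (t u : K) :
    xS 4 u * xS 2 t = xS 2 t * xS 4 u * wordG xS (chevB2.commWord K 2 4 t u) := by
  apply Subtype.ext
  rw [Submonoid.coe_mul, Submonoid.coe_mul, Submonoid.coe_mul, coe_wordG, commWord_2_4, xS_coe, xS_coe]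
  simp only [List.map, List.prod_cons, List.prod_nil, mul_one]
  rw [xM_comm_2_4 t u]

theorem commWord_2_6 (t u : K) :
    chevB2.commWord K 2 6 t u = [(4, ((-2 : ℤ) : K) * (-t) ^ 1 * u ^ 1)] := by
  unfold ChevalleyDatum.commWord
  rw [show chevB2.commTerms 2 6 = [(4, -2, 1, 1)] from by decide]
  rfl

theorem xS_comm_2_6 (t u : K) :
    xS 6 u * xS 2 t = xS 2 t * xS 6 u * wordG xS (chevB2.commWord K 2 6 t u) := by
  apply Subtype.ext
  rw [Submonoid.coe_mul, Submonoid.coe_mul, Submonoid.coe_mul, coe_wordG, commWord_2_6, xS_coe, xS_coe]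
  simp only [List.map, List.prod_cons, List.prod_nil, mul_one]
  rw [xM_comm_2_6 t u]

theorem commWord_2_7 (t u : K) :
    chevB2.commWord K 2 7 t u = [(6, ((1 : ℤ) : K) * (-t) ^ 1 * u ^ 1), (4, ((-1 : ℤ) : K) * (-t) ^ 2 * u ^ 1)] := by
  unfold ChevalleyDatum.commWord
  rw [show chevB2.commTerms 2 7 = [(6, 1, 1, 1), (4, -1, 2, 1)] from by decide]
  rfl

theorem xS_comm_2_7 (t u : K) :
    xS 7 u * xS 2 t = xS 2 t * xS 7 u * wordG xS (chevB2.commWord K 2 7 t u) := by
  apply Subtype.ext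
  rw [Submonoid.coe_mul, Submonoid.coe_mul, Submonoid.coe_mul, coe_wordG, commWord_2_7, xS_coe, xS_coe]
  simp only [List.map, List.prod_cons, List.prod_nil, mul_one]
  rw [xM_comm_2_7 t u]
  simp only [mul_assoc]

theorem commWord_3_0 (t u : K) :
    chevB2.commWord K 3 0 t u = [] := by
  unfold ChevalleyDatum.commWord
  rw [show chevB2.commTerms 3 0 = [] from by decide]
  rfl

theorem xS_comm_3_0 (t u : K) :
    xS 0 u * xS 3 t = xS 3 t * xS 0 u * wordG xS (chevB2.commWord K 3 0 t u) := by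
  apply Subtype.ext
  rw [Submonoid.coe_mul, Submonoid.coe_mul, Submonoid.coe_mul, coe_wordG, commWord_3_0, xS_coe, xS_coe]
  simp only [List.map, List.prod_cons, List.prod_nil, mul_one]
  rw [xM_comm_3_0 t u]

theorem commWord_3_1 (t u : K) :
    chevB2.commWord K 3 1 t u = [] := by
  unfold ChevalleyDatum.commWord
  rw [show chevB2.commTerms 3 1 = [] from by decide]
  rfl

theorem xS_comm_3_1 (t u : K) :
    xS 1 u * xS 3 t = xS 3 t * xS 1 u * wordG xS (chevB2.commWord K 3 1 t u) := by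
  apply Subtype.ext
  rw [Submonoid.coe_mul, Submonoid.coe_mul, Submonoid.coe_mul, coe_wordG, commWord_3_1, xS_coe, xS_coe]
  simp only [List.map, List.prod_cons, List.prod_nil, mul_one]
  rw [xM_comm_3_1 t u]

theorem commWord_3_2 (t u : K) :
    chevB2.commWord K 3 2 t u = [(1, ((-1 : ℤ) : K) * (-t) ^ 1 * u ^ 1), (0, ((-1 : ℤ) : K) * (-t) ^ 1 * u ^ 2)] := by
  unfold ChevalleyDatum.commWord
  rw [show chevB2.commTerms 3 2 = [(1, -1, 1, 1), (0, -1, 1, 2)] from by decide]
  rfl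

theorem xS_comm_3_2 (t u : K) :
    xS 2 u * xS 3 t = xS 3 t * xS 2 u * wordG xS (chevB2.commWord K 3 2 t u) := by
  apply Subtype.ext
  rw [Submonoid.coe_mul, Submonoid.coe_mul, Submonoid.coe_mul, coe_wordG, commWord_3_2, xS_coe, xS_coe]
  simp only [List.map, List.prod_cons, List.prod_nil, mul_one]
  rw [xM_comm_3_2 t u]
  simp only [mul_assoc]

theorem commWord_3_5 (t u : K) :
    chevB2.commWord K 3 5 t u = [] := by
  unfold ChevalleyDatum.commWord
  rw [show chevB2.commTerms 3 5 = [] from by decide]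
  rfl

theorem xS_comm_3_5 (t u : K) :
    xS 5 u * xS 3 t = xS 3 t * xS 5 u * wordG xS (chevB2.commWord K 3 5 t u) := by
  apply Subtype.ext
  rw [Submonoid.coe_mul, Submonoid.coe_mul, Submonoid.coe_mul, coe_wordG, commWord_3_5, xS_coe, xS_coe]
  simp only [List.map, List.prod_cons, List.prod_nil, mul_one]
  rw [xM_comm_3_5 t u]

theorem commWord_3_6 (t u : K) :
    chevB2.commWord K 3 6 t u = [(5, ((1 : ℤ) : K) * (-t) ^ 1 * u ^ 1), (7, ((1 : ℤ) : K) * (-t) ^ 1 * u ^ 2)] := by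
  unfold ChevalleyDatum.commWord
  rw [show chevB2.commTerms 3 6 = [(5, 1, 1, 1), (7, 1, 1, 2)] from by decide]
  rfl

theorem xS_comm_3_6 (t u : K) :
    xS 6 u * xS 3 t = xS 3 t * xS 6 u * wordG xS (chevB2.commWord K 3 6 t u) := by
  apply Subtype.ext
  rw [Submonoid.coe_mul, Submonoid.coe_mul, Submonoid.coe_mul, coe_wordG, commWord_3_6, xS_coe, xS_coe]
  simp only [List.map, List.prod_cons, List.prod_nil, mul_one]
  rw [xM_comm_3_6 t u]
  simp only [mul_assoc]

theorem commWord_3_7 (t u : K) :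
    chevB2.commWord K 3 7 t u = [] := by
  unfold ChevalleyDatum.commWord
  rw [show chevB2.commTerms 3 7 = [] from by decide]
  rfl

theorem xS_comm_3_7 (t u : K) :
    xS 7 u * xS 3 t = xS 3 t * xS 7 u * wordG xS (chevB2.commWord K 3 7 t u) := by
  apply Subtype.ext
  rw [Submonoid.coe_mul, Submonoid.coe_mul, Submonoid.coe_mul, coe_wordG, commWord_3_7, xS_coe, xS_coe]
  simp only [List.map, List.prod_cons, List.prod_nil, mul_one]
  rw [xM_comm_3_7 t u]

theorem commWord_4_0 (t u : K) :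
    chevB2.commWord K 4 0 t u = [] := by
  unfold ChevalleyDatum.commWord
  rw [show chevB2.commTerms 4 0 = [] from by decide]
  rfl

theorem xS_comm_4_0 (t u : K) :
    xS 0 u * xS 4 t = xS 4 t * xS 0 u * wordG xS (chevB2.commWord K 4 0 t u) := by
  apply Subtype.ext
  rw [Submonoid.coe_mul, Submonoid.coe_mul, Submonoid.coe_mul, coe_wordG, commWord_4_0, xS_coe, xS_coe]
  simp only [List.map, List.prod_cons, List.prod_nil, mul_one]
  rw [xM_comm_4_0 t u]

theorem commWord_4_1 (t u : K) :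
    chevB2.commWord K 4 1 t u = [(2, ((-1 : ℤ) : K) * (-t) ^ 1 * u ^ 1), (0, ((1 : ℤ) : K) * (-t) ^ 1 * u ^ 2)] := by
  unfold ChevalleyDatum.commWord
  rw [show chevB2.commTerms 4 1 = [(2, -1, 1, 1), (0, 1, 1, 2)] from by decide]
  rfl

theorem xS_comm_4_1 (t u : K) :
    xS 1 u * xS 4 t = xS 4 t * xS 1 u * wordG xS (chevB2.commWord K 4 1 t u) := by
  apply Subtype.ext
  rw [Submonoid.coe_mul, Submonoid.coe_mul, Submonoid.coe_mul, coe_wordG, commWord_4_1, xS_coe, xS_coe]
  simp only [List.map, List.prod_cons, List.prod_nil, mul_one]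
  rw [xM_comm_4_1 t u]
  simp only [mul_assoc]

theorem commWord_4_2 (t u : K) :
    chevB2.commWord K 4 2 t u = [] := by
  unfold ChevalleyDatum.commWord
  rw [show chevB2.commTerms 4 2 = [] from by decide]
  rfl

theorem xS_comm_4_2 (t u : K) :
    xS 2 u * xS 4 t = xS 4 t * xS 2 u * wordG xS (chevB2.commWord K 4 2 t u) := by
  apply Subtype.ext
  rw [Submonoid.coe_mul, Submonoid.coe_mul, Submonoid.coe_mul, coe_wordG, commWord_4_2, xS_coe, xS_coe]
  simp only [List.map, List.prod_cons, List.prod_nil, mul_one]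
  rw [xM_comm_4_2 t u]

theorem commWord_4_5 (t u : K) :
    chevB2.commWord K 4 5 t u = [(6, ((1 : ℤ) : K) * (-t) ^ 1 * u ^ 1), (7, ((-1 : ℤ) : K) * (-t) ^ 1 * u ^ 2)] := by
  unfold ChevalleyDatum.commWord
  rw [show chevB2.commTerms 4 5 = [(6, 1, 1, 1), (7, -1, 1, 2)] from by decide]
  rfl

theorem xS_comm_4_5 (t u : K) :
    xS 5 u * xS 4 t = xS 4 t * xS 5 u * wordG xS (chevB2.commWord K 4 5 t u) := by
  apply Subtype.ext
  rw [Submonoid.coe_mul, Submonoid.coe_mul, Submonoid.coe_mul, coe_wordG, commWord_4_5, xS_coe, xS_coe]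
  simp only [List.map, List.prod_cons, List.prod_nil, mul_one]
  rw [xM_comm_4_5 t u]
  simp only [mul_assoc]

theorem commWord_4_6 (t u : K) :
    chevB2.commWord K 4 6 t u = [] := by
  unfold ChevalleyDatum.commWord
  rw [show chevB2.commTerms 4 6 = [] from by decide]
  rfl

theorem xS_comm_4_6 (t u : K) :
    xS 6 u * xS 4 t = xS 4 t * xS 6 u * wordG xS (chevB2.commWord K 4 6 t u) := by
  apply Subtype.ext
  rw [Submonoid.coe_mul, Submonoid.coe_mul, Submonoid.coe_mul, coe_wordG, commWord_4_6, xS_coe, xS_coe]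
  simp only [List.map, List.prod_cons, List.prod_nil, mul_one]
  rw [xM_comm_4_6 t u]

theorem commWord_4_7 (t u : K) :
    chevB2.commWord K 4 7 t u = [] := by
  unfold ChevalleyDatum.commWord
  rw [show chevB2.commTerms 4 7 = [] from by decide]
  rfl

theorem xS_comm_4_7 (t u : K) :
    xS 7 u * xS 4 t = xS 4 t * xS 7 u * wordG xS (chevB2.commWord K 4 7 t u) := by
  apply Subtype.ext
  rw [Submonoid.coe_mul, Submonoid.coe_mul, Submonoid.coe_mul, coe_wordG, commWord_4_7, xS_coe, xS_coe]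
  simp only [List.map, List.prod_cons, List.prod_nil, mul_one]
  rw [xM_comm_4_7 t u]

theorem commWord_5_0 (t u : K) :
    chevB2.commWord K 5 0 t u = [(1, ((-1 : ℤ) : K) * (-t) ^ 1 * u ^ 1), (3, ((-1 : ℤ) : K) * (-t) ^ 2 * u ^ 1)] := by
  unfold ChevalleyDatum.commWord
  rw [show chevB2.commTerms 5 0 = [(1, -1, 1, 1), (3, -1, 2, 1)] from by decide]
  rfl

theorem xS_comm_5_0 (t u : K) :
    xS 0 u * xS 5 t = xS 5 t * xS 0 u * wordG xS (chevB2.commWord K 5 0 t u) := by
  apply Subtype.ext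
  rw [Submonoid.coe_mul, Submonoid.coe_mul, Submonoid.coe_mul, coe_wordG, commWord_5_0, xS_coe, xS_coe]
  simp only [List.map, List.prod_cons, List.prod_nil, mul_one]
  rw [xM_comm_5_0 t u]
  simp only [mul_assoc]

theorem commWord_5_1 (t u : K) :
    chevB2.commWord K 5 1 t u = [(3, ((2 : ℤ) : K) * (-t) ^ 1 * u ^ 1)] := by
  unfold ChevalleyDatum.commWord
  rw [show chevB2.commTerms 5 1 = [(3, 2, 1, 1)] from by decide]
  rfl

theorem xS_comm_5_1 (t u : K) :
    xS 1 u * xS 5 t = xS 5 t * xS 1 u * wordG xS (chevB2.commWord K 5 1 t u) := by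
  apply Subtype.ext
  rw [Submonoid.coe_mul, Submonoid.coe_mul, Submonoid.coe_mul, coe_wordG, commWord_5_1, xS_coe, xS_coe]
  simp only [List.map, List.prod_cons, List.prod_nil, mul_one]
  rw [xM_comm_5_1 t u]

theorem commWord_5_3 (t u : K) :
    chevB2.commWord K 5 3 t u = [] := by
  unfold ChevalleyDatum.commWord
  rw [show chevB2.commTerms 5 3 = [] from by decide]
  rfl

theorem xS_comm_5_3 (t u : K) :
    xS 3 u * xS 5 t = xS 5 t * xS 3 u * wordG xS (chevB2.commWord K 5 3 t u) := by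
  apply Subtype.ext
  rw [Submonoid.coe_mul, Submonoid.coe_mul, Submonoid.coe_mul, coe_wordG, commWord_5_3, xS_coe, xS_coe]
  simp only [List.map, List.prod_cons, List.prod_nil, mul_one]
  rw [xM_comm_5_3 t u]

theorem commWord_5_4 (t u : K) :
    chevB2.commWord K 5 4 t u = [(6, ((-1 : ℤ) : K) * (-t) ^ 1 * u ^ 1), (7, ((-1 : ℤ) : K) * (-t) ^ 2 * u ^ 1)] := by
  unfold ChevalleyDatum.commWord
  rw [show chevB2.commTerms 5 4 = [(6, -1, 1, 1), (7, -1, 2, 1)] from by decide]
  rfl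

theorem xS_comm_5_4 (t u : K) :
    xS 4 u * xS 5 t = xS 5 t * xS 4 u * wordG xS (chevB2.commWord K 5 4 t u) := by
  apply Subtype.ext
  rw [Submonoid.coe_mul, Submonoid.coe_mul, Submonoid.coe_mul, coe_wordG, commWord_5_4, xS_coe, xS_coe]
  simp only [List.map, List.prod_cons, List.prod_nil, mul_one]
  rw [xM_comm_5_4 t u]
  simp only [mul_assoc]

theorem commWord_5_6 (t u : K) :
    chevB2.commWord K 5 6 t u = [(7, ((2 : ℤ) : K) * (-t) ^ 1 * u ^ 1)] := by
  unfold ChevalleyDatum.commWord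
  rw [show chevB2.commTerms 5 6 = [(7, 2, 1, 1)] from by decide]
  rfl

theorem xS_comm_5_6 (t u : K) :
    xS 6 u * xS 5 t = xS 5 t * xS 6 u * wordG xS (chevB2.commWord K 5 6 t u) := by
  apply Subtype.ext
  rw [Submonoid.coe_mul, Submonoid.coe_mul, Submonoid.coe_mul, coe_wordG, commWord_5_6, xS_coe, xS_coe]
  simp only [List.map, List.prod_cons, List.prod_nil, mul_one]
  rw [xM_comm_5_6 t u]

theorem commWord_5_7 (t u : K) :
    chevB2.commWord K 5 7 t u = [] := by
  unfold ChevalleyDatum.commWord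
  rw [show chevB2.commTerms 5 7 = [] from by decide]
  rfl

theorem xS_comm_5_7 (t u : K) :
    xS 7 u * xS 5 t = xS 5 t * xS 7 u * wordG xS (chevB2.commWord K 5 7 t u) := by
  apply Subtype.ext
  rw [Submonoid.coe_mul, Submonoid.coe_mul, Submonoid.coe_mul, coe_wordG, commWord_5_7, xS_coe, xS_coe]
  simp only [List.map, List.prod_cons, List.prod_nil, mul_one]
  rw [xM_comm_5_7 t u]

theorem commWord_6_0 (t u : K) :
    chevB2.commWord K 6 0 t u = [(2, ((1 : ℤ) : K) * (-t) ^ 1 * u ^ 1), (4, ((1 : ℤ) : K) * (-t) ^ 2 * u ^ 1)] := by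
  unfold ChevalleyDatum.commWord
  rw [show chevB2.commTerms 6 0 = [(2, 1, 1, 1), (4, 1, 2, 1)] from by decide]
  rfl

theorem xS_comm_6_0 (t u : K) :
    xS 0 u * xS 6 t = xS 6 t * xS 0 u * wordG xS (chevB2.commWord K 6 0 t u) := by
  apply Subtype.ext
  rw [Submonoid.coe_mul, Submonoid.coe_mul, Submonoid.coe_mul, coe_wordG, commWord_6_0, xS_coe, xS_coe]
  simp only [List.map, List.prod_cons, List.prod_nil, mul_one]
  rw [xM_comm_6_0 t u]
  simp only [mul_assoc]

theorem commWord_6_2 (t u : K) :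
    chevB2.commWord K 6 2 t u = [(4, ((2 : ℤ) : K) * (-t) ^ 1 * u ^ 1)] := by
  unfold ChevalleyDatum.commWord
  rw [show chevB2.commTerms 6 2 = [(4, 2, 1, 1)] from by decide]
  rfl

theorem xS_comm_6_2 (t u : K) :
    xS 2 u * xS 6 t = xS 6 t * xS 2 u * wordG xS (chevB2.commWord K 6 2 t u) := by
  apply Subtype.ext
  rw [Submonoid.coe_mul, Submonoid.coe_mul, Submonoid.coe_mul, coe_wordG, commWord_6_2, xS_coe, xS_coe]
  simp only [List.map, List.prod_cons, List.prod_nil, mul_one]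
  rw [xM_comm_6_2 t u]

theorem commWord_6_3 (t u : K) :
    chevB2.commWord K 6 3 t u = [(5, ((-1 : ℤ) : K) * (-t) ^ 1 * u ^ 1), (7, ((1 : ℤ) : K) * (-t) ^ 2 * u ^ 1)] := by
  unfold ChevalleyDatum.commWord
  rw [show chevB2.commTerms 6 3 = [(5, -1, 1, 1), (7, 1, 2, 1)] from by decide]
  rfl

theorem xS_comm_6_3 (t u : K) :
    xS 3 u * xS 6 t = xS 6 t * xS 3 u * wordG xS (chevB2.commWord K 6 3 t u) := by
  apply Subtype.ext
  rw [Submonoid.coe_mul, Submonoid.coe_mul, Submonoid.coe_mul, coe_wordG, commWord_6_3, xS_coe, xS_coe]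
  simp only [List.map, List.prod_cons, List.prod_nil, mul_one]
  rw [xM_comm_6_3 t u]
  simp only [mul_assoc]

theorem commWord_6_4 (t u : K) :
    chevB2.commWord K 6 4 t u = [] := by
  unfold ChevalleyDatum.commWord
  rw [show chevB2.commTerms 6 4 = [] from by decide]
  rfl

theorem xS_comm_6_4 (t u : K) :
    xS 4 u * xS 6 t = xS 6 t * xS 4 u * wordG xS (chevB2.commWord K 6 4 t u) := by
  apply Subtype.ext
  rw [Submonoid.coe_mul, Submonoid.coe_mul, Submonoid.coe_mul, coe_wordG, commWord_6_4, xS_coe, xS_coe]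
  simp only [List.map, List.prod_cons, List.prod_nil, mul_one]
  rw [xM_comm_6_4 t u]

theorem commWord_6_5 (t u : K) :
    chevB2.commWord K 6 5 t u = [(7, ((-2 : ℤ) : K) * (-t) ^ 1 * u ^ 1)] := by
  unfold ChevalleyDatum.commWord
  rw [show chevB2.commTerms 6 5 = [(7, -2, 1, 1)] from by decide]
  rfl

theorem xS_comm_6_5 (t u : K) :
    xS 5 u * xS 6 t = xS 6 t * xS 5 u * wordG xS (chevB2.commWord K 6 5 t u) := by
  apply Subtype.ext
  rw [Submonoid.coe_mul, Submonoid.coe_mul, Submonoid.coe_mul, coe_wordG, commWord_6_5, xS_coe, xS_coe]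
  simp only [List.map, List.prod_cons, List.prod_nil, mul_one]
  rw [xM_comm_6_5 t u]

theorem commWord_6_7 (t u : K) :
    chevB2.commWord K 6 7 t u = [] := by
  unfold ChevalleyDatum.commWord
  rw [show chevB2.commTerms 6 7 = [] from by decide]
  rfl

theorem xS_comm_6_7 (t u : K) :
    xS 7 u * xS 6 t = xS 6 t * xS 7 u * wordG xS (chevB2.commWord K 6 7 t u) := by
  apply Subtype.ext
  rw [Submonoid.coe_mul, Submonoid.coe_mul, Submonoid.coe_mul, coe_wordG, commWord_6_7, xS_coe, xS_coe]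
  simp only [List.map, List.prod_cons, List.prod_nil, mul_one]
  rw [xM_comm_6_7 t u]

theorem commWord_7_1 (t u : K) :
    chevB2.commWord K 7 1 t u = [(5, ((1 : ℤ) : K) * (-t) ^ 1 * u ^ 1), (3, ((1 : ℤ) : K) * (-t) ^ 1 * u ^ 2)] := by
  unfold ChevalleyDatum.commWord
  rw [show chevB2.commTerms 7 1 = [(5, 1, 1, 1), (3, 1, 1, 2)] from by decide]
  rfl

theorem xS_comm_7_1 (t u : K) :
    xS 1 u * xS 7 t = xS 7 t * xS 1 u * wordG xS (chevB2.commWord K 7 1 t u) := by
  apply Subtype.ext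
  rw [Submonoid.coe_mul, Submonoid.coe_mul, Submonoid.coe_mul, coe_wordG, commWord_7_1, xS_coe, xS_coe]
  simp only [List.map, List.prod_cons, List.prod_nil, mul_one]
  rw [xM_comm_7_1 t u]
  simp only [mul_assoc]

theorem commWord_7_2 (t u : K) :
    chevB2.commWord K 7 2 t u = [(6, ((-1 : ℤ) : K) * (-t) ^ 1 * u ^ 1), (4, ((-1 : ℤ) : K) * (-t) ^ 1 * u ^ 2)] := by
  unfold ChevalleyDatum.commWord
  rw [show chevB2.commTerms 7 2 = [(6, -1, 1, 1), (4, -1, 1, 2)] from by decide]
  rfl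

theorem xS_comm_7_2 (t u : K) :
    xS 2 u * xS 7 t = xS 7 t * xS 2 u * wordG xS (chevB2.commWord K 7 2 t u) := by
  apply Subtype.ext
  rw [Submonoid.coe_mul, Submonoid.coe_mul, Submonoid.coe_mul, coe_wordG, commWord_7_2, xS_coe, xS_coe]
  simp only [List.map, List.prod_cons, List.prod_nil, mul_one]
  rw [xM_comm_7_2 t u]
  simp only [mul_assoc]

theorem commWord_7_3 (t u : K) :
    chevB2.commWord K 7 3 t u = [] := by
  unfold ChevalleyDatum.commWord
  rw [show chevB2.commTerms 7 3 = [] from by decide]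
  rfl

theorem xS_comm_7_3 (t u : K) :
    xS 3 u * xS 7 t = xS 7 t * xS 3 u * wordG xS (chevB2.commWord K 7 3 t u) := by
  apply Subtype.ext
  rw [Submonoid.coe_mul, Submonoid.coe_mul, Submonoid.coe_mul, coe_wordG, commWord_7_3, xS_coe, xS_coe]
  simp only [List.map, List.prod_cons, List.prod_nil, mul_one]
  rw [xM_comm_7_3 t u]

theorem commWord_7_4 (t u : K) :
    chevB2.commWord K 7 4 t u = [] := by
  unfold ChevalleyDatum.commWord
  rw [show chevB2.commTerms 7 4 = [] from by decide]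
  rfl

theorem xS_comm_7_4 (t u : K) :
    xS 4 u * xS 7 t = xS 7 t * xS 4 u * wordG xS (chevB2.commWord K 7 4 t u) := by
  apply Subtype.ext
  rw [Submonoid.coe_mul, Submonoid.coe_mul, Submonoid.coe_mul, coe_wordG, commWord_7_4, xS_coe, xS_coe]
  simp only [List.map, List.prod_cons, List.prod_nil, mul_one]
  rw [xM_comm_7_4 t u]

theorem commWord_7_5 (t u : K) :
    chevB2.commWord K 7 5 t u = [] := by
  unfold ChevalleyDatum.commWord
  rw [show chevB2.commTerms 7 5 = [] from by decide]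
  rfl

theorem xS_comm_7_5 (t u : K) :
    xS 5 u * xS 7 t = xS 7 t * xS 5 u * wordG xS (chevB2.commWord K 7 5 t u) := by
  apply Subtype.ext
  rw [Submonoid.coe_mul, Submonoid.coe_mul, Submonoid.coe_mul, coe_wordG, commWord_7_5, xS_coe, xS_coe]
  simp only [List.map, List.prod_cons, List.prod_nil, mul_one]
  rw [xM_comm_7_5 t u]

theorem commWord_7_6 (t u : K) :
    chevB2.commWord K 7 6 t u = [] := by
  unfold ChevalleyDatum.commWord
  rw [show chevB2.commTerms 7 6 = [] from by decide]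
  rfl

theorem xS_comm_7_6 (t u : K) :
    xS 6 u * xS 7 t = xS 7 t * xS 6 u * wordG xS (chevB2.commWord K 7 6 t u) := by
  apply Subtype.ext
  rw [Submonoid.coe_mul, Submonoid.coe_mul, Submonoid.coe_mul, coe_wordG, commWord_7_6, xS_coe, xS_coe]
  simp only [List.map, List.prod_cons, List.prod_nil, mul_one]
  rw [xM_comm_7_6 t u]

theorem xS_comm (r s : ℕ) (hr : r < 8) (hs : s < 8) (h1 : s ≠ r) (h2 : s ≠ chevB2.neg r) (t u : K) :
    xS s u * xS r t = xS r t * xS s u * wordG xS (chevB2.commWord K r s t u) := by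
  interval_cases r <;> interval_cases s
  · exact absurd rfl h1
  · exact xS_comm_0_1 t u
  · exact xS_comm_0_2 t u
  · exact xS_comm_0_3 t u
  · exact xS_comm_0_4 t u
  · exact xS_comm_0_5 t u
  · exact xS_comm_0_6 t u
  · exact absurd (by decide) h2
  · exact xS_comm_1_0 t u
  · exact absurd rfl h1
  · exact xS_comm_1_2 t u
  · exact xS_comm_1_3 t u
  · exact xS_comm_1_4 t u
  · exact xS_comm_1_5 t u
  · exact absurd (by decide) h2
  · exact xS_comm_1_7 t u
  · exact xS_comm_2_0 t u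
  · exact xS_comm_2_1 t u
  · exact absurd rfl h1
  · exact xS_comm_2_3 t u
  · exact xS_comm_2_4 t u
  · exact absurd (by decide) h2
  · exact xS_comm_2_6 t u
  · exact xS_comm_2_7 t u
  · exact xS_comm_3_0 t u
  · exact xS_comm_3_1 t u
  · exact xS_comm_3_2 t u
  · exact absurd rfl h1
  · exact absurd (by decide) h2
  · exact xS_comm_3_5 t u
  · exact xS_comm_3_6 t u
  · exact xS_comm_3_7 t u
  · exact xS_comm_4_0 t u
  · exact xS_comm_4_1 t u
  · exact xS_comm_4_2 t u
  · exact absurd (by decide) h2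
  · exact absurd rfl h1
  · exact xS_comm_4_5 t u
  · exact xS_comm_4_6 t u
  · exact xS_comm_4_7 t u
  · exact xS_comm_5_0 t u
  · exact xS_comm_5_1 t u
  · exact absurd (by decide) h2
  · exact xS_comm_5_3 t u
  · exact xS_comm_5_4 t u
  · exact absurd rfl h1
  · exact xS_comm_5_6 t u
  · exact xS_comm_5_7 t u
  · exact xS_comm_6_0 t u
  · exact absurd (by decide) h2
  · exact xS_comm_6_2 t u
  · exact xS_comm_6_3 t u
  · exact xS_comm_6_4 t u
  · exact xS_comm_6_5 t u
  · exact absurd rfl h1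
  · exact xS_comm_6_7 t u
  · exact absurd (by decide) h2
  · exact xS_comm_7_1 t u
  · exact xS_comm_7_2 t u
  · exact xS_comm_7_3 t u
  · exact xS_comm_7_4 t u
  · exact xS_comm_7_5 t u
  · exact xS_comm_7_6 t u
  · exact absurd rfl h1

end Cfsg.Agent.Helper40.StCB2
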