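import Mathlib
import Cfsg.Agent.Helper40.StCB2e
import Cfsg.Agent.Helper40.HzFinal
import Cfsg.Agent.Helper96.StC.Basic

/-!
# S2092, part II, `m = 2`: central extensions of `Sp_4(K)`, `|K| ≥ 3`, carry a lifted Steinberg family

Bridge to `Cfsg.Agent.Helper40.Hz.cover_lift_b2_d4` (the group presented by Steinberg's relations of type `B₂` over a
field with more than two elements is centrally closed): the root elements of `Sp_4(K)` satisfy the relations of
`chevB2` (files `StCB2a`-`StCB2e`), which gives a homomorphism from the presented group onto `Sp_4(K)`; it lifts to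
every central extension, and the images of the generators, renamed, satisfy the relations `SpRel`.
-/

set_option autoImplicit false
set_option linter.unusedSectionVars false

namespace Cfsg.Agent.Helper40.StCB2

open Cfsg Cfsg.Lie Cfsg.Agent.Helper18 Cfsg.Agent.Helper96.StC Cfsg.Agent.Helper40.St Matrix
  Cfsg.Agent.Helper40.ChevAdd Cfsg.Agent.Helper40.Sl Cfsg.Agent.Helper29.StCM

universe u v
variable {K : Type u} [Field K]

/-- the root elements of `Sp_4(K)` satisfy Steinberg's relations of type `B₂` -/
theorem rels_xS : Rels chevB2 (xS (K := K)) where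
  add r _ t u := by
    unfold xS
    rw [mul_add]
    exact (spT_spRel (K := K) (m := 2)).add _ _ (Pn_ne_Qn r) _ _
  comm r s hr hs h1 h2 t u := xS_comm r s hr hs h1 h2 t u

/-! ### the translation table from pairs of indices to roots of `chevB2` -/

/-- the code of an index -/
def code : I2 → ℕ
  | Sum.inl i => i.val
  | Sum.inr i => 2 + i.val

/-- the root of `chevB2` with the name `(p, q)` -/
def Rn (p q : I2) : ℕ :=
  ((([[0, 5, 7, 6], [2, 0, 6, 4], [0, 1, 0, 2], [1, 3, 5, 0]] : List (List ℕ)).getD (code p) []).getD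
    (code q) 0)

/-- the sign of the name `(p, q)` -/
def sgZ (p q : I2) : ℤ :=
  ((([[0, 1, 1, 1], [1, 0, 1, -1], [1, 1, 0, -1], [1, -1, -1, 0]] : List (List ℤ)).getD (code p) []).getD
    (code q) 0)

/-- the sign `ε_p ε_q` as an integer -/
def epsZ (p q : I2) : ℤ := if p.isLeft = q.isLeft then 1 else -1

theorem eps_eq_cast (p q : I2) : eps K p q = ((epsZ p q : ℤ) : K) := by
  unfold eps epsZ
  split_ifs <;> simp

theorem Rn_lt : ∀ p q : I2, Rn p q < 8 := by decide

theorem sgZ_sq : ∀ p q : I2, p ≠ q → sgZ p q * sgZ p q = 1 := by decide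

theorem sgZ_sq_cast {p q : I2} (h : p ≠ q) : ((sgZ p q : ℤ) : K) * ((sgZ p q : ℤ) : K) = 1 := by
  rw [← Int.cast_mul, sgZ_sq p q h, Int.cast_one]

/-- the root elements `spM p q t` in terms of the `xM r t` -/
theorem spM_eq_xM : ∀ p q : I2, p ≠ q → ∀ t : K, spM p q t = xM (Rn p q) ((sgZ p q : K) * t) := by
  intro p q hpq t
  rcases p with p | p <;> rcases q with q | q <;> fin_cases p <;> fin_cases q <;>
    first
    | exact absurd rfl hpq
    | (ext i j
       rcases i with i | i <;> rcases j with j | j <;> fin_cases i <;> fin_cases j <;>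
        simp [xM, spM, Pn, Qn, sgn, Rn, sgZ, code, bar, eps, Matrix.single_apply, Matrix.one_apply])

theorem spT_eq_xS {p q : I2} (hpq : p ≠ q) (t : K) : spT p q t = xS (Rn p q) ((sgZ p q : K) * t) := by
  apply Subtype.ext
  rw [spT_coe hpq, xS_coe, spM_eq_xM p q hpq]

end Cfsg.Agent.Helper40.StCB2
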