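import Mathlib
import Cfsg.Agent.Helper40.StCB2f

/-!
# S2092, part II, `m = 2`: from Steinberg's relations of `chevB2` to the relations `SpRel`
-/

set_option autoImplicit false
set_option linter.unusedSectionVars false

namespace Cfsg.Agent.Helper40.StCB2

open Cfsg Cfsg.Lie Cfsg.Agent.Helper18 Cfsg.Agent.Helper96.StC Cfsg.Agent.Helper40.St Matrix
  Cfsg.Agent.Helper40.ChevAdd Cfsg.Agent.Helper40.Sl Cfsg.Agent.Helper29.StCM

universe u v
variable {K : Type u} [Field K] {E : Type v} [Group E] {y : ℕ → K → E}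

theorem wordG_map {Γ Γ' : Type*} [Group Γ] [Group Γ'] (f : Γ →* Γ') (x : ℕ → K → Γ)
    (w : List (ℕ × K)) : f (wordG x w) = wordG (fun r t => f (x r t)) w := by
  unfold wordG
  rw [map_list_prod, List.map_map]
  rfl

/-- the image of a family satisfying (R1), (R2) under a homomorphism -/
theorem Rels.map' {Γ Γ' : Type*} [Group Γ] [Group Γ'] (f : Γ →* Γ') {x : ℕ → K → Γ}
    (R : Rels chevB2 x) : Rels chevB2 (fun r t => f (x r t)) where
  add r hr t u := by
    show f (x r (t + u)) = f (x r t) * f (x r u)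
    rw [R.add r hr, map_mul]
  comm r s hr hs h1 h2 t u := by
    show f (x s u) * f (x r t) = f (x r t) * f (x s u) * wordG _ _
    rw [← wordG_map, ← map_mul, ← map_mul, ← map_mul, R.comm r s hr hs h1 h2]

theorem sym_table : ∀ p q : I2, p ≠ q → q ≠ bar p →
    Rn p q = Rn (bar q) (bar p) ∧ sgZ p q = -(epsZ p q * sgZ (bar q) (bar p)) := by decide

set_option synthInstance.maxSize 2048 in
set_option synthInstance.maxHeartbeats 400000 in
theorem comm_table : ∀ p q r s : I2, p ≠ q → r ≠ s → q ≠ r → q ≠ bar s → p ≠ bar r → p ≠ s →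
    Rn p q = Rn r s ∨ (Rn r s ≠ Rn p q ∧ Rn r s ≠ chevB2.neg (Rn p q) ∧
      chevB2.commTerms (Rn p q) (Rn r s) = []) := by decide

theorem mul_table : ∀ p q s : I2, p ≠ q → q ≠ s → p ≠ s → p ≠ bar q → q ≠ bar s → p ≠ bar s →
    False := by decide

theorem r5_table : ∀ p q : I2, p ≠ q → p ≠ bar q →
    Rn p q ≠ Rn q (bar p) ∧ Rn p q ≠ chevB2.neg (Rn q (bar p)) ∧
    chevB2.commTerms (Rn q (bar p)) (Rn p q)
      = [(Rn p (bar p), -2 * sgZ p (bar p) * sgZ q (bar p) * sgZ p q, 1, 1)] := by decide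

theorem r6_table : ∀ p q : I2, p ≠ q → p ≠ bar q →
    Rn p (bar p) ≠ Rn (bar p) q ∧ Rn p (bar p) ≠ chevB2.neg (Rn (bar p) q) ∧
    chevB2.commTerms (Rn (bar p) q) (Rn p (bar p))
      = [(Rn p q, -(sgZ p (bar p) * sgZ (bar p) q * sgZ p q), 1, 1),
         (Rn (bar q) q, -(sgZ p (bar p) * sgZ (bar q) q * epsZ p q), 2, 1)] := by decide

section

variable (R : Rels chevB2 y)
include R

/-- the commutator formula in commutator form -/
theorem comm_form {A B : ℕ} (hA : A < 8) (hB : B < 8) (h1 : A ≠ B) (h2 : A ≠ chevB2.neg B)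
    (a b : K) :
    y A a * y B b * (y A a)⁻¹ * (y B b)⁻¹ = wordG y (chevB2.commWord K B A (-b) (-a)) := by
  have h := R.comm B A hB hA h1 h2 (-b) (-a)
  rw [R.X_neg A hA, R.X_neg B hB] at h
  have h' : wordG y (chevB2.commWord K B A (-b) (-a))
      = y A a * y B b * ((y A a)⁻¹ * (y B b)⁻¹) := by
    rw [h]
    group
  rw [h']
  group

/-- the lifted family -/
def ZB (y : ℕ → K → E) (p q : I2) (t : K) : E := y (Rn p q) ((sgZ p q : K) * t)

theorem ZB_spRel : SpRel (ZB y) where
  sym p q hpq hq t := by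
    obtain ⟨h1, h2⟩ := sym_table p q hpq hq
    unfold ZB
    rw [← h1, h2, eps_eq_cast]
    congr 1
    push_cast
    ring
  add p q _ t u := by
    unfold ZB
    rw [mul_add]
    exact R.add _ (Rn_lt p q) _ _
  comm p q r s hpq hrs h1 h2 h3 h4 t u := by
    unfold ZB
    rcases comm_table p q r s hpq hrs h1 h2 h3 h4 with h | ⟨ha, hb, hc⟩
    · rw [← h, ← R.add _ (Rn_lt p q), ← R.add _ (Rn_lt p q), add_comm]
    · have := R.comm (Rn p q) (Rn r s) (Rn_lt p q) (Rn_lt r s) ha hb ((sgZ p q : K) * t)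
        ((sgZ r s : K) * u)
      have hw : chevB2.commWord K (Rn p q) (Rn r s) ((sgZ p q : K) * t) ((sgZ r s : K) * u) = [] := by
        unfold ChevalleyDatum.commWord
        rw [hc]
        rfl
      rw [hw] at this
      simp only [wordG, List.map_nil, List.prod_nil, mul_one] at this
      exact this.symm
  mul p q s h1 h2 h3 h4 h5 h6 _ _ := (mul_table p q s h1 h2 h3 h4 h5 h6).elim
  r5 p q hpq hpq' t u := by
    obtain ⟨ha, hb, hc⟩ := r5_table p q hpq hpq'
    unfold ZB
    rw [comm_form R (Rn_lt p q) (Rn_lt q (bar p)) ha hb]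
    unfold ChevalleyDatum.commWord
    rw [hc]
    simp only [wordG, List.map_cons, List.map_nil, List.prod_cons, List.prod_nil, mul_one]
    congr 1
    have hq : q ≠ bar p := fun e => hpq' (by rw [e, bar_bar])
    have e1 := sgZ_sq_cast (K := K) hpq
    have e2 := sgZ_sq_cast (K := K) hq
    push_cast
    linear_combination (2 * ((sgZ p (bar p) : ℤ) : K) * t * u * ((sgZ q (bar p) : ℤ) : K)
      * ((sgZ q (bar p) : ℤ) : K)) * e1 + (2 * ((sgZ p (bar p) : ℤ) : K) * t * u) * e2
  r6 p q hpq hpq' t u := by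
    obtain ⟨ha, hb, hc⟩ := r6_table p q hpq hpq'
    unfold ZB
    rw [comm_form R (Rn_lt p (bar p)) (Rn_lt (bar p) q) ha hb]
    unfold ChevalleyDatum.commWord
    rw [hc]
    simp only [wordG, List.map_cons, List.map_nil, List.prod_cons, List.prod_nil, mul_one]
    have hp : p ≠ bar p := (bar_ne p).symm
    have hq : bar p ≠ q := fun e => hpq' (by rw [← e, bar_bar])
    have e1 := sgZ_sq_cast (K := K) hp
    have e2 := sgZ_sq_cast (K := K) hq
    congr 2
    · push_cast
      linear_combination ((((sgZ p q : ℤ) : K)) * t * u * ((sgZ (bar p) q : ℤ) : K)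
        * ((sgZ (bar p) q : ℤ) : K)) * e1 + ((((sgZ p q : ℤ) : K)) * t * u) * e2
    · rw [eps_eq_cast]
      push_cast
      linear_combination ((((sgZ (bar q) q : ℤ) : K)) * ((epsZ p q : ℤ) : K) * t * u ^ 2
        * ((sgZ (bar p) q : ℤ) : K) * ((sgZ (bar p) q : ℤ) : K)) * e1
        + ((((sgZ (bar q) q : ℤ) : K)) * ((epsZ p q : ℤ) : K) * t * u ^ 2) * e2

end

end Cfsg.Agent.Helper40.StCB2
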