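import Mathlib
import Cfsg.Agent.Helper40.StCB2g

/-!
# S2092, part II, `m = 2`: central extensions of `Sp_4(K)`, `|K| ≠ 2`, carry a lifted Steinberg family
-/

set_option autoImplicit false
set_option linter.unusedSectionVars false

namespace Cfsg.Agent.Helper40.StCB2

open Cfsg Cfsg.Lie Cfsg.Agent.Helper18 Cfsg.Agent.Helper96.StC Cfsg.Agent.Helper40.St Matrix
  Cfsg.Agent.Helper40.ChevAdd Cfsg.Agent.Helper40.Sl Cfsg.Agent.Helper29.StCM

universe u v
variable {K : Type u} [Field K] [Fintype K]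

/-- **`m = 2`**: every central extension of `Sp_4(K)`, `|K| ≠ 2`, carries a family satisfying the Steinberg relations
of type `C₂` and lifting the root elements. -/
theorem exists_lift_two (hK : Fintype.card K ≠ 2) {E : Type v} [Group E]
    (π : E →* symplecticGroup (Fin 2) K) (hπ : Function.Surjective π)
    (hc : π.ker ≤ Subgroup.center E) :
    ∃ Z : Fin 2 ⊕ Fin 2 → Fin 2 ⊕ Fin 2 → K → E, SpRel Z ∧
      ∀ p q, p ≠ q → ∀ t, π (Z p q t) = spT p q t := by
  have hD : chevB2 ∈ [chevG2, chevB2, chevD4, chevF4, chevE6, chevE7, chevE8] := by simp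
  have hadd := ChevAdd.addOK_of_mem hD
  -- the presented group and its generators
  have hG := lift_rels (K := K) chevB2 hadd hD
  have hGAB : ∀ g ∈ chevB2.steinbergRelsAB K, FreeGroup.lift (fGL chevB2 hadd) g = 1 :=
    fun g hg => hG g (relsAB_subset chevB2 hg)
  have O := over_presented hadd (chevB2.steinbergRelsAB K) (fun _ h => h) hGAB
  have R0 : Rels chevB2 (fun r t => PresentedGroup.mk (chevB2.steinbergRelsAB K) (chevB2.stX r t)) :=
    O.toRels
  -- the homomorphism onto `Sp_4(K)`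
  have hY := lift_relsAB_of_rels' chevB2 hD (xS (K := K)) rels_xS
  let σ : chevB2.SteinbergCover K →* symplecticGroup (Fin 2) K := PresentedGroup.toGroup hY
  have hσ : ∀ r, r < 8 → ∀ t : K,
      σ (PresentedGroup.mk (chevB2.steinbergRelsAB K) (chevB2.stX r t)) = xS r t := by
    intro r hr t
    have hr' : r < chevB2.nroots := hr
    have h1 : chevB2.stX r t = FreeGroup.of ((⟨r, hr'⟩ : Fin chevB2.nroots), t) := by
      unfold ChevalleyDatum.stX
      rw [dif_pos hr']
    rw [h1]
    exact PresentedGroup.toGroup.of (h := hY) (x := ((⟨r, hr'⟩ : Fin chevB2.nroots), t))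
  -- the lift
  obtain ⟨τ, hτ⟩ := Cfsg.Agent.Helper40.Hz.cover_lift_b2_d4 chevB2 (Or.inl rfl) hK π hπ hc σ
  let y : ℕ → K → E := fun r t =>
    τ (PresentedGroup.mk (chevB2.steinbergRelsAB K) (chevB2.stX r t))
  have Ry : Rels chevB2 y := Rels.map' τ R0
  refine ⟨ZB y, ZB_spRel Ry, fun p q hpq t => ?_⟩
  have h2 : π (y (Rn p q) ((sgZ p q : K) * t)) = xS (Rn p q) ((sgZ p q : K) * t) := by
    have := DFunLike.congr_fun hτ
      (PresentedGroup.mk (chevB2.steinbergRelsAB K) (chevB2.stX (Rn p q) ((sgZ p q : K) * t)))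
    rw [MonoidHom.comp_apply, hσ _ (Rn_lt p q)] at this
    exact this
  show π (y (Rn p q) ((sgZ p q : K) * t)) = spT p q t
  rw [h2, spT_eq_xS hpq]

end Cfsg.Agent.Helper40.StCB2
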