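import Mathlib
import Cfsg.Agent.Helper40.StCLiftDefs
import Cfsg.Agent.Helper40.StCB2h
import Cfsg.Agent.Helper12.StCCL1
import Cfsg.Agent.Helper12.StCCL4
import Cfsg.Agent.Helper41.StCSH1
import Cfsg.Agent.Helper29.StCCL3
import Cfsg.Agent.Helper38.StCASMFinal
import Cfsg.Agent.Helper96.StC.Mono

/-!
# Central extensions of `Sp_{2m}(K)` carry a lifted Steinberg family (S2092, part II, final)

* `exists_lift_of_three`: the general theorem for a group with a Steinberg family of type `C` on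
  at least three absolute values (assembly of the pieces (CL1)-(CL4), (SH), (LG), (ASM));
* `sp_lift`: every central extension `π : E →* Sp_{2m}(K)` (`K` a finite field) carries a family
  `Z` satisfying the relations of type `C_m` and lifting the root elements `spT p q t`, as soon as
  `m ≥ 4`, or `m = 3` and `|K| ≥ 3`, or `m = 2` and `|K| ≥ 3`.  These are exactly the data
  `Z`, `hZ`, `hpZ` of `Cfsg.Agent.Helper96.StC.exists_section`.
-/

set_option autoImplicit false

namespace Cfsg.Agent.Helper40.StCLiftFinal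

open scoped commutatorElement
open Cfsg.Agent.Helper96.StN Cfsg.Agent.Helper96.StC Cfsg.Agent.Helper96.StLift
  Cfsg.Agent.Helper40.StCLift Cfsg.Agent.Helper29.StCM

universe u v v' w

section general

variable {K : Type u} [Field K] {D : Type v} [Group D] {E : Type v'} [Group E] {π : E →* D}
  {ι : Type w} [DecidableEq ι] {X : ι ⊕ ι → ι ⊕ ι → K → D}

theorem map_Zc (hπ : Function.Surjective π) (hX : SpRel X)
    (h3 : ∀ p q : ι ⊕ ι, ∃ k, AbsNe k p ∧ AbsNe k q) {p q : ι ⊕ ι} (hpq : p ≠ q) (t : K) :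
    π (Zc hπ X h3 p q t) = X p q t := by
  unfold Zc
  by_cases h : q = bar p
  · rw [if_pos h, Cfsg.Agent.Helper33.StCLG5.map_Zl hπ hX h3, h]
  · rw [if_neg h, Cfsg.Agent.Helper14.StCSH35.map_Zs hπ hX h3 (absNe_iff.mpr ⟨hpq, h⟩)]

/-- the general theorem for at least three absolute values -/
theorem exists_lift_of_three (hπ : Function.Surjective π) (hc : π.ker ≤ Subgroup.center E)
    (hX : SpRel X) (hM : MonoData X (reflPerm (ι := ι)) (cw (K := K)))
    (h3 : ∀ p q : ι ⊕ ι, ∃ k, AbsNe k p ∧ AbsNe k q)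
    (hcase : (∀ p q r : ι ⊕ ι, ∃ k, AbsNe k p ∧ AbsNe k q ∧ AbsNe k r) ∨
      ∃ a : K, a ≠ 0 ∧ a ≠ 1) :
    ∃ Z : ι ⊕ ι → ι ⊕ ι → K → E, SpRel Z ∧ ∀ p q, p ≠ q → ∀ t, π (Z p q t) = X p q t := by
  have hfar : CFar hπ X := by
    rcases hcase with h4 | hK
    · exact Cfsg.Agent.Helper41.StCSH1.cFar_of_fourth hπ hc hX h4
    · exact Cfsg.Agent.Helper29.StCCL3.cFar_of_torus hπ hc hX hM hK
  have hlong := Cfsg.Agent.Helper12.StCCL1.cLong_of_cFar hπ hc hX h3 hfar
  have hCL := Cfsg.Agent.Helper12.StCCL4.clc_of_cLong hπ hc hX h3 hlong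
  exact ⟨Zc hπ X h3, Cfsg.Agent.Helper38.StCASMFinal.Zc_spRel hπ hc hX hM hCL h3,
    fun p q hpq t => map_Zc hπ hX h3 hpq t⟩

end general

section fin

variable {m : ℕ}

/-- the absolute value of an index -/
def absIdx : Fin m ⊕ Fin m → Fin m := Sum.elim id id

theorem absNe_inl_of_ne {i : Fin m} {p : Fin m ⊕ Fin m} (h : i ≠ absIdx p) :
    AbsNe (Sum.inl i : Fin m ⊕ Fin m) p := by
  rcases p with p | p
  · refine ⟨fun e => h (Sum.inl_injective e), ?_⟩
    rw [bar_inl]
    exact Sum.inl_ne_inr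
  · refine ⟨Sum.inl_ne_inr, ?_⟩
    rw [bar_inr]
    exact fun e => h (Sum.inl_injective e)

theorem exists_absNe_two (hm : 3 ≤ m) (p q : Fin m ⊕ Fin m) : ∃ k, AbsNe k p ∧ AbsNe k q := by
  classical
  have hcard : ({absIdx p, absIdx q} : Finset (Fin m)).card < (Finset.univ : Finset (Fin m)).card := by
    rw [Finset.card_univ, Fintype.card_fin]
    exact lt_of_le_of_lt (Finset.card_le_two) (by omega)
  obtain ⟨i, -, hi⟩ := Finset.exists_mem_notMem_of_card_lt_card hcard
  simp only [Finset.mem_insert, Finset.mem_singleton, not_or] at hi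
  exact ⟨Sum.inl i, absNe_inl_of_ne hi.1, absNe_inl_of_ne hi.2⟩

theorem exists_absNe_three (hm : 4 ≤ m) (p q r : Fin m ⊕ Fin m) :
    ∃ k, AbsNe k p ∧ AbsNe k q ∧ AbsNe k r := by
  classical
  have hcard : ({absIdx p, absIdx q, absIdx r} : Finset (Fin m)).card <
      (Finset.univ : Finset (Fin m)).card := by
    rw [Finset.card_univ, Fintype.card_fin]
    exact lt_of_le_of_lt (Finset.card_le_three) (by omega)
  obtain ⟨i, -, hi⟩ := Finset.exists_mem_notMem_of_card_lt_card hcard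
  simp only [Finset.mem_insert, Finset.mem_singleton, not_or] at hi
  exact ⟨Sum.inl i, absNe_inl_of_ne hi.1, absNe_inl_of_ne hi.2.1, absNe_inl_of_ne hi.2.2⟩

theorem exists_ne_zero_ne_one {K : Type u} [Field K] [Fintype K] (hK : 3 ≤ Fintype.card K) :
    ∃ a : K, a ≠ 0 ∧ a ≠ 1 := by
  classical
  have hcard : ({0, 1} : Finset K).card < (Finset.univ : Finset K).card := by
    rw [Finset.card_univ]
    exact lt_of_le_of_lt (Finset.card_le_two) (by omega)
  obtain ⟨a, -, ha⟩ := Finset.exists_mem_notMem_of_card_lt_card hcard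
  simp only [Finset.mem_insert, Finset.mem_singleton, not_or] at ha
  exact ⟨a, ha.1, ha.2⟩

/-- **Central extensions of `Sp_{2m}(K)` carry a lifted Steinberg family** (`K` a finite field;
`m ≥ 4`, or `m ∈ {2, 3}` and `|K| ≥ 3`). -/
theorem sp_lift {K : Type u} [Field K] [Fintype K] {E : Type v} [Group E]
    (hcase : 4 ≤ m ∨ (m = 3 ∧ 3 ≤ Fintype.card K) ∨ (m = 2 ∧ 3 ≤ Fintype.card K))
    (π : E →* Matrix.symplecticGroup (Fin m) K) (hπ : Function.Surjective π)
    (hc : π.ker ≤ Subgroup.center E) :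
    ∃ Z : Fin m ⊕ Fin m → Fin m ⊕ Fin m → K → E, SpRel Z ∧
      ∀ p q, p ≠ q → ∀ t, π (Z p q t) = spT p q t := by
  rcases hcase with h4 | ⟨rfl, hK⟩ | ⟨rfl, hK⟩
  · have hm3 : 3 ≤ m := by omega
    have hm2 : 2 ≤ m := by omega
    exact exists_lift_of_three (X := fun (p q : Fin m ⊕ Fin m) (t : K) => spT p q t) hπ hc
      spT_spRel (monoData spT_spRel (exists_other hm2)) (exists_absNe_two hm3)
      (Or.inl (exists_absNe_three h4))
  · exact exists_lift_of_three (X := fun (p q : Fin 3 ⊕ Fin 3) (t : K) => spT p q t) hπ hc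
      spT_spRel (monoData spT_spRel (exists_other (le_refl 2 |>.trans (by norm_num))))
      (exists_absNe_two (le_refl 3)) (Or.inr (exists_ne_zero_ne_one hK))
  · exact Cfsg.Agent.Helper40.StCB2.exists_lift_two (by omega) π hπ hc

end fin

end Cfsg.Agent.Helper40.StCLiftFinal
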