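import Cfsg.Agent.Helper40.StMono
import Cfsg.Agent.Helper18.UnipMono
import Cfsg.Agent.Helper18.Borel
import Cfsg.Agent.S1024

/-!
Helper40: a group generated by root elements satisfying Steinberg's relations (A), (B) and lying over the Chevalley
group (of one of the seven tabulated types) is a central extension of its image.
-/

set_option autoImplicit false
set_option linter.unusedSectionVars false

namespace Cfsg.Agent.Helper40.St

open Cfsg Cfsg.Lie Cfsg.Agent.Helper18 Cfsg.Agent.Helper40.ChevAdd Cfsg.Agent.Helper40.UProd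
  Cfsg.Agent.Helper40.SL2Hom Cfsg.Agent.Helper40.SL2Chev Cfsg.Agent.Helper40.NMono

section
variable {K : Type*} [Field K] {D : ChevalleyDatum} {Γ : Type*} [Group Γ] {X : ℕ → K → Γ}
  {hadd : ChevAdd.addOK D = true} {π : Γ →* GL D.Idx K}

theorem π_UG_pos (hD : D ∈ [chevG2, chevB2, chevD4, chevF4, chevE6, chevE7, chevE8]) (O : Over D hadd X π)
    {φ : ℕ → ℤ} (S : Std D φ) (g : Γ) (hg : g ∈ UG D X φ) : π g ∈ D.posUnipotent K := by
  have : UG D X φ ≤ (D.posUnipotent K).comap π := by
    unfold UG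
    rw [Subgroup.closure_le]
    rintro x ⟨a, ha, hφ, t, rfl⟩
    rw [SetLike.mem_coe, Subgroup.mem_comap, O.π_X a ha]
    apply Subgroup.subset_closure
    exact ⟨a, t, (isPosRoot_iff D _ (posOK_of_mem D hD) a).mpr ⟨(S.pos a ha).mp hφ, ha⟩, coe_xGL D hadd a t⟩
  exact this hg

theorem π_UG_neg (hD : D ∈ [chevG2, chevB2, chevD4, chevF4, chevE6, chevE7, chevE8]) (O : Over D hadd X π)
    {φ : ℕ → ℤ} (S : Std D φ) (g : Γ) (hg : g ∈ UG D X (fun u => - φ u)) : π g ∈ D.negUnipotent K := by
  have : UG D X (fun u => - φ u) ≤ (D.negUnipotent K).comap π := by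
    unfold UG
    rw [Subgroup.closure_le]
    rintro x ⟨a, ha, hφ, t, rfl⟩
    rw [SetLike.mem_coe, Subgroup.mem_comap, O.π_X a ha]
    apply Subgroup.subset_closure
    refine ⟨a, t, (isNegRoot_iff D _ (posOK_of_mem D hD) a).mpr ⟨?_, ha⟩, coe_xGL D hadd a t⟩
    by_contra hge
    have := (S.pos a ha).mpr (not_lt.mp hge)
    have hφ' : 0 < - φ a := hφ
    omega
  exact this hg

theorem π_NG (hD : D ∈ [chevG2, chevB2, chevD4, chevF4, chevE6, chevE7, chevE8]) (O : Over D hadd X π)
    {φ : ℕ → ℤ} (S : Std D φ) (g : Γ) (hg : g ∈ NG D X) : π g ∈ D.monomialSubgroup K := by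
  have : NG D X ≤ (D.monomialSubgroup K).comap π := by
    unfold NG
    rw [Subgroup.closure_le]
    rintro x ⟨i, hi, t, ht, rfl⟩
    have hp := S.simple_lt i hi
    rw [SetLike.mem_coe, Subgroup.mem_comap, π_nbar O _ hp (S.neg_lt _ hp)]
    have e0 : nG D hadd (D.simple i) t = hG D hadd (D.simple i) t * nG D hadd (D.simple i) 1 := by
      unfold hG h nG
      rw [inv_mul_cancel_right]
    rw [e0]
    unfold ChevalleyDatum.monomialSubgroup
    apply Subgroup.mul_mem
    · apply Subgroup.mem_sup_left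
      apply Subgroup.subset_closure
      exact ⟨D.simple i, t, hp, ht, coe_hG D hadd _ t⟩
    · apply Subgroup.mem_sup_right
      apply Subgroup.subset_closure
      exact ⟨D.simple i, hp, coe_nG D hadd _ 1⟩
  exact this hg

theorem pos_inf_neg (hD : D ∈ [chevG2, chevB2, chevD4, chevF4, chevE6, chevE7, chevE8]) :
    D.posUnipotent K ⊓ D.negUnipotent K = ⊥ := by
  have _ := hD
  rw [eq_bot_iff, ← lowerUni_inf_upper (F := K) D (hlfOf D)]
  exact inf_le_inf (posUnipotent_le D hD) ((negUnipotent_le D hD).trans (lowerGL_one_le_zero _))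

/-- the kernel of `π` is central -/
theorem ker_le_center (hD : D ∈ [chevG2, chevB2, chevD4, chevF4, chevE6, chevE7, chevE8]) (O : Over D hadd X π)
    (gen : Subgroup.closure {g | ∃ r < D.nroots, ∃ t : K, g = X r t} = ⊤) :
    π.ker ≤ Subgroup.center Γ := by
  obtain ⟨φ, S⟩ := exists_std D hD
  intro g hg
  obtain ⟨ub, hub, n, hn, u', hu', rfl⟩ := mem_BS hD O S gen g
  rw [MonoidHom.mem_ker, map_mul, map_mul] at hg
  have h1 : π n = (π ub)⁻¹ * (π u')⁻¹ := by
    rw [← mul_one (π ub)⁻¹, ← hg]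
    group
  have h2 : π n ∈ D.posUnipotent K ⊓ D.monomialSubgroup K := by
    refine ⟨?_, π_NG hD O S n hn⟩
    rw [h1]
    exact Subgroup.mul_mem _ (Subgroup.inv_mem _ (π_UG_pos hD O S ub hub))
      (Subgroup.inv_mem _ (π_UG_pos hD O S u' hu'))
  rw [posUnipotent_inf_monomialSubgroup D hD, Subgroup.mem_bot] at h2
  have h3 : ub * u' = 1 := by
    apply transfer hD O S.reg _ _ ((UG D X φ).mul_mem hub hu') (Subgroup.one_mem _)
    rw [map_mul, map_one]
    rw [h2, mul_one] at hg
    exact hg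
  have h4 : ∀ r < D.nroots, ∀ u : K, n * X r u * n⁻¹ = X r u := by
    intro r hr
    obtain ⟨hm, -⟩ := mono_of_mem_NG hD O S n hn
    obtain ⟨s', hs', c, c', hc, hc', m1, -⟩ := hm r hr
    have hπ : ∀ u : K, xGL D hadd K r u = xGL D hadd K s' (c * u) := by
      intro u
      have := congrArg π (m1 u)
      rw [map_mul, map_mul, map_inv, h2, one_mul, inv_one, mul_one, O.π_X r hr, O.π_X s' hs'] at this
      exact this
    have hne : xGL D hadd K r 1 ≠ 1 := by
      intro e
      have e' := congrArg (fun g : GL D.Idx K => (g : Matrix D.Idx D.Idx K)) e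
      simp only [coe_xGL, Units.val_one] at e'
      exact one_ne_zero ((Cfsg.Agent.S1024.result D hD r hr (1 : K)).mp e')
    have hXr : ∀ ψ : ℕ → ℤ, 0 < ψ r → ∀ u : K, X r u ∈ UG D X ψ := fun ψ h u => X_mem_UG ψ r hr h u
    have hXs : ∀ ψ : ℕ → ℤ, 0 < ψ s' → ∀ u : K, X s' u ∈ UG D X ψ := fun ψ h u => X_mem_UG ψ s' hs' h u
    have hnegφ : ∀ a < D.nroots, ¬ hlfOf D ≤ a → 0 < - φ a := by
      intro a ha h
      have h1 := S.nz a ha
      have h2 : ¬ 0 < φ a := fun h' => h ((S.pos a ha).mp h')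
      omega
    intro u
    rw [m1 u]
    by_cases hrp : hlfOf D ≤ r
    · by_cases hsp : hlfOf D ≤ s'
      · exact transfer hD O S.reg _ _ (hXs φ ((S.pos s' hs').mpr hsp) _) (hXr φ ((S.pos r hr).mpr hrp) _)
          (by rw [O.π_X r hr, O.π_X s' hs', hπ u])
      · exfalso
        apply hne
        have : xGL D hadd K r 1 ∈ D.posUnipotent K ⊓ D.negUnipotent K := by
          refine ⟨?_, ?_⟩
          · rw [← O.π_X r hr]
            exact π_UG_pos hD O S _ (hXr φ ((S.pos r hr).mpr hrp) 1)
          · rw [hπ 1, ← O.π_X s' hs']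
            exact π_UG_neg hD O S _ (hXs _ (hnegφ s' hs' hsp) _)
        rw [pos_inf_neg hD, Subgroup.mem_bot] at this
        exact this
    · by_cases hsp : hlfOf D ≤ s'
      · exfalso
        apply hne
        have : xGL D hadd K r 1 ∈ D.posUnipotent K ⊓ D.negUnipotent K := by
          refine ⟨?_, ?_⟩
          · rw [hπ 1, ← O.π_X s' hs']
            exact π_UG_pos hD O S _ (hXs φ ((S.pos s' hs').mpr hsp) _)
          · rw [← O.π_X r hr]
            exact π_UG_neg hD O S _ (hXr _ (hnegφ r hr hrp) 1)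
        rw [pos_inf_neg hD, Subgroup.mem_bot] at this
        exact this
      · exact transfer hD O S.reg.neg _ _ (hXs _ (hnegφ s' hs' hsp) _) (hXr _ (hnegφ r hr hrp) _)
          (by rw [O.π_X r hr, O.π_X s' hs', hπ u])
  have h5 : n ∈ Subgroup.center Γ := by
    rw [Subgroup.mem_center_iff]
    intro y
    have hy : y ∈ Subgroup.closure {g | ∃ r < D.nroots, ∃ t : K, g = X r t} := by
      rw [gen]
      exact Subgroup.mem_top y
    show Commute y n
    induction hy using Subgroup.closure_induction with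
    | mem x hx =>
      obtain ⟨r, hr, t, rfl⟩ := hx
      have := h4 r hr t
      rw [mul_inv_eq_iff_eq_mul] at this
      exact this.symm
    | one => exact Commute.one_left n
    | mul x y _ _ hx hy => exact hx.mul_left hy
    | inv x _ hx => exact hx.inv_left
  have h6 : ub * n * u' = n := by
    rw [Subgroup.mem_center_iff] at h5
    rw [h5 ub, mul_assoc, h3, mul_one]
  rw [h6]
  exact h5

end

end Cfsg.Agent.Helper40.St
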