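import Cfsg.Agent.Helper40.StPres

/-!
Helper40: subsystem embeddings.  If `ι` maps the roots of `D₁` to roots of `D₂` compatibly with negatives and with the
terms of the commutator formula, then the root elements `x_{ι r}(t)` of the Chevalley group of `D₂` satisfy the
relators (R1), (R2) of `D₁`.
-/

set_option autoImplicit false
set_option linter.unusedSectionVars false

namespace Cfsg.Agent.Helper40.StE

open Cfsg Cfsg.Lie Cfsg.Agent.Helper18 Cfsg.Agent.Helper40.ChevAdd Cfsg.Agent.Helper40.St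

/-- the table check for a subsystem embedding -/
def embOK (D₁ D₂ : ChevalleyDatum) (ι : ℕ → ℕ) : Bool :=
  (List.range D₁.nroots).all fun r =>
    decide (ι r < D₂.nroots) && decide (ι (D₁.neg r) = D₂.neg (ι r)) &&
    (List.range D₁.nroots).all fun s => decide (s = r) || decide (s = D₁.neg r) ||
      (decide (ι s ≠ ι r) && decide (ι s ≠ D₂.neg (ι r)) &&
        decide ((D₁.commTerms r s).map (fun c => (ι c.1, c.2)) = D₂.commTerms (ι r) (ι s)))

theorem embOK_spec {D₁ D₂ : ChevalleyDatum} {ι : ℕ → ℕ} (h : embOK D₁ D₂ ι = true) (r : ℕ) (hr : r < D₁.nroots) :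
    ι r < D₂.nroots ∧ ι (D₁.neg r) = D₂.neg (ι r) ∧ ∀ s < D₁.nroots, s ≠ r → s ≠ D₁.neg r →
      ι s ≠ ι r ∧ ι s ≠ D₂.neg (ι r) ∧
        (D₁.commTerms r s).map (fun c => (ι c.1, c.2)) = D₂.commTerms (ι r) (ι s) := by
  unfold embOK at h
  rw [List.all_eq_true] at h
  have h1 := h r (List.mem_range.mpr hr)
  simp only [Bool.and_eq_true, decide_eq_true_eq, List.all_eq_true, Bool.or_eq_true, List.mem_range] at h1
  obtain ⟨⟨a1, a2⟩, a3⟩ := h1
  refine ⟨a1, a2, fun s hs h1 h2 => ?_⟩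
  rcases a3 s hs with (h3 | h3) | h3
  · exact absurd h3 h1
  · exact absurd h3 h2
  · exact ⟨h3.1.1, h3.1.2, h3.2⟩

section
variable {K : Type*} [Field K] (D₁ D₂ : ChevalleyDatum) (hadd : ChevAdd.addOK D₂ = true) (ι : ℕ → ℕ)

/-- the images of the generators -/
noncomputable def fE : Fin D₁.nroots × K → GL D₂.Idx K := fun q => xGL D₂ hadd K (ι q.1.val) q.2

/-- the image of `x̄_r(t)` -/
noncomputable def Y (r : ℕ) (t : K) : GL D₂.Idx K := if r < D₁.nroots then xGL D₂ hadd K (ι r) t else 1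

theorem lift_stX' (r : ℕ) (t : K) : FreeGroup.lift (fE D₁ D₂ hadd ι) (D₁.stX r t) = Y D₁ D₂ hadd ι r t := by
  unfold ChevalleyDatum.stX Y
  by_cases hr : r < D₁.nroots
  · rw [dif_pos hr, if_pos hr, FreeGroup.lift_apply_of]
    rfl
  · rw [dif_neg hr, if_neg hr, map_one]

theorem lift_stWord' (wd : List (ℕ × K)) :
    FreeGroup.lift (fE D₁ D₂ hadd ι) (D₁.stWord wd) = (wd.map fun e => Y D₁ D₂ hadd ι e.1 e.2).prod := by
  unfold ChevalleyDatum.stWord
  rw [map_list_prod, List.map_map]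
  congr 1
  apply List.map_congr_left
  intro e _
  exact lift_stX' D₁ D₂ hadd ι e.1 e.2

/-- the relators (R1), (R2) of `D₁` hold for the root elements `x_{ι r}(t)` of `D₂` -/
theorem emb_lift_relsAB (hD₁ : D₁ ∈ [chevG2, chevB2, chevD4, chevF4, chevE6, chevE7, chevE8])
    (hD₂ : D₂ ∈ [chevG2, chevB2, chevD4, chevF4, chevE6, chevE7, chevE8]) (hOK : embOK D₁ D₂ ι = true) :
    ∀ g ∈ D₁.steinbergRelsAB K, FreeGroup.lift (fE D₁ D₂ hadd ι) g = 1 := by
  intro g hg
  rcases hg with ⟨r, t₁, t₂, hr, rfl⟩ | ⟨r, s, t, u, hr, hs, h1, h2, rfl⟩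
  · rw [map_mul, map_mul, map_inv, lift_stX', lift_stX', lift_stX']
    unfold Y
    simp only [if_pos hr]
    rw [xGL_add, mul_inv_cancel]
  · obtain ⟨r1, -, r3⟩ := embOK_spec hOK r hr
    obtain ⟨s1, -, -⟩ := embOK_spec hOK s hs
    obtain ⟨hne1, hne2, htab⟩ := r3 s hs h1 h2
    rw [map_mul, map_mul, map_mul, map_mul, map_inv, map_inv, map_inv, lift_stX', lift_stX', lift_stWord']
    have e : xGL D₂ hadd K (ι s) u * xGL D₂ hadd K (ι r) t =
        xGL D₂ hadd K (ι r) t * xGL D₂ hadd K (ι s) u * wGL D₂ hadd (D₂.commWord K (ι r) (ι s) t u) := by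
      apply Units.ext
      rw [Units.val_mul, Units.val_mul, Units.val_mul, coe_xGL, coe_xGL, coe_wGL]
      exact Cfsg.Agent.S1025.result D₂ hD₂ (ι r) (ι s) r1 s1 hne1 hne2 _ _
    -- the roots occurring in the commutator formula are roots of `D₁`
    obtain ⟨φ, S⟩ := exists_std D₁ hD₁
    have hlt : ∀ c ∈ D₁.commTerms r s, c.1 < D₁.nroots := fun c hc =>
      (commTerms_lvl D₁ hD₁ φ S.reg.add r s hr hs c hc).1
    have e2 : ((D₁.commWord K r s t u).map fun e => Y D₁ D₂ hadd ι e.1 e.2).prod =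
        wGL D₂ hadd (D₂.commWord K (ι r) (ι s) t u) := by
      unfold wGL ChevalleyDatum.commWord
      rw [← htab, List.map_map, List.map_map, List.map_map]
      congr 1
      apply List.map_congr_left
      intro c hc
      simp only [Function.comp_apply, Y, if_pos (hlt c hc)]
    unfold Y
    rw [if_pos hr, if_pos hs]
    change (xGL D₂ hadd K (ι s) u)⁻¹ * (xGL D₂ hadd K (ι r) t)⁻¹ * xGL D₂ hadd K (ι s) u * xGL D₂ hadd K (ι r) t *
      (((D₁.commWord K r s t u).map fun e => Y D₁ D₂ hadd ι e.1 e.2).prod)⁻¹ = 1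
    rw [e2, mul_assoc _ (xGL D₂ hadd K (ι s) u), e]
    group

end

end Cfsg.Agent.Helper40.StE
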