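import Cfsg.Agent.Helper40.StPres2
import Cfsg.Agent.Helper18.ScalarExt

/-!
Helper40: exceptional graph endomorphisms of the Chevalley groups from Steinberg's presentation. A permutation `ρ` of the
roots and exponents `lam r ∈ {1, p}` define `x̄_r(t) ↦ x_{ρ r}(t ^ lam r)` on the presented group, provided a table
check on the commutator formulas modulo `p` holds.
-/

set_option autoImplicit false
set_option linter.unusedSectionVars false

namespace Cfsg.Agent.Helper40.StG

open Cfsg Cfsg.Lie Cfsg.Agent.Helper18 Cfsg.Agent.Helper40.ChevAdd Cfsg.Agent.Helper40.St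
  Cfsg.Agent.Helper40.SL2Chev

/-- a monomial term `(root, coefficient, exponent of t, exponent of u)` -/
abbrev Term := ℕ × ℤ × ℕ × ℕ

/-- reduce the coefficients modulo `p` and drop the vanishing terms -/
def normT (p : ℕ) (l : List Term) : List Term :=
  (l.map fun e => (e.1, e.2.1 % (p : ℤ), e.2.2.1, e.2.2.2)).filter fun e => decide (e.2.1 ≠ 0)

/-- the terms of the commutator formula for `(ρ r, ρ s)` in `t ^ a`, `u ^ b` -/
def leftT (D : ChevalleyDatum) (r' s' a b : ℕ) : List Term :=
  (D.commTerms r' s').map fun c => (c.1, c.2.1 * (-1) ^ c.2.2.1, c.2.2.1 * a, c.2.2.2 * b)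

/-- the images of the terms of the commutator formula for `(r, s)` -/
def rightT (D : ChevalleyDatum) (ρ lam : ℕ → ℕ) (r s : ℕ) : List Term :=
  (D.commTerms r s).map fun c => (ρ c.1, c.2.1 * (-1) ^ (c.2.2.1 * lam c.1), c.2.2.1 * lam c.1, c.2.2.2 * lam c.1)

/-- the root elements of `a` and `b` commute modulo `p` -/
def commOK (D : ChevalleyDatum) (p a b : ℕ) : Bool :=
  decide (a = b) || (decide (a < D.nroots) && decide (b < D.nroots) && decide (b ≠ D.neg a) &&
    (D.commTerms a b).all fun c => decide (c.2.1 % (p : ℤ) = 0))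

/-- the check for a pair of roots -/
def pairOK (D : ChevalleyDatum) (p : ℕ) (ρ lam : ℕ → ℕ) (r s : ℕ) : Bool :=
  decide ((normT p (leftT D (ρ r) (ρ s) (lam r) (lam s))).Perm (normT p (rightT D ρ lam r s))) &&
  (normT p (leftT D (ρ r) (ρ s) (lam r) (lam s))).all fun e =>
    (normT p (leftT D (ρ r) (ρ s) (lam r) (lam s))).all fun e' => commOK D p e.1 e'.1

/-- the full check -/
def graphOK (D : ChevalleyDatum) (p : ℕ) (ρ lam : ℕ → ℕ) : Bool :=
  (List.range D.nroots).all fun r =>
    decide (ρ r < D.nroots) && decide (ρ (D.neg r) = D.neg (ρ r)) && decide (lam (D.neg r) = lam r) &&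
    (decide (lam r = 1) || decide (lam r = p)) && decide (ρ (ρ r) = r) && decide (lam r * lam (ρ r) = p) &&
    (List.range D.nroots).all fun s => decide (s = r) || decide (s = D.neg r) || pairOK D p ρ lam r s

section
variable {K : Type*} [Field K] (D : ChevalleyDatum) (hadd : ChevAdd.addOK D = true)

/-- the value of a term -/
noncomputable def ev (t u : K) (e : Term) : GL D.Idx K := xGL D hadd K e.1 ((e.2.1 : K) * t ^ e.2.2.1 * u ^ e.2.2.2)

theorem prod_normT (p : ℕ) [CharP K p] (t u : K) (l : List Term) :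
    ((normT p l).map (ev D hadd t u)).prod = (l.map (ev D hadd t u)).prod := by
  induction l with
  | nil => rfl
  | cons e l ih =>
    have hcast : (((e.2.1 % (p : ℤ) : ℤ)) : K) = ((e.2.1 : ℤ) : K) := by
      rw [CharP.intCast_eq_intCast K p]
      exact Int.mod_modEq _ _
    unfold normT at ih ⊢
    rw [List.map_cons, List.filter_cons]
    by_cases h0 : e.2.1 % (p : ℤ) = 0
    · have hz : ((e.2.1 : ℤ) : K) = 0 := by rw [← hcast, h0, Int.cast_zero]
      have h1 : ev D hadd t u e = 1 := by
        unfold ev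
        rw [hz, zero_mul, zero_mul, xGL_zero]
      simp only [h0, ne_eq, not_true_eq_false, decide_false, Bool.false_eq_true, ↓reduceIte]
      rw [ih, List.map_cons, List.prod_cons, h1, one_mul]
    · simp only [ne_eq, h0, not_false_eq_true, decide_true, ↓reduceIte]
      rw [List.map_cons, List.prod_cons, ih, List.map_cons, List.prod_cons]
      congr 1
      unfold ev
      simp only [hcast]

/-- root elements whose commutator terms vanish modulo `p` commute -/
theorem commute_of_commOK (hD : D ∈ [chevG2, chevB2, chevD4, chevF4, chevE6, chevE7, chevE8]) (p : ℕ) [CharP K p]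
    (a b : ℕ) (h : commOK D p a b = true) (x y : K) : Commute (xGL D hadd K a x) (xGL D hadd K b y) := by
  unfold commOK at h
  rw [Bool.or_eq_true, decide_eq_true_eq] at h
  rcases h with rfl | h
  · show _ * _ = _ * _
    rw [xGL_add, xGL_add, add_comm]
  · simp only [Bool.and_eq_true, decide_eq_true_eq, List.all_eq_true] at h
    obtain ⟨⟨⟨ha, hb⟩, hne⟩, hall⟩ := h
    by_cases hab : b = a
    · subst hab
      show _ * _ = _ * _
      rw [xGL_add, xGL_add, add_comm]
    · have h1 := Cfsg.Agent.S1025.result D hD a b ha hb hab hne x y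
      have h2 : D.wordMat K (D.commWord K a b x y) = 1 := by
        unfold ChevalleyDatum.wordMat ChevalleyDatum.commWord
        apply List.prod_eq_one
        intro m hm
        simp only [List.map_map, List.mem_map, Function.comp] at hm
        obtain ⟨c, hc, rfl⟩ := hm
        have hz : ((c.2.1 : ℤ) : K) = 0 := by
          have := hall c hc
          rw [← Int.cast_zero, CharP.intCast_eq_intCast K p]
          exact Int.modEq_zero_iff_dvd.mpr (Int.dvd_of_emod_eq_zero this)
        rw [hz, zero_mul, zero_mul]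
        exact Cfsg.Agent.S1024.x_zero D K c.1
      rw [h2, mul_one] at h1
      show _ * _ = _ * _
      apply Units.ext
      rw [Units.val_mul, Units.val_mul, coe_xGL, coe_xGL]
      exact h1.symm

theorem left_eq (r' s' a b : ℕ) (t u : K) :
    wGL D hadd (D.commWord K r' s' (t ^ a) (u ^ b)) = ((leftT D r' s' a b).map (ev D hadd t u)).prod := by
  unfold wGL ChevalleyDatum.commWord leftT
  rw [List.map_map, List.map_map]
  congr 1
  apply List.map_congr_left
  intro c _
  simp only [Function.comp, ev]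
  congr 1
  rw [neg_pow, ← pow_mul, ← pow_mul, mul_comm a, mul_comm b]
  push_cast
  ring

theorem neg_pow_lam (p : ℕ) [Fact p.Prime] [CharP K p] (l : ℕ) (hl : l = 1 ∨ l = p) (x : K) : (-x) ^ l = - x ^ l := by
  rcases hl with rfl | hl
  · simp
  · rw [hl]
    rcases (Fact.out : Nat.Prime p).eq_two_or_odd' with h2 | hodd
    · subst h2
      rw [CharTwo.neg_eq, CharTwo.neg_eq]
    · exact hodd.neg_pow x

theorem intCast_pow_lam (p : ℕ) [Fact p.Prime] [CharP K p] (l : ℕ) (hl : l = 1 ∨ l = p) (n : ℤ) :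
    ((n : ℤ) : K) ^ l = (n : K) := by
  rcases hl with rfl | hl
  · simp
  · rw [hl]
    have := map_intCast (frobenius K p) n
    rw [frobenius_def] at this
    exact this

variable (p : ℕ) [Fact p.Prime] [CharP K p] (ρ lam : ℕ → ℕ)

/-- the image of the generator `x̄_r(t)` -/
noncomputable def Y (r : ℕ) (t : K) : GL D.Idx K := if r < D.nroots then xGL D hadd K (ρ r) (t ^ lam r) else 1

/-- the images of the generators -/
noncomputable def fY : Fin D.nroots × K → GL D.Idx K := fun q => xGL D hadd K (ρ q.1.val) (q.2 ^ lam q.1.val)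

theorem lift_stX' (r : ℕ) (t : K) : FreeGroup.lift (fY D hadd ρ lam) (D.stX r t) = Y D hadd ρ lam r t := by
  unfold ChevalleyDatum.stX Y
  by_cases hr : r < D.nroots
  · rw [dif_pos hr, if_pos hr, FreeGroup.lift_apply_of]
    rfl
  · rw [dif_neg hr, if_neg hr, map_one]

theorem lift_stWord' (wd : List (ℕ × K)) :
    FreeGroup.lift (fY D hadd ρ lam) (D.stWord wd) = (wd.map fun e => Y D hadd ρ lam e.1 e.2).prod := by
  unfold ChevalleyDatum.stWord
  rw [map_list_prod, List.map_map]
  congr 1
  apply List.map_congr_left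
  intro e _
  exact lift_stX' D hadd ρ lam e.1 e.2

theorem right_eq (hD : D ∈ [chevG2, chevB2, chevD4, chevF4, chevE6, chevE7, chevE8])
    (hlam : ∀ c < D.nroots, lam c = 1 ∨ lam c = p) (r s : ℕ) (hr : r < D.nroots)
    (hs : s < D.nroots) (t u : K) :
    ((D.commWord K r s t u).map fun e => Y D hadd ρ lam e.1 e.2).prod =
      ((rightT D ρ lam r s).map (ev D hadd t u)).prod := by
  obtain ⟨φ, S⟩ := exists_std D hD
  unfold ChevalleyDatum.commWord rightT
  rw [List.map_map, List.map_map]
  congr 1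
  apply List.map_congr_left
  intro c hc
  have hc1 := (commTerms_lvl D hD φ S.reg.add r s hr hs c hc).1
  simp only [Function.comp, ev, Y]
  rw [if_pos hc1]
  congr 1
  rw [mul_pow, mul_pow, intCast_pow_lam p _ (hlam _ hc1), ← pow_mul, ← pow_mul, neg_pow t]
  push_cast
  ring

/-- the facts about `ρ`, `lam` contained in the check -/
theorem graphOK_root {ρ lam : ℕ → ℕ} {p : ℕ} (h : graphOK D p ρ lam = true) (r : ℕ) (hr : r < D.nroots) :
    ρ r < D.nroots ∧ ρ (D.neg r) = D.neg (ρ r) ∧ lam (D.neg r) = lam r ∧ (lam r = 1 ∨ lam r = p) ∧ ρ (ρ r) = r ∧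
      lam r * lam (ρ r) = p ∧
      ∀ s < D.nroots, s ≠ r → s ≠ D.neg r → pairOK D p ρ lam r s = true := by
  unfold graphOK at h
  rw [List.all_eq_true] at h
  have h1 := h r (List.mem_range.mpr hr)
  simp only [Bool.and_eq_true, Bool.or_eq_true, decide_eq_true_eq, List.all_eq_true, List.mem_range] at h1
  obtain ⟨⟨⟨⟨⟨⟨a1, a2⟩, a3⟩, a4⟩, a5⟩, a6⟩, a7⟩ := h1
  refine ⟨a1, a2, a3, a4, a5, a6, ?_⟩
  intro s hs h1 h2
  rcases a7 s hs with (h3 | h3) | h3
  · exact absurd h3 h1
  · exact absurd h3 h2
  · exact h3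

/-- the relators (R1), (R2), (R3) hold for the images of the generators -/
theorem graph_lift_rels (hD : D ∈ [chevG2, chevB2, chevD4, chevF4, chevE6, chevE7, chevE8])
    (hOK : graphOK D p ρ lam = true) :
    ∀ g ∈ D.steinbergRels K, FreeGroup.lift (fY D hadd ρ lam) g = 1 := by
  obtain ⟨φ, S⟩ := exists_std D hD
  intro g hg
  rcases hg with (⟨r, t₁, t₂, hr, rfl⟩ | ⟨r, s, t, u, hr, hs, h1, h2, rfl⟩) | ⟨r, t₁, t₂, hr, h1, h2, rfl⟩
  · -- (R1)
    obtain ⟨-, -, -, a4, -⟩ := graphOK_root D hOK r hr
    rw [map_mul, map_mul, map_inv, lift_stX', lift_stX', lift_stX']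
    unfold Y
    simp only [if_pos hr]
    rw [xGL_add]
    have : t₁ ^ lam r + t₂ ^ lam r = (t₁ + t₂) ^ lam r := by
      rcases a4 with h | h
      · rw [h]; simp
      · rw [h, add_pow_char]
    rw [this, mul_inv_cancel]
  · -- (R2)
    obtain ⟨r1, r2, -, r4, r5, -, r7⟩ := graphOK_root D hOK r hr
    obtain ⟨s1, -, -, -, s5, -, -⟩ := graphOK_root D hOK s hs
    have hpair := r7 s hs h1 h2
    unfold pairOK at hpair
    simp only [Bool.and_eq_true, decide_eq_true_eq, List.all_eq_true] at hpair
    obtain ⟨hperm, hcomm⟩ := hpair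
    have hne1 : ρ s ≠ ρ r := by
      intro e
      apply h1
      rw [← s5, ← r5, e]
    have hne2 : ρ s ≠ D.neg (ρ r) := by
      intro e
      apply h2
      rw [← r2] at e
      obtain ⟨-, -, -, -, n5, -, -⟩ := graphOK_root D hOK _ (S.neg_lt r hr)
      rw [← s5, ← n5, e]
    rw [map_mul, map_mul, map_mul, map_mul, map_inv, map_inv, map_inv, lift_stX', lift_stX', lift_stWord',
      right_eq D hadd p ρ lam hD (fun c hc => (graphOK_root D hOK c hc).2.2.2.1) r s hr hs t u]
    unfold Y
    rw [if_pos hr, if_pos hs]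
    have e : xGL D hadd K (ρ s) (u ^ lam s) * xGL D hadd K (ρ r) (t ^ lam r) =
        xGL D hadd K (ρ r) (t ^ lam r) * xGL D hadd K (ρ s) (u ^ lam s) *
          wGL D hadd (D.commWord K (ρ r) (ρ s) (t ^ lam r) (u ^ lam s)) := by
      apply Units.ext
      rw [Units.val_mul, Units.val_mul, Units.val_mul, coe_xGL, coe_xGL, coe_wGL]
      exact Cfsg.Agent.S1025.result D hD (ρ r) (ρ s) r1 s1 hne1 hne2 _ _
    have e2 : wGL D hadd (D.commWord K (ρ r) (ρ s) (t ^ lam r) (u ^ lam s)) =
        ((rightT D ρ lam r s).map (ev D hadd t u)).prod := by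
      rw [left_eq, ← prod_normT D hadd p, ← prod_normT D hadd p t u (rightT D ρ lam r s)]
      apply List.Perm.prod_eq' (hperm.map _)
      rw [List.pairwise_map]
      apply List.pairwise_of_forall_mem_list
      intro a ha b hb
      exact commute_of_commOK D hadd hD p _ _ (hcomm a ha b hb) _ _
    rw [mul_assoc _ (xGL D hadd K (ρ s) (u ^ lam s)), e, e2]
    group
  · -- (R3)
    obtain ⟨r1, r2, r3, r4, -⟩ := graphOK_root D hOK r hr
    have hnr := S.neg_lt r hr
    have key : ∀ t : K, t ≠ 0 → FreeGroup.lift (fY D hadd ρ lam) (D.stH r t) = hG D hadd (ρ r) (t ^ lam r) := by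
      intro t ht
      unfold ChevalleyDatum.stH ChevalleyDatum.hWord ChevalleyDatum.nWord
      rw [lift_stWord']
      have hneg1 : (-1 : K) ^ lam r = -1 := by rw [neg_pow_lam p _ r4, one_pow]
      have hpow : ∀ x : K, (-x⁻¹) ^ lam r = -(x ^ lam r)⁻¹ := fun x => by rw [neg_pow_lam p _ r4, inv_pow]
      have e0 : hG D hadd (ρ r) (t ^ lam r) = nG D hadd (ρ r) (t ^ lam r) * nG D hadd (ρ r) (-1) := by
        rw [← nG_inv]
        rfl
      rw [e0]
      unfold nG SL2Hom.w
      simp only [List.map_append, List.map_cons, List.map_nil, List.prod_append, List.prod_cons, List.prod_nil,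
        mul_one, Y, if_pos hr, if_pos hnr, r2, r3, hpow, hneg1, mul_assoc]
    rw [map_mul, map_mul, map_inv, key t₁ h1, key t₂ h2, key (t₁ * t₂) (mul_ne_zero h1 h2), mul_pow]
    have := (rel (F := K) D hadd hD (ρ r) r1).h_mul (t₁ ^ lam r) (t₂ ^ lam r) (pow_ne_zero _ h1) (pow_ne_zero _ h2)
    unfold hG
    rw [this, mul_inv_cancel]

end

end Cfsg.Agent.Helper40.StG
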