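import Cfsg.Agent.Helper40.StGraph

/-!
Helper40: the exceptional graph automorphism of a Chevalley group over a perfect field of characteristic `p`, from a
table check (see `StGraph`).
-/

set_option autoImplicit false
set_option linter.unusedSectionVars false

namespace Cfsg.Agent.Helper40.StG

open Cfsg Cfsg.Lie Cfsg.Agent.Helper18 Cfsg.Agent.Helper40.ChevAdd Cfsg.Agent.Helper40.St
  Cfsg.Agent.Helper40.SL2Chev

section
variable {K : Type*} [Field K] (D : ChevalleyDatum) (hadd : ChevAdd.addOK D = true)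
  (p : ℕ) [Fact p.Prime] [CharP K p] (ρ lam : ℕ → ℕ)

theorem xGL_mem_group (r : ℕ) (hr : r < D.nroots) (t : K) : xGL D hadd K r t ∈ D.group K := by
  apply Subgroup.subset_closure
  refine ⟨⟨r, hr⟩, t, ?_⟩
  rw [coe_xGL]
  unfold ChevalleyDatum.x
  rw [dif_pos hr]

/-- the Frobenius endomorphism of the general linear group maps `x_r(t)` to `x_r(t ^ p)` -/
theorem frob_xGL (r : ℕ) (t : K) :
    Matrix.GeneralLinearGroup.map (frobenius K p) (xGL D hadd K r t) = xGL D hadd K r (t ^ p) := by
  apply Units.ext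
  show ((xGL D hadd K r t : GL D.Idx K) : Matrix D.Idx D.Idx K).map (frobenius K p) = _
  rw [coe_xGL, coe_xGL, x_map' D (frobenius K p) r t, frobenius_def]

theorem frob_injective : Function.Injective (Matrix.GeneralLinearGroup.map (n := D.Idx) (frobenius K p)) := by
  intro g g' h
  apply Units.ext
  have h1 := congrArg (fun x : GL D.Idx K => (x : Matrix D.Idx D.Idx K)) h
  exact Matrix.map_injective (frobenius_inj K p) h1

/-- the exceptional graph automorphism -/
theorem exists_graph_aut (hD : D ∈ [chevG2, chevB2, chevD4, chevF4, chevE6, chevE7, chevE8])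
    (hOK : graphOK D p ρ lam = true) (hperf : ∀ x : K, ∃ y : K, y ^ p = x) :
    ∃ α : ↥(D.group K) ≃* ↥(D.group K), ∀ (g : ↥(D.group K)) (r : ℕ) (t : K), r < D.nroots →
      ((g : GL D.Idx K) : Matrix D.Idx D.Idx K) = D.x K r t →
        ((α g : GL D.Idx K) : Matrix D.Idx D.Idx K) = D.x K (ρ r) (t ^ lam r) := by
  have hadd := ChevAdd.addOK_of_mem hD
  have hG := lift_rels (K := K) D hadd hD
  obtain ⟨θ, h1, h2, h3, h4⟩ := presented_central (K := K) hadd hD (D.steinbergRels K) (relsAB_subset D) hG
  have hY := graph_lift_rels (K := K) D hadd p ρ lam hD hOK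
  have hroot := graphOK_root D hOK
  -- the values on the generators
  have hval : ∀ r < D.nroots, ∀ t : K, PresentedGroup.toGroup hY (PresentedGroup.mk _ (D.stX r t)) =
      xGL D hadd K (ρ r) (t ^ lam r) := by
    intro r hr t
    have : PresentedGroup.mk (D.steinbergRels K) (D.stX r t) = PresentedGroup.of (⟨r, hr⟩, t) := by
      unfold ChevalleyDatum.stX
      rw [dif_pos hr]
      rfl
    rw [this, PresentedGroup.toGroup.of]
    rfl
  have hθval : ∀ r < D.nroots, ∀ t : K, ((θ (PresentedGroup.mk _ (D.stX r t)) : ↥(D.group K)) : GL D.Idx K) =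
      xGL D hadd K r t := by
    intro r hr t
    apply Units.ext
    rw [h4 r t hr, coe_xGL]
  have hrange : ∀ g, PresentedGroup.toGroup hY g ∈ D.group K := by
    intro g
    have : (⊤ : Subgroup (PresentedGroup (D.steinbergRels K))) ≤ (D.group K).comap (PresentedGroup.toGroup hY) := by
      rw [← gen_presented (D.steinbergRels K), Subgroup.closure_le]
      rintro x ⟨r, hr, t, rfl⟩
      rw [SetLike.mem_coe, Subgroup.mem_comap, hval r hr]
      exact xGL_mem_group D hadd _ (hroot r hr).1 _
    exact this (Subgroup.mem_top g)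
  let α' : PresentedGroup (D.steinbergRels K) →* ↥(D.group K) :=
    (PresentedGroup.toGroup hY).codRestrict (D.group K) hrange
  have hα'val : ∀ g, ((α' g : ↥(D.group K)) : GL D.Idx K) = PresentedGroup.toGroup hY g := fun g => rfl
  have hsurj : Function.Surjective α' := by
    rintro ⟨y, hy⟩
    have : D.group K ≤ (PresentedGroup.toGroup hY).range := by
      unfold ChevalleyDatum.group
      rw [Subgroup.closure_le]
      rintro g ⟨s, v, hg⟩
      obtain ⟨r1, -, -, r4, r5, -, -⟩ := hroot s.val s.isLt
      obtain ⟨q1, -, -, q4, -, -, -⟩ := hroot _ r1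
      have hw : ∃ w : K, w ^ lam (ρ s.val) = v := by
        rcases q4 with h | h
        · exact ⟨v, by rw [h, pow_one]⟩
        · rw [h]
          exact hperf v
      obtain ⟨w, hw⟩ := hw
      refine ⟨PresentedGroup.mk _ (D.stX (ρ s.val) w), ?_⟩
      rw [hval _ r1, r5, hw]
      apply Units.ext
      rw [coe_xGL, hg]
      unfold ChevalleyDatum.x
      rw [dif_pos s.isLt]
    obtain ⟨x, hx⟩ := this hy
    exact ⟨x, Subtype.ext hx⟩
  have hker : θ.ker ≤ α'.ker := by
    intro z hz
    have hz' := h2 hz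
    rw [MonoidHom.mem_ker]
    have hc : α' z ∈ Subgroup.center ↥(D.group K) := by
      rw [Subgroup.mem_center_iff]
      intro y
      obtain ⟨x, rfl⟩ := hsurj y
      rw [Subgroup.mem_center_iff] at hz'
      rw [← map_mul, ← map_mul, hz' x]
    rw [center_group_eq_bot D hD, Subgroup.mem_bot] at hc
    exact hc
  let α₀ : ↥(D.group K) →* ↥(D.group K) := MonoidHom.liftOfSurjective θ h1 ⟨α', hker⟩
  have hα₀ : ∀ x, α₀ (θ x) = α' x := fun x =>
    MonoidHom.liftOfRightInverse_comp_apply θ _ (Function.rightInverse_surjInv h1) ⟨α', hker⟩ x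
  -- `α₀ ∘ α₀` is the Frobenius endomorphism
  have hsq : ∀ x, ((α₀ (α₀ (θ x)) : ↥(D.group K)) : GL D.Idx K) =
      Matrix.GeneralLinearGroup.map (frobenius K p) ((θ x : ↥(D.group K)) : GL D.Idx K) := by
    have : ((D.group K).subtype.comp (α₀.comp (α₀.comp θ))) =
        ((Matrix.GeneralLinearGroup.map (frobenius K p)).comp ((D.group K).subtype.comp θ)) := by
      apply PresentedGroup.ext
      rintro ⟨r, t⟩
      have e1 : PresentedGroup.of (rels := D.steinbergRels K) (r, t) = PresentedGroup.mk _ (D.stX r.val t) := by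
        unfold ChevalleyDatum.stX
        rw [dif_pos r.isLt]
        rfl
      obtain ⟨r1, -, -, -, r5, r6, -⟩ := hroot r.val r.isLt
      have e2 : α₀ (θ (PresentedGroup.mk _ (D.stX r.val t))) =
          θ (PresentedGroup.mk _ (D.stX (ρ r.val) (t ^ lam r.val))) := by
        rw [hα₀]
        apply Subtype.ext
        rw [hα'val, hval _ r.isLt, hθval _ r1]
      simp only [MonoidHom.comp_apply, Subgroup.coe_subtype]
      rw [e1, e2, hα₀, hα'val, hval _ r1, hθval _ r.isLt, r5, frob_xGL, ← pow_mul, r6]
    intro x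
    exact DFunLike.congr_fun this x
  have hinj : Function.Injective α₀ := by
    rw [injective_iff_map_eq_one]
    intro g hg
    obtain ⟨x, rfl⟩ := h1 g
    have := hsq x
    rw [hg, map_one] at this
    have h5 : ((θ x : ↥(D.group K)) : GL D.Idx K) = 1 := by
      apply frob_injective D p
      rw [← this, map_one]
      rfl
    exact Subtype.ext h5
  have hsurj₀ : Function.Surjective α₀ := by
    intro y
    obtain ⟨x, rfl⟩ := hsurj y
    exact ⟨θ x, hα₀ x⟩
  refine ⟨MulEquiv.ofBijective α₀ ⟨hinj, hsurj₀⟩, ?_⟩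
  intro g r t hr hg
  have hgθ : g = θ (PresentedGroup.mk _ (D.stX r t)) := by
    apply Subtype.ext
    apply Units.ext
    rw [h4 r t hr, hg]
  show ((α₀ g : ↥(D.group K)) : GL D.Idx K).val = _
  rw [hgθ, hα₀, hα'val, hval r hr, coe_xGL]

end

end Cfsg.Agent.Helper40.StG
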