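import Cfsg.Agent.Helper40.StGraph

/-!
Helper40: table checks for the exceptional graph automorphisms of `B₂`, `F₄` (characteristic 2) and `G₂`
(characteristic 3).
-/

set_option autoImplicit false

namespace Cfsg.Agent.Helper40.StG

open Cfsg Cfsg.Lie

def rhoG2 : List ℕ := [2, 3, 0, 1, 5, 4, 7, 6, 10, 11, 8, 9]
def lamG2 : List ℕ := [1, 1, 3, 3, 3, 1, 1, 3, 3, 3, 1, 1]
def rhoB2 : List ℕ := [1, 0, 3, 2, 5, 4, 7, 6]
def lamB2 : List ℕ := [1, 2, 2, 1, 1, 2, 2, 1]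
def rhoF4 : List ℕ := [3, 7, 8, 0, 9, 11, 18, 1, 2, 4, 15, 5, 16, 21, 23, 10, 12, 19, 6, 17, 22, 13, 20, 14, 33, 27, 34,
  25, 30, 41, 28, 35, 37, 24, 26, 31, 42, 32, 43, 45, 46, 29, 36, 38, 47, 39, 40, 44]
def lamF4 : List ℕ := [1, 1, 1, 2, 1, 1, 1, 2, 2, 2, 2, 2, 2, 2, 2, 1, 1, 1, 2, 2, 2, 1, 1, 1, 1, 1, 1, 2, 2, 2, 1, 1, 1,
  2, 2, 2, 2, 2, 2, 2, 2, 1, 1, 1, 2, 1, 1, 1]

set_option maxRecDepth 100000 in
theorem graphOK_G2 : graphOK chevG2 3 (fun r => rhoG2.getD r 0) (fun r => lamG2.getD r 0) = true := by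
  decide +kernel
set_option maxRecDepth 100000 in
theorem graphOK_B2 : graphOK chevB2 2 (fun r => rhoB2.getD r 0) (fun r => lamB2.getD r 0) = true := by
  decide +kernel
set_option maxRecDepth 100000 in
theorem graphOK_F4 : graphOK chevF4 2 (fun r => rhoF4.getD r 0) (fun r => lamF4.getD r 0) = true := by
  decide +kernel

end Cfsg.Agent.Helper40.StG
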