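import Cfsg.Agent.Helper40.StCover
import Cfsg.Agent.Helper40.StPres4

/-!
Helper40: homomorphisms OUT of the Chevalley groups of types `G₂`, `F₄`, `E₈` (where Steinberg's presented group has
trivial centre, so that it is the Chevalley group): elements `Y r t` of a group satisfying Steinberg's relators
define a homomorphism `x_r(t) ↦ Y r t`.  Over a finite field the relators (R1), (R2) suffice.
-/

set_option autoImplicit false

namespace Cfsg.Agent.Helper40.St

open Cfsg Cfsg.Lie Cfsg.Agent.Helper18 Cfsg.Agent.Helper40.ChevAdd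

section
variable {K : Type*} [Field K]

/-- for `G₂`, `F₄`, `E₈` Steinberg's presented group is the Chevalley group -/
theorem exists_steinberg_equiv (D : ChevalleyDatum) (hD : D ∈ [chevG2, chevF4, chevE8]) :
    ∃ e : D.SteinbergGroup K ≃* ↥(D.group K), ∀ (r : ℕ) (t : K), r < D.nroots →
      ((e (D.stGen K r t) : GL D.Idx K) : Matrix D.Idx D.Idx K) = D.x K r t := by
  have hD' : D ∈ [chevG2, chevB2, chevD4, chevF4, chevE6, chevE7, chevE8] := by
    simp only [List.mem_cons, List.not_mem_nil, or_false] at hD ⊢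
    rcases hD with rfl | rfl | rfl <;> simp
  have hadd := ChevAdd.addOK_of_mem hD'
  obtain ⟨θ, h1, h2, -, h4⟩ := presented_central (K := K) hadd hD' (D.steinbergRels K)
    (relsAB_subset D) (lift_rels D hadd hD')
  obtain ⟨B, hB⟩ := exists_cartInv D hD
  have hc : Subgroup.center (D.SteinbergGroup K) = ⊥ := steinberg_center_eq_bot hD' B hB
  have hinj : Function.Injective θ := by
    rw [← MonoidHom.ker_eq_bot_iff, eq_bot_iff, ← hc]
    exact h2
  exact ⟨MulEquiv.ofBijective θ ⟨hinj, h1⟩, fun r t hr => h4 r t hr⟩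

/-- **homomorphisms out of `G₂(K)`, `F₄(K)`, `E₈(K)`** from elements satisfying Steinberg's relators -/
theorem exists_hom_of_rels (D : ChevalleyDatum) (hD : D ∈ [chevG2, chevF4, chevE8]) {Γ : Type*} [Group Γ]
    (Y : Fin D.nroots × K → Γ) (hY : ∀ g ∈ D.steinbergRels K, FreeGroup.lift Y g = 1) :
    ∃ f : ↥(D.group K) →* Γ, ∀ (g : ↥(D.group K)) (r : Fin D.nroots) (t : K),
      ((g : GL D.Idx K) : Matrix D.Idx D.Idx K) = D.x K r.val t → f g = Y (r, t) := by
  obtain ⟨e, he⟩ := exists_steinberg_equiv (K := K) D hD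
  refine ⟨(PresentedGroup.toGroup hY).comp e.symm.toMonoidHom, fun g r t hg => ?_⟩
  have e1 : g = e (D.stGen K r.val t) := by
    apply Subtype.ext
    apply Units.ext
    rw [hg, he r.val t r.isLt]
  show PresentedGroup.toGroup hY (e.symm g) = _
  rw [e1, MulEquiv.symm_apply_apply]
  unfold ChevalleyDatum.stGen ChevalleyDatum.stX
  rw [dif_pos r.isLt]
  exact PresentedGroup.toGroup.of _

/-- over a finite field the relators (R1), (R2) suffice -/
theorem exists_hom_of_relsAB [Finite K] (D : ChevalleyDatum) (hD : D ∈ [chevG2, chevF4, chevE8]) {Γ : Type*} [Group Γ]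
    (Y : Fin D.nroots × K → Γ) (hY : ∀ g ∈ D.steinbergRelsAB K, FreeGroup.lift Y g = 1) :
    ∃ f : ↥(D.group K) →* Γ, ∀ (g : ↥(D.group K)) (r : Fin D.nroots) (t : K),
      ((g : GL D.Idx K) : Matrix D.Idx D.Idx K) = D.x K r.val t → f g = Y (r, t) := by
  have hD' : D ∈ [chevG2, chevB2, chevD4, chevF4, chevE6, chevE7, chevE8] := by
    simp only [List.mem_cons, List.not_mem_nil, or_false] at hD ⊢
    rcases hD with rfl | rfl | rfl <;> simp
  obtain ⟨e, he⟩ := exists_steinberg_equiv (K := K) D hD
  obtain ⟨e', he'⟩ := cover_equiv (K := K) D hD'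
  refine ⟨((PresentedGroup.toGroup hY).comp e'.symm.toMonoidHom).comp e.symm.toMonoidHom, fun g r t hg => ?_⟩
  have e1 : g = e (e' (D.scGen K r.val t)) := by
    apply Subtype.ext
    apply Units.ext
    rw [hg, he' r.val t, he r.val t r.isLt]
  show PresentedGroup.toGroup hY (e'.symm (e.symm g)) = _
  rw [e1, MulEquiv.symm_apply_apply, MulEquiv.symm_apply_apply]
  unfold ChevalleyDatum.scGen ChevalleyDatum.stX
  rw [dif_pos r.isLt]
  exact PresentedGroup.toGroup.of _

end

end Cfsg.Agent.Helper40.St
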