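import Mathlib
import Cfsg.Agent.Helper96.StLift.Root
import Cfsg.Agent.Helper96.StN.MonoW

/-!
Helper40, piece (L3) for helper96's S2086: in a central extension of a group with a Steinberg family of type `A`,
lifts of root elements with disjoint index pairs commute when the field has at least three elements.
-/

set_option autoImplicit false

namespace Cfsg.Agent.Helper40.StLL3

open scoped commutatorElement
open Cfsg.Agent.Helper96.StN Cfsg.Agent.Helper96.StLift

variable {D : Type*} [Group D] {E : Type*} [Group E] {p : E →* D}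
  {K : Type*} [Field K] {ι : Type*} {X : ι → ι → K → D}

/-- a bi-additive symbol invariant under `t ↦ b t` in the first variable, `b ≠ 1`, is trivial -/
theorem symbol_trivial_of_scale {A : Type*} [Group A] (c : K → K → A)
    (hadd : ∀ t t' u, c (t + t') u = c t u * c t' u) (b : K) (hb : b - 1 ≠ 0)
    (hinv : ∀ t u, c t u = c (b * t) u) (t u : K) : c t u = 1 := by
  have h0 : c 0 u = 1 := by
    have := hadd 0 0 u
    rw [add_zero] at this
    exact left_eq_mul.mp this
  have hneg : ∀ t, c (-t) u = (c t u)⁻¹ := by
    intro t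
    rw [eq_inv_iff_mul_eq_one, ← hadd, neg_add_cancel, h0]
  have key : ∀ s, c ((b - 1) * s) u = 1 := by
    intro s
    have e : (b - 1) * s = b * s + -s := by ring
    rw [e, hadd, ← hinv, hneg, mul_inv_cancel]
  have e : t = (b - 1) * ((b - 1)⁻¹ * t) := by
    field_simp
  rw [e]
  exact key _

theorem cl_disjoint [DecidableEq ι] [Fintype K] (hp : Function.Surjective p)
    (hc : p.ker ≤ Subgroup.center E) (hX : StRel X) (h3 : ∀ i j : ι, ∃ k, k ≠ i ∧ k ≠ j)
    (hq : 3 ≤ Fintype.card K) {i j k l : ι} (hij : i ≠ j) (hkl : k ≠ l) (hik : i ≠ k)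
    (hil : i ≠ l) (hjk : j ≠ k) (hjl : j ≠ l) (t u : K) :
    lc hp (X i j t) (X k l u) = 1 := by
  classical
  have haddL := fun t t' u => lc_root_add_left hp hc hX hij hkl hjk hil t t' u
  have haddR := fun t u u' => lc_root_add_right hp hc hX hij hkl hjk hil t u u'
  by_cases hex : ∃ a : K, a ≠ 0 ∧ a * a ≠ 1
  · -- a torus element scaling the first root only
    obtain ⟨a, ha0, ha2⟩ := hex
    have hmono := Hd_isMono hX h3 hij ha0
    have hinv : ∀ t u, lc hp (X i j t) (X k l u) = lc hp (X i j (a * a * t)) (X k l u) := by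
      intro t u
      have h := lc_root_mono hp hc hX hij hkl hjk hil hmono t u
      simp only [Equiv.Perm.one_apply] at h
      have e1 : Cfsg.Agent.Helper96.StN.hp i j a i * (Cfsg.Agent.Helper96.StN.hp i j a j)⁻¹ * t = a * a * t := by
        simp [Cfsg.Agent.Helper96.StN.hp, hij.symm]
      have e2 : Cfsg.Agent.Helper96.StN.hp i j a k * (Cfsg.Agent.Helper96.StN.hp i j a l)⁻¹ * u = u := by
        simp [Cfsg.Agent.Helper96.StN.hp, hik.symm, hil.symm, hjk.symm, hjl.symm]
      rw [e1, e2] at h
      exact h
    exact symbol_trivial_of_scale (fun t u => lc hp (X i j t) (X k l u)) haddL (a * a)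
      (sub_ne_zero.mpr ha2) hinv t u
  · -- the field has three elements
    have hpm : ∀ w : K, w ≠ 0 → w = 1 ∨ w = -1 := by
      intro w hw
      by_contra hne
      apply hex
      refine ⟨w, hw, fun h2 => hne ?_⟩
      have h4 : (w - 1) * (w + 1) = 0 := by linear_combination h2
      rcases mul_eq_zero.mp h4 with h5 | h5
      · exact Or.inl (sub_eq_zero.mp h5)
      · exact Or.inr (eq_neg_of_add_eq_zero_left h5)
    have h2ne : (1 + 1 : K) ≠ 0 := by
      intro h2
      have hneg : (-1 : K) = 1 := by linear_combination -h2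
      have hall : ∀ w : K, w ∈ ({0, 1} : Finset K) := by
        intro w
        by_cases hw : w = 0
        · simp [hw]
        · rcases hpm w hw with h1 | h1
          · simp [h1]
          · simp [h1, hneg]
      have hle : Fintype.card K ≤ ({0, 1} : Finset K).card :=
        Finset.card_le_card_of_surjOn id (fun w _ => ⟨w, hall w, rfl⟩)
      have : ({0, 1} : Finset K).card ≤ 2 := Finset.card_le_two
      omega
    have h3z : (1 + 1 + 1 : K) = 0 := by
      rcases hpm (1 + 1) h2ne with h | h
      · exfalso
        have : (1 : K) = 0 := by linear_combination h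
        exact one_ne_zero this
      · linear_combination h
    -- the monomial element interchanging the two roots
    have hw1 := W_isMono hX h3 hik (one_ne_zero (α := K))
    have hw2 := W_isMono hX h3 hjl (one_ne_zero (α := K))
    have hmono := hw1.mul hw2
    have hswap : ∀ t u, lc hp (X i j t) (X k l u) = (lc hp (X i j u) (X k l t))⁻¹ := by
      intro t u
      have h := lc_root_mono hp hc hX hij hkl hjk hil hmono t u
      have p1 : (Equiv.swap i k * Equiv.swap j l) i = k := by
        rw [Equiv.Perm.mul_apply, Equiv.swap_apply_of_ne_of_ne hij hil, Equiv.swap_apply_left]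
      have p2 : (Equiv.swap i k * Equiv.swap j l) j = l := by
        rw [Equiv.Perm.mul_apply, Equiv.swap_apply_left, Equiv.swap_apply_of_ne_of_ne hil.symm hkl.symm]
      have p3 : (Equiv.swap i k * Equiv.swap j l) k = i := by
        rw [Equiv.Perm.mul_apply, Equiv.swap_apply_of_ne_of_ne hjk.symm hkl, Equiv.swap_apply_right]
      have p4 : (Equiv.swap i k * Equiv.swap j l) l = j := by
        rw [Equiv.Perm.mul_apply, Equiv.swap_apply_right, Equiv.swap_apply_of_ne_of_ne hij.symm hjk]
      rw [p1, p2, p3, p4] at h
      have e1 : wp i k (1 : K) ((Equiv.swap j l) i) * wp j l (1 : K) i *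
          (wp i k (1 : K) ((Equiv.swap j l) j) * wp j l (1 : K) j)⁻¹ * t = t := by
        rw [Equiv.swap_apply_of_ne_of_ne hij hil, Equiv.swap_apply_left]
        simp [wp, hij, hil.symm, hkl.symm]
      have e2 : wp i k (1 : K) ((Equiv.swap j l) k) * wp j l (1 : K) k *
          (wp i k (1 : K) ((Equiv.swap j l) l) * wp j l (1 : K) l)⁻¹ * u = u := by
        rw [Equiv.swap_apply_of_ne_of_ne hjk.symm hkl, Equiv.swap_apply_right]
        simp [wp, hik.symm, hjk.symm, hij.symm, hjl.symm]
      rw [e1, e2] at h
      rw [h, lc_inv]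
    -- the value at `(1, 1)` is trivial
    set c : K → K → E := fun t u => lc hp (X i j t) (X k l u) with hcdef
    have h0L : ∀ u, c 0 u = 1 := fun u => lc_root_zero_left hp hc hX hij _
    have h0R : ∀ t, c t 0 = 1 := fun t => lc_root_zero_right hp hc hX hkl _
    have hnegL : ∀ t u, c (-t) u = (c t u)⁻¹ := fun t u => lc_root_neg_left hp hc hX hij hkl hjk hil t u
    have hnegR : ∀ t u, c t (-u) = (c t u)⁻¹ := fun t u => lc_root_neg_right hp hc hX hij hkl hjk hil t u
    have hsq : c 1 1 * c 1 1 = 1 := by
      have := hswap 1 1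
      exact mul_eq_one_iff_eq_inv.mpr this
    have hcube : c 1 1 * c 1 1 * c 1 1 = 1 := by
      have h := h0L 1
      rw [← h3z] at h
      have e : c (1 + 1 + 1) 1 = c 1 1 * c 1 1 * c 1 1 := by
        show lc hp (X i j (1 + 1 + 1)) (X k l 1) = _
        rw [haddL, haddL]
      rw [e] at h
      exact h
    have h11 : c 1 1 = 1 := by
      rw [hsq, one_mul] at hcube
      exact hcube
    show c t u = 1
    by_cases ht : t = 0
    · rw [ht, h0L]
    by_cases hu : u = 0
    · rw [hu, h0R]
    rcases hpm t ht with rfl | rfl <;> rcases hpm u hu with rfl | rfl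
    · exact h11
    · rw [hnegR, h11, inv_one]
    · rw [hnegL, h11, inv_one]
    · rw [hnegL, hnegR, h11, inv_one, inv_one]

end Cfsg.Agent.Helper40.StLL3
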