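import Mathlib
import Cfsg.Agent.Helper96.StLift.Root
import Cfsg.Agent.Helper96.StN.MonoW

/-!
Helper40, piece (L5) for helper96's S2086: a central extension of a group with a Steinberg family of type `A₂`
(three indices), in which lifts of commuting root elements commute, carries a lifted Steinberg family, provided
the field is generated as a ring by its cubes.
-/

set_option autoImplicit false
set_option linter.unusedSectionVars false

namespace Cfsg.Agent.Helper40.StLL5

open scoped commutatorElement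
open Cfsg.Agent.Helper96.StN Cfsg.Agent.Helper96.StLift

variable {D : Type*} [Group D] {E : Type*} [Group E] {p : E →* D}
  {K : Type*} [Field K] {ι : Type*} {X : ι → ι → K → D}

/-- an additive map into a group invariant under `s ↦ b s`, `b ≠ 1`, is trivial -/
theorem add_trick1 {A : Type*} [Group A] (f : K → A) (hadd : ∀ s s', f (s + s') = f s * f s') (b : K)
    (hb : b - 1 ≠ 0) (hinv : ∀ s, f s = f (b * s)) (s : K) : f s = 1 := by
  have h0 : f 0 = 1 := by
    have := hadd 0 0
    rw [add_zero] at this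
    exact left_eq_mul.mp this
  have hneg : ∀ t, f (-t) = (f t)⁻¹ := by
    intro t
    rw [eq_inv_iff_mul_eq_one, ← hadd, neg_add_cancel, h0]
  have key : ∀ s, f ((b - 1) * s) = 1 := by
    intro s
    have e : (b - 1) * s = b * s + -s := by ring
    rw [e, hadd, ← hinv, hneg, mul_inv_cancel]
  have e : s = (b - 1) * ((b - 1)⁻¹ * s) := by
    field_simp
  rw [e]
  exact key _

section
variable (hp : Function.Surjective p) (hc : p.ker ≤ Subgroup.center E) (hX : StRel X) (hCL : CL hp X)

include hc hCL in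
/-- lifts of commuting root elements commute -/
theorem lift_commute {i j k l : ι} (hij : i ≠ j) (hkl : k ≠ l) (hjk : j ≠ k) (hil : i ≠ l) {t u : K}
    {x y : E} (hx : p x = X i j t) (hy : p y = X k l u) : Commute x y := by
  rw [← commutatorElement_eq_one_iff_commute, lc_eq' hp hc hx hy]
  exact hCL i j k l hij hkl hjk hil t u

/-- the symbol `b_{imj}(t, u)`, a lift of `x_{ij}(t u)` -/
noncomputable def bb (X : ι → ι → K → D) (i m j : ι) (t u : K) : E := lc hp (X i m t) (X m j u)

include hX in
theorem map_bb {i m j : ι} (him : i ≠ m) (hmj : m ≠ j) (hij : i ≠ j) (t u : K) :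
    p (bb hp X i m j t u) = X i j (t * u) := by
  unfold bb
  rw [map_lc, root_eq_commutator hX him hmj hij]

include hc hX hCL in
theorem bb_commute {i m j : ι} (him : i ≠ m) (hmj : m ≠ j) (hij : i ≠ j) (t u t' u' : K) :
    Commute (bb hp X i m j t u) (bb hp X i m j t' u') :=
  lift_commute hp hc hCL hij hij hij.symm hij (map_bb hp hX him hmj hij t u) (map_bb hp hX him hmj hij t' u')

include hc hX hCL in
theorem bb_add_left {i m j : ι} (him : i ≠ m) (hmj : m ≠ j) (hij : i ≠ j) (t t' u : K) :
    bb hp X i m j (t + t') u = bb hp X i m j t u * bb hp X i m j t' u := by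
  obtain ⟨x, hx⟩ := hp (X i m t)
  have h1 : bb hp X i m j (t + t') u = x * bb hp X i m j t' u * x⁻¹ * bb hp X i m j t u := by
    unfold bb
    rw [hX.add i m him, ← hx, lc_mul_left hp hc]
  have h2 : Commute x (bb hp X i m j t' u) :=
    lift_commute hp hc hCL him hij him.symm hij hx (map_bb hp hX him hmj hij t' u)
  rw [h1, h2.eq, mul_inv_cancel_right, (bb_commute hp hc hX hCL him hmj hij t' u t u).eq]

include hc hX hCL in
theorem bb_add_right {i m j : ι} (him : i ≠ m) (hmj : m ≠ j) (hij : i ≠ j) (t u u' : K) :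
    bb hp X i m j t (u + u') = bb hp X i m j t u * bb hp X i m j t u' := by
  obtain ⟨y, hy⟩ := hp (X m j u)
  have h1 : bb hp X i m j t (u + u') = bb hp X i m j t u * (y * bb hp X i m j t u' * y⁻¹) := by
    unfold bb
    rw [hX.add m j hmj, ← hy, lc_mul_right hp hc]
  have h2 : Commute y (bb hp X i m j t u') :=
    lift_commute hp hc hCL hmj hij hij.symm hmj hy (map_bb hp hX him hmj hij t u')
  rw [h1, h2.eq, mul_inv_cancel_right]

include hc hX in
theorem bb_zero_left {i m j : ι} (him : i ≠ m) (t : K) : bb hp X i m j 0 t = 1 := by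
  unfold bb
  rw [X_zero hX him, lc_one_left hp hc]

include hc hX in
theorem bb_zero_right {i m j : ι} (hmj : m ≠ j) (t : K) : bb hp X i m j t 0 = 1 := by
  unfold bb
  rw [X_zero hX hmj, lc_one_right hp hc]

include hc hX hCL in
theorem bb_neg_left {i m j : ι} (him : i ≠ m) (hmj : m ≠ j) (hij : i ≠ j) (t u : K) :
    bb hp X i m j (-t) u = (bb hp X i m j t u)⁻¹ := by
  rw [eq_inv_iff_mul_eq_one, ← bb_add_left hp hc hX hCL him hmj hij, neg_add_cancel, bb_zero_left hp hc hX him]

include hc hX hCL in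
theorem bb_neg_right {i m j : ι} (him : i ≠ m) (hmj : m ≠ j) (hij : i ≠ j) (t u : K) :
    bb hp X i m j t (-u) = (bb hp X i m j t u)⁻¹ := by
  rw [eq_inv_iff_mul_eq_one, ← bb_add_right hp hc hX hCL him hmj hij, neg_add_cancel, bb_zero_right hp hc hX hmj]

end

section
variable [DecidableEq ι] [Fintype K] (hp : Function.Surjective p) (hc : p.ker ≤ Subgroup.center E)
  (hX : StRel X) (hCL : CL hp X) (h3 : ∀ i j : ι, ∃ k, k ≠ i ∧ k ≠ j)

include hc hX h3 in
/-- a torus element acting trivially on `x_{ij}` has lifts commuting with the lifts of `x_{ij}` -/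
theorem torus_symbol_trivial (hq : 3 ≤ Fintype.card K) {i m j : ι} (him : i ≠ m) (hmj : m ≠ j) (hij : i ≠ j)
    {h : D} (hh : h ∈ Hsub X) {pp : ι → K} (hmono : IsMono X h 1 pp) (hχ : pp i * (pp j)⁻¹ = 1) (s : K) :
    lc hp h (X i j s) = 1 := by
  classical
  -- an element other than `0`, `1`
  obtain ⟨a', ha0, ha1⟩ : ∃ a' : K, a' ≠ 0 ∧ a' ≠ 1 := by
    by_contra hne
    have hall : ∀ w : K, w ∈ ({0, 1} : Finset K) := by
      intro w
      by_cases hw : w = 0
      · simp [hw]
      · by_cases hw1 : w = 1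
        · simp [hw1]
        · exact absurd ⟨w, hw, hw1⟩ hne
    have hle : Fintype.card K ≤ ({0, 1} : Finset K).card :=
      Finset.card_le_card_of_surjOn id (fun w _ => ⟨w, hall w, rfl⟩)
    have : ({0, 1} : Finset K).card ≤ 2 := Finset.card_le_two
    omega
  have hcomm : ∀ s, Commute h (X i j s) := by
    intro s
    have := hmono.2 i j hij s
    rw [Equiv.Perm.one_apply, Equiv.Perm.one_apply, hχ, one_mul] at this
    exact mul_inv_eq_iff_eq_mul.mp this
  have hadd : ∀ s s', lc hp h (X i j (s + s')) = lc hp h (X i j s) * lc hp h (X i j s') := by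
    intro s s'
    rw [hX.add i j hij, lc_mul_right_of_commute hp hc (hcomm s')]
  have hinv : ∀ s, lc hp h (X i j s) = lc hp h (X i j (a' * s)) := by
    intro s
    obtain ⟨g', hg'⟩ := hp (Hd X i m a')
    have h1 := lc_conj hp hc g' h (X i j s)
    have hz := lc_mem_center hp hc (hcomm s)
    rw [Subgroup.mem_center_iff] at hz
    rw [hz g', mul_inv_cancel_right, hg'] at h1
    have hh' : Hd X i m a' ∈ Hsub X := Subgroup.subset_closure ⟨i, m, him, a', ha0, rfl⟩
    have e1 : Hd X i m a' * h * (Hd X i m a')⁻¹ = h := by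
      rw [(Hsub_commute hX h3 hh' hh).eq, mul_inv_cancel_right]
    have e2 : Hd X i m a' * X i j s * (Hd X i m a')⁻¹ = X i j (a' * s) := by
      have := (Hd_isMono hX h3 him ha0).2 i j hij s
      rw [Equiv.Perm.one_apply, Equiv.Perm.one_apply] at this
      rw [this]
      congr 1
      simp [Cfsg.Agent.Helper96.StN.hp, hij.symm, hmj.symm]
    rw [e1, e2] at h1
    exact h1
  exact add_trick1 (fun s => lc hp h (X i j s)) hadd a' (sub_ne_zero.mpr ha1) hinv s

include hc hX h3 in
/-- the symbol is balanced with respect to cubes -/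
theorem bb_cube (hq : 3 ≤ Fintype.card K) {i m j : ι} (him : i ≠ m) (hmj : m ≠ j) (hij : i ≠ j) {a : K}
    (ha : a ≠ 0) (t u : K) :
    bb hp X i m j (a ^ 3 * t) ((a ^ 3)⁻¹ * u) = bb hp X i m j t u := by
  set h : D := Hd X i m a * Hd X j m a with hh
  have hmem : h ∈ Hsub X :=
    Subgroup.mul_mem _ (Subgroup.subset_closure ⟨i, m, him, a, ha, rfl⟩)
      (Subgroup.subset_closure ⟨j, m, hmj.symm, a, ha, rfl⟩)
  have hmono : IsMono X h 1 (fun k => Cfsg.Agent.Helper96.StN.hp i m a ((1 : Equiv.Perm ι) k) *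
      Cfsg.Agent.Helper96.StN.hp j m a k) := by
    have := (Hd_isMono hX h3 him ha).mul (Hd_isMono hX h3 hmj.symm ha)
    rwa [mul_one] at this
  have pi_ : Cfsg.Agent.Helper96.StN.hp i m a ((1 : Equiv.Perm ι) i) * Cfsg.Agent.Helper96.StN.hp j m a i = a := by
    simp [Cfsg.Agent.Helper96.StN.hp, hij, him]
  have pj_ : Cfsg.Agent.Helper96.StN.hp i m a ((1 : Equiv.Perm ι) j) * Cfsg.Agent.Helper96.StN.hp j m a j = a := by
    simp [Cfsg.Agent.Helper96.StN.hp, hij.symm, hmj.symm]
  have pm_ : Cfsg.Agent.Helper96.StN.hp i m a ((1 : Equiv.Perm ι) m) * Cfsg.Agent.Helper96.StN.hp j m a m =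
      a⁻¹ * a⁻¹ := by
    simp [Cfsg.Agent.Helper96.StN.hp, him.symm, hmj]
  obtain ⟨g, hg⟩ := hp h
  -- conjugation by a lift of `h`
  have h1 : g * bb hp X i m j t u * g⁻¹ = bb hp X i m j (a ^ 3 * t) ((a ^ 3)⁻¹ * u) := by
    unfold bb
    rw [lc_conj hp hc, hg, hmono.2 i m him, hmono.2 m j hmj]
    simp only [Equiv.Perm.one_apply] at pi_ pj_ pm_ ⊢
    rw [pi_, pj_, pm_]
    congr 2
    · field_simp
    · field_simp
  have h2 : ⁅g, bb hp X i m j t u⁆ = 1 := by
    rw [lc_eq' hp hc hg (map_bb hp hX him hmj hij t u)]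
    apply torus_symbol_trivial hp hc hX h3 hq him hmj hij hmem hmono
    simp only [Equiv.Perm.one_apply] at pi_ pj_
    simp only [Equiv.Perm.one_apply]
    rw [pi_, pj_, mul_inv_cancel₀ ha]
  rw [← h1]
  rw [commutatorElement_eq_one_iff_commute] at h2
  rw [h2.eq, mul_inv_cancel_right]

include hc hX hCL h3 in
/-- the symbol only depends on the product of its arguments -/
theorem bb_balanced (hq : 3 ≤ Fintype.card K) (hcube : ∀ S : Subring K, (∀ a : K, a ^ 3 ∈ S) → S = ⊤)
    {i m j : ι} (him : i ≠ m) (hmj : m ≠ j) (hij : i ≠ j) (t u : K) :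
    bb hp X i m j t u = bb hp X i m j (t * u) 1 := by
  let Λ : Subring K :=
    { carrier := {l | ∀ t u, bb hp X i m j (l * t) u = bb hp X i m j t (l * u)}
      mul_mem' := by
        intro a b ha hb t u
        rw [mul_assoc, ha, hb, ← mul_assoc, mul_comm b a]
      one_mem' := by
        intro t u
        rw [one_mul, one_mul]
      add_mem' := by
        intro a b ha hb t u
        rw [add_mul, add_mul, bb_add_left hp hc hX hCL him hmj hij, bb_add_right hp hc hX hCL him hmj hij, ha, hb]
      zero_mem' := by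
        intro t u
        rw [zero_mul, zero_mul, bb_zero_left hp hc hX him, bb_zero_right hp hc hX hmj]
      neg_mem' := by
        intro a ha t u
        rw [neg_mul, neg_mul, bb_neg_left hp hc hX hCL him hmj hij, bb_neg_right hp hc hX hCL him hmj hij, ha] }
  have hΛ : Λ = ⊤ := by
    apply hcube
    intro a t u
    by_cases ha : a = 0
    · rw [ha]
      simp only [ne_eq, OfNat.ofNat_ne_zero, not_false_eq_true, zero_pow, zero_mul]
      rw [bb_zero_left hp hc hX him, bb_zero_right hp hc hX hmj]
    · have := bb_cube hp hc hX h3 hq him hmj hij ha t (a ^ 3 * u)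
      rw [← this]
      congr 1
      field_simp
  have hall : ∀ l : K, ∀ t u, bb hp X i m j (l * t) u = bb hp X i m j t (l * u) := by
    intro l
    have : l ∈ Λ := by rw [hΛ]; exact Subring.mem_top l
    exact this
  have e1 := hall t 1 u
  have e2 := hall (t * u) 1 1
  rw [mul_one] at e1 e2
  rw [e1, e2]

end

/-- with three indices, an index other than two given ones -/
theorem exists_third [Fintype ι] [DecidableEq ι] (hι : Fintype.card ι = 3) (i j : ι) : ∃ k, k ≠ i ∧ k ≠ j := by
  by_contra hne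
  have hne' : ∀ k, k ≠ i → k = j := fun k hk => by
    by_contra hkj
    exact hne ⟨k, hk, hkj⟩
  have hall : ∀ w : ι, w ∈ ({i, j} : Finset ι) := by
    intro w
    by_cases hw : w = i
    · simp [hw]
    · simp [hne' w hw]
  have hle : Fintype.card ι ≤ ({i, j} : Finset ι).card :=
    Finset.card_le_card_of_surjOn id (fun w _ => ⟨w, hall w, rfl⟩)
  have : ({i, j} : Finset ι).card ≤ 2 := Finset.card_le_two
  omega

/-- with three indices, the index other than two given distinct ones is unique -/
theorem third_unique [Fintype ι] [DecidableEq ι] (hι : Fintype.card ι = 3) {i j m m' : ι} (hij : i ≠ j)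
    (hmi : m ≠ i) (hmj : m ≠ j) (hmi' : m' ≠ i) (hmj' : m' ≠ j) : m = m' := by
  by_contra hne
  have h4 : ({i, j, m, m'} : Finset ι).card = 4 := by
    rw [Finset.card_insert_of_notMem, Finset.card_insert_of_notMem, Finset.card_insert_of_notMem,
      Finset.card_singleton]
    · simpa using hne
    · simp only [Finset.mem_insert, Finset.mem_singleton, not_or]
      exact ⟨hmj.symm, hmj'.symm⟩
    · simp only [Finset.mem_insert, Finset.mem_singleton, not_or]
      exact ⟨hij, hmi.symm, hmi'.symm⟩
  have := Finset.card_le_univ ({i, j, m, m'} : Finset ι)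
  omega

theorem exists_lift_three [DecidableEq ι] [Fintype ι] [Fintype K] (hι : Fintype.card ι = 3)
    (hp : Function.Surjective p) (hc : p.ker ≤ Subgroup.center E) (hX : StRel X) (hCL : CL hp X)
    (hq : 3 ≤ Fintype.card K) (hcube : ∀ S : Subring K, (∀ a : K, a ^ 3 ∈ S) → S = ⊤) :
    ∃ Z : ι → ι → K → E, StRel Z ∧ ∀ i j, i ≠ j → ∀ t, p (Z i j t) = X i j t := by
  have h3 := exists_third hι
  -- the third index
  let mm : ι → ι → ι := fun i j => Classical.choose (h3 i j)
  have hmm : ∀ i j, mm i j ≠ i ∧ mm i j ≠ j := fun i j => Classical.choose_spec (h3 i j)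
  have hmm_eq : ∀ {i j m : ι}, i ≠ j → m ≠ i → m ≠ j → mm i j = m := fun hij hmi hmj =>
    third_unique hι hij (hmm _ _).1 (hmm _ _).2 hmi hmj
  refine ⟨fun i j t => bb hp X i (mm i j) j t 1, ⟨?_, ?_, ?_⟩, ?_⟩
  · -- additivity
    intro i j hij t u
    exact bb_add_left hp hc hX hCL (hmm i j).1.symm (hmm i j).2 hij t u 1
  · -- commuting pairs
    intro i j k l hij hkl hjk hil t u
    have h1 := map_bb hp hX (hmm i j).1.symm (hmm i j).2 hij t 1
    have h2 := map_bb hp hX (hmm k l).1.symm (hmm k l).2 hkl u 1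
    exact (lift_commute hp hc hCL hij hkl hjk hil h1 h2).eq
  · -- the commutator formula
    intro i j l hij hjl hil t u
    have h1 := map_bb hp hX (hmm i j).1.symm (hmm i j).2 hij t 1
    have h2 := map_bb hp hX (hmm j l).1.symm (hmm j l).2 hjl u 1
    rw [mul_one] at h1 h2
    have e : bb hp X i (mm i j) j t 1 * bb hp X j (mm j l) l u 1 * (bb hp X i (mm i j) j t 1)⁻¹ *
        (bb hp X j (mm j l) l u 1)⁻¹ = ⁅bb hp X i (mm i j) j t 1, bb hp X j (mm j l) l u 1⁆ := by
      rw [commutatorElement_def]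
    rw [e, lc_eq' hp hc h1 h2, hmm_eq hil hij.symm hjl]
    exact bb_balanced hp hc hX hCL h3 hq hcube hij hjl hil t u
  · intro i j hij t
    have := map_bb hp hX (hmm i j).1.symm (hmm i j).2 hij t 1
    rwa [mul_one] at this

end Cfsg.Agent.Helper40.StLL5
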