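import Cfsg.Agent.Helper40.StTransfer
import Cfsg.Agent.Helper40.StReg
import Cfsg.Agent.Helper40.SL2Chev
import Cfsg.Agent.Helper18.BNData

/-!
Helper40: in a group `Γ` with root elements satisfying Steinberg's relations (A), (B) and lying over the Chevalley
group, the elements `n̄_p(t)` (`p` fundamental) act on the root elements `x̄_s(u)`, `s ≠ ± p`, as in the Chevalley group.
-/

set_option autoImplicit false
set_option linter.unusedSectionVars false

namespace Cfsg.Agent.Helper40.St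

open Cfsg Cfsg.Lie Cfsg.Agent.Helper18 Cfsg.Agent.Helper40.ChevAdd Cfsg.Agent.Helper40.UProd
  Cfsg.Agent.Helper40.SL2Hom Cfsg.Agent.Helper40.SL2Chev Cfsg.Agent.Helper40.NMono

/-- standard facts on the roots of a tabulated datum, bundled with a regular functional defining the positive roots -/
structure Std (D : ChevalleyDatum) (φ : ℕ → ℤ) : Prop where
  reg : Reg D φ
  pos : ∀ u < D.nroots, (0 < φ u ↔ hlfOf D ≤ u)
  nz : ∀ u < D.nroots, φ u ≠ 0
  neg_lt : ∀ u < D.nroots, D.neg u < D.nroots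
  refl_neg : ∀ i < D.rank, ∀ s < D.nroots, D.reflectRoot i (D.neg s) = D.neg (D.reflectRoot i s)
  simple_lt : ∀ i < D.rank, D.simple i < D.nroots
  simple_pos : ∀ i < D.rank, hlfOf D ≤ D.simple i

namespace Std

variable {D : ChevalleyDatum} {φ : ℕ → ℤ} (S : Std D φ)
include S

theorem φ_neg (u : ℕ) (hu : u < D.nroots) : φ (D.neg u) = - φ u := (S.reg.add u hu).1

theorem neg_neg (u : ℕ) (hu : u < D.nroots) : D.neg (D.neg u) = u := by
  apply S.reg.inj _ (S.neg_lt _ (S.neg_lt u hu)) _ hu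
  rw [S.φ_neg _ (S.neg_lt u hu), S.φ_neg u hu]
  ring

theorem neg_ne (u : ℕ) (hu : u < D.nroots) : D.neg u ≠ u := by
  intro e
  have := S.φ_neg u hu
  rw [e] at this
  have := S.nz u hu
  omega

theorem pos_neg_iff (u : ℕ) (hu : u < D.nroots) : hlfOf D ≤ D.neg u ↔ ¬ hlfOf D ≤ u := by
  rw [← S.pos u hu, ← S.pos _ (S.neg_lt u hu), S.φ_neg u hu]
  have := S.nz u hu
  omega

end Std

theorem exists_std (D : ChevalleyDatum) (hD : D ∈ [chevG2, chevB2, chevD4, chevF4, chevE6, chevE7, chevE8]) :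
    ∃ φ : ℕ → ℤ, Std D φ := by
  obtain ⟨φ, hreg, hpos⟩ := exists_posFun D hD
  obtain ⟨-, hnr, -⟩ := checks_of_mem D hD
  unfold negReflOK at hnr
  simp only [Bool.and_eq_true, decide_eq_true_eq, List.all_eq_true, List.mem_range, beq_iff_eq] at hnr
  have hrank : 0 < D.rank := by
    simp only [List.mem_cons, List.not_mem_nil, or_false] at hD
    rcases hD with rfl | rfl | rfl | rfl | rfl | rfl | rfl <;> decide
  have hsl := Cfsg.Agent.Helper18.simple_lt D (simpleOK_of_mem D hD)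
  refine ⟨φ, hreg, fun u hu => (hpos u hu).1, fun u hu => (hpos u hu).2, fun u hu => (hnr 0 hrank u hu).2,
    fun i hi s hs => (hnr i hi s hs).1, hsl, ?_⟩
  intro i hi
  obtain ⟨f, -, hf0, hf⟩ := exists_posLvl D hD i hi
  by_contra hlt
  -- `p` negative would make `-p` positive different from `p`, so `f (-p) > 0`, but `f (-p) = - f p = 0`
  obtain ⟨f, hfa, hf0, hf⟩ := exists_posLvl D hD i hi
  have hp := hsl i hi
  have hn := (hnr 0 hrank _ hp).2
  have h1 : hlfOf D ≤ D.neg (D.simple i) := by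
    rw [← (hpos _ hn).1, (hreg.add _ hp).1]
    have h2 := (hpos _ hp).1
    have h3 := (hpos _ hp).2
    have : ¬ 0 < φ (D.simple i) := fun h => hlt (h2.mp h)
    omega
  have h4 : D.neg (D.simple i) ≠ D.simple i := by
    intro e
    have := (hreg.add _ hp).1
    rw [e] at this
    have := (hpos _ hp).2
    omega
  have h5 := (hf _ hn).mpr ⟨h1, h4⟩
  rw [(hfa _ hp).1, hf0] at h5
  omega

section
variable {K : Type*} [Field K] {D : ChevalleyDatum} {Γ : Type*} [Group Γ] {X : ℕ → K → Γ}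

/-- `n̄_p(t) = x̄_p(t) x̄_{-p}(-t⁻¹) x̄_p(t)` -/
def nbar (D : ChevalleyDatum) (X : ℕ → K → Γ) (p : ℕ) (t : K) : Γ := w (X p) (X (D.neg p)) t

theorem wordG_mem (H : Subgroup Γ) (wd : List (ℕ × K)) (h : ∀ e ∈ wd, X e.1 e.2 ∈ H) : wordG X wd ∈ H := by
  apply Subgroup.list_prod_mem
  intro g hg
  obtain ⟨e, he, rfl⟩ := List.mem_map.mp hg
  exact h e he

/-- conjugation by `x̄_r(a)` preserves the subgroup of the `x̄_s(u)`, `f s > 0`, if `f r = 0` -/
theorem conj_X_mem_UG (hD : D ∈ [chevG2, chevB2, chevD4, chevF4, chevE6, chevE7, chevE8]) (R : Rels D X)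
    (f : ℕ → ℤ) (hf : ∀ v < D.nroots, IsAdditiveAt D f v) (r : ℕ) (hr : r < D.nroots) (hfr : f r = 0) (a : K)
    (g : Γ) (hg : g ∈ UG D X f) : X r a * g * (X r a)⁻¹ ∈ UG D X f := by
  unfold UG at hg
  induction hg using Subgroup.closure_induction with
  | mem x hx =>
    obtain ⟨s, hs, hfs, u, rfl⟩ := hx
    have hsr : s ≠ r := by
      rintro rfl
      omega
    have hsn : s ≠ D.neg r := by
      rintro rfl
      rw [(hf r hr).1, hfr] at hfs
      omega
    have h1 := R.comm r s hr hs hsr hsn (-a) u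
    rw [R.X_neg r hr] at h1
    have h2 : X r a * X s u * (X r a)⁻¹ = X s u * wordG X (D.commWord K r s (-a) u) := by
      rw [mul_assoc, h1]
      group
    rw [h2]
    apply Subgroup.mul_mem _ (X_mem_UG f s hs hfs u)
    apply wordG_mem
    intro e he
    unfold ChevalleyDatum.commWord at he
    obtain ⟨c, hc, rfl⟩ := List.mem_map.mp he
    obtain ⟨c1, c2, c3, c4⟩ := commTerms_lvl D hD f hf r s hr hs c hc
    apply X_mem_UG f c.1 c1
    rw [c2, hfr]
    have : (1 : ℤ) ≤ (c.2.2.2 : ℤ) := by exact_mod_cast c4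
    nlinarith
  | one =>
    simp only [mul_one, mul_inv_cancel]
    exact Subgroup.one_mem _
  | mul x y _ _ hx hy =>
    have : X r a * (x * y) * (X r a)⁻¹ = (X r a * x * (X r a)⁻¹) * (X r a * y * (X r a)⁻¹) := by group
    rw [this]
    exact Subgroup.mul_mem _ hx hy
  | inv x _ hx =>
    have : X r a * x⁻¹ * (X r a)⁻¹ = (X r a * x * (X r a)⁻¹)⁻¹ := by group
    rw [this]
    exact Subgroup.inv_mem _ hx

theorem X_mem_normalizer (hD : D ∈ [chevG2, chevB2, chevD4, chevF4, chevE6, chevE7, chevE8]) (R : Rels D X)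
    (f : ℕ → ℤ) (hf : ∀ v < D.nroots, IsAdditiveAt D f v) (r : ℕ) (hr : r < D.nroots) (hfr : f r = 0) (a : K) :
    X r a ∈ Subgroup.normalizer (UG D X f : Set Γ) := by
  rw [Subgroup.mem_normalizer_iff]
  intro g
  constructor
  · exact conj_X_mem_UG hD R f hf r hr hfr a g
  · intro h
    have := conj_X_mem_UG hD R f hf r hr hfr (-a) _ h
    rw [R.X_neg r hr] at this
    have e : (X r a)⁻¹ * (X r a * g * (X r a)⁻¹) * (X r a)⁻¹⁻¹ = g := by group
    rw [e] at this
    exact this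

theorem nbar_mem_normalizer (hD : D ∈ [chevG2, chevB2, chevD4, chevF4, chevE6, chevE7, chevE8]) (R : Rels D X)
    (f : ℕ → ℤ) (hf : ∀ v < D.nroots, IsAdditiveAt D f v) (p : ℕ) (hp : p < D.nroots) (hn : D.neg p < D.nroots)
    (hfp : f p = 0) (t : K) : nbar D X p t ∈ Subgroup.normalizer (UG D X f : Set Γ) := by
  have hfn : f (D.neg p) = 0 := by rw [(hf p hp).1, hfp]; rfl
  unfold nbar w
  exact Subgroup.mul_mem _ (Subgroup.mul_mem _ (X_mem_normalizer hD R f hf p hp hfp _)
    (X_mem_normalizer hD R f hf _ hn hfn _)) (X_mem_normalizer hD R f hf p hp hfp _)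

theorem nbar_inv (R : Rels D X) (p : ℕ) (hp : p < D.nroots) (hn : D.neg p < D.nroots) (t : K) :
    (nbar D X p t)⁻¹ = nbar D X p (-t) :=
  (w_neg_of_add _ _ (fun s t => R.add p hp s t) (fun s t => R.add _ hn s t) t).symm

theorem UG_mono {f g : ℕ → ℤ} (h : ∀ u < D.nroots, 0 < f u → 0 < g u) : UG D X f ≤ UG D X g := by
  unfold UG
  apply Subgroup.closure_mono
  rintro x ⟨a, ha, hfa, t, rfl⟩
  exact ⟨a, ha, h a ha hfa, t, rfl⟩

end

section
variable {K : Type*} [Field K] {D : ChevalleyDatum} {Γ : Type*} [Group Γ] {X : ℕ → K → Γ}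
  {hadd : ChevAdd.addOK D = true} {π : Γ →* GL D.Idx K}

theorem π_nbar (O : Over D hadd X π) (p : ℕ) (hp : p < D.nroots) (hn : D.neg p < D.nroots) (t : K) :
    π (nbar D X p t) = nG D hadd p t := by
  unfold nbar nG w
  rw [map_mul, map_mul, O.π_X p hp, O.π_X _ hn]

/-- the action of `n_p(t)` on the root elements of the Chevalley group -/
theorem nG_conj_exists (hD : D ∈ [chevG2, chevB2, chevD4, chevF4, chevE6, chevE7, chevE8]) (i : ℕ)
    (hi : i < D.rank) (s : ℕ) (hs : s < D.nroots) (t : K) (ht : t ≠ 0) :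
    D.reflectRoot i s < D.nroots ∧ ∃ c : K, c ≠ 0 ∧ ∀ u : K,
      nG D hadd (D.simple i) t * xGL D hadd K s u * (nG D hadd (D.simple i) t)⁻¹ =
        xGL D hadd K (D.reflectRoot i s) (c * u) := by
  obtain ⟨π', η, hn, hπ, he⟩ := Cfsg.Agent.Helper40.NData.exists_tables D hD i hi
  have hn' := hn
  unfold nOK at hn'
  rw [Bool.and_eq_true] at hn'
  have hsp := monoOK_spec D i π' η hn'.1 s hs
  have hps := piOK_spec hπ s hs
  have hp := Cfsg.Agent.Helper18.simple_lt D (simpleOK_of_mem D hD) i hi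
  rw [← hps]
  refine ⟨hsp.1, t ^ pairing' D (D.simple i) (π' s) * ((η s : ℤ) : K), ?_, ?_⟩
  · apply mul_ne_zero (zpow_ne_zero _ ht)
    rcases hsp.2.1 with h1 | h1 <;> rw [h1] <;> simp
  · intro u
    have e0 : nG D hadd (D.simple i) t = hG D hadd (D.simple i) t * nG D hadd (D.simple i) 1 := by
      unfold hG h nG
      rw [inv_mul_cancel_right]
    have c := nconj D hadd i π' η hn s hs u
    rw [e0]
    calc hG D hadd (D.simple i) t * nG D hadd (D.simple i) 1 * xGL D hadd K s u *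
          (hG D hadd (D.simple i) t * nG D hadd (D.simple i) 1)⁻¹
        = hG D hadd (D.simple i) t * (nG D hadd (D.simple i) 1 * xGL D hadd K s u *
            (nG D hadd (D.simple i) 1)⁻¹) * (hG D hadd (D.simple i) t)⁻¹ := by group
      _ = xGL D hadd K (π' s) (t ^ pairing' D (D.simple i) (π' s) * (((η s : ℤ) : K) * u)) := by
          rw [c, hconj D hadd hD _ _ hp hsp.1 t _ ht]
      _ = _ := by rw [mul_assoc]

/-- Steinberg's relation: the action of `n̄_p(t)` on the root elements `x̄_s(u)`, `s ≠ ± p` -/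
theorem nbar_conj (hD : D ∈ [chevG2, chevB2, chevD4, chevF4, chevE6, chevE7, chevE8]) (O : Over D hadd X π)
    {φ : ℕ → ℤ} (S : Std D φ) (i : ℕ) (hi : i < D.rank) (s : ℕ) (hs : s < D.nroots) (hsp : s ≠ D.simple i)
    (hsn : s ≠ D.neg (D.simple i)) (t : K) (ht : t ≠ 0) :
    D.reflectRoot i s < D.nroots ∧ ∃ c : K, c ≠ 0 ∧ ∀ u : K,
      nbar D X (D.simple i) t * X s u * (nbar D X (D.simple i) t)⁻¹ = X (D.reflectRoot i s) (c * u) := by
  obtain ⟨hrs, c, hc, hG⟩ := nG_conj_exists (hadd := hadd) hD i hi s hs t ht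
  obtain ⟨f, hfa, hf0, hf⟩ := exists_posLvl D hD i hi
  have hp := S.simple_lt i hi
  have hn := S.neg_lt _ hp
  refine ⟨hrs, c, hc, fun u => ?_⟩
  have hπ : π (nbar D X (D.simple i) t * X s u * (nbar D X (D.simple i) t)⁻¹) =
      π (X (D.reflectRoot i s) (c * u)) := by
    rw [map_mul, map_mul, map_inv, π_nbar O _ hp hn, O.π_X s hs, O.π_X _ hrs, hG]
  by_cases hpos : hlfOf D ≤ s
  · apply transfer hD O S.reg _ _ _ _ hπ
    · apply UG_mono (f := f) (g := φ) (fun u hu h => (S.pos u hu).mpr ((hf u hu).mp h).1)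
      have hnorm := nbar_mem_normalizer hD O.toRels f hfa _ hp hn hf0 t
      exact (Subgroup.mem_normalizer_iff.mp hnorm _).mp (X_mem_UG f s hs ((hf s hs).mpr ⟨hpos, hsp⟩) u)
    · obtain ⟨r1, r2, -⟩ := reflectRoot_pos D hD i s hi ⟨hpos, hs⟩ hsp
      exact X_mem_UG φ _ r2 ((S.pos _ r2).mpr r1) _
  · have hns := S.neg_lt s hs
    have hnpos : hlfOf D ≤ D.neg s := (S.pos_neg_iff s hs).mpr hpos
    have hnsp : D.neg s ≠ D.simple i := by
      intro e
      apply hsn
      rw [← e, S.neg_neg s hs]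
    have hfs : 0 < - f s := by
      have := (hf _ hns).mpr ⟨hnpos, hnsp⟩
      rw [(hfa s hs).1] at this
      exact this
    obtain ⟨r1, r2, -⟩ := reflectRoot_pos D hD i (D.neg s) hi ⟨hnpos, hns⟩ hnsp
    rw [S.refl_neg i hi s hs] at r1 r2
    apply transfer hD O S.reg.neg _ _ _ _ hπ
    · apply UG_mono (f := fun u => - f u) (g := fun u => - φ u)
      · intro u hu h
        have hnu := S.neg_lt u hu
        have h1 : 0 < f (D.neg u) := by rw [(hfa u hu).1]; exact h
        have h2 := ((hf _ hnu).mp h1).1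
        have h3 := (S.pos _ hnu).mpr h2
        rw [S.φ_neg u hu] at h3
        exact h3
      · have hnorm := nbar_mem_normalizer hD O.toRels (fun u => - f u) (fun v hv => isAdditiveAt_neg (hfa v hv))
          _ hp hn (by simp [hf0]) t
        exact (Subgroup.mem_normalizer_iff.mp hnorm _).mp (X_mem_UG (fun u => - f u) s hs hfs u)
    · apply X_mem_UG (fun u => - φ u) _ hrs
      have h3 := (S.pos _ r2).mpr r1
      rw [S.φ_neg _ hrs] at h3
      exact h3

end

end Cfsg.Agent.Helper40.St
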