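import Cfsg.Agent.Helper40.SL2Hom

/-!
Helper40: Steinberg's rank-one relations without (R3), and the vanishing of the Steinberg symbols over a finite
field: if `x y : F → Γ` are additive, `w(t) x(u) w(t)⁻¹ = y(-t⁻² u)`, and `π : Γ → G` has central kernel and makes
`h` multiplicative, then `h` is multiplicative (`F` finite).
-/

set_option autoImplicit false

namespace Cfsg.Agent.Helper40.StSym

open Cfsg.Agent.Helper40.SL2Hom

variable {F : Type*} [Field F] {Γ : Type*} [Group Γ]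

/-- Steinberg's rank-one relations (A), (B') -/
structure Rel0 (x y : F → Γ) : Prop where
  x_add : ∀ s t, x (s + t) = x s * x t
  y_add : ∀ s t, y (s + t) = y s * y t
  conj : ∀ t u, t ≠ 0 → w x y t * x u * (w x y t)⁻¹ = y (-(t⁻¹ * t⁻¹ * u))

namespace Rel0

variable {x y : F → Γ} (R : Rel0 x y)
include R

theorem x_zero : x 0 = 1 := by
  have := R.x_add 0 0
  simpa using this

theorem y_zero : y 0 = 1 := by
  have := R.y_add 0 0
  simpa using this

theorem x_neg (t : F) : x (-t) = (x t)⁻¹ := by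
  apply eq_inv_of_mul_eq_one_left
  rw [← R.x_add, neg_add_cancel, R.x_zero]

theorem y_neg (t : F) : y (-t) = (y t)⁻¹ := by
  apply eq_inv_of_mul_eq_one_left
  rw [← R.y_add, neg_add_cancel, R.y_zero]

theorem w_neg (t : F) : w x y (-t) = (w x y t)⁻¹ := by
  unfold w
  rw [_root_.mul_inv_rev, _root_.mul_inv_rev, ← R.x_neg, ← R.y_neg, inv_neg, neg_neg, mul_assoc]

theorem conj' (t u : F) (ht : t ≠ 0) : (w x y t)⁻¹ * x u * w x y t = y (-(t⁻¹ * t⁻¹ * u)) := by
  have := R.conj (-t) u (neg_ne_zero.mpr ht)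
  rw [R.w_neg, inv_inv, inv_neg, neg_mul_neg] at this
  exact this

theorem conj_y (t v : F) (ht : t ≠ 0) : w x y t * y v * (w x y t)⁻¹ = x (-(t * t * v)) := by
  have := R.conj' t (-(t * t * v)) ht
  have e : -(t⁻¹ * t⁻¹ * -(t * t * v)) = v := by field_simp
  rw [e] at this
  rw [← this]
  group

theorem conj_y' (t v : F) (ht : t ≠ 0) : (w x y t)⁻¹ * y v * w x y t = x (-(t * t * v)) := by
  have := R.conj_y (-t) v (neg_ne_zero.mpr ht)
  rw [R.w_neg, inv_inv, neg_mul_neg] at this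
  exact this

/-- `h(t) x(u) h(t)⁻¹ = x(t² u)` -/
theorem h_x (t u : F) (ht : t ≠ 0) : h x y t * x u * (h x y t)⁻¹ = x (t * t * u) := by
  have h1 := R.conj' 1 u one_ne_zero
  have h2 := R.conj_y t (-(1⁻¹ * 1⁻¹ * u)) ht
  rw [← h1] at h2
  have e : -(t * t * -(1⁻¹ * 1⁻¹ * u)) = t * t * u := by simp
  rw [e] at h2
  rw [← h2]
  unfold h
  group

/-- `h(t) y(u) h(t)⁻¹ = y(t⁻² u)` -/
theorem h_y (t u : F) (ht : t ≠ 0) : h x y t * y u * (h x y t)⁻¹ = y (t⁻¹ * t⁻¹ * u) := by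
  have h1 := R.conj_y' 1 u one_ne_zero
  have h2 := R.conj t (-(1 * 1 * u)) ht
  rw [← h1] at h2
  have e : -(t⁻¹ * t⁻¹ * -(1 * 1 * u)) = t⁻¹ * t⁻¹ * u := by simp
  rw [e] at h2
  rw [← h2]
  unfold h
  group

/-- the symmetric form of `w` -/
theorem w_alt (s : F) (hs : s ≠ 0) : w x y s = y (-s⁻¹) * x s * y (-s⁻¹) := by
  have h1 := R.conj s s hs
  have h2 := R.conj_y s (-s⁻¹) hs
  have e1 : -(s⁻¹ * s⁻¹ * s) = -s⁻¹ := by field_simp
  have e2 : -(s * s * -s⁻¹) = s := by field_simp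
  rw [e1] at h1
  rw [e2] at h2
  calc w x y s = w x y s * (x s * y (-s⁻¹) * x s) * (w x y s)⁻¹ := by
        change w x y s = w x y s * w x y s * (w x y s)⁻¹
        group
    _ = (w x y s * x s * (w x y s)⁻¹) * (w x y s * y (-s⁻¹) * (w x y s)⁻¹) *
          (w x y s * x s * (w x y s)⁻¹) := by group
    _ = y (-s⁻¹) * x s * y (-s⁻¹) := by rw [h1, h2]

/-- `h(t) w(u) h(t)⁻¹ = w(t² u)` -/
theorem h_w (t u : F) (ht : t ≠ 0) (hu : u ≠ 0) : h x y t * w x y u * (h x y t)⁻¹ = w x y (t * t * u) := by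
  have h1 := R.h_x t u ht
  have h2 := R.h_y t (-u⁻¹) ht
  have e : t⁻¹ * t⁻¹ * -u⁻¹ = -(t * t * u)⁻¹ := by field_simp
  rw [e] at h2
  calc h x y t * w x y u * (h x y t)⁻¹ = (h x y t * x u * (h x y t)⁻¹) * (h x y t * y (-u⁻¹) * (h x y t)⁻¹) *
        (h x y t * x u * (h x y t)⁻¹) := by
        unfold w
        group
    _ = w x y (t * t * u) := by
        rw [h1, h2]
        rfl

omit R in
theorem h_mul_h_inv (a b : F) : h x y a * (h x y b)⁻¹ = w x y a * (w x y b)⁻¹ := by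
  unfold h
  group

/-- `h(t) h(u) h(t)⁻¹ = h(t² u) h(t²)⁻¹` -/
theorem h_h (t u : F) (ht : t ≠ 0) (hu : u ≠ 0) :
    h x y t * h x y u * (h x y t)⁻¹ = h x y (t * t * u) * (h x y (t * t))⁻¹ := by
  have h1 := R.h_w t u ht hu
  have h2 := R.h_w t 1 ht one_ne_zero
  rw [mul_one] at h2
  rw [h_mul_h_inv, ← h1, ← h2]
  unfold h
  group

/-- `y(v⁻¹) = x(v) w(v)⁻¹ x(v)` -/
theorem y_inv_eq (v : F) : y v⁻¹ = x v * (w x y v)⁻¹ * x v := by
  rw [← R.w_neg]
  unfold w
  rw [inv_neg, neg_neg, R.x_neg]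
  group

/-- `x(s) = y(s⁻¹) w(s) y(s⁻¹)` -/
theorem x_eq (s : F) (hs : s ≠ 0) : x s = y s⁻¹ * w x y s * y s⁻¹ := by
  rw [R.w_alt s hs, R.y_neg]
  group

/-- the two `LU`-decompositions of `x(a) y(u⁻¹)` -/
theorem lu (a u : F) (ha : a ≠ 0) (hu : u ≠ 0) (hs : a + u ≠ 0) :
    w x y (a + u) * (w x y u)⁻¹ = w x y a * (w x y (a * u / (a + u)))⁻¹ := by
  have he : a * u / (a + u) ≠ 0 := div_ne_zero (mul_ne_zero ha hu) hs
  -- first decomposition
  have P1 : x a * y u⁻¹ = y (a + u)⁻¹ * (w x y (a + u) * (w x y u)⁻¹) * x (a * u / (a + u)) := by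
    have c1 := R.conj_y u (a + u)⁻¹ hu
    have e1 : -(u * u * (a + u)⁻¹) + u = a * u / (a + u) := by field_simp; ring
    calc x a * y u⁻¹ = x (a + u) * (w x y u)⁻¹ * x u := by
          rw [R.y_inv_eq u, R.x_add]
          group
      _ = y (a + u)⁻¹ * w x y (a + u) * y (a + u)⁻¹ * (w x y u)⁻¹ * x u := by
          conv_lhs => rw [R.x_eq (a + u) hs]
      _ = y (a + u)⁻¹ * (w x y (a + u) * (w x y u)⁻¹) *
            ((w x y u * y (a + u)⁻¹ * (w x y u)⁻¹) * x u) := by group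
      _ = y (a + u)⁻¹ * (w x y (a + u) * (w x y u)⁻¹) * x (a * u / (a + u)) := by
          rw [c1, ← R.x_add, e1]
  -- second decomposition
  have P2 : x a * y u⁻¹ = y (a + u)⁻¹ * (w x y a * (w x y (a * u / (a + u)))⁻¹) * x (a * u / (a + u)) := by
    have c2 := R.conj a (a * u / (a + u)) ha
    have e2 : a⁻¹ + u⁻¹ = (a * u / (a + u))⁻¹ := by field_simp; ring
    have e3 : a⁻¹ + -(a⁻¹ * a⁻¹ * (a * u / (a + u))) = (a + u)⁻¹ := by field_simp; ring
    calc x a * y u⁻¹ = y a⁻¹ * w x y a * y (a * u / (a + u))⁻¹ := by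
          conv_lhs => rw [R.x_eq a ha]
          rw [mul_assoc, ← R.y_add, e2]
      _ = y a⁻¹ * w x y a * (x (a * u / (a + u)) * (w x y (a * u / (a + u)))⁻¹ * x (a * u / (a + u))) := by
          rw [R.y_inv_eq (a * u / (a + u))]
      _ = y a⁻¹ * (w x y a * x (a * u / (a + u)) * (w x y a)⁻¹) * (w x y a * (w x y (a * u / (a + u)))⁻¹) *
            x (a * u / (a + u)) := by group
      _ = y (a + u)⁻¹ * (w x y a * (w x y (a * u / (a + u)))⁻¹) * x (a * u / (a + u)) := by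
          rw [c2, ← R.y_add, e3]
  rw [P1] at P2
  exact mul_left_cancel (mul_right_cancel P2)


end Rel0

/-- every element of a finite field of odd characteristic is a sum of two squares -/
theorem exists_sq_add_sq [Finite F] (hF : ringChar F ≠ 2) (n : F) : ∃ a b : F, a * a + b * b = n := by
  classical
  have := Fintype.ofFinite F
  let f : Polynomial F := Polynomial.X ^ 2
  let g : Polynomial F := Polynomial.X ^ 2 - Polynomial.C n
  obtain ⟨a, b, hab⟩ : ∃ a b, f.eval a + g.eval b = 0 :=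
    @FiniteField.exists_root_sum_quadratic _ _ _ _ f g (Polynomial.degree_X_pow 2)
      (Polynomial.degree_X_pow_sub_C (by decide) _) (FiniteField.odd_card_of_char_ne_two hF)
  refine ⟨a, b, ?_⟩
  rw [← sub_eq_zero]
  simp only [f, g, Polynomial.eval_C, Polynomial.eval_X, Polynomial.eval_pow, Polynomial.eval_sub] at hab
  rw [← hab]
  ring

/-- in a finite field of odd characteristic the product of two non-squares is a square -/
theorem isSquare_mul_of_not_isSquare [Finite F] {a b : F} (ha : ¬ IsSquare a) (hb : ¬ IsSquare b) :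
    IsSquare (a * b) := by
  classical
  have := Fintype.ofFinite F
  have ha0 : a ≠ 0 := fun h => ha (h ▸ IsSquare.zero)
  have hb0 : b ≠ 0 := fun h => hb (h ▸ IsSquare.zero)
  rw [← quadraticChar_one_iff_isSquare (mul_ne_zero ha0 hb0), map_mul,
    quadraticChar_neg_one_iff_not_isSquare.mpr ha, quadraticChar_neg_one_iff_not_isSquare.mpr hb]
  norm_num

namespace Rel0

variable {x y : F → Γ} (R : Rel0 x y)
include R

/-- **Vanishing of the Steinberg symbols over a finite field.** -/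
theorem h_mul_of_finite [Finite F] {G : Type*} [Group G] (π : Γ →* G) (hker : π.ker ≤ Subgroup.center Γ)
    (hπ : ∀ s t : F, s ≠ 0 → t ≠ 0 → π (h x y (s * t)) = π (h x y s) * π (h x y t))
    (s t : F) (hs : s ≠ 0) (ht : t ≠ 0) : h x y (s * t) = h x y s * h x y t := by
  classical
  -- the `h(t)` commute
  let ψ : Fˣ →* G :=
    { toFun := fun a => π (h x y (a : F))
      map_one' := by
        show π (h x y ((1 : Fˣ) : F)) = 1
        have e : h x y (1 : F) = 1 := by
          unfold h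
          rw [mul_inv_cancel]
        rw [Units.val_one, e, map_one]
      map_mul' := fun a b => by
        show π (h x y ((a * b : Fˣ) : F)) = _
        rw [Units.val_mul]
        exact hπ _ _ a.ne_zero b.ne_zero }
  obtain ⟨v, hv⟩ := IsCyclic.exists_generator (α := Fˣ)
  have hcen : ∀ a : F, a ≠ 0 → ∃ k : ℤ, ∃ z ∈ Subgroup.center Γ, h x y a = z * h x y (v : F) ^ k := by
    intro a ha
    obtain ⟨k, hk⟩ := Subgroup.mem_zpowers_iff.mp (hv (Units.mk0 a ha))
    refine ⟨k, h x y a * (h x y (v : F) ^ k)⁻¹, ?_, by group⟩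
    apply hker
    rw [MonoidHom.mem_ker, map_mul, map_inv, map_zpow]
    have h1 : π (h x y a) = ψ (Units.mk0 a ha) := rfl
    have h2 : π (h x y (v : F)) = ψ v := rfl
    rw [h1, h2, ← map_zpow, hk, mul_inv_cancel]
  have hcomm : ∀ a b : F, a ≠ 0 → b ≠ 0 → h x y a * h x y b = h x y b * h x y a := by
    intro a b ha hb
    obtain ⟨k, z, hz, e1⟩ := hcen a ha
    obtain ⟨m, z', hz', e2⟩ := hcen b hb
    rw [Subgroup.mem_center_iff] at hz hz'
    rw [e1, e2]
    calc z * h x y (v : F) ^ k * (z' * h x y (v : F) ^ m)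
        = z * (h x y (v : F) ^ k * z') * h x y (v : F) ^ m := by group
      _ = z * (z' * h x y (v : F) ^ k) * h x y (v : F) ^ m := by rw [hz']
      _ = (z * z') * (h x y (v : F) ^ k * h x y (v : F) ^ m) := by group
      _ = (z' * z) * (h x y (v : F) ^ m * h x y (v : F) ^ k) := by
          rw [hz z', ← zpow_add, ← zpow_add, add_comm]
      _ = z' * (z * h x y (v : F) ^ m) * h x y (v : F) ^ k := by group
      _ = z' * (h x y (v : F) ^ m * z) * h x y (v : F) ^ k := by rw [← hz]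
      _ = z' * h x y (v : F) ^ m * (z * h x y (v : F) ^ k) := by group
  -- multiplicativity when one factor is a square
  have hsq : ∀ c u : F, c ≠ 0 → u ≠ 0 → h x y (c * c * u) = h x y (c * c) * h x y u := by
    intro c u hc hu
    have h1 := R.h_h c u hc hu
    have h2 : h x y c * h x y u * (h x y c)⁻¹ = h x y u := by
      rw [hcomm c u hc hu, mul_inv_cancel_right]
    rw [h2] at h1
    have h3 : h x y (c * c * u) = h x y u * h x y (c * c) := by rw [h1, inv_mul_cancel_right]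
    rw [h3, hcomm u (c * c) hu (mul_ne_zero hc hc)]
  have hsq' : ∀ a u : F, IsSquare a → a ≠ 0 → u ≠ 0 → h x y (a * u) = h x y a * h x y u := by
    rintro a u ⟨c, rfl⟩ ha hu
    exact hsq c u (fun h => ha (by rw [h, mul_zero])) hu
  by_cases h2 : ringChar F = 2
  · exact hsq' s t (FiniteField.isSquare_of_char_two h2 s) hs ht
  -- odd characteristic
  obtain ⟨n, hn⟩ := FiniteField.exists_nonsquare (F := F) h2
  obtain ⟨a, b, hab⟩ := exists_sq_add_sq h2 n
  have hn0 : n ≠ 0 := fun h => hn (h ▸ IsSquare.zero)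
  have ha0 : a ≠ 0 := by
    rintro rfl
    apply hn
    rw [← hab, mul_zero, zero_add]
    exact ⟨b, rfl⟩
  have hb0 : b ≠ 0 := by
    rintro rfl
    apply hn
    rw [← hab, mul_zero, add_zero]
    exact ⟨a, rfl⟩
  -- the two special non-squares
  set a₀ : F := n * (a * a) with ha₀
  set u₀ : F := n * (b * b) with hu₀
  have ha₀0 : a₀ ≠ 0 := mul_ne_zero hn0 (mul_ne_zero ha0 ha0)
  have hu₀0 : u₀ ≠ 0 := mul_ne_zero hn0 (mul_ne_zero hb0 hb0)
  have hsum : a₀ + u₀ = n * n := by rw [ha₀, hu₀, ← mul_add, hab]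
  have hnn0 : n * n ≠ 0 := mul_ne_zero hn0 hn0
  have ha₀ns : ¬ IsSquare a₀ := by
    rintro ⟨c, hc⟩
    apply hn
    refine ⟨c / a, ?_⟩
    field_simp
    rw [sq, sq]
    exact hc
  have hu₀ns : ¬ IsSquare u₀ := by
    rintro ⟨c, hc⟩
    apply hn
    refine ⟨c / b, ?_⟩
    field_simp
    rw [sq, sq]
    exact hc
  have hspecial : h x y (a₀ * u₀) = h x y a₀ * h x y u₀ := by
    have hlu := R.lu a₀ u₀ ha₀0 hu₀0 (by rw [hsum]; exact hnn0)
    rw [← h_mul_h_inv, ← h_mul_h_inv, hsum] at hlu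
    have he0 : a₀ * u₀ / (n * n) ≠ 0 := div_ne_zero (mul_ne_zero ha₀0 hu₀0) hnn0
    have h3 := hsq n (a₀ * u₀ / (n * n)) hn0 he0
    have e : n * n * (a₀ * u₀ / (n * n)) = a₀ * u₀ := by field_simp
    rw [e] at h3
    rw [h3]
    -- `h(n²) h(u₀)⁻¹ = h(a₀) h(e)⁻¹`
    have h4 : h x y (n * n) = h x y a₀ * (h x y (a₀ * u₀ / (n * n)))⁻¹ * h x y u₀ := by
      rw [← hlu, inv_mul_cancel_right]
    rw [h4, mul_assoc, mul_assoc, hcomm u₀ _ hu₀0 he0, ← mul_assoc (h x y (a₀ * u₀ / (n * n)))⁻¹,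
      inv_mul_cancel, one_mul]
  by_cases hss : IsSquare s
  · exact hsq' s t hss hs ht
  by_cases hts : IsSquare t
  · rw [mul_comm, hsq' t s hts ht hs, hcomm t s ht hs]
  -- both are non-squares
  obtain ⟨c, hc⟩ := isSquare_mul_of_not_isSquare hss ha₀ns
  obtain ⟨d, hd⟩ := isSquare_mul_of_not_isSquare hts hu₀ns
  have hc0 : c ≠ 0 := by
    rintro rfl
    rw [mul_zero] at hc
    exact mul_ne_zero hs ha₀0 hc
  have hd0 : d ≠ 0 := by
    rintro rfl
    rw [mul_zero] at hd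
    exact mul_ne_zero ht hu₀0 hd
  have es : s = (c / a₀) * (c / a₀) * a₀ := by
    field_simp
    rw [hc, sq]
  have et : t = (d / u₀) * (d / u₀) * u₀ := by
    field_simp
    rw [hd, sq]
  have hca : c / a₀ ≠ 0 := div_ne_zero hc0 ha₀0
  have hdu : d / u₀ ≠ 0 := div_ne_zero hd0 hu₀0
  set c' := c / a₀ with hc'
  set d' := d / u₀ with hd'
  have est : s * t = (c' * d') * (c' * d') * (a₀ * u₀) := by
    rw [es, et]
    ring
  have h5 := hsq c' a₀ hca ha₀0
  have h6 := hsq d' u₀ hdu hu₀0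
  have h7 := hsq (c' * d') (a₀ * u₀) (mul_ne_zero hca hdu) (mul_ne_zero ha₀0 hu₀0)
  have h8 : h x y (c' * d' * (c' * d')) = h x y (c' * c') * h x y (d' * d') := by
    have := hsq c' (d' * d') hca (mul_ne_zero hdu hdu)
    rw [← this]
    congr 1
    ring
  rw [est, h7, h8, hspecial, es, et, h5, h6]
  have k1 := hcomm (d' * d') a₀ (mul_ne_zero hdu hdu) ha₀0
  calc h x y (c' * c') * h x y (d' * d') * (h x y a₀ * h x y u₀)
      = h x y (c' * c') * (h x y (d' * d') * h x y a₀) * h x y u₀ := by group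
    _ = h x y (c' * c') * (h x y a₀ * h x y (d' * d')) * h x y u₀ := by rw [k1]
    _ = h x y (c' * c') * h x y a₀ * (h x y (d' * d') * h x y u₀) := by group

end Rel0

end Cfsg.Agent.Helper40.StSym
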