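import Cfsg.Agent.Helper40.StUniq

/-!
Helper40: the transfer principle. Let `Γ` be a group with root elements `X r t` satisfying Steinberg's relations
(A), (B), lying over the Chevalley group by `π`. For every positive system `{φ > 0}`, `π` is injective on the
subgroup generated by the root elements of the system.
-/

set_option autoImplicit false

namespace Cfsg.Agent.Helper40.St

open Cfsg Cfsg.Lie Cfsg.Agent.Helper18 Cfsg.Agent.Helper40.ChevAdd Cfsg.Agent.Helper40.UProd

section
variable {K : Type*} [Field K] {D : ChevalleyDatum} {Γ : Type*} [Group Γ]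

/-- root elements satisfying (A), (B) and lying over the Chevalley group -/
structure Over (D : ChevalleyDatum) (hadd : ChevAdd.addOK D = true) (X : ℕ → K → Γ) (π : Γ →* GL D.Idx K) : Prop
    extends Rels D X where
  π_X : ∀ r < D.nroots, ∀ t : K, π (X r t) = xGL D hadd K r t

/-- the unipotent subgroup of the positive system `{φ > 0}` -/
def UG (D : ChevalleyDatum) (X : ℕ → K → Γ) (φ : ℕ → ℤ) : Subgroup Γ :=
  Subgroup.closure {g | ∃ a < D.nroots, 0 < φ a ∧ ∃ t : K, g = X a t}

variable {hadd : ChevAdd.addOK D = true} {X : ℕ → K → Γ} {π : Γ →* GL D.Idx K}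

theorem X_mem_UG (φ : ℕ → ℤ) (a : ℕ) (ha : a < D.nroots) (hp : 0 < φ a) (t : K) : X a t ∈ UG D X φ :=
  Subgroup.subset_closure ⟨a, ha, hp, t, rfl⟩

theorem π_pwG (O : Over D hadd X π) (L : List ℕ) (hL : ∀ s ∈ L, s < D.nroots) (t : ℕ → K) :
    π (pwG X L t) = pwGL D hadd L t := by
  induction L with
  | nil => simp [pwG, pwGL]
  | cons r L ih =>
    rw [pwG_cons, pwGL_cons, map_mul, O.π_X r (hL r List.mem_cons_self),
      ih (fun s hs => hL s (List.mem_cons_of_mem _ hs))]

/-- the transfer principle -/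
theorem transfer (hD : D ∈ [chevG2, chevB2, chevD4, chevF4, chevE6, chevE7, chevE8]) (O : Over D hadd X π)
    {φ : ℕ → ℤ} (h : Reg D φ) (g g' : Γ) (hg : g ∈ UG D X φ) (hg' : g' ∈ UG D X φ) (he : π g = π g') : g = g' := by
  obtain ⟨t, rfl⟩ := exists_pwG_posList hD O.toRels h g hg
  obtain ⟨t', rfl⟩ := exists_pwG_posList hD O.toRels h g' hg'
  have hLn : ∀ s ∈ posList D φ, s < D.nroots := fun s hs => ((mem_posList D φ s).mp hs).1
  rw [π_pwG O _ hLn, π_pwG O _ hLn] at he
  have he' : pw D (posList D φ) t = pw D (posList D φ) t' := by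
    rw [← pwGL_val D hadd, ← pwGL_val D hadd, he]
  have := pw_inj' (witOK_of_mem hD) h.add hadd (posList D φ) (fun s hs => (mem_posList D φ s).mp hs)
    (posList_sorted h) t t' he'
  exact pwG_congr _ _ _ this

end

end Cfsg.Agent.Helper40.St
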