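import Cfsg.Agent.Helper40.UGrade
import Cfsg.Agent.Helper40.CommBase

/-!
Helper40: ordered products `∏_{r ∈ L} x_r(t_r)` of root elements: the collection process (from the commutator
formula) and uniqueness of the coefficients (from a grading), for a strictly increasing list `P` of roots.
-/

set_option autoImplicit false

namespace Cfsg.Agent.Helper40.UProd

open Cfsg Cfsg.Lie Cfsg.Agent.Helper40.UT Cfsg.Agent.Helper40.ChevAdd Cfsg.Agent.Helper40.Comm
  Cfsg.Agent.Helper40.UGrade

section
variable {F : Type*} [Field F] (D : ChevalleyDatum)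

/-- the ordered product `∏_{r ∈ L} x_r(t r)` -/
def pw (L : List ℕ) (t : ℕ → F) : Matrix D.Idx D.Idx F := D.wordMat F (L.map fun r => (r, t r))

theorem pw_nil (t : ℕ → F) : pw D [] t = 1 := by simp [pw, ChevalleyDatum.wordMat]

theorem pw_cons (r : ℕ) (L : List ℕ) (t : ℕ → F) : pw D (r :: L) t = D.x F r (t r) * pw D L t := by
  simp [pw, ChevalleyDatum.wordMat]

theorem pw_congr (L : List ℕ) (t t' : ℕ → F) (h : ∀ r ∈ L, t r = t' r) : pw D L t = pw D L t' := by
  unfold pw
  congr 1
  apply List.map_congr_left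
  intro r hr
  rw [h r hr]

theorem wordMat_cons (e : ℕ × F) (w : List (ℕ × F)) : D.wordMat F (e :: w) = D.x F e.1 e.2 * D.wordMat F w := by
  simp [ChevalleyDatum.wordMat]

/-- the set of ordered products over `L` is stable under left multiplication by the `x_s(u)`, `s ∈ L` -/
def Good (F : Type*) [Field F] (L : List ℕ) : Prop :=
  ∀ s ∈ L, ∀ (u : F) (t : ℕ → F), ∃ t' : ℕ → F, D.x F s u * pw D L t = pw D L t'

theorem good_word {L : List ℕ} (hG : Good D F L) (w : List (ℕ × F)) (hw : ∀ e ∈ w, e.1 ∈ L) (t : ℕ → F) :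
    ∃ t' : ℕ → F, D.wordMat F w * pw D L t = pw D L t' := by
  induction w with
  | nil => exact ⟨t, by simp [ChevalleyDatum.wordMat]⟩
  | cons e w ih =>
    obtain ⟨t1, h1⟩ := ih (fun e' he' => hw e' (List.mem_cons_of_mem _ he'))
    obtain ⟨t2, h2⟩ := hG e.1 (hw e List.mem_cons_self) e.2 t1
    exact ⟨t2, by rw [wordMat_cons, mul_assoc, h1, h2]⟩

theorem good_cons (hadd : addOK D = true) (r : ℕ) (L : List ℕ) (hr : r ∉ L) (hG : Good D F L)
    (hcf : ∀ s ∈ L, CF D F r s) (hterms : ∀ s ∈ L, ∀ c ∈ D.commTerms r s, c.1 ∈ L) : Good D F (r :: L) := by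
  intro s hs u t
  rw [pw_cons]
  rcases List.mem_cons.mp hs with rfl | hs
  · refine ⟨Function.update t s (u + t s), ?_⟩
    rw [pw_cons, ← mul_assoc, x_add D hadd, Function.update_self]
    congr 1
    apply pw_congr
    intro x hx
    rw [Function.update_of_ne]
    rintro rfl
    exact hr hx
  · have h1 := hcf s hs (t r) u
    have hw : ∀ e ∈ D.commWord F r s (t r) u, e.1 ∈ L := by
      intro e he
      unfold ChevalleyDatum.commWord at he
      obtain ⟨c, hc, rfl⟩ := List.mem_map.mp he
      exact hterms s hs c hc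
    obtain ⟨t1, e1⟩ := good_word D hG _ hw t
    obtain ⟨t2, e2⟩ := hG s hs u t1
    refine ⟨Function.update t2 r (t r), ?_⟩
    rw [← mul_assoc, h1, mul_assoc, mul_assoc, e1, e2, pw_cons, Function.update_self]
    congr 1
    apply pw_congr
    intro x hx
    rw [Function.update_of_ne]
    rintro rfl
    exact hr hx

/-- elements of a list with strictly increasing keys after a given one -/
theorem mem_of_suffix_of_lt {φ : ℕ → ℤ} {P : List ℕ} (hP : P.Pairwise (fun a b => φ a < φ b)) {r : ℕ} {L : List ℕ}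
    (hL : (r :: L) <:+ P) {x : ℕ} (hx : x ∈ P) (hrx : φ r < φ x) : x ∈ L := by
  obtain ⟨A, rfl⟩ := hL
  rw [List.pairwise_append] at hP
  rcases List.mem_append.mp hx with h | h
  · have := hP.2.2 x h r List.mem_cons_self
    omega
  · rcases List.mem_cons.mp h with rfl | h
    · omega
    · exact h

theorem good_of_suffix (hadd : addOK D = true) (φ : ℕ → ℤ) (P : List ℕ) (hP : P.Pairwise (fun a b => φ a < φ b))
    (H : ∀ r ∈ P, ∀ s ∈ P, φ r < φ s → CF D F r s ∧ ∀ c ∈ D.commTerms r s, c.1 ∈ P ∧ φ r < φ c.1)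
    (L : List ℕ) (hL : L <:+ P) : Good D F L := by
  induction L with
  | nil => intro s hs; cases hs
  | cons r L ih =>
    have hL' : L <:+ P := (List.suffix_cons r L).trans hL
    have hsub : (r :: L).Pairwise (fun a b => φ a < φ b) := hP.sublist hL.sublist
    rw [List.pairwise_cons] at hsub
    have hrP : r ∈ P := hL.subset List.mem_cons_self
    apply good_cons D hadd r L _ (ih hL')
    · intro s hs
      exact (H r hrP s (hL'.subset hs) (hsub.1 s hs)).1
    · intro s hs c hc
      obtain ⟨h1, h2⟩ := (H r hrP s (hL'.subset hs) (hsub.1 s hs)).2 c hc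
      exact mem_of_suffix_of_lt hP hL h1 h2
    · intro hr
      have := hsub.1 r hr
      omega

/-- the ordered product as an element of `GL` -/
def pwGL (hadd : addOK D = true) (L : List ℕ) (t : ℕ → F) : GL D.Idx F := (L.map fun r => xGL D hadd F r (t r)).prod

theorem pwGL_val (hadd : addOK D = true) (L : List ℕ) (t : ℕ → F) :
    ((pwGL D hadd L t : GL D.Idx F) : Matrix D.Idx D.Idx F) = pw D L t := by
  induction L with
  | nil => simp [pwGL, pw_nil]
  | cons r L ih =>
    rw [pw_cons, ← ih]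
    simp [pwGL]

theorem pwGL_cons (hadd : addOK D = true) (r : ℕ) (L : List ℕ) (t : ℕ → F) :
    pwGL D hadd (r :: L) t = xGL D hadd F r (t r) * pwGL D hadd L t := by
  simp [pwGL]

variable {D}

theorem pwGL_mem_utSub {φ : ℕ → ℤ} {wit : ℕ → ℕ × ℕ} (hg : gradeOK D φ wit = true) (hadd : addOK D = true)
    (n : ℕ) (L : List ℕ) (hL : ∀ s ∈ L, D.IsPosRoot s ∧ (n : ℤ) + 1 ≤ φ s) (t : ℕ → F) :
    pwGL D hadd L t ∈ utSub (lvOf D φ) F n := by
  apply Subgroup.list_prod_mem
  intro g hg'
  obtain ⟨s, hs, rfl⟩ := List.mem_map.mp hg'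
  rw [mem_utSub, coe_xGL]
  exact (x_raises hg s (hL s hs).1 (t s)).mono (hL s hs).2

/-- uniqueness of the coefficients of an ordered product over a list of positive roots with increasing weights -/
theorem pw_inj {φ : ℕ → ℤ} {wit : ℕ → ℕ × ℕ} (hg : gradeOK D φ wit = true) (hadd : addOK D = true)
    (L : List ℕ) (hpos : ∀ s ∈ L, D.IsPosRoot s) (hsort : L.Pairwise (fun a b => φ a < φ b))
    (t t' : ℕ → F) (h : pw D L t = pw D L t') : ∀ r ∈ L, t r = t' r := by
  induction L with
  | nil => intro r hr; cases hr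
  | cons r L ih =>
    rw [List.pairwise_cons] at hsort
    have hr : D.IsPosRoot r := hpos r List.mem_cons_self
    have hφ : 0 < φ r := (gradeOK_root hg r hr.1).2.2.mp hr
    have hL : ∀ s ∈ L, D.IsPosRoot s ∧ ((φ r).toNat : ℤ) + 1 ≤ φ s := by
      intro s hs
      refine ⟨hpos s (List.mem_cons_of_mem _ hs), ?_⟩
      have := hsort.1 s hs
      rw [Int.toNat_of_nonneg hφ.le]
      omega
    have hG : pwGL D hadd (r :: L) t = pwGL D hadd (r :: L) t' := by
      apply Units.ext
      rw [pwGL_val, pwGL_val, h]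
    rw [pwGL_cons, pwGL_cons] at hG
    have hA := pwGL_mem_utSub hg hadd (φ r).toNat L hL t
    have hA' := pwGL_mem_utSub hg hadd (φ r).toNat L hL t'
    have e1 : xGL D hadd F r (t r - t' r) = pwGL D hadd L t' * (pwGL D hadd L t)⁻¹ := by
      rw [eq_mul_inv_iff_mul_eq, sub_eq_add_neg, add_comm, ← xGL_add, ← xGL_inv, mul_assoc, hG, ← mul_assoc,
        inv_mul_cancel, one_mul]
    have hmem : xGL D hadd F r (t r - t' r) ∈ utSub (lvOf D φ) F (φ r).toNat := by
      rw [e1]
      exact Subgroup.mul_mem _ hA' (Subgroup.inv_mem _ hA)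
    rw [mem_utSub, coe_xGL, Int.toNat_of_nonneg hφ.le] at hmem
    have hc := eq_zero_of_raises hg r hr _ hmem
    have hrr : t r = t' r := sub_eq_zero.mp hc
    rw [hrr] at hG
    have hG' := mul_left_cancel hG
    have h' : pw D L t = pw D L t' := by
      rw [← pwGL_val D hadd, ← pwGL_val D hadd, hG']
    intro x hx
    rcases List.mem_cons.mp hx with rfl | hx
    · exact hrr
    · exact ih (fun s hs => hpos s (List.mem_cons_of_mem _ hs)) hsort.2 h' x hx

end

end Cfsg.Agent.Helper40.UProd
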