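import Cfsg.Agent.Helper40.StColl
import Cfsg.Agent.Helper40.UProd

/-!
Helper40: uniqueness of the ordered products `∏ x_a(t_a)` in the Chevalley group for an arbitrary positive system
`{φ > 0}` (`φ` a regular additive functional on the roots).
-/

set_option autoImplicit false

namespace Cfsg.Agent.Helper40.St

open Cfsg Cfsg.Lie Cfsg.Agent.Helper18 Cfsg.Agent.Helper40.UT Cfsg.Agent.Helper40.ChevAdd
  Cfsg.Agent.Helper40.UGrade Cfsg.Agent.Helper40.UProd

/-- membership in `chainCoeff` from the chain table -/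
theorem mem_chainCoeff_of_mem (D : ChevalleyDatum) (r : ℕ) (e : ℕ × Array (ℕ × ℤ))
    (he : e ∈ (D.chain.getD r #[]).toList) (q : ℕ × ℤ) (hq : q ∈ e.2.toList) :
    ∃ k : ℕ, 1 ≤ k ∧ (k, q.2) ∈ D.chainCoeff r e.1 q.1 := by
  obtain ⟨i, hi, hi'⟩ := List.getElem_of_mem hq
  refine ⟨i + 1, by omega, ?_⟩
  unfold ChevalleyDatum.chainCoeff
  simp only [List.mem_flatMap, List.mem_filter, List.mem_map, decide_eq_true_eq]
  refine ⟨e, ⟨he, rfl⟩, (q, i), ⟨?_, rfl⟩, rfl⟩
  rw [List.mem_zipIdx_iff_getElem?]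
  show e.2.toList[i]? = some q
  rw [List.getElem?_eq_getElem hi, hi']

/-- the first chain entry with coefficient `±1` -/
def witF (D : ChevalleyDatum) (r : ℕ) : ℕ × ℕ :=
  match (D.chain.getD r #[]).toList.find? (fun e => ((e.2.toList.head?.map Prod.snd).getD 0).natAbs == 1) with
  | none => (0, 0)
  | some e => (e.1, (e.2.toList.head?.map Prod.fst).getD 0)

/-- the witness check, for all roots -/
def witOK (D : ChevalleyDatum) : Bool :=
  (List.range D.nroots).all fun r =>
    decide ((witF D r).1 < D.nroots) && decide ((witF D r).2 < D.nroots) && decide ((witF D r).1 ≠ r) &&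
    decide ((witF D r).1 ≠ D.neg r) && decide ((witF D r).2 ≠ (witF D r).1) &&
    (decide (D.chainCoeff r (witF D r).1 (witF D r).2 = [(1, 1)]) ||
      decide (D.chainCoeff r (witF D r).1 (witF D r).2 = [(1, -1)]))

theorem witOK_G2 : witOK chevG2 = true := by decide +kernel
theorem witOK_B2 : witOK chevB2 = true := by decide +kernel
theorem witOK_D4 : witOK chevD4 = true := by decide +kernel
theorem witOK_F4 : witOK chevF4 = true := by decide +kernel
theorem witOK_E6 : witOK chevE6 = true := by decide +kernel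
theorem witOK_E7 : witOK chevE7 = true := by decide +kernel
theorem witOK_E8 : witOK chevE8 = true := by decide +kernel

theorem witOK_of_mem {D : ChevalleyDatum} (hD : D ∈ [chevG2, chevB2, chevD4, chevF4, chevE6, chevE7, chevE8]) :
    witOK D = true := by
  simp only [List.mem_cons, List.not_mem_nil, or_false] at hD
  rcases hD with rfl | rfl | rfl | rfl | rfl | rfl | rfl
  exacts [witOK_G2, witOK_B2, witOK_D4, witOK_F4, witOK_E6, witOK_E7, witOK_E8]

theorem witOK_spec {D : ChevalleyDatum} (h : witOK D = true) (r : ℕ) (hr : r < D.nroots) :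
    (witF D r).1 < D.nroots ∧ (witF D r).2 < D.nroots ∧ (witF D r).1 ≠ r ∧ (witF D r).1 ≠ D.neg r ∧
      (witF D r).2 ≠ (witF D r).1 ∧
      (D.chainCoeff r (witF D r).1 (witF D r).2 = [(1, 1)] ∨ D.chainCoeff r (witF D r).1 (witF D r).2 = [(1, -1)]) := by
  unfold witOK at h
  rw [List.all_eq_true] at h
  have h1 := h r (List.mem_range.mpr hr)
  simp only [Bool.and_eq_true, Bool.or_eq_true, decide_eq_true_eq] at h1
  obtain ⟨⟨⟨⟨⟨a, b⟩, c⟩, d⟩, e⟩, f⟩ := h1
  exact ⟨a, b, c, d, e, f⟩

section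
variable {K : Type*} [Field K] {D : ChevalleyDatum} {φ : ℕ → ℤ}

/-- a root element of the positive system raises the level by `φ r` -/
theorem x_raises' (hφ : ∀ v < D.nroots, IsAdditiveAt D φ v) (r : ℕ) (hr : r < D.nroots) (hpos : 0 < φ r) (t : K) :
    RaisesBy (lvOf D φ) (φ r) (D.x K r t - 1) := by
  apply x_sub_one_raisesBy D (lvOf D φ) (φ r) r hr
  · intro i
    simp only [lvOf]
    omega
  · intro s hs
    have hs' : s.val = D.neg r := hs
    simp only [lvOf]
    rw [hs', (hφ r hr).1]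
    constructor
    · intro i; omega
    · omega
  · intro e he q hq s u hse huq
    simp only [lvOf]
    obtain ⟨k, hk, hmem⟩ := mem_chainCoeff_of_mem D r e he q hq
    have := (hφ r hr).2 e.1 q.1 _ hmem
    simp only at this
    rw [hse, huq, this]
    have hk' : (1 : ℤ) ≤ (k : ℤ) := by exact_mod_cast hk
    nlinarith

/-- `x_r(c)` raising the level by more than `φ r` forces `c = 0` -/
theorem eq_zero_of_raises' (hw : witOK D = true) (hφ : ∀ v < D.nroots, IsAdditiveAt D φ v) (r : ℕ)
    (hr : r < D.nroots) (c : K) (hc : RaisesBy (lvOf D φ) (φ r + 1) (D.x K r c - 1)) : c = 0 := by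
  obtain ⟨w1, w2, w3, w4, w5, w6⟩ := witOK_spec hw r hr
  have w7 : φ (witF D r).2 = φ (witF D r).1 + φ r := by
    have hmem : ((1 : ℕ), (if D.chainCoeff r (witF D r).1 (witF D r).2 = [(1, 1)] then (1 : ℤ) else -1)) ∈
        D.chainCoeff r (witF D r).1 (witF D r).2 := by
      rcases w6 with w6 | w6
      · rw [if_pos w6, w6]; simp
      · have : ¬ D.chainCoeff r (witF D r).1 (witF D r).2 = [(1, 1)] := by rw [w6]; decide
        rw [if_neg this, w6]; simp
    have := (hφ r hr).2 _ _ _ hmem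
    simpa using this
  by_contra hne
  have hentry : (D.x K r c - 1) (Sum.inr ⟨(witF D r).2, w2⟩) (Sum.inr ⟨(witF D r).1, w1⟩) ≠ 0 := by
    rw [Matrix.sub_apply]
    unfold ChevalleyDatum.x
    rw [dif_pos hr]
    simp only [ChevalleyDatum.xMat, Matrix.of_apply]
    have e1 : ¬ (⟨(witF D r).1, w1⟩ : Fin D.nroots) = ⟨r, hr⟩ := fun e => w3 (congrArg Fin.val e)
    have e2 : ¬ (witF D r).1 = D.negIdx.getD r 0 := w4
    have e3 : ¬ (⟨(witF D r).2, w2⟩ : Fin D.nroots) = ⟨(witF D r).1, w1⟩ := fun e => w5 (congrArg Fin.val e)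
    have e4 : (Sum.inr ⟨(witF D r).2, w2⟩ : D.Idx) ≠ Sum.inr ⟨(witF D r).1, w1⟩ := fun e => e3 (Sum.inr.inj e)
    rw [if_neg e1, if_neg e2, if_neg e3, Matrix.one_apply_ne e4]
    rcases w6 with w6 | w6 <;> rw [w6] <;> simpa using hne
  have := hc _ _ hentry
  simp only [lvOf] at this
  omega

theorem pwGL_mem_utSub' (hφ : ∀ v < D.nroots, IsAdditiveAt D φ v) (hadd : ChevAdd.addOK D = true)
    (n : ℕ) (L : List ℕ) (hL : ∀ s ∈ L, s < D.nroots ∧ (n : ℤ) + 1 ≤ φ s) (t : ℕ → K) :
    pwGL D hadd L t ∈ utSub (lvOf D φ) K n := by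
  apply Subgroup.list_prod_mem
  intro g hg'
  obtain ⟨s, hs, rfl⟩ := List.mem_map.mp hg'
  rw [mem_utSub, coe_xGL]
  have h1 := (hL s hs).2
  exact (x_raises' hφ s (hL s hs).1 (by omega) (t s)).mono h1

/-- uniqueness of the coefficients of an ordered product over a list of roots with positive increasing weights -/
theorem pw_inj' (hw : witOK D = true) (hφ : ∀ v < D.nroots, IsAdditiveAt D φ v) (hadd : ChevAdd.addOK D = true)
    (L : List ℕ) (hpos : ∀ s ∈ L, s < D.nroots ∧ 0 < φ s) (hsort : L.Pairwise (fun a b => φ a < φ b))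
    (t t' : ℕ → K) (h : pw D L t = pw D L t') : ∀ r ∈ L, t r = t' r := by
  induction L with
  | nil => intro r hr; cases hr
  | cons r L ih =>
    rw [List.pairwise_cons] at hsort
    obtain ⟨hr, hφr⟩ := hpos r List.mem_cons_self
    have hL : ∀ s ∈ L, s < D.nroots ∧ ((φ r).toNat : ℤ) + 1 ≤ φ s := by
      intro s hs
      refine ⟨(hpos s (List.mem_cons_of_mem _ hs)).1, ?_⟩
      have := hsort.1 s hs
      rw [Int.toNat_of_nonneg hφr.le]
      omega
    have hG : pwGL D hadd (r :: L) t = pwGL D hadd (r :: L) t' := by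
      apply Units.ext
      rw [pwGL_val, pwGL_val, h]
    rw [pwGL_cons, pwGL_cons] at hG
    have hA := pwGL_mem_utSub' hφ hadd (φ r).toNat L hL t
    have hA' := pwGL_mem_utSub' hφ hadd (φ r).toNat L hL t'
    have e1 : xGL D hadd K r (t r - t' r) = pwGL D hadd L t' * (pwGL D hadd L t)⁻¹ := by
      rw [eq_mul_inv_iff_mul_eq, sub_eq_add_neg, add_comm, ← xGL_add, ← xGL_inv, mul_assoc, hG, ← mul_assoc,
        inv_mul_cancel, one_mul]
    have hmem : xGL D hadd K r (t r - t' r) ∈ utSub (lvOf D φ) K (φ r).toNat := by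
      rw [e1]
      exact Subgroup.mul_mem _ hA' (Subgroup.inv_mem _ hA)
    rw [mem_utSub, coe_xGL, Int.toNat_of_nonneg hφr.le] at hmem
    have hc := eq_zero_of_raises' hw hφ r hr _ hmem
    have hrr : t r = t' r := sub_eq_zero.mp hc
    rw [hrr] at hG
    have hG' := mul_left_cancel hG
    have h' : pw D L t = pw D L t' := by
      rw [← pwGL_val D hadd, ← pwGL_val D hadd, hG']
    intro x hx
    rcases List.mem_cons.mp hx with rfl | hx
    · exact hrr
    · exact ih (fun s hs => hpos s (List.mem_cons_of_mem _ hs)) hsort.2 h' x hx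

end

end Cfsg.Agent.Helper40.St
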