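import Mathlib
import Cfsg.Agent.Helper40.SylowGL
import Cfsg.Agent.Helper5.Card

set_option autoImplicit false

namespace Cfsg.Agent.Helper40

open Finset

section SL

variable {F : Type*} [Field F]

/-- underlying function of `toSLHom` -/
def toSLFun {H : Type*} [Group H] {n : ℕ} (Θ : H →* Matrix (Fin n) (Fin n) F)
    (h : ∀ x, (Θ x).det = 1) (x : H) : Matrix.SpecialLinearGroup (Fin n) F := ⟨Θ x, h x⟩

theorem toSLFun_coe {H : Type*} [Group H] {n : ℕ} (Θ : H →* Matrix (Fin n) (Fin n) F)
    (h : ∀ x, (Θ x).det = 1) (x : H) : (toSLFun Θ h x : Matrix (Fin n) (Fin n) F) = Θ x := rfl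

/-- a hom into matrices with determinant one lands in `SL`. -/
def toSLHom {H : Type*} [Group H] {n : ℕ} (Θ : H →* Matrix (Fin n) (Fin n) F)
    (h : ∀ x, (Θ x).det = 1) : H →* Matrix.SpecialLinearGroup (Fin n) F where
  toFun := toSLFun Θ h
  map_one' := by
    apply Subtype.ext
    rw [toSLFun_coe, map_one, Matrix.SpecialLinearGroup.coe_one]
  map_mul' x y := by
    apply Subtype.ext
    rw [Matrix.SpecialLinearGroup.coe_mul, toSLFun_coe, toSLFun_coe, toSLFun_coe, map_mul]

theorem toSLHom_injective {H : Type*} [Group H] {n : ℕ} (Θ : H →* Matrix (Fin n) (Fin n) F)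
    (h : ∀ x, (Θ x).det = 1) (hΘ : Function.Injective Θ) : Function.Injective (toSLHom Θ h) := by
  intro x y hxy
  apply hΘ
  have := congrArg Subtype.val hxy
  exact this

theorem exists_injective_hom_units [Fintype F] (m : ℕ) (hm : m ∣ Fintype.card F - 1) :
    ∃ u : Multiplicative (ZMod m) →* Fˣ, Function.Injective u := by
  have hcardU : Nat.card Fˣ = Fintype.card F - 1 := by
    rw [Nat.card_units, Nat.card_eq_fintype_card]
  have h2 : 2 ≤ Fintype.card F := Fintype.one_lt_card
  obtain ⟨g, hg⟩ := IsCyclic.exists_ofOrder_eq_natCard (α := Fˣ)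
  obtain ⟨c, hc⟩ := hm
  have hc0 : c ≠ 0 := by
    rintro rfl
    omega
  set ζ := g ^ c with hζ
  have hordζ : orderOf ζ = m := by
    rw [hζ, orderOf_pow_of_dvd hc0 (by rw [hg, hcardU, hc]; exact dvd_mul_left _ _), hg, hcardU, hc]
    exact Nat.mul_div_cancel _ (Nat.pos_of_ne_zero hc0)
  have hgen : ∀ x : Subgroup.zpowers ζ, x ∈ Subgroup.zpowers (⟨ζ, Subgroup.mem_zpowers ζ⟩ : Subgroup.zpowers ζ) := by
    rintro ⟨x, hx⟩
    obtain ⟨i, rfl⟩ := Subgroup.mem_zpowers_iff.1 hx
    exact Subgroup.mem_zpowers_iff.2 ⟨i, by ext; simp⟩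
  have hcardZ : Nat.card (Subgroup.zpowers ζ) = m := by
    rw [Nat.card_zpowers, hordζ]
  let φ : Multiplicative (ZMod m) ≃* Subgroup.zpowers ζ := zmodMulEquivOfGenerator hgen hcardZ
  refine ⟨(Subgroup.zpowers ζ).subtype.comp φ.toMonoidHom, ?_⟩
  exact (Subgroup.subtype_injective _).comp φ.injective

/-- diagonal entries -/
noncomputable def dEntries {n : ℕ} (c : Fin n → Fˣ) : Fin (n + 1) → F :=
  Fin.snoc (fun j => (c j : F)) ((∏ j, (c j : F))⁻¹)

theorem dEntries_one {n : ℕ} : dEntries (F := F) (1 : Fin n → Fˣ) = 1 := by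
  funext i
  refine Fin.lastCases ?_ (fun j => ?_) i <;> simp [dEntries]

theorem dEntries_mul {n : ℕ} (c c' : Fin n → Fˣ) :
    dEntries (c * c') = dEntries c * dEntries c' := by
  funext i
  refine Fin.lastCases ?_ (fun j => ?_) i
  · simp [dEntries, Finset.prod_mul_distrib, mul_comm]
  · simp [dEntries]

theorem prod_dEntries {n : ℕ} (c : Fin n → Fˣ) : ∏ i, dEntries c i = 1 := by
  rw [Fin.prod_univ_castSucc]
  simp only [dEntries, Fin.snoc_castSucc, Fin.snoc_last]
  apply mul_inv_cancel₀
  rw [← Units.coe_prod]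
  exact Units.ne_zero _

/-- underlying function of `diagSL` -/
noncomputable def diagSLFun {n : ℕ} (c : Fin n → Fˣ) : Matrix.SpecialLinearGroup (Fin (n + 1)) F :=
  ⟨Matrix.diagonal (dEntries c), by rw [Matrix.det_diagonal, prod_dEntries]⟩

theorem diagSLFun_coe {n : ℕ} (c : Fin n → Fˣ) :
    (diagSLFun c : Matrix (Fin (n + 1)) (Fin (n + 1)) F) = Matrix.diagonal (dEntries c) := rfl

/-- the diagonal embedding `(Fˣ)^n → SL_{n+1}(F)`. -/
noncomputable def diagSL (n : ℕ) : (Fin n → Fˣ) →* Matrix.SpecialLinearGroup (Fin (n + 1)) F where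
  toFun := diagSLFun
  map_one' := by
    apply Subtype.ext
    rw [Matrix.SpecialLinearGroup.coe_one, diagSLFun_coe, dEntries_one]
    exact Matrix.diagonal_one
  map_mul' c c' := by
    apply Subtype.ext
    rw [Matrix.SpecialLinearGroup.coe_mul, diagSLFun_coe, diagSLFun_coe, diagSLFun_coe,
      Matrix.diagonal_mul_diagonal, dEntries_mul]
    rfl

theorem diagSL_injective (n : ℕ) : Function.Injective (diagSL (F := F) n) := by
  intro c c' h
  funext j
  have h1 := congrArg (fun M : Matrix.SpecialLinearGroup (Fin (n + 1)) F => (M : Matrix _ _ F) j.castSucc j.castSucc) h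
  change (diagSLFun c : Matrix _ _ F) j.castSucc j.castSucc = (diagSLFun c' : Matrix _ _ F) j.castSucc j.castSucc at h1
  rw [diagSLFun_coe, diagSLFun_coe, Matrix.diagonal_apply_eq, Matrix.diagonal_apply_eq] at h1
  simp only [dEntries, Fin.snoc_castSucc] at h1
  exact Units.ext h1


open scoped MatrixGroups in
theorem pow_card_eq_one_pi {k m : ℕ} [NeZero m] (x : Fin k → Multiplicative (ZMod m)) : x ^ m = 1 := by
  funext i
  rw [Pi.pow_apply, Pi.one_apply]
  have : Nat.card (Multiplicative (ZMod m)) = m := by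
    rw [Nat.card_eq_fintype_card, Fintype.card_multiplicative, ZMod.card]
  have h := pow_card_eq_one' (x := x i)
  rwa [this] at h

theorem padicValNat_card_SL [Fintype F] {q : ℕ} (hq : Fintype.card F = q) {r : ℕ} [hr : Fact r.Prime]
    (hrq : ¬ r ∣ q) (n : ℕ) (hn0 : 0 < n) (hn : n < r) :
    padicValNat r (Nat.card (Matrix.SpecialLinearGroup (Fin n) F)) + padicValNat r (q - 1) =
      padicValNat r (q ^ orderOf (q : ZMod r) - 1) * (n / orderOf (q : ZMod r)) := by
  have hq2 : 2 ≤ q := by rw [← hq]; exact Fintype.one_lt_card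
  have : Nonempty (Fin n) := ⟨⟨0, hn0⟩⟩
  have h1 := Cfsg.Agent.Helper5.card_GL_eq_card_SL_mul (n := Fin n) (F := F)
  rw [Matrix.card_GL_field, hq] at h1
  rw [← padicValNat_card_GL hq2 hrq n hn, h1, padicValNat.mul (Nat.card_pos).ne' (by omega)]

theorem card_filter_Icc_two (n d : ℕ) (hd : 2 ≤ d) :
    ((Finset.Icc 2 n).filter (fun i => d ∣ i)).card = n / d := by
  rw [← Nat.Ioc_filter_dvd_card_eq_div n d]
  congr 1
  ext i
  simp only [mem_filter, mem_Icc, mem_Ioc]
  constructor
  · rintro ⟨⟨h1, h2⟩, h3⟩; exact ⟨⟨by omega, h2⟩, h3⟩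
  · rintro ⟨⟨h1, h2⟩, h3⟩
    refine ⟨⟨?_, h2⟩, h3⟩
    have := Nat.le_of_dvd h1 h3
    omega

theorem card_filter_Icc_two_one (n : ℕ) :
    ((Finset.Icc 2 (n + 1)).filter (fun i => 1 ∣ i)).card = n := by
  simp

theorem sylow_SL [Fintype F] {q : ℕ} (hq : Fintype.card F = q) (n : ℕ)
    (r : ℕ) [Fact r.Prime] (hrn : n < r) (hrq : ¬ r ∣ q) (P : Sylow r (Matrix.SpecialLinearGroup (Fin n) F)) :
    Nonempty (↥(P : Subgroup (Matrix.SpecialLinearGroup (Fin n) F)) ≃*
      (Fin ((Finset.Icc 2 n).filter (fun i => orderOf (q : ZMod r) ∣ i)).card →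
        Multiplicative (ZMod (r ^ padicValNat r (q ^ orderOf (q : ZMod r) - 1))))) := by
  have hq2 : 2 ≤ q := by rw [← hq]; exact Fintype.one_lt_card
  set d := orderOf (q : ZMod r) with hd
  set a := padicValNat r (q ^ d - 1) with ha
  have hd0 : 0 < d := ordq_pos hrq
  have hrprime : r.Prime := Fact.out
  have : NeZero (r ^ a) := ⟨pow_ne_zero _ hrprime.ne_zero⟩
  rcases Nat.eq_zero_or_pos n with rfl | hn0
  · -- trivial group
    have h0 : ((Finset.Icc 2 0).filter (fun i => d ∣ i)).card = 0 := by simp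
    rw [h0]
    have hs : Subsingleton (Matrix.SpecialLinearGroup (Fin 0) F) :=
      ⟨fun A B => Subtype.ext (Subsingleton.elim _ _)⟩
    exact ⟨{ toFun := fun _ => 1, invFun := fun _ => 1,
             left_inv := fun x => Subsingleton.elim _ _,
             right_inv := fun x => Subsingleton.elim _ _,
             map_mul' := fun x y => Subsingleton.elim _ _ }⟩
  · have hcardSL := padicValNat_card_SL hq hrq n hn0 hrn
    rw [← hd, ← ha] at hcardSL
    rcases Nat.lt_or_ge d 2 with hd1 | hd2
    · -- d = 1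
      have hd1 : d = 1 := by omega
      obtain ⟨n', rfl⟩ : ∃ n', n = n' + 1 := ⟨n - 1, by omega⟩
      have haq : a = padicValNat r (q - 1) := by rw [ha, hd1, pow_one]
      rw [hd1, card_filter_Icc_two_one]
      rw [hd1, Nat.div_one, ← haq] at hcardSL
      have hra : r ^ a ∣ Fintype.card F - 1 := by
        rw [hq, haq]; exact pow_padicValNat_dvd
      obtain ⟨u, hu⟩ := exists_injective_hom_units (F := F) (r ^ a) hra
      let Ψ : (Fin n' → Multiplicative (ZMod (r ^ a))) →* Matrix.SpecialLinearGroup (Fin (n' + 1)) F :=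
        (diagSL n').comp (u.compLeft (Fin n'))
      have hΨ : Function.Injective Ψ := (diagSL_injective n').comp (hu.comp_left)
      apply sylow_mulEquiv_of_card P Ψ hΨ
      have : padicValNat r (Nat.card (Matrix.SpecialLinearGroup (Fin (n' + 1)) F)) = a * n' := by
        have : a * (n' + 1) = a * n' + a := by ring
        omega
      rw [this, Nat.card_eq_fintype_card]
      simp only [Fintype.card_pi, Finset.prod_const, Finset.card_univ, Fintype.card_fin]
      rw [Fintype.card_multiplicative, ZMod.card, ← pow_mul]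
    · -- d ≥ 2
      rw [card_filter_Icc_two n d hd2]
      have hrq1 : ¬ r ∣ q - 1 := by
        have := (dvd_pow_sub_one_iff (r := r) (q := q) (by omega) 1)
        rw [pow_one] at this
        rw [this, ← hd]
        intro h
        have := Nat.le_of_dvd one_pos h
        omega
      rw [padicValNat.eq_zero_of_not_dvd hrq1, add_zero] at hcardSL
      set k := n / d with hk
      have hra : r ^ a ∣ Fintype.card F ^ d - 1 := by
        rw [hq, ha]; exact pow_padicValNat_dvd
      obtain ⟨ψ, hψ⟩ := exists_injective_hom_matrix (F := F) d hd0 (r ^ a) hra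
      have hkd : d * k ≤ n := Nat.mul_div_le n d
      have e : (Fin d × Fin k) ⊕ Fin (n - d * k) ≃ Fin n :=
        Fintype.equivOfCardEq (by simp; omega)
      let Θ : (Fin k → Multiplicative (ZMod (r ^ a))) →* Matrix (Fin n) (Fin n) F :=
        (blockHom (F := F) e).comp (ψ.compLeft (Fin k))
      have hΘ : Function.Injective Θ := (blockHom_injective e).comp (hψ.comp_left)
      have hdet : ∀ x, (Θ x).det = 1 := by
        intro x
        have h1 : (Θ x).det ^ (r ^ a) = 1 := by
          rw [← Matrix.det_pow, ← map_pow, pow_card_eq_one_pi, map_one, Matrix.det_one]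
        have h0 : (Θ x).det ≠ 0 := by
          intro h
          rw [h, zero_pow (NeZero.ne _)] at h1
          exact zero_ne_one h1
        have h2 : (Θ x).det ^ (q - 1) = 1 := by
          rw [← hq]; exact FiniteField.pow_card_sub_one_eq_one _ h0
        have hcop : Nat.gcd (r ^ a) (q - 1) = 1 :=
          Nat.Coprime.pow_left _ ((Nat.Prime.coprime_iff_not_dvd hrprime).2 hrq1)
        have := pow_gcd_eq_one.2 ⟨h1, h2⟩
        rwa [hcop, pow_one] at this
      apply sylow_mulEquiv_of_card P (toSLHom Θ hdet) (toSLHom_injective Θ hdet hΘ)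
      rw [hcardSL, Nat.card_eq_fintype_card]
      simp only [Fintype.card_pi, Finset.prod_const, Finset.card_univ, Fintype.card_fin]
      rw [Fintype.card_multiplicative, ZMod.card, ← pow_mul]

end SL

end Cfsg.Agent.Helper40
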