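import Cfsg.Agent.Helper40.UGrade

set_option autoImplicit false

namespace Cfsg.Agent.Helper40.UData

open Cfsg Cfsg.Lie Cfsg.Agent.Helper40.UGrade

/-- an additive weight on the roots of G2 inducing the order of the positive roots, packed -/
def phiG2 : ℕ → ℤ := lkZ 19701003561483960141865323690203005253869220205834858671649199144001793012686596890787334609653211295270661737414606
/-- witnesses `(s₀, u₀)` for the positive roots of G2, packed -/
def witG2 : ℕ → ℕ × ℕ := fun r => ((309485009893402662762708992 >>> (8 * r)) % 256, (1862968892163476977629528064 >>> (8 * r)) % 256)
theorem gradeOK_G2 : gradeOK chevG2 phiG2 witG2 = true := by decide +kernel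
theorem posRoots_length_G2 : chevG2.posRoots.length = chevG2.nroots / 2 := by decide +kernel

end Cfsg.Agent.Helper40.UData
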