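import Cfsg.Agent.Helper40.ChevTri
import Cfsg.Agent.Helper40.ChevAdd

/-!
Helper40: a grading of the Chevalley basis by an additive weight `φ` on the roots (table check `gradeOK`),
root elements of positive roots raise it by at least `φ r`, and the consequence
`x_r(c) ∈ (matrices raising the level by more than φ r) → c = 0`.
-/

set_option autoImplicit false

namespace Cfsg.Agent.Helper40.UGrade

open Cfsg Cfsg.Lie Cfsg.Agent.Helper40.UT Cfsg.Agent.Helper40.ChevTri

/-- lookup in a table packed in base `2^32`, shifted by `2^31` -/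
def lkZ (W s : ℕ) : ℤ := (((W >>> (32 * s)) % 4294967296 : ℕ) : ℤ) - 2147483648

/-- the level function of a root weight: all `h_i` on level `0`, `e_s` on level `φ s` -/
def lvOf (D : ChevalleyDatum) (φ : ℕ → ℤ) : D.Idx → ℤ
  | Sum.inl _ => 0
  | Sum.inr s => φ s.val

theorem x_sub_one_raisesBy (D : ChevalleyDatum) {F : Type*} [Field F] (lv : D.Idx → ℤ) (k : ℤ) (r : ℕ) (hr : r < D.nroots)
    (ha : ∀ i, lv (Sum.inl i) + k ≤ lv (Sum.inr ⟨r, hr⟩))
    (hb : ∀ s : Fin D.nroots, s.val = D.negIdx.getD r 0 →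
      (∀ i, lv (Sum.inr s) + k ≤ lv (Sum.inl i)) ∧ lv (Sum.inr s) + k ≤ lv (Sum.inr ⟨r, hr⟩))
    (hd : ∀ e ∈ (D.chain.getD r #[]).toList, ∀ q ∈ e.2.toList, ∀ s u : Fin D.nroots,
      s.val = e.1 → u.val = q.1 → lv (Sum.inr s) + k ≤ lv (Sum.inr u))
    (t : F) : RaisesBy lv k (D.x F r t - 1) := by
  intro i j hne
  rw [Matrix.sub_apply] at hne
  unfold ChevalleyDatum.x at hne
  rw [dif_pos hr] at hne
  simp only [ChevalleyDatum.xMat, Matrix.of_apply] at hne
  rcases j with a | s
  · dsimp only at hne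
    rcases i with a' | u
    · exfalso; apply hne
      by_cases h : a' = a
      · subst h; simp
      · have : (Sum.inl a' : D.Idx) ≠ Sum.inl a := fun e => h (Sum.inl.inj e)
        simp [h, Matrix.one_apply_ne this]
    · by_cases h : u = ⟨r, hr⟩
      · subst h; exact ha a
      · exfalso; apply hne
        simp [h]
  · dsimp only at hne
    by_cases h1 : s = ⟨r, hr⟩
    · exfalso; apply hne
      rw [if_pos h1]
      rcases i with a' | u
      · simp
      · by_cases h : u = ⟨r, hr⟩
        · rw [h1, h]; simp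
        · have : (Sum.inr u : D.Idx) ≠ Sum.inr s := fun e => h (h1 ▸ Sum.inr.inj e)
          simp [h, Matrix.one_apply_ne this]
    · rw [if_neg h1] at hne
      by_cases h2 : s.val = D.negIdx.getD r 0
      · rw [if_pos h2] at hne
        obtain ⟨hb1, hb2⟩ := hb s h2
        rcases i with a' | u
        · exact hb1 a'
        · by_cases h3 : u = s
          · exfalso; apply hne
            subst h3; simp
          · by_cases h4 : u = ⟨r, hr⟩
            · subst h4; exact hb2
            · exfalso; apply hne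
              have : (Sum.inr u : D.Idx) ≠ Sum.inr s := fun e => h3 (Sum.inr.inj e)
              simp [h3, h4, Matrix.one_apply_ne this]
      · rw [if_neg h2] at hne
        rcases i with a' | u
        · exfalso; apply hne
          simp
        · dsimp only at hne
          have hc : D.chainCoeff r s.val u.val ≠ [] := by
            intro hc
            apply hne
            rw [hc]
            by_cases h3 : u = s
            · subst h3; simp
            · have : (Sum.inr u : D.Idx) ≠ Sum.inr s := fun e => h3 (Sum.inr.inj e)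
              simp [h3, Matrix.one_apply_ne this]
          obtain ⟨e, he, hes, q, hq, hqu⟩ := chainCoeff_ne_nil D hc
          exact hd e he q hq s u hes.symm hqu.symm


/-- `φ` is strictly increasing along the list -/
def incr (φ : ℕ → ℤ) : List ℕ → Bool
  | [] => true
  | [_] => true
  | a :: b :: L => decide (φ a < φ b) && incr φ (b :: L)

theorem lt_of_incr (φ : ℕ → ℤ) (a : ℕ) (L : List ℕ) (h : incr φ (a :: L) = true) : ∀ b ∈ L, φ a < φ b := by
  induction L generalizing a with
  | nil => intro b hb; cases hb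
  | cons c L ih =>
    simp only [incr, Bool.and_eq_true, decide_eq_true_eq] at h
    intro b hb
    rcases List.mem_cons.mp hb with rfl | hb
    · exact h.1
    · exact lt_trans h.1 (ih c h.2 b hb)

theorem pairwise_of_incr (φ : ℕ → ℤ) (L : List ℕ) (h : incr φ L = true) : L.Pairwise (fun a b => φ a < φ b) := by
  induction L with
  | nil => exact List.Pairwise.nil
  | cons a L ih =>
    rw [List.pairwise_cons]
    refine ⟨lt_of_incr φ a L h, ih ?_⟩
    cases L with
    | nil => rfl
    | cons c L =>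
      simp only [incr, Bool.and_eq_true] at h
      exact h.2

/-- the table check of a grading: `φ` is odd under `neg`, positive exactly on the positive roots, strictly
increasing along the list of positive roots, additive along the chains of the positive roots; and a witness
`(s₀, u₀)` for every positive root `r` with `x_r(c) e_{s₀} = e_{s₀} ± c e_{u₀} + ⋯` -/
def gradeOK (D : ChevalleyDatum) (φ : ℕ → ℤ) (wit : ℕ → ℕ × ℕ) : Bool :=
  ((List.range D.nroots).all fun r =>
    decide (D.neg r < D.nroots) && decide (φ (D.neg r) = - φ r) &&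
    (decide (D.IsPosRoot r) == decide (0 < φ r)) &&
    (!(decide (D.IsPosRoot r)) ||
      ((D.chain.getD r #[]).toList.all (fun e => (e.2.toList.zipIdx).all fun q =>
          decide (q.1.1 < D.nroots) && decide (φ q.1.1 = φ e.1 + ((q.2 : ℤ) + 1) * φ r)) &&
        decide ((wit r).1 < D.nroots) && decide ((wit r).2 < D.nroots) && decide ((wit r).1 ≠ r) &&
        decide ((wit r).1 ≠ D.neg r) && decide ((wit r).2 ≠ (wit r).1) &&
        (decide (D.chainCoeff r (wit r).1 (wit r).2 = [(1, 1)]) ||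
          decide (D.chainCoeff r (wit r).1 (wit r).2 = [(1, -1)])) &&
        decide (φ (wit r).2 = φ (wit r).1 + φ r)))) &&
  incr φ D.posRoots

section
variable {F : Type*} [Field F]

theorem gradeOK_root {D : ChevalleyDatum} {φ : ℕ → ℤ} {wit : ℕ → ℕ × ℕ} (h : gradeOK D φ wit = true)
    (r : ℕ) (hr : r < D.nroots) :
    D.neg r < D.nroots ∧ φ (D.neg r) = - φ r ∧ (D.IsPosRoot r ↔ 0 < φ r) := by
  unfold gradeOK at h
  rw [Bool.and_eq_true, List.all_eq_true] at h
  have h1 := h.1 r (List.mem_range.mpr hr)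
  simp only [Bool.and_eq_true, decide_eq_true_eq, beq_iff_eq, decide_eq_decide] at h1
  exact ⟨h1.1.1.1, h1.1.1.2, h1.1.2⟩

theorem gradeOK_pos {D : ChevalleyDatum} {φ : ℕ → ℤ} {wit : ℕ → ℕ × ℕ} (h : gradeOK D φ wit = true)
    (r : ℕ) (hr : D.IsPosRoot r) :
    (∀ e ∈ (D.chain.getD r #[]).toList, ∀ q ∈ e.2.toList.zipIdx,
        q.1.1 < D.nroots ∧ φ q.1.1 = φ e.1 + ((q.2 : ℤ) + 1) * φ r) ∧
      (wit r).1 < D.nroots ∧ (wit r).2 < D.nroots ∧ (wit r).1 ≠ r ∧ (wit r).1 ≠ D.neg r ∧ (wit r).2 ≠ (wit r).1 ∧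
      (D.chainCoeff r (wit r).1 (wit r).2 = [(1, 1)] ∨ D.chainCoeff r (wit r).1 (wit r).2 = [(1, -1)]) ∧
      φ (wit r).2 = φ (wit r).1 + φ r := by
  unfold gradeOK at h
  rw [Bool.and_eq_true, List.all_eq_true] at h
  have h1 := h.1 r (List.mem_range.mpr hr.1)
  rw [Bool.and_eq_true] at h1
  have h2 := h1.2
  rw [Bool.or_eq_true] at h2
  rcases h2 with h2 | h2
  · simp [hr] at h2
  · simp only [Bool.and_eq_true, Bool.or_eq_true, decide_eq_true_eq, List.all_eq_true] at h2
    obtain ⟨⟨⟨⟨⟨⟨⟨a1, a2⟩, a3⟩, a4⟩, a5⟩, a6⟩, a7⟩, a8⟩ := h2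
    exact ⟨fun e he q hq => a1 e he q hq, a2, a3, a4, a5, a6, a7, a8⟩

theorem gradeOK_sorted {D : ChevalleyDatum} {φ : ℕ → ℤ} {wit : ℕ → ℕ × ℕ} (h : gradeOK D φ wit = true) :
    D.posRoots.Pairwise (fun a b => φ a < φ b) := by
  unfold gradeOK at h
  rw [Bool.and_eq_true] at h
  exact pairwise_of_incr φ _ h.2

/-- a positive root element raises the level by at least `φ r` -/
theorem x_raises {D : ChevalleyDatum} {φ : ℕ → ℤ} {wit : ℕ → ℕ × ℕ} (h : gradeOK D φ wit = true)
    (r : ℕ) (hr : D.IsPosRoot r) (t : F) : RaisesBy (lvOf D φ) (φ r) (D.x F r t - 1) := by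
  obtain ⟨hn, hφn, hpos⟩ := gradeOK_root h r hr.1
  have hφ : 0 < φ r := hpos.mp hr
  obtain ⟨hch, -⟩ := gradeOK_pos h r hr
  apply x_sub_one_raisesBy D (lvOf D φ) (φ r) r hr.1
  · intro i
    simp only [lvOf]
    omega
  · intro s hs
    have hs' : s.val = D.neg r := hs
    simp only [lvOf]
    rw [hs', hφn]
    constructor
    · intro i; omega
    · omega
  · intro e he q hq s u hse huq
    simp only [lvOf]
    obtain ⟨k, hk⟩ : ∃ k, (q, k) ∈ e.2.toList.zipIdx := by
      obtain ⟨k, hk, hk'⟩ := List.getElem_of_mem hq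
      refine ⟨k, ?_⟩
      rw [List.mem_zipIdx_iff_getElem?]
      show e.2.toList[k]? = some q
      rw [List.getElem?_eq_getElem hk, hk']
    have := (hch e he (q, k) hk).2
    simp only at this
    rw [hse, huq, this]
    have hk0 : (0 : ℤ) ≤ (k : ℤ) := by positivity
    nlinarith

/-- `x_r(c)` in the group of matrices raising the level by more than `φ r` forces `c = 0` -/
theorem eq_zero_of_raises {D : ChevalleyDatum} {φ : ℕ → ℤ} {wit : ℕ → ℕ × ℕ} (h : gradeOK D φ wit = true)
    (r : ℕ) (hr : D.IsPosRoot r) (c : F) (hc : RaisesBy (lvOf D φ) (φ r + 1) (D.x F r c - 1)) : c = 0 := by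
  obtain ⟨-, w1, w2, w3, w4, w5, w6, w7⟩ := gradeOK_pos h r hr
  by_contra hne
  have hentry : (D.x F r c - 1) (Sum.inr ⟨(wit r).2, w2⟩) (Sum.inr ⟨(wit r).1, w1⟩) ≠ 0 := by
    rw [Matrix.sub_apply]
    unfold ChevalleyDatum.x
    rw [dif_pos hr.1]
    simp only [ChevalleyDatum.xMat, Matrix.of_apply]
    have e1 : ¬ (⟨(wit r).1, w1⟩ : Fin D.nroots) = ⟨r, hr.1⟩ := fun e => w3 (congrArg Fin.val e)
    have e2 : ¬ (wit r).1 = D.negIdx.getD r 0 := w4
    have e3 : ¬ (⟨(wit r).2, w2⟩ : Fin D.nroots) = ⟨(wit r).1, w1⟩ := fun e => w5 (congrArg Fin.val e)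
    have e4 : (Sum.inr ⟨(wit r).2, w2⟩ : D.Idx) ≠ Sum.inr ⟨(wit r).1, w1⟩ := fun e => e3 (Sum.inr.inj e)
    rw [if_neg e1, if_neg e2, if_neg e3, Matrix.one_apply_ne e4]
    rcases w6 with w6 | w6 <;> rw [w6] <;> simpa using hne
  have := hc _ _ hentry
  simp only [lvOf] at this
  omega

end

end Cfsg.Agent.Helper40.UGrade
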