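import Cfsg.Agent.Helper40.UcRoots

/-! Helper40: the checks of `UcRoots` for `E7`, in chunks. -/

set_option autoImplicit false

namespace Cfsg.Agent.Helper40.Uc

open Cfsg Cfsg.Lie

set_option maxRecDepth 100000 in
theorem ucE7_0 : ucChunk chevE7 0 6 = true := by decide +kernel

set_option maxRecDepth 100000 in
theorem ucE7_6 : ucChunk chevE7 6 6 = true := by decide +kernel

set_option maxRecDepth 100000 in
theorem ucE7_12 : ucChunk chevE7 12 6 = true := by decide +kernel

set_option maxRecDepth 100000 in
theorem ucE7_18 : ucChunk chevE7 18 6 = true := by decide +kernel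

set_option maxRecDepth 100000 in
theorem ucE7_24 : ucChunk chevE7 24 6 = true := by decide +kernel

set_option maxRecDepth 100000 in
theorem ucE7_30 : ucChunk chevE7 30 6 = true := by decide +kernel

set_option maxRecDepth 100000 in
theorem ucE7_36 : ucChunk chevE7 36 6 = true := by decide +kernel

set_option maxRecDepth 100000 in
theorem ucE7_42 : ucChunk chevE7 42 6 = true := by decide +kernel

set_option maxRecDepth 100000 in
theorem ucE7_48 : ucChunk chevE7 48 6 = true := by decide +kernel

set_option maxRecDepth 100000 in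
theorem ucE7_54 : ucChunk chevE7 54 6 = true := by decide +kernel

set_option maxRecDepth 100000 in
theorem ucE7_60 : ucChunk chevE7 60 6 = true := by decide +kernel

set_option maxRecDepth 100000 in
theorem ucE7_66 : ucChunk chevE7 66 6 = true := by decide +kernel

set_option maxRecDepth 100000 in
theorem ucE7_72 : ucChunk chevE7 72 6 = true := by decide +kernel

set_option maxRecDepth 100000 in
theorem ucE7_78 : ucChunk chevE7 78 6 = true := by decide +kernel

set_option maxRecDepth 100000 in
theorem ucE7_84 : ucChunk chevE7 84 6 = true := by decide +kernel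

set_option maxRecDepth 100000 in
theorem ucE7_90 : ucChunk chevE7 90 6 = true := by decide +kernel

set_option maxRecDepth 100000 in
theorem ucE7_96 : ucChunk chevE7 96 6 = true := by decide +kernel

set_option maxRecDepth 100000 in
theorem ucE7_102 : ucChunk chevE7 102 6 = true := by decide +kernel

set_option maxRecDepth 100000 in
theorem ucE7_108 : ucChunk chevE7 108 6 = true := by decide +kernel

set_option maxRecDepth 100000 in
theorem ucE7_114 : ucChunk chevE7 114 6 = true := by decide +kernel

set_option maxRecDepth 100000 in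
theorem ucE7_120 : ucChunk chevE7 120 6 = true := by decide +kernel

theorem ucE7_all_0 : ucChunk chevE7 0 126 = true :=
  (ucChunk_add chevE7 0 6 120 ucE7_0 (ucChunk_add chevE7 6 6 114 ucE7_6 (ucChunk_add chevE7 12 6 108 ucE7_12 (ucChunk_add chevE7 18 6 102 ucE7_18 (ucChunk_add chevE7 24 6 96 ucE7_24 (ucChunk_add chevE7 30 6 90 ucE7_30 (ucChunk_add chevE7 36 6 84 ucE7_36 (ucChunk_add chevE7 42 6 78 ucE7_42 (ucChunk_add chevE7 48 6 72 ucE7_48 (ucChunk_add chevE7 54 6 66 ucE7_54 (ucChunk_add chevE7 60 6 60 ucE7_60 (ucChunk_add chevE7 66 6 54 ucE7_66 (ucChunk_add chevE7 72 6 48 ucE7_72 (ucChunk_add chevE7 78 6 42 ucE7_78 (ucChunk_add chevE7 84 6 36 ucE7_84 (ucChunk_add chevE7 90 6 30 ucE7_90 (ucChunk_add chevE7 96 6 24 ucE7_96 (ucChunk_add chevE7 102 6 18 ucE7_102 (ucChunk_add chevE7 108 6 12 ucE7_108 (ucChunk_add chevE7 114 6 6 ucE7_114 ucE7_120))))))))))))))))))))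

end Cfsg.Agent.Helper40.Uc
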