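import Cfsg.Agent.Helper40.UcRoots

/-! Helper40: the checks of `UcRoots` for `E8`, roots 0 to 59. -/

set_option autoImplicit false

namespace Cfsg.Agent.Helper40.Uc

open Cfsg Cfsg.Lie

set_option maxRecDepth 100000 in
theorem ucE8_0 : ucChunk chevE8 0 2 = true := by decide +kernel

set_option maxRecDepth 100000 in
theorem ucE8_2 : ucChunk chevE8 2 2 = true := by decide +kernel

set_option maxRecDepth 100000 in
theorem ucE8_4 : ucChunk chevE8 4 2 = true := by decide +kernel

set_option maxRecDepth 100000 in
theorem ucE8_6 : ucChunk chevE8 6 2 = true := by decide +kernel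

set_option maxRecDepth 100000 in
theorem ucE8_8 : ucChunk chevE8 8 2 = true := by decide +kernel

set_option maxRecDepth 100000 in
theorem ucE8_10 : ucChunk chevE8 10 2 = true := by decide +kernel

set_option maxRecDepth 100000 in
theorem ucE8_12 : ucChunk chevE8 12 2 = true := by decide +kernel

set_option maxRecDepth 100000 in
theorem ucE8_14 : ucChunk chevE8 14 2 = true := by decide +kernel

set_option maxRecDepth 100000 in
theorem ucE8_16 : ucChunk chevE8 16 2 = true := by decide +kernel

set_option maxRecDepth 100000 in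
theorem ucE8_18 : ucChunk chevE8 18 2 = true := by decide +kernel

set_option maxRecDepth 100000 in
theorem ucE8_20 : ucChunk chevE8 20 2 = true := by decide +kernel

set_option maxRecDepth 100000 in
theorem ucE8_22 : ucChunk chevE8 22 2 = true := by decide +kernel

set_option maxRecDepth 100000 in
theorem ucE8_24 : ucChunk chevE8 24 2 = true := by decide +kernel

set_option maxRecDepth 100000 in
theorem ucE8_26 : ucChunk chevE8 26 2 = true := by decide +kernel

set_option maxRecDepth 100000 in
theorem ucE8_28 : ucChunk chevE8 28 2 = true := by decide +kernel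

set_option maxRecDepth 100000 in
theorem ucE8_30 : ucChunk chevE8 30 2 = true := by decide +kernel

set_option maxRecDepth 100000 in
theorem ucE8_32 : ucChunk chevE8 32 2 = true := by decide +kernel

set_option maxRecDepth 100000 in
theorem ucE8_34 : ucChunk chevE8 34 2 = true := by decide +kernel

set_option maxRecDepth 100000 in
theorem ucE8_36 : ucChunk chevE8 36 2 = true := by decide +kernel

set_option maxRecDepth 100000 in
theorem ucE8_38 : ucChunk chevE8 38 2 = true := by decide +kernel

set_option maxRecDepth 100000 in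
theorem ucE8_40 : ucChunk chevE8 40 2 = true := by decide +kernel

set_option maxRecDepth 100000 in
theorem ucE8_42 : ucChunk chevE8 42 2 = true := by decide +kernel

set_option maxRecDepth 100000 in
theorem ucE8_44 : ucChunk chevE8 44 2 = true := by decide +kernel

set_option maxRecDepth 100000 in
theorem ucE8_46 : ucChunk chevE8 46 2 = true := by decide +kernel

set_option maxRecDepth 100000 in
theorem ucE8_48 : ucChunk chevE8 48 2 = true := by decide +kernel

set_option maxRecDepth 100000 in
theorem ucE8_50 : ucChunk chevE8 50 2 = true := by decide +kernel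

set_option maxRecDepth 100000 in
theorem ucE8_52 : ucChunk chevE8 52 2 = true := by decide +kernel

set_option maxRecDepth 100000 in
theorem ucE8_54 : ucChunk chevE8 54 2 = true := by decide +kernel

set_option maxRecDepth 100000 in
theorem ucE8_56 : ucChunk chevE8 56 2 = true := by decide +kernel

set_option maxRecDepth 100000 in
theorem ucE8_58 : ucChunk chevE8 58 2 = true := by decide +kernel

theorem ucE8_all_0 : ucChunk chevE8 0 60 = true :=
  (ucChunk_add chevE8 0 2 58 ucE8_0 (ucChunk_add chevE8 2 2 56 ucE8_2 (ucChunk_add chevE8 4 2 54 ucE8_4 (ucChunk_add chevE8 6 2 52 ucE8_6 (ucChunk_add chevE8 8 2 50 ucE8_8 (ucChunk_add chevE8 10 2 48 ucE8_10 (ucChunk_add chevE8 12 2 46 ucE8_12 (ucChunk_add chevE8 14 2 44 ucE8_14 (ucChunk_add chevE8 16 2 42 ucE8_16 (ucChunk_add chevE8 18 2 40 ucE8_18 (ucChunk_add chevE8 20 2 38 ucE8_20 (ucChunk_add chevE8 22 2 36 ucE8_22 (ucChunk_add chevE8 24 2 34 ucE8_24 (ucChunk_add chevE8 26 2 32 ucE8_26 (ucChunk_add chevE8 28 2 30 ucE8_28 (ucChunk_add chevE8 30 2 28 ucE8_30 (ucChunk_add chevE8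 32 2 26 ucE8_32 (ucChunk_add chevE8 34 2 24 ucE8_34 (ucChunk_add chevE8 36 2 22 ucE8_36 (ucChunk_add chevE8 38 2 20 ucE8_38 (ucChunk_add chevE8 40 2 18 ucE8_40 (ucChunk_add chevE8 42 2 16 ucE8_42 (ucChunk_add chevE8 44 2 14 ucE8_44 (ucChunk_add chevE8 46 2 12 ucE8_46 (ucChunk_add chevE8 48 2 10 ucE8_48 (ucChunk_add chevE8 50 2 8 ucE8_50 (ucChunk_add chevE8 52 2 6 ucE8_52 (ucChunk_add chevE8 54 2 4 ucE8_54 (ucChunk_add chevE8 56 2 2 ucE8_56 ucE8_58)))))))))))))))))))))))))))))

end Cfsg.Agent.Helper40.Uc
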