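import Cfsg.Agent.Helper40.UcRoots

/-! Helper40: the checks of `UcRoots` for `E8`, roots 60 to 119. -/

set_option autoImplicit false

namespace Cfsg.Agent.Helper40.Uc

open Cfsg Cfsg.Lie

set_option maxRecDepth 100000 in
theorem ucE8_60 : ucChunk chevE8 60 2 = true := by decide +kernel

set_option maxRecDepth 100000 in
theorem ucE8_62 : ucChunk chevE8 62 2 = true := by decide +kernel

set_option maxRecDepth 100000 in
theorem ucE8_64 : ucChunk chevE8 64 2 = true := by decide +kernel

set_option maxRecDepth 100000 in
theorem ucE8_66 : ucChunk chevE8 66 2 = true := by decide +kernel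

set_option maxRecDepth 100000 in
theorem ucE8_68 : ucChunk chevE8 68 2 = true := by decide +kernel

set_option maxRecDepth 100000 in
theorem ucE8_70 : ucChunk chevE8 70 2 = true := by decide +kernel

set_option maxRecDepth 100000 in
theorem ucE8_72 : ucChunk chevE8 72 2 = true := by decide +kernel

set_option maxRecDepth 100000 in
theorem ucE8_74 : ucChunk chevE8 74 2 = true := by decide +kernel

set_option maxRecDepth 100000 in
theorem ucE8_76 : ucChunk chevE8 76 2 = true := by decide +kernel

set_option maxRecDepth 100000 in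
theorem ucE8_78 : ucChunk chevE8 78 2 = true := by decide +kernel

set_option maxRecDepth 100000 in
theorem ucE8_80 : ucChunk chevE8 80 2 = true := by decide +kernel

set_option maxRecDepth 100000 in
theorem ucE8_82 : ucChunk chevE8 82 2 = true := by decide +kernel

set_option maxRecDepth 100000 in
theorem ucE8_84 : ucChunk chevE8 84 2 = true := by decide +kernel

set_option maxRecDepth 100000 in
theorem ucE8_86 : ucChunk chevE8 86 2 = true := by decide +kernel

set_option maxRecDepth 100000 in
theorem ucE8_88 : ucChunk chevE8 88 2 = true := by decide +kernel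

set_option maxRecDepth 100000 in
theorem ucE8_90 : ucChunk chevE8 90 2 = true := by decide +kernel

set_option maxRecDepth 100000 in
theorem ucE8_92 : ucChunk chevE8 92 2 = true := by decide +kernel

set_option maxRecDepth 100000 in
theorem ucE8_94 : ucChunk chevE8 94 2 = true := by decide +kernel

set_option maxRecDepth 100000 in
theorem ucE8_96 : ucChunk chevE8 96 2 = true := by decide +kernel

set_option maxRecDepth 100000 in
theorem ucE8_98 : ucChunk chevE8 98 2 = true := by decide +kernel

set_option maxRecDepth 100000 in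
theorem ucE8_100 : ucChunk chevE8 100 2 = true := by decide +kernel

set_option maxRecDepth 100000 in
theorem ucE8_102 : ucChunk chevE8 102 2 = true := by decide +kernel

set_option maxRecDepth 100000 in
theorem ucE8_104 : ucChunk chevE8 104 2 = true := by decide +kernel

set_option maxRecDepth 100000 in
theorem ucE8_106 : ucChunk chevE8 106 2 = true := by decide +kernel

set_option maxRecDepth 100000 in
theorem ucE8_108 : ucChunk chevE8 108 2 = true := by decide +kernel

set_option maxRecDepth 100000 in
theorem ucE8_110 : ucChunk chevE8 110 2 = true := by decide +kernel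

set_option maxRecDepth 100000 in
theorem ucE8_112 : ucChunk chevE8 112 2 = true := by decide +kernel

set_option maxRecDepth 100000 in
theorem ucE8_114 : ucChunk chevE8 114 2 = true := by decide +kernel

set_option maxRecDepth 100000 in
theorem ucE8_116 : ucChunk chevE8 116 2 = true := by decide +kernel

set_option maxRecDepth 100000 in
theorem ucE8_118 : ucChunk chevE8 118 2 = true := by decide +kernel

theorem ucE8_all_60 : ucChunk chevE8 60 60 = true :=
  (ucChunk_add chevE8 60 2 58 ucE8_60 (ucChunk_add chevE8 62 2 56 ucE8_62 (ucChunk_add chevE8 64 2 54 ucE8_64 (ucChunk_add chevE8 66 2 52 ucE8_66 (ucChunk_add chevE8 68 2 50 ucE8_68 (ucChunk_add chevE8 70 2 48 ucE8_70 (ucChunk_add chevE8 72 2 46 ucE8_72 (ucChunk_add chevE8 74 2 44 ucE8_74 (ucChunk_add chevE8 76 2 42 ucE8_76 (ucChunk_add chevE8 78 2 40 ucE8_78 (ucChunk_add chevE8 80 2 38 ucE8_80 (ucChunk_add chevE8 82 2 36 ucE8_82 (ucChunk_add chevE8 84 2 34 ucE8_84 (ucChunk_add chevE8 86 2 32 ucE8_86 (ucChunk_add chevE8 88 2 30 ucE8_88 (ucChunk_add chevE8 90 2 28 ucE8_90 (ucChunk_add chevE8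 92 2 26 ucE8_92 (ucChunk_add chevE8 94 2 24 ucE8_94 (ucChunk_add chevE8 96 2 22 ucE8_96 (ucChunk_add chevE8 98 2 20 ucE8_98 (ucChunk_add chevE8 100 2 18 ucE8_100 (ucChunk_add chevE8 102 2 16 ucE8_102 (ucChunk_add chevE8 104 2 14 ucE8_104 (ucChunk_add chevE8 106 2 12 ucE8_106 (ucChunk_add chevE8 108 2 10 ucE8_108 (ucChunk_add chevE8 110 2 8 ucE8_110 (ucChunk_add chevE8 112 2 6 ucE8_112 (ucChunk_add chevE8 114 2 4 ucE8_114 (ucChunk_add chevE8 116 2 2 ucE8_116 ucE8_118)))))))))))))))))))))))))))))

end Cfsg.Agent.Helper40.Uc
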