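import Cfsg.Agent.Helper40.UcRoots

/-! Helper40: the checks of `UcRoots` for `E8`, roots 120 to 179. -/

set_option autoImplicit false

namespace Cfsg.Agent.Helper40.Uc

open Cfsg Cfsg.Lie

set_option maxRecDepth 100000 in
theorem ucE8_120 : ucChunk chevE8 120 2 = true := by decide +kernel

set_option maxRecDepth 100000 in
theorem ucE8_122 : ucChunk chevE8 122 2 = true := by decide +kernel

set_option maxRecDepth 100000 in
theorem ucE8_124 : ucChunk chevE8 124 2 = true := by decide +kernel

set_option maxRecDepth 100000 in
theorem ucE8_126 : ucChunk chevE8 126 2 = true := by decide +kernel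

set_option maxRecDepth 100000 in
theorem ucE8_128 : ucChunk chevE8 128 2 = true := by decide +kernel

set_option maxRecDepth 100000 in
theorem ucE8_130 : ucChunk chevE8 130 2 = true := by decide +kernel

set_option maxRecDepth 100000 in
theorem ucE8_132 : ucChunk chevE8 132 2 = true := by decide +kernel

set_option maxRecDepth 100000 in
theorem ucE8_134 : ucChunk chevE8 134 2 = true := by decide +kernel

set_option maxRecDepth 100000 in
theorem ucE8_136 : ucChunk chevE8 136 2 = true := by decide +kernel

set_option maxRecDepth 100000 in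
theorem ucE8_138 : ucChunk chevE8 138 2 = true := by decide +kernel

set_option maxRecDepth 100000 in
theorem ucE8_140 : ucChunk chevE8 140 2 = true := by decide +kernel

set_option maxRecDepth 100000 in
theorem ucE8_142 : ucChunk chevE8 142 2 = true := by decide +kernel

set_option maxRecDepth 100000 in
theorem ucE8_144 : ucChunk chevE8 144 2 = true := by decide +kernel

set_option maxRecDepth 100000 in
theorem ucE8_146 : ucChunk chevE8 146 2 = true := by decide +kernel

set_option maxRecDepth 100000 in
theorem ucE8_148 : ucChunk chevE8 148 2 = true := by decide +kernel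

set_option maxRecDepth 100000 in
theorem ucE8_150 : ucChunk chevE8 150 2 = true := by decide +kernel

set_option maxRecDepth 100000 in
theorem ucE8_152 : ucChunk chevE8 152 2 = true := by decide +kernel

set_option maxRecDepth 100000 in
theorem ucE8_154 : ucChunk chevE8 154 2 = true := by decide +kernel

set_option maxRecDepth 100000 in
theorem ucE8_156 : ucChunk chevE8 156 2 = true := by decide +kernel

set_option maxRecDepth 100000 in
theorem ucE8_158 : ucChunk chevE8 158 2 = true := by decide +kernel

set_option maxRecDepth 100000 in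
theorem ucE8_160 : ucChunk chevE8 160 2 = true := by decide +kernel

set_option maxRecDepth 100000 in
theorem ucE8_162 : ucChunk chevE8 162 2 = true := by decide +kernel

set_option maxRecDepth 100000 in
theorem ucE8_164 : ucChunk chevE8 164 2 = true := by decide +kernel

set_option maxRecDepth 100000 in
theorem ucE8_166 : ucChunk chevE8 166 2 = true := by decide +kernel

set_option maxRecDepth 100000 in
theorem ucE8_168 : ucChunk chevE8 168 2 = true := by decide +kernel

set_option maxRecDepth 100000 in
theorem ucE8_170 : ucChunk chevE8 170 2 = true := by decide +kernel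

set_option maxRecDepth 100000 in
theorem ucE8_172 : ucChunk chevE8 172 2 = true := by decide +kernel

set_option maxRecDepth 100000 in
theorem ucE8_174 : ucChunk chevE8 174 2 = true := by decide +kernel

set_option maxRecDepth 100000 in
theorem ucE8_176 : ucChunk chevE8 176 2 = true := by decide +kernel

set_option maxRecDepth 100000 in
theorem ucE8_178 : ucChunk chevE8 178 2 = true := by decide +kernel

theorem ucE8_all_120 : ucChunk chevE8 120 60 = true :=
  (ucChunk_add chevE8 120 2 58 ucE8_120 (ucChunk_add chevE8 122 2 56 ucE8_122 (ucChunk_add chevE8 124 2 54 ucE8_124 (ucChunk_add chevE8 126 2 52 ucE8_126 (ucChunk_add chevE8 128 2 50 ucE8_128 (ucChunk_add chevE8 130 2 48 ucE8_130 (ucChunk_add chevE8 132 2 46 ucE8_132 (ucChunk_add chevE8 134 2 44 ucE8_134 (ucChunk_add chevE8 136 2 42 ucE8_136 (ucChunk_add chevE8 138 2 40 ucE8_138 (ucChunk_add chevE8 140 2 38 ucE8_140 (ucChunk_add chevE8 142 2 36 ucE8_142 (ucChunk_add chevE8 144 2 34 ucE8_144 (ucChunk_add chevE8 146 2 32 ucE8_146 (ucChunk_add chevE8 148 2 30 ucE8_148 (ucChunk_add chevE8 150 2 28 ucE8_150 (ucChunk_add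 chevE8 152 2 26 ucE8_152 (ucChunk_add chevE8 154 2 24 ucE8_154 (ucChunk_add chevE8 156 2 22 ucE8_156 (ucChunk_add chevE8 158 2 20 ucE8_158 (ucChunk_add chevE8 160 2 18 ucE8_160 (ucChunk_add chevE8 162 2 16 ucE8_162 (ucChunk_add chevE8 164 2 14 ucE8_164 (ucChunk_add chevE8 166 2 12 ucE8_166 (ucChunk_add chevE8 168 2 10 ucE8_168 (ucChunk_add chevE8 170 2 8 ucE8_170 (ucChunk_add chevE8 172 2 6 ucE8_172 (ucChunk_add chevE8 174 2 4 ucE8_174 (ucChunk_add chevE8 176 2 2 ucE8_176 ucE8_178)))))))))))))))))))))))))))))

end Cfsg.Agent.Helper40.Uc
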