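import Cfsg.Agent.Helper40.UcRoots

/-! Helper40: the checks of `UcRoots` for `E8`, roots 180 to 239. -/

set_option autoImplicit false

namespace Cfsg.Agent.Helper40.Uc

open Cfsg Cfsg.Lie

set_option maxRecDepth 100000 in
theorem ucE8_180 : ucChunk chevE8 180 2 = true := by decide +kernel

set_option maxRecDepth 100000 in
theorem ucE8_182 : ucChunk chevE8 182 2 = true := by decide +kernel

set_option maxRecDepth 100000 in
theorem ucE8_184 : ucChunk chevE8 184 2 = true := by decide +kernel

set_option maxRecDepth 100000 in
theorem ucE8_186 : ucChunk chevE8 186 2 = true := by decide +kernel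

set_option maxRecDepth 100000 in
theorem ucE8_188 : ucChunk chevE8 188 2 = true := by decide +kernel

set_option maxRecDepth 100000 in
theorem ucE8_190 : ucChunk chevE8 190 2 = true := by decide +kernel

set_option maxRecDepth 100000 in
theorem ucE8_192 : ucChunk chevE8 192 2 = true := by decide +kernel

set_option maxRecDepth 100000 in
theorem ucE8_194 : ucChunk chevE8 194 2 = true := by decide +kernel

set_option maxRecDepth 100000 in
theorem ucE8_196 : ucChunk chevE8 196 2 = true := by decide +kernel

set_option maxRecDepth 100000 in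
theorem ucE8_198 : ucChunk chevE8 198 2 = true := by decide +kernel

set_option maxRecDepth 100000 in
theorem ucE8_200 : ucChunk chevE8 200 2 = true := by decide +kernel

set_option maxRecDepth 100000 in
theorem ucE8_202 : ucChunk chevE8 202 2 = true := by decide +kernel

set_option maxRecDepth 100000 in
theorem ucE8_204 : ucChunk chevE8 204 2 = true := by decide +kernel

set_option maxRecDepth 100000 in
theorem ucE8_206 : ucChunk chevE8 206 2 = true := by decide +kernel

set_option maxRecDepth 100000 in
theorem ucE8_208 : ucChunk chevE8 208 2 = true := by decide +kernel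

set_option maxRecDepth 100000 in
theorem ucE8_210 : ucChunk chevE8 210 2 = true := by decide +kernel

set_option maxRecDepth 100000 in
theorem ucE8_212 : ucChunk chevE8 212 2 = true := by decide +kernel

set_option maxRecDepth 100000 in
theorem ucE8_214 : ucChunk chevE8 214 2 = true := by decide +kernel

set_option maxRecDepth 100000 in
theorem ucE8_216 : ucChunk chevE8 216 2 = true := by decide +kernel

set_option maxRecDepth 100000 in
theorem ucE8_218 : ucChunk chevE8 218 2 = true := by decide +kernel

set_option maxRecDepth 100000 in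
theorem ucE8_220 : ucChunk chevE8 220 2 = true := by decide +kernel

set_option maxRecDepth 100000 in
theorem ucE8_222 : ucChunk chevE8 222 2 = true := by decide +kernel

set_option maxRecDepth 100000 in
theorem ucE8_224 : ucChunk chevE8 224 2 = true := by decide +kernel

set_option maxRecDepth 100000 in
theorem ucE8_226 : ucChunk chevE8 226 2 = true := by decide +kernel

set_option maxRecDepth 100000 in
theorem ucE8_228 : ucChunk chevE8 228 2 = true := by decide +kernel

set_option maxRecDepth 100000 in
theorem ucE8_230 : ucChunk chevE8 230 2 = true := by decide +kernel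

set_option maxRecDepth 100000 in
theorem ucE8_232 : ucChunk chevE8 232 2 = true := by decide +kernel

set_option maxRecDepth 100000 in
theorem ucE8_234 : ucChunk chevE8 234 2 = true := by decide +kernel

set_option maxRecDepth 100000 in
theorem ucE8_236 : ucChunk chevE8 236 2 = true := by decide +kernel

set_option maxRecDepth 100000 in
theorem ucE8_238 : ucChunk chevE8 238 2 = true := by decide +kernel

theorem ucE8_all_180 : ucChunk chevE8 180 60 = true :=
  (ucChunk_add chevE8 180 2 58 ucE8_180 (ucChunk_add chevE8 182 2 56 ucE8_182 (ucChunk_add chevE8 184 2 54 ucE8_184 (ucChunk_add chevE8 186 2 52 ucE8_186 (ucChunk_add chevE8 188 2 50 ucE8_188 (ucChunk_add chevE8 190 2 48 ucE8_190 (ucChunk_add chevE8 192 2 46 ucE8_192 (ucChunk_add chevE8 194 2 44 ucE8_194 (ucChunk_add chevE8 196 2 42 ucE8_196 (ucChunk_add chevE8 198 2 40 ucE8_198 (ucChunk_add chevE8 200 2 38 ucE8_200 (ucChunk_add chevE8 202 2 36 ucE8_202 (ucChunk_add chevE8 204 2 34 ucE8_204 (ucChunk_add chevE8 206 2 32 ucE8_206 (ucChunk_add chevE8 208 2 30 ucE8_208 (ucChunk_add chevE8 210 2 28 ucE8_210 (ucChunk_add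 chevE8 212 2 26 ucE8_212 (ucChunk_add chevE8 214 2 24 ucE8_214 (ucChunk_add chevE8 216 2 22 ucE8_216 (ucChunk_add chevE8 218 2 20 ucE8_218 (ucChunk_add chevE8 220 2 18 ucE8_220 (ucChunk_add chevE8 222 2 16 ucE8_222 (ucChunk_add chevE8 224 2 14 ucE8_224 (ucChunk_add chevE8 226 2 12 ucE8_226 (ucChunk_add chevE8 228 2 10 ucE8_228 (ucChunk_add chevE8 230 2 8 ucE8_230 (ucChunk_add chevE8 232 2 6 ucE8_232 (ucChunk_add chevE8 234 2 4 ucE8_234 (ucChunk_add chevE8 236 2 2 ucE8_236 ucE8_238)))))))))))))))))))))))))))))

end Cfsg.Agent.Helper40.Uc
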